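import Mathlib

/-!
# Invariant subspaces of semisimple linear maps with homogeneous irreducible constituents
-/

set_option autoImplicit false

namespace CfsgLib.LinFix

open Polynomial

variable {F V : Type*} [Field F] [AddCommGroup V] [Module F V]

/-- A subspace is invariant under a linear map. -/
def Inv (T : Module.End F V) (W : Submodule F V) : Prop := ∀ v ∈ W, T v ∈ W

theorem Inv.map_le {T : Module.End F V} {W : Submodule F V} (h : Inv T W) : W.map T ≤ W :=
  Submodule.map_le_iff_le_comap.2 h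

theorem inv_of_map_le {T : Module.End F V} {W : Submodule F V} (h : W.map T ≤ W) : Inv T W :=
  fun v hv => h ⟨v, hv, rfl⟩

theorem inv_bot (T : Module.End F V) : Inv T ⊥ := fun v hv => by
  rw [Submodule.mem_bot] at hv; simp [hv]

theorem inv_top (T : Module.End F V) : Inv T ⊤ := fun _ _ => Submodule.mem_top

theorem Inv.inf {T : Module.End F V} {A B : Submodule F V} (hA : Inv T A) (hB : Inv T B) :
    Inv T (A ⊓ B) := fun v hv => ⟨hA v hv.1, hB v hv.2⟩

theorem Inv.sup {T : Module.End F V} {A B : Submodule F V} (hA : Inv T A) (hB : Inv T B) :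
    Inv T (A ⊔ B) :=
  inv_of_map_le (by rw [Submodule.map_sup]; exact sup_le_sup hA.map_le hB.map_le)

theorem inv_smul_iff {T : Module.End F V} {a : F} (ha : a ≠ 0) {W : Submodule F V} :
    Inv (a • T) W ↔ Inv T W :=
  forall₂_congr fun v _ => by rw [LinearMap.smul_apply, W.smul_mem_iff ha]

theorem Inv.aeval {T : Module.End F V} {W : Submodule F V} (h : Inv T W) (p : F[X]) :
    Inv (Polynomial.aeval T p) W := by
  intro v hv
  induction p using Polynomial.induction_on with
  | C a => simpa [Module.algebraMap_end_apply] using W.smul_mem a hv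
  | add p q hp hq => simpa using W.add_mem hp hq
  | monomial n a ih =>
    rw [pow_succ', ← mul_assoc, mul_comm _ X, mul_assoc, map_mul, Polynomial.aeval_X,
      Module.End.mul_apply]
    exact h _ ih

/-- Every non-zero invariant subspace contains one which is cyclic with irreducible annihilator. -/
theorem exists_irreducible_sub [FiniteDimensional F V] (T : Module.End F V) {W : Submodule F V}
    (hW : Inv T W) (hne : W ≠ ⊥) :
    ∃ U ≤ W, Inv T U ∧ U ≠ ⊥ ∧ ∃ g : F[X], Irreducible g ∧ Module.finrank F U = g.natDegree ∧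
      (∀ P : F[X], Polynomial.aeval T P = 0 → g ∣ P) ∧
      (∀ u ∈ U, Polynomial.aeval T g u = 0) := by
  classical
  let P : ℕ → Prop := fun k => ∃ U ≤ W, Inv T U ∧ U ≠ ⊥ ∧ Module.finrank F U = k
  have hP : ∃ k, P k := ⟨_, W, le_rfl, hW, hne, rfl⟩
  obtain ⟨U, hUW, hU, hU0, hUk⟩ := Nat.find_spec hP
  have hmin : ∀ U' ≤ U, Inv T U' → U' ≠ ⊥ → U' = U := by
    intro U' hle hU' hU'0
    refine Submodule.eq_of_le_of_finrank_le hle ?_
    rw [hUk]
    exact Nat.find_min' hP ⟨U', hle.trans hUW, hU', hU'0, rfl⟩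
  obtain ⟨v, hv, hv0⟩ := Submodule.exists_mem_ne_zero_of_ne_bot hU0
  let L : V → (F[X] →ₗ[F] V) := fun w =>
    (LinearMap.applyₗ w).comp (Polynomial.aeval T).toLinearMap
  have hLapp : ∀ (w : V) (p : F[X]), L w p = Polynomial.aeval T p w := fun _ _ => rfl
  have hrange : ∀ w ∈ U, w ≠ 0 → LinearMap.range (L w) = U := by
    intro w hw hw0
    refine hmin _ ?_ ?_ ?_
    · rintro _ ⟨p, rfl⟩; exact hU.aeval p w hw
    · rintro _ ⟨p, rfl⟩
      refine ⟨X * p, ?_⟩
      rw [hLapp, hLapp, map_mul, Polynomial.aeval_X, Module.End.mul_apply]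
    · intro h
      have h1 : L w 1 = 0 := by
        rw [← Submodule.mem_bot F, ← h]; exact ⟨1, rfl⟩
      rw [hLapp, map_one, Module.End.one_apply] at h1
      exact hw0 h1
  let I : Ideal F[X] :=
    { carrier := {p | Polynomial.aeval T p v = 0}
      zero_mem' := by simp
      add_mem' := fun {a b} ha hb => by
        simp only [Set.mem_setOf_eq, map_add, LinearMap.add_apply] at *
        rw [ha, hb, add_zero]
      smul_mem' := fun c x hx => by
        simp only [Set.mem_setOf_eq, smul_eq_mul, map_mul, Module.End.mul_apply] at *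
        rw [hx, map_zero] }
  obtain ⟨g, hg⟩ := (IsPrincipalIdealRing.principal I).principal
  have hmem : ∀ p : F[X], Polynomial.aeval T p v = 0 ↔ g ∣ p := fun p => by
    rw [← Ideal.mem_span_singleton, show Ideal.span {g} = I from hg.symm]
    rfl
  have hg0 : g ≠ 0 := by
    intro h0
    have h1 := (hmem (minpoly F T)).1 (by simp)
    rw [h0, zero_dvd_iff] at h1
    exact minpoly.ne_zero (Algebra.IsIntegral.isIntegral T) h1
  have hgu : ¬ IsUnit g := fun hu => hv0 (by simpa using (hmem 1).2 hu.dvd)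
  have hgv : Polynomial.aeval T g v = 0 := (hmem g).2 dvd_rfl
  have hirr : Irreducible g := by
    refine ⟨hgu, fun a b hab => or_iff_not_imp_right.2 fun hb => ?_⟩
    have ha : Polynomial.aeval T a v ≠ 0 := by
      intro h
      refine hb (isUnit_of_dvd_one ?_)
      obtain ⟨c, hc⟩ := (hmem a).1 h
      have ha0 : a ≠ 0 := fun h => hg0 (by rw [hab, h, zero_mul])
      refine ⟨c, mul_left_cancel₀ ha0 ?_⟩
      rw [mul_one, ← mul_assoc, ← hab, ← hc]
    obtain ⟨h, hh⟩ : v ∈ LinearMap.range (L (Polynomial.aeval T a v)) :=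
      (hrange _ (hU.aeval a v hv) ha).symm ▸ hv
    rw [hLapp, ← Module.End.mul_apply, ← map_mul] at hh
    have h2 : g ∣ h * a - 1 := (hmem _).1 (by rw [map_sub, LinearMap.sub_apply, hh, map_one, Module.End.one_apply, sub_self])
    have h3 : a ∣ h * a - 1 := (hab ▸ dvd_mul_right a b : a ∣ g).trans h2
    exact isUnit_of_dvd_one ((dvd_sub_right (dvd_mul_left a h)).1 h3)
  have hker : LinearMap.ker (L v) = (Ideal.span {g}).restrictScalars F := by
    ext p
    rw [LinearMap.mem_ker, hLapp, hmem, Submodule.restrictScalars_mem, Ideal.mem_span_singleton]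
  refine ⟨U, hUW, hU, hU0, g, hirr, ?_, fun Q hQ => (hmem Q).1 (by rw [hQ]; rfl), ?_⟩
  · rw [← hrange v hv hv0, ← (LinearMap.quotKerEquivRange (L v)).finrank_eq, hker]
    have := finrank_quotient_span_eq_natDegree (f := g)
    exact ((Submodule.Quotient.restrictScalarsEquiv F (Ideal.span {g})).finrank_eq).trans this
  · intro u hu
    obtain ⟨p, rfl⟩ : u ∈ LinearMap.range (L v) := (hrange v hv hv0).symm ▸ hu
    rw [hLapp, ← Module.End.mul_apply, ← map_mul, mul_comm, map_mul, Module.End.mul_apply, hgv,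
      map_zero]

theorem isSemisimple_of_pow_eq [FiniteDimensional F V] {T : Module.End F V} {r : ℕ} {c : F}
    (hr : (r : F) ≠ 0) (hc : c ≠ 0) (hT : T ^ r = c • 1) : T.IsSemisimple := by
  refine Module.End.isSemisimple_of_squarefree_aeval_eq_zero
    (p := X ^ r - C c) (separable_X_pow_sub_C c hr hc).squarefree ?_
  rw [map_sub, map_pow, aeval_X, aeval_C, hT, Algebra.algebraMap_eq_smul_one, sub_self]

theorem exists_inv_compl {T : Module.End F V} (hss : T.IsSemisimple) {A W : Submodule F V}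
    (hA : Inv T A) (hW : Inv T W) (hle : A ≤ W) :
    ∃ B ≤ W, Inv T B ∧ Disjoint A B ∧ A ⊔ B = W := by
  obtain ⟨Q, hQ, hc⟩ := Module.End.isSemisimple_iff.1 hss A
    (T.mem_invtSubmodule.2 hA)
  have hQ' : Inv T Q := T.mem_invtSubmodule.1 hQ
  refine ⟨W ⊓ Q, inf_le_left, hW.inf hQ', hc.disjoint.mono_right inf_le_right, ?_⟩
  rw [inf_comm, ← sup_inf_assoc_of_le Q hle, hc.sup_eq_top, top_inf_eq]

theorem finrank_sup_of_disjoint [FiniteDimensional F V] {A B : Submodule F V} (h : Disjoint A B) :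
    Module.finrank F ↥(A ⊔ B) = Module.finrank F A + Module.finrank F B := by
  rw [← Submodule.finrank_sup_add_finrank_inf_eq, h.eq_bot, finrank_bot, add_zero]

theorem exists_le_finrank [FiniteDimensional F V] (W : Submodule F V) {a : ℕ}
    (ha : a ≤ Module.finrank F W) : ∃ U ≤ W, Module.finrank F U = a := by
  let b := Module.finBasis F W
  let g : Fin a → V := fun l => (b (Fin.castLE ha l) : V)
  have hg : LinearIndependent F g :=
    (b.linearIndependent.map' W.subtype (Submodule.ker_subtype W)).comp _ (Fin.castLE_injective ha)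
  exact ⟨Submodule.span F (Set.range g), Submodule.span_le.2 (by rintro _ ⟨l, rfl⟩; exact (b _).2),
    by rw [finrank_span_eq_card hg, Fintype.card_fin]⟩

/-- A semisimple map which is scalar on `C` and all whose constituents outside `C` have
dimension `d`. -/
structure Homog (T : Module.End F V) (C : Submodule F V) (d : ℕ) : Prop where
  semisimple : T.IsSemisimple
  scalar : ∃ a : F, ∀ v ∈ C, T v = a • v
  pos : 0 < d
  step : ∀ W, Inv T W → W ≠ ⊥ → Disjoint W C → ∃ U ≤ W, Inv T U ∧ Module.finrank F U = d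

variable {T : Module.End F V} {C : Submodule F V} {d : ℕ}

theorem Homog.inv_le (h : Homog T C d) {A : Submodule F V} (hA : A ≤ C) : Inv T A := by
  obtain ⟨a, ha⟩ := h.scalar
  intro v hv
  rw [ha v (hA hv)]
  exact A.smul_mem a hv

theorem Homog.disjoint_dims [FiniteDimensional F V] (h : Homog T C d) :
    ∀ (k : ℕ) (D : Submodule F V), Module.finrank F D = k → Inv T D → Disjoint D C →
      d ∣ k ∧ ∀ j, j * d ≤ k → ∃ U ≤ D, Inv T U ∧ Module.finrank F U = j * d := by
  intro k
  induction k using Nat.strong_induction_on with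
  | _ k ih =>
    intro D hk hD hdis
    rcases eq_or_ne D ⊥ with rfl | hne
    · rw [finrank_bot] at hk
      subst hk
      refine ⟨dvd_zero d, fun j hj => ⟨⊥, le_rfl, inv_bot T, ?_⟩⟩
      rw [finrank_bot]; omega
    · obtain ⟨U, hUD, hU, hUd⟩ := h.step D hD hne hdis
      obtain ⟨D', hD'le, hD', hdis', hsup⟩ := exists_inv_compl h.semisimple hU hD hUD
      have hsum := finrank_sup_of_disjoint hdis'
      rw [hsup, hk, hUd] at hsum
      have hpos := h.pos
      obtain ⟨hdvd, hall⟩ := ih _ (by omega) D' rfl hD' (hdis.mono_left hD'le)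
      refine ⟨hsum ▸ dvd_add dvd_rfl hdvd, fun j hj => ?_⟩
      rcases j with _ | j
      · exact ⟨⊥, bot_le, inv_bot T, by simp⟩
      · obtain ⟨U', hU'le, hU', hU'j⟩ := hall j (by rw [Nat.succ_mul] at hj; omega)
        refine ⟨U ⊔ U', sup_le hUD (hU'le.trans hD'le), hU.sup hU', ?_⟩
        rw [finrank_sup_of_disjoint (hdis'.mono_right hU'le), hUd, hU'j]
        ring

theorem Homog.finrank_eq [FiniteDimensional F V] (h : Homog T C d) {W : Submodule F V}
    (hW : Inv T W) : ∃ j, Module.finrank F W = Module.finrank F ↥(W ⊓ C) + j * d := by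
  obtain ⟨D, hDle, hD, hdis, hsup⟩ := exists_inv_compl h.semisimple
    (h.inv_le (inf_le_right : W ⊓ C ≤ C)) hW inf_le_left
  have hDC : Disjoint D C := by
    rw [Submodule.disjoint_def]
    exact fun v hvD hvC => Submodule.disjoint_def.1 hdis v ⟨hDle hvD, hvC⟩ hvD
  obtain ⟨⟨j, hj⟩, -⟩ := h.disjoint_dims _ D rfl hD hDC
  refine ⟨j, ?_⟩
  have := finrank_sup_of_disjoint hdis
  rw [hsup, hj] at this
  rw [this, mul_comm d j]

theorem Homog.exists_sub [FiniteDimensional F V] (h : Homog T C d) {W : Submodule F V}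
    (hW : Inv T W) {a j : ℕ} (ha : a ≤ Module.finrank F ↥(W ⊓ C))
    (hj : Module.finrank F ↥(W ⊓ C) + j * d ≤ Module.finrank F W) :
    ∃ U ≤ W, Inv T U ∧ Module.finrank F U = a + j * d := by
  obtain ⟨D, hDle, hD, hdis, hsup⟩ := exists_inv_compl h.semisimple
    (h.inv_le (inf_le_right : W ⊓ C ≤ C)) hW inf_le_left
  have hDC : Disjoint D C := by
    rw [Submodule.disjoint_def]
    exact fun v hvD hvC => Submodule.disjoint_def.1 hdis v ⟨hDle hvD, hvC⟩ hvD
  have := finrank_sup_of_disjoint hdis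
  rw [hsup] at this
  obtain ⟨-, hall⟩ := h.disjoint_dims _ D rfl hD hDC
  obtain ⟨U, hUD, hU, hUj⟩ := hall j (by omega)
  obtain ⟨A, hA, hAa⟩ := exists_le_finrank (W ⊓ C) ha
  refine ⟨A ⊔ U, sup_le (hA.trans inf_le_left) (hUD.trans hDle),
    (h.inv_le (hA.trans inf_le_right)).sup hU, ?_⟩
  rw [finrank_sup_of_disjoint (hdis.mono hA hUD), hAa, hUj]

/-- Invariant subspaces with prescribed dimension and prescribed intersection with `C`. -/
theorem Homog.exists_sub_inf [FiniteDimensional F V] (h : Homog T C d) {W : Submodule F V}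
    (hW : Inv T W) {a j : ℕ} (ha : a ≤ Module.finrank F ↥(W ⊓ C))
    (hj : Module.finrank F ↥(W ⊓ C) + j * d ≤ Module.finrank F W) :
    ∃ U ≤ W, Inv T U ∧ Module.finrank F U = a + j * d ∧ Module.finrank F ↥(U ⊓ C) = a := by
  obtain ⟨D, hDle, hD, hdis, hsup⟩ := exists_inv_compl h.semisimple
    (h.inv_le (inf_le_right : W ⊓ C ≤ C)) hW inf_le_left
  have hDC : Disjoint D C := by
    rw [Submodule.disjoint_def]
    exact fun v hvD hvC => Submodule.disjoint_def.1 hdis v ⟨hDle hvD, hvC⟩ hvD
  have := finrank_sup_of_disjoint hdis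
  rw [hsup] at this
  obtain ⟨-, hall⟩ := h.disjoint_dims _ D rfl hD hDC
  obtain ⟨U, hUD, hU, hUj⟩ := hall j (by omega)
  obtain ⟨A, hA, hAa⟩ := exists_le_finrank (W ⊓ C) ha
  have hAC : A ≤ C := hA.trans inf_le_right
  refine ⟨A ⊔ U, sup_le (hA.trans inf_le_left) (hUD.trans hDle),
    (h.inv_le hAC).sup hU, ?_, ?_⟩
  · rw [finrank_sup_of_disjoint (hdis.mono hA hUD), hAa, hUj]
  · rw [sup_inf_assoc_of_le U hAC, (hDC.mono_left hUD).eq_bot, sup_bot_eq, hAa]

theorem Homog.exists_sub_top [FiniteDimensional F V] (h : Homog T C d) {a j : ℕ}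
    (ha : a ≤ Module.finrank F C) (hj : Module.finrank F C + j * d ≤ Module.finrank F V) :
    ∃ U, Inv T U ∧ Module.finrank F U = a + j * d := by
  obtain ⟨U, -, hU, hUr⟩ := h.exists_sub (inv_top T) (a := a) (j := j)
    (by rwa [top_inf_eq]) (by rwa [top_inf_eq, finrank_top])
  exact ⟨U, hU, hUr⟩

/-- The arithmetic of representing `m` as `a + j d` with `a ≤ e` and `e + j d ≤ n`. -/
theorem exists_rep {d e n m : ℕ} (hd : 0 < d) (hm : m < n) (he : ∃ s, n = e + s * d)
    (h : m ≤ e ∨ (d ≤ m ∧ m % d ≤ e)) : ∃ a j, a ≤ e ∧ e + j * d ≤ n ∧ a + j * d = m := by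
  obtain ⟨s, rfl⟩ := he
  by_cases hme : m ≤ e
  · exact ⟨m, 0, hme, by simp, by simp⟩
  obtain ⟨-, hmod⟩ := h.resolve_left hme
  set k := (e - m % d) / d with hk
  have h1 : d * k ≤ e - m % d := Nat.mul_div_le _ _
  have h2 : e - m % d < d * (k + 1) := Nat.lt_mul_div_succ _ hd
  have h3 : m % d + d * (m / d) = m := Nat.mod_add_div _ _
  have h4 : k ≤ m / d := Nat.le_of_mul_le_mul_left (by omega : d * k ≤ d * (m / d)) hd
  have h5 : d * (m / d) < d * (k + 1 + s) := by
    rw [Nat.mul_add d (k + 1) s, Nat.mul_comm d s]; omega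
  have h6 : m / d < k + 1 + s := Nat.lt_of_mul_lt_mul_left h5
  have h7 : m / d - k ≤ s := by omega
  have h8 := Nat.mul_le_mul_right d h7
  refine ⟨m % d + d * k, m / d - k, by omega, by omega, ?_⟩
  rw [Nat.sub_mul, Nat.mul_comm (m / d) d, Nat.mul_comm k d]
  have := Nat.mul_le_mul_left d h4
  omega

end CfsgLib.LinFix
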