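import Mathlib
import Cfsg.Agent.Lib.LinFix.Basic
import Cfsg.Agent.Lib.Spectrum.LinearElements

/-!
# Linear maps with prime power scalar over a finite field
-/

set_option autoImplicit false

namespace CfsgLib.LinFix

open Polynomial

variable {F : Type*} [Field F] [Fintype F] {r : ℕ} [hr : Fact r.Prime]

theorem dvd_pow_sub_one_iff {a : ℕ} (ha : 1 ≤ a) (k : ℕ) :
    r ∣ a ^ k - 1 ↔ orderOf (a : ZMod r) ∣ k := by
  rw [orderOf_dvd_iff_pow_eq_one, ← CharP.cast_eq_zero_iff (ZMod r) r,
    Nat.cast_sub (Nat.one_le_pow _ _ ha), Nat.cast_pow, Nat.cast_one, sub_eq_zero]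

omit [Fintype F] hr in
theorem natCast_ne_zero_of_ne {p : ℕ} [Fact p.Prime] [CharP F p] [hr' : Fact r.Prime] (hrp : r ≠ p) :
    (r : F) ≠ 0 := by
  rw [Ne, CharP.cast_eq_zero_iff F p]
  exact fun h => hrp ((Nat.prime_dvd_prime_iff_eq Fact.out hr'.out).1 h).symm

theorem orderOf_pos_of_ne {p : ℕ} [Fact p.Prime] [CharP F p] (hrp : r ≠ p) :
    0 < orderOf (Fintype.card F : ZMod r) := by
  obtain ⟨n, -, hn⟩ := FiniteField.card F p
  have hu : IsUnit (Fintype.card F : ZMod r) := by
    rw [hn, Nat.cast_pow]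
    refine (isUnit_iff_ne_zero.2 ?_).pow _
    rw [Ne, CharP.cast_eq_zero_iff (ZMod r) r]
    exact fun h => hrp ((Nat.prime_dvd_prime_iff_eq hr.out Fact.out).1 h)
  obtain ⟨u, hu⟩ := hu
  rw [← hu, orderOf_units]
  exact orderOf_pos u

theorem natDegree_eq_order (hr0 : 0 < orderOf (Fintype.card F : ZMod r)) {g : F[X]}
    (hg : Irreducible g) (hdvd : g ∣ X ^ r - 1) (h1 : ¬ g ∣ X - 1) :
    g.natDegree = orderOf (Fintype.card F : ZMod r) := by
  have hq : 1 ≤ Fintype.card F := Fintype.card_pos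
  set i := orderOf (Fintype.card F : ZMod r) with hi
  apply Nat.dvd_antisymm
  · refine hg.natDegree_dvd_of_dvd_X_pow_card_pow_sub_X (n := i) ?_
    rw [Nat.card_eq_fintype_card]
    obtain ⟨k, hk⟩ := (dvd_pow_sub_one_iff (r := r) hq i).2 dvd_rfl
    have h2 : (Fintype.card F) ^ i = r * k + 1 := by
      have := Nat.one_le_pow i _ hq
      omega
    rw [h2, pow_succ, ← sub_one_mul]
    refine (hdvd.trans ?_).mul_right _
    rw [pow_mul]
    exact sub_one_dvd_pow_sub_one _ k
  · haveI : Fact (Irreducible g) := ⟨hg⟩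
    haveI : Module.Finite F (AdjoinRoot g) := (AdjoinRoot.powerBasis hg.ne_zero).finite
    haveI : Finite (AdjoinRoot g) := Module.finite_of_finite F
    haveI : Fintype (AdjoinRoot g) := Fintype.ofFinite _
    set α := AdjoinRoot.root g with hα
    have hroot : ∀ P : F[X], Polynomial.aeval α P = 0 ↔ g ∣ P := fun P => by
      rw [AdjoinRoot.aeval_eq, AdjoinRoot.mk_eq_zero]
    have hαr : α ^ r = 1 := by
      have := (hroot _).2 hdvd
      simpa [sub_eq_zero] using this
    have hα1 : α ≠ 1 := fun h => h1 ((hroot _).1 (by simp [h]))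
    have hord : orderOf α = r := orderOf_eq_prime hαr hα1
    have hα0 : α ≠ 0 := by
      intro h; rw [h, zero_pow hr.out.ne_zero] at hαr; exact zero_ne_one hαr
    have h3 := FiniteField.pow_card_sub_one_eq_one α hα0
    have h4 : Fintype.card (AdjoinRoot g) = Fintype.card F ^ g.natDegree := by
      rw [Module.card_eq_pow_finrank (K := F)]
      congr 1
      exact finrank_quotient_span_eq_natDegree (f := g)
    rw [h4] at h3
    exact (dvd_pow_sub_one_iff hq _).1 (hord ▸ orderOf_dvd_of_pow_eq_one h3)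

theorem exists_irreducible_dvd_X_pow_sub_one {p : ℕ} [Fact p.Prime] [CharP F p] (hrp : r ≠ p) :
    ∃ g : F[X], Irreducible g ∧ g.Monic ∧ g ∣ X ^ r - 1 ∧ ¬ g ∣ X - 1 := by
  classical
  have hsq : Squarefree (X ^ r - C (1 : F)) := by
    refine (separable_X_pow_sub_C 1 ?_ one_ne_zero).squarefree
    rw [Ne, CharP.cast_eq_zero_iff F p]
    exact fun h => hrp ((Nat.prime_dvd_prime_iff_eq Fact.out hr.out).1 h).symm
  rw [map_one] at hsq
  obtain ⟨Q, hQ⟩ : X - 1 ∣ (X : F[X]) ^ r - 1 := sub_one_dvd_pow_sub_one _ r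
  have hdeg : (X ^ r - 1 : F[X]).natDegree = r := by
    rw [← map_one C, natDegree_X_pow_sub_C]
  have hQu : ¬ IsUnit Q := by
    intro hu
    have h := congrArg natDegree hQ
    have hQ0 : Q ≠ 0 := hu.ne_zero
    rw [hdeg, natDegree_mul (by rw [← map_one C]; exact X_sub_C_ne_zero 1) hQ0, ← map_one C,
      natDegree_X_sub_C, natDegree_eq_zero_of_isUnit hu] at h
    have := hr.out.two_le
    omega
  have hQ0 : Q ≠ 0 := by
    intro h; rw [h, mul_zero] at hQ
    exact hsq.ne_zero hQ
  obtain ⟨g, hg, hgQ⟩ := WfDvdMonoid.exists_irreducible_factor hQu hQ0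
  have hg0 := hg.ne_zero
  refine ⟨normalize g, (normalize_associated g).irreducible_iff.2 hg,
    Polynomial.monic_normalize hg0, (normalize_associated g).dvd_iff_dvd_left.2
      (hQ ▸ hgQ.mul_left _), fun h => ?_⟩
  rw [(normalize_associated g).dvd_iff_dvd_left] at h
  exact hg.not_isUnit (hsq g (hQ ▸ mul_dvd_mul h hgQ))

variable {V : Type*} [AddCommGroup V] [Module F V] [FiniteDimensional F V]

/-- Maps of order dividing `r` with `r` dividing `q - 1` are diagonalisable. -/
theorem homog_one (hr1 : orderOf (Fintype.card F : ZMod r) = 1) (hrF : (r : F) ≠ 0)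
    {T : Module.End F V} (hT : T ^ r = 1) : Homog T ⊥ 1 := by
  refine ⟨isSemisimple_of_pow_eq hrF one_ne_zero (by rw [one_smul, hT]),
    ⟨0, fun v hv => by rw [Submodule.mem_bot] at hv; simp [hv]⟩, one_pos, fun W hW hne _ => ?_⟩
  obtain ⟨U, hUW, hU, -, g, hg, hrank, hdvd, -⟩ := exists_irreducible_sub T hW hne
  refine ⟨U, hUW, hU, hrank.trans ?_⟩
  have hgd : g ∣ X ^ r - 1 := hdvd _ (by simp [hT])
  by_cases h1 : g ∣ X - 1
  · have hle := natDegree_le_of_dvd h1 (by rw [← map_one C]; exact X_sub_C_ne_zero 1)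
    rw [← map_one C, natDegree_X_sub_C] at hle
    have := hg.natDegree_pos
    omega
  · rw [natDegree_eq_order (by omega) hg hgd h1, hr1]

/-- Maps of order dividing `r` have constituents of dimension the order of `q` modulo `r` away
from the fixed space. -/
theorem homog_order (hr0 : 0 < orderOf (Fintype.card F : ZMod r)) (hrF : (r : F) ≠ 0)
    {T : Module.End F V} (hT : T ^ r = 1) :
    Homog T (LinearMap.ker (T - 1)) (orderOf (Fintype.card F : ZMod r)) := by
  refine ⟨isSemisimple_of_pow_eq hrF one_ne_zero (by rw [one_smul, hT]),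
    ⟨1, fun v hv => by simpa [sub_eq_zero] using hv⟩, hr0, fun W hW hne hdis => ?_⟩
  obtain ⟨U, hUW, hU, hU0, g, hg, hrank, hdvd, hann⟩ := exists_irreducible_sub T hW hne
  refine ⟨U, hUW, hU, hrank.trans (natDegree_eq_order hr0 hg (hdvd _ (by simp [hT])) fun h => ?_)⟩
  obtain ⟨v, hv, hv0⟩ := Submodule.exists_mem_ne_zero_of_ne_bot hU0
  obtain ⟨c, hc⟩ := h
  refine hv0 (Submodule.disjoint_def.1 hdis v (hUW hv) ?_)
  rw [LinearMap.mem_ker, show T - 1 = Polynomial.aeval T (X - 1 : F[X]) by simp, hc, mul_comm,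
    map_mul, Module.End.mul_apply, hann v hv, map_zero]

/-- Maps whose `r`-th power is a scalar without `r`-th root have constituents of dimension `r`. -/
theorem homog_nonpower (hrF : (r : F) ≠ 0) {c : F} (hc : ∀ w : F, w ^ r ≠ c)
    {T : Module.End F V} (hT : T ^ r = c • 1) : Homog T ⊥ r := by
  have hc0 : c ≠ 0 := fun h => hc 0 (by rw [h, zero_pow hr.out.ne_zero])
  refine ⟨isSemisimple_of_pow_eq hrF hc0 hT,
    ⟨0, fun v hv => by rw [Submodule.mem_bot] at hv; simp [hv]⟩, hr.out.pos, fun W hW hne _ => ?_⟩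
  obtain ⟨U, hUW, hU, -, g, hg, hrank, hdvd, -⟩ := exists_irreducible_sub T hW hne
  refine ⟨U, hUW, hU, hrank.trans ?_⟩
  have hirr := X_pow_sub_C_irreducible_of_prime hr.out hc
  have h : g ∣ X ^ r - C c := hdvd _ (by simp [hT, Algebra.algebraMap_eq_smul_one])
  rw [natDegree_eq_of_degree_eq (degree_eq_degree_of_associated (hg.associated_of_dvd hirr h)),
    natDegree_X_pow_sub_C]

omit [Fintype F] in
/-- The determinant of a map whose `r`-th power is a scalar without `r`-th root. -/
theorem det_of_pow_eq_nonpower {n : ℕ} {c : F} (hc : ∀ w : F, w ^ r ≠ c)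
    {M : Matrix (Fin n) (Fin n) F} (hM : M ^ r = c • 1) :
    r ∣ n ∧ M.det = ((-1) ^ (r + 1) * c) ^ (n / r) := by
  have hirr := X_pow_sub_C_irreducible_of_prime hr.out hc
  have hmon : (X ^ r - C c : F[X]).Monic := monic_X_pow_sub_C c hr.out.ne_zero
  obtain ⟨k, hk⟩ := CfsgLib.Spectrum.exists_eq_pow_of_forall_irreducible_dvd hmon hirr
    M.charpoly_monic (fun g hg hgd => by
      have h1 := hg.prime.dvd_of_dvd_pow (hgd.trans (CfsgLib.Spectrum.charpoly_dvd_minpoly_pow M))
      have h2 : g ∣ X ^ r - C c := h1.trans (minpoly.dvd F M (by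
        simp [hM, Algebra.algebraMap_eq_smul_one]))
      exact (hg.associated_of_dvd hirr h2).symm.dvd)
  have hn := congrArg natDegree hk
  rw [M.charpoly_natDegree_eq_dim, Fintype.card_fin, natDegree_pow, natDegree_X_pow_sub_C] at hn
  refine ⟨hn ▸ dvd_mul_left r k, ?_⟩
  rw [M.det_eq_sign_charpoly_coeff, hk, coeff_zero_eq_eval_zero, eval_pow, Fintype.card_fin, hn,
    Nat.mul_div_cancel k hr.out.pos]
  simp only [eval_sub, eval_pow, eval_X, eval_C, zero_pow hr.out.ne_zero, zero_sub]
  rw [mul_comm k r, pow_mul, ← mul_pow]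
  congr 1
  ring

omit [FiniteDimensional F V] in
/-- Transport a linear map to matrices. -/
theorem exists_sl_of_end [Module.Finite F V] {n : ℕ} (hn : Module.finrank F V = n)
    (T : Module.End F V) (hdet : LinearMap.det T = 1) :
    ∃ (x : Matrix.SpecialLinearGroup (Fin n) F) (e : V ≃ₗ[F] (Fin n → F)),
      ∀ v, Matrix.toLin' (x : Matrix (Fin n) (Fin n) F) (e v) = e (T v) := by
  let e : V ≃ₗ[F] (Fin n → F) := LinearEquiv.ofFinrankEq _ _ (by rw [hn, Module.finrank_fin_fun])
  let T' : Module.End F (Fin n → F) := (e : V →ₗ[F] Fin n → F) ∘ₗ T ∘ₗ (e.symm : (Fin n → F) →ₗ[F] V)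
  refine ⟨⟨LinearMap.toMatrix' T', ?_⟩, e, fun v => ?_⟩
  · rw [LinearMap.det_toMatrix', LinearMap.det_conj, hdet]
  · change Matrix.toLin' (LinearMap.toMatrix' T') (e v) = _
    rw [Matrix.toLin'_toMatrix']
    simp [T']

/-- An element of order dividing `r` and determinant one with given fixed space. -/
theorem exists_sl_fixed {p : ℕ} [Fact p.Prime] [CharP F p] (hrp : r ≠ p)
    (hi : 1 < orderOf (Fintype.card F : ZMod r)) (e s : ℕ) {n : ℕ}
    (hn : n = e + s * orderOf (Fintype.card F : ZMod r)) :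
    ∃ x : Matrix.SpecialLinearGroup (Fin n) F,
      Matrix.toLin' (x : Matrix (Fin n) (Fin n) F) ^ r = 1 ∧
      Module.finrank F (LinearMap.ker (Matrix.toLin' (x : Matrix (Fin n) (Fin n) F) - 1)) = e := by
  obtain ⟨g, hg, -, hgd, hg1⟩ := exists_irreducible_dvd_X_pow_sub_one (F := F) (r := r) hrp
  have hdeg := natDegree_eq_order (by omega) hg hgd hg1
  haveI : Fact (Irreducible g) := ⟨hg⟩
  set E := AdjoinRoot g
  haveI : Module.Finite F E := (AdjoinRoot.powerBasis hg.ne_zero).finite
  have hE : Module.finrank F E = orderOf (Fintype.card F : ZMod r) := by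
    rw [← hdeg]; exact finrank_quotient_span_eq_natDegree (f := g)
  set α := AdjoinRoot.root g with hα
  have hαr : α ^ r = 1 := by
    have h : Polynomial.aeval α (X ^ r - 1 : F[X]) = 0 := by
      rw [AdjoinRoot.aeval_eq, AdjoinRoot.mk_eq_zero]; exact hgd
    simpa [sub_eq_zero] using h
  have hα1 : α - 1 ≠ 0 := fun h => hg1 (by
    rw [← AdjoinRoot.mk_eq_zero, map_sub, AdjoinRoot.mk_X, map_one]; exact h)
  let A : Module.End F (Fin s → E) := (LinearMap.lsmul E (Fin s → E) α).restrictScalars F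
  let T : Module.End F ((Fin s → E) × (Fin e → F)) := A.prodMap 1
  have hA : ∀ (k : ℕ) v, (A ^ k) v = α ^ k • v := by
    intro k
    induction k with
    | zero => intro v; simp
    | succ k ih =>
      intro v
      rw [pow_succ', Module.End.mul_apply, ih]
      simp [A, smul_smul, pow_succ', mul_comm]
  have hTpow : ∀ (k : ℕ) v, (T ^ k) v = (α ^ k • v.1, v.2) := by
    intro k
    induction k with
    | zero => intro v; simp
    | succ k ih =>
      intro v
      rw [pow_succ', Module.End.mul_apply, ih]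
      simp [T, A, smul_smul, pow_succ', mul_comm]
  have hTr : T ^ r = 1 := LinearMap.ext fun v => by rw [hTpow, hαr, one_smul]; rfl
  have hdet : LinearMap.det T = 1 := by
    have hd : LinearMap.det T ^ r = 1 := by rw [← map_pow, hTr, map_one]
    have hne : LinearMap.det T ≠ 0 := fun h => by
      rw [h, zero_pow hr.out.ne_zero] at hd; exact zero_ne_one hd
    have h2 := FiniteField.pow_card_sub_one_eq_one _ hne
    rw [← orderOf_eq_one_iff]
    rcases (Nat.dvd_prime hr.out).1 (orderOf_dvd_of_pow_eq_one hd) with h | h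
    · exact h
    · exfalso
      have h3 : r ∣ Fintype.card F ^ 1 - 1 := by
        rw [pow_one]; exact h ▸ orderOf_dvd_of_pow_eq_one h2
      have h4 := Nat.le_of_dvd one_pos ((dvd_pow_sub_one_iff Fintype.card_pos 1).1 h3)
      omega
  have hV : Module.finrank F ((Fin s → E) × (Fin e → F)) = n := by
    rw [Module.finrank_prod, Module.finrank_pi_fintype, Finset.sum_const, Finset.card_univ,
      Fintype.card_fin, smul_eq_mul, hE, Module.finrank_fin_fun, hn, add_comm]
  obtain ⟨x, ψ, hx⟩ := exists_sl_of_end hV T hdet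
  refine ⟨x, ?_, ?_⟩
  · refine LinearMap.ext fun w => ?_
    obtain ⟨v, rfl⟩ := ψ.surjective w
    have hcomm : ∀ (k : ℕ) v, (Matrix.toLin' (x : Matrix (Fin n) (Fin n) F) ^ k) (ψ v) = ψ ((T ^ k) v) := by
      intro k
      induction k with
      | zero => intro v; simp
      | succ k ih => intro v; rw [pow_succ', Module.End.mul_apply, ih, hx, pow_succ', Module.End.mul_apply]
    rw [hcomm, hTr]; rfl
  · have hker : LinearMap.ker (Matrix.toLin' (x : Matrix (Fin n) (Fin n) F) - 1) =
        (LinearMap.ker (T - 1)).map (ψ : _ →ₗ[F] _) := by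
      ext w
      obtain ⟨v, rfl⟩ := ψ.surjective w
      simp [Submodule.mem_map_equiv, sub_eq_zero, hx]
    have hker' : LinearMap.ker (T - 1) = LinearMap.range (LinearMap.inr F (Fin s → E) (Fin e → F)) := by
      ext ⟨a, b⟩
      have h : (T - 1) (a, b) = ((α - 1) • a, 0) := by simp [T, A, sub_smul]
      rw [LinearMap.mem_ker, h, LinearMap.mem_range, Prod.mk_eq_zero]
      constructor
      · rintro ⟨h1, -⟩
        exact ⟨b, by simp [(smul_eq_zero.1 h1).resolve_left hα1]⟩
      · rintro ⟨b', hb'⟩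
        simp at hb'
        exact ⟨by simp [← hb'.1], rfl⟩
    rw [hker, LinearEquiv.finrank_map_eq ψ, hker',
      LinearMap.finrank_range_of_inj LinearMap.inr_injective, Module.finrank_fin_fun]

/-- An element of determinant one whose `r`-th power is a scalar without `r`-th root. -/
theorem exists_sl_nonpower {c : F} (hc : ∀ w : F, w ^ r ≠ c) {n : ℕ} (hn : r ∣ n)
    (hdet : ((-1) ^ (r + 1) * c) ^ (n / r) = 1) :
    ∃ x : Matrix.SpecialLinearGroup (Fin n) F,
      Matrix.toLin' (x : Matrix (Fin n) (Fin n) F) ^ r = c • 1 := by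
  have hirr := X_pow_sub_C_irreducible_of_prime hr.out hc
  haveI : Fact (Irreducible (X ^ r - C c : F[X])) := ⟨hirr⟩
  set E := AdjoinRoot (X ^ r - C c : F[X])
  have hne : (X ^ r - C c : F[X]) ≠ 0 := hirr.ne_zero
  haveI : Module.Finite F E := (AdjoinRoot.powerBasis hne).finite
  have hE : Module.finrank F E = r := by
    rw [(AdjoinRoot.powerBasis hne).finrank, AdjoinRoot.powerBasis_dim, natDegree_X_pow_sub_C]
  set α := AdjoinRoot.root (X ^ r - C c : F[X]) with hα
  have hαr : α ^ r = algebraMap F E c := by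
    have h := AdjoinRoot.eval₂_root (X ^ r - C c : F[X])
    simp only [eval₂_sub, eval₂_pow, eval₂_X, eval₂_C, sub_eq_zero] at h
    exact h
  set k := n / r with hk
  let T : Module.End F (Fin k → E) := (α • LinearMap.id : Module.End E (Fin k → E)).restrictScalars F
  have hTdet : LinearMap.det T = 1 := by
    have hnorm : Algebra.norm F α = (-1) ^ (r + 1) * c := by
      rw [hα, ← AdjoinRoot.powerBasis_gen hne, Algebra.PowerBasis.norm_gen_eq_coeff_zero_minpoly,
        AdjoinRoot.powerBasis_dim, natDegree_X_pow_sub_C,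
        AdjoinRoot.minpoly_powerBasis_gen_of_monic (monic_X_pow_sub_C c hr.out.ne_zero)]
      rw [coeff_zero_eq_eval_zero]
      simp [zero_pow hr.out.ne_zero, pow_succ]
    simp only [T]
    rw [LinearMap.det_restrictScalars, LinearMap.det_smul, LinearMap.det_id, mul_one, map_pow,
      hnorm, Module.finrank_fin_fun, hdet]
  have hTr : T ^ r = c • 1 := by
    have hpow : ∀ (j : ℕ) v, (T ^ j) v = α ^ j • v := by
      intro j
      induction j with
      | zero => intro v; simp
      | succ j ih => intro v; rw [pow_succ', Module.End.mul_apply, ih]; simp [T, smul_smul, pow_succ']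
    refine LinearMap.ext fun v => ?_
    rw [hpow, hαr, LinearMap.smul_apply, Module.End.one_apply, algebraMap_smul]
  have hV : Module.finrank F (Fin k → E) = n := by
    rw [Module.finrank_pi_fintype, Finset.sum_const, Finset.card_univ, Fintype.card_fin, smul_eq_mul,
      hE, Nat.div_mul_cancel hn]
  obtain ⟨x, ψ, hx⟩ := exists_sl_of_end hV T hTdet
  refine ⟨x, LinearMap.ext fun w => ?_⟩
  obtain ⟨v, rfl⟩ := ψ.surjective w
  have hcomm : ∀ (j : ℕ) v, (Matrix.toLin' (x : Matrix (Fin n) (Fin n) F) ^ j) (ψ v) = ψ ((T ^ j) v) := by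
    intro j
    induction j with
    | zero => intro v; simp
    | succ j ih => intro v; rw [pow_succ', Module.End.mul_apply, ih, hx, pow_succ', Module.End.mul_apply]
  rw [hcomm, hTr]
  simp

/-- Existence of scalars without `r`-th root realised in determinant one. -/
theorem exists_nonpower_iff {q : ℕ} (hq : Fintype.card F = q) (hq1 : r ∣ q - 1) {n : ℕ}
    (hn0 : n ≠ 0) (hn : r ∣ n) :
    (∃ c : F, (∀ w : F, w ^ r ≠ c) ∧ ((-1) ^ (r + 1) * c) ^ (n / r) = 1) ↔
      ¬ (padicValNat r n ≤ padicValNat r (q - 1) ∧ (r = 2 → Even n → q % 4 = 1)) := by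
  classical
  obtain ⟨g, hg⟩ := IsCyclic.exists_generator (α := Fˣ)
  have hord : orderOf g = q - 1 := by
    rw [orderOf_eq_card_of_forall_mem_zpowers hg, Nat.card_units, Nat.card_eq_fintype_card, hq]
  have hq0 : q - 1 ≠ 0 := by
    have := Fintype.one_lt_card (α := F)
    omega
  set s := n / r with hs
  have hns : n = r * s := (Nat.mul_div_cancel' hn).symm
  have hs0 : s ≠ 0 := by rintro h; rw [h, mul_zero] at hns; exact hn0 hns
  have hvn : padicValNat r n = padicValNat r s + 1 := by
    rw [hns, padicValNat.mul hr.out.ne_zero hs0, padicValNat_self, add_comm]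
  have hrpow : ∀ k : ℕ, (∀ w : F, w ^ r ≠ ((g ^ k : Fˣ) : F)) ↔ ¬ r ∣ k := by
    intro k
    constructor
    · rintro h ⟨j, rfl⟩
      exact h ((g ^ j : Fˣ) : F) (by rw [← Units.val_pow_eq_pow_val, ← pow_mul, mul_comm r j])
    · intro hk w hw
      have hw0 : w ≠ 0 := by
        rintro rfl; rw [zero_pow hr.out.ne_zero] at hw; exact (g ^ k).ne_zero hw.symm
      obtain ⟨j, hj⟩ := mem_powers_iff_mem_zpowers.2 (hg (Units.mk0 w hw0))
      have h1 : g ^ (j * r) = g ^ k := by
        rw [pow_mul]; apply Units.ext; rw [Units.val_pow_eq_pow_val, ← hw]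
        exact congrArg (fun z : Fˣ => (z : F) ^ r) hj
      rw [pow_inj_mod, hord] at h1
      refine hk ((Nat.dvd_mod_iff hq1).1 ?_)
      rw [← h1, Nat.dvd_mod_iff hq1]
      exact dvd_mul_left r j
  -- the criterion without sign
  have key : (∃ c : F, (∀ w : F, w ^ r ≠ c) ∧ c ^ s = 1) ↔ padicValNat r (q - 1) ≤ padicValNat r s := by
    constructor
    · rintro ⟨c, hc, hcs⟩
      have hc0 : c ≠ 0 := fun h => hc 0 (by rw [h, zero_pow hr.out.ne_zero])
      obtain ⟨k, hk⟩ := mem_powers_iff_mem_zpowers.2 (hg (Units.mk0 c hc0))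
      have hk' : ((g ^ k : Fˣ) : F) = c := congrArg Units.val hk
      rw [← hk'] at hc hcs
      rw [← Units.val_pow_eq_pow_val, ← pow_mul, Units.val_eq_one, ← orderOf_dvd_iff_pow_eq_one, hord] at hcs
      have hcop : (r ^ padicValNat r (q - 1)).Coprime k :=
        Nat.Coprime.pow_left _ (hr.out.coprime_iff_not_dvd.2 ((hrpow k).1 hc))
      have h2 := hcop.dvd_of_dvd_mul_left (pow_padicValNat_dvd.trans hcs)
      rwa [padicValNat_dvd_iff_le hs0] at h2
    · intro hle
      refine ⟨((g ^ ((q - 1) / r ^ padicValNat r (q - 1)) : Fˣ) : F), (hrpow _).2 ?_, ?_⟩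
      · intro h
        have h2 := Nat.mul_dvd_mul_left (r ^ padicValNat r (q - 1)) h
        rw [← pow_succ, Nat.mul_div_cancel' pow_padicValNat_dvd, padicValNat_dvd_iff_le hq0] at h2
        omega
      · rw [← Units.val_pow_eq_pow_val, ← pow_mul, Units.val_eq_one, ← orderOf_dvd_iff_pow_eq_one, hord]
        have h2 : r ^ padicValNat r (q - 1) ∣ s := (padicValNat_dvd_iff_le hs0).2 hle
        have h3 := Nat.mul_dvd_mul_left ((q - 1) / r ^ padicValNat r (q - 1)) h2
        rwa [Nat.div_mul_cancel pow_padicValNat_dvd] at h3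
  by_cases hr2 : r = 2
  · subst hr2
    have hqodd : q % 2 = 1 := by omega
    have hev : Even n := (even_iff_two_dvd).2 hn
    rcases Nat.even_or_odd s with hse | hso
    · have h1 : ∀ c : F, ((-1) ^ (2 + 1) * c) ^ s = c ^ s := fun c => by
        rw [mul_pow, ← pow_mul, (hse.mul_left 3).neg_one_pow, one_mul]
      simp only [h1]
      rw [key, hvn]
      constructor
      · intro h h'; omega
      · intro h
        by_contra hlt
        refine h ⟨by omega, fun _ _ => ?_⟩
        have hv2 : 1 ≤ padicValNat 2 s := one_le_padicValNat_of_dvd hs0 hse.two_dvd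
        have h4 : 2 ^ 2 ∣ q - 1 := (padicValNat_dvd_iff_le hq0).2 (by omega)
        omega
    · have hv : padicValNat 2 s = 0 :=
        padicValNat.eq_zero_of_not_dvd (fun h => by rw [Nat.odd_iff] at hso; omega)
      have hv1 : 1 ≤ padicValNat 2 (q - 1) := one_le_padicValNat_of_dvd hq0 hq1
      rw [hvn, hv]
      constructor
      · rintro ⟨c, hc, hcs⟩ ⟨-, h4⟩
        have h4' := h4 rfl hev
        have hneg : IsSquare (-1 : F) := FiniteField.isSquare_neg_one_iff.2 (by omega)
        obtain ⟨i, hi⟩ := hneg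
        have e : (-1 : F) ^ (2 + 1) * c = -c := by ring
        rw [e] at hcs
        obtain ⟨t, ht⟩ := hso
        refine hc (i * (-c) ^ (t + 1)) ?_
        rw [mul_pow, ← pow_mul, pow_two i, ← hi,
          show (t + 1) * 2 = s + 1 by omega, pow_succ, hcs, one_mul]
        ring
      · intro h
        refine ⟨-1, fun w hw => h ⟨by omega, fun _ _ => ?_⟩, ?_⟩
        · have := FiniteField.isSquare_neg_one_iff.1 ⟨w, by rw [← pow_two, hw]⟩
          omega
        · norm_num
  · have hodd : Odd r := hr.out.odd_of_ne_two hr2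
    have h1 : ∀ c : F, ((-1) ^ (r + 1) * c) ^ s = c ^ s := fun c => by
      rw [(hodd.add_one).neg_one_pow, one_mul]
    simp only [h1]
    rw [key, hvn]
    constructor
    · intro h h'; omega
    · intro h
      by_contra hlt
      exact h ⟨by omega, fun h2 => absurd h2 hr2⟩

theorem exists_root_of_coprime (hr1 : orderOf (Fintype.card F : ZMod r) ≠ 1) (c : F) :
    ∃ w : F, w ^ r = c := by
  rcases eq_or_ne c 0 with rfl | hc
  · exact ⟨0, zero_pow hr.out.ne_zero⟩
  have hcop : (Nat.card Fˣ).Coprime r := by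
    rw [Nat.card_units, Nat.card_eq_fintype_card]
    refine (hr.out.coprime_iff_not_dvd.2 fun h => hr1 ?_).symm
    exact Nat.dvd_one.1 ((dvd_pow_sub_one_iff Fintype.card_pos 1).1 (by rwa [pow_one]))
  obtain ⟨w, hw⟩ := (powCoprime hcop).surjective (Units.mk0 c hc)
  exact ⟨w, by simpa using congrArg Units.val hw⟩

end CfsgLib.LinFix
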