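import Mathlib
import Cfsg.Agent.Lib.LinFix.Basic
import Cfsg.Agent.Lib.LinFix.Field

/-!
# Block structure of nilpotent maps and of elements of order `p` in characteristic `p`
-/

set_option autoImplicit false

namespace CfsgLib.LinFix

open Polynomial

variable {F V : Type*} [Field F] [AddCommGroup V] [Module F V]

/-- The dimensions of the images of powers predicted by the block sizes `μ`. -/
def blockRank (μ : Multiset ℕ) (j : ℕ) : ℕ := (μ.map (· - j)).sum

@[simp] theorem blockRank_zero_left (j : ℕ) : blockRank 0 j = 0 := rfl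

@[simp] theorem blockRank_cons (a : ℕ) (μ : Multiset ℕ) (j : ℕ) :
    blockRank (a ::ₘ μ) j = (a - j) + blockRank μ j := by
  simp [blockRank]

theorem blockRank_add (μ ν : Multiset ℕ) (j : ℕ) :
    blockRank (μ + ν) j = blockRank μ j + blockRank ν j := by
  simp [blockRank]

theorem blockRank_zero (μ : Multiset ℕ) : blockRank μ 0 = μ.sum := by
  simp [blockRank]

theorem le_of_blockRank_eq_zero {μ : Multiset ℕ} {p a : ℕ} (h : blockRank μ p = 0) (ha : a ∈ μ) :
    a ≤ p := by
  obtain ⟨μ', rfl⟩ := Multiset.exists_cons_of_mem ha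
  rw [blockRank_cons] at h
  omega

theorem count_eq_blockRank (μ : Multiset ℕ) {a : ℕ} (ha : 0 < a) :
    μ.count a + 2 * blockRank μ a = blockRank μ (a - 1) + blockRank μ (a + 1) := by
  induction μ using Multiset.induction with
  | empty => simp
  | cons b μ ih =>
    simp only [blockRank_cons, Multiset.count_cons]
    split_ifs with h
    · omega
    · omega

theorem eq_of_blockRank {μ ν : Multiset ℕ} (hμ : ∀ a ∈ μ, 0 < a) (hν : ∀ a ∈ ν, 0 < a)
    (h : ∀ j, blockRank μ j = blockRank ν j) : μ = ν := by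
  refine Multiset.ext.2 fun a => ?_
  rcases Nat.eq_zero_or_pos a with rfl | ha
  · rw [Multiset.count_eq_zero.2 fun h0 => (hμ 0 h0).false,
      Multiset.count_eq_zero.2 fun h0 => (hν 0 h0).false]
  · have h1 := count_eq_blockRank μ ha
    have h2 := count_eq_blockRank ν ha
    simp only [h] at h1
    omega

theorem count_eq_of_le {μ : Multiset ℕ} {p : ℕ} (hp : 0 < p) (h : ∀ a ∈ μ, a ≤ p) :
    blockRank μ (p - 1) = μ.count p := by
  induction μ using Multiset.induction with
  | empty => simp
  | cons b μ ih =>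
    rw [blockRank_cons, Multiset.count_cons, ih fun a ha => h a (Multiset.mem_cons_of_mem ha)]
    have := h b (Multiset.mem_cons_self b μ)
    split_ifs with hb
    · omega
    · omega

theorem Inv.pow {N : Module.End F V} {W : Submodule F V} (h : Inv N W) (j : ℕ) :
    Inv (N ^ j) W := by
  induction j with
  | zero => intro v hv; simpa using hv
  | succ j ih => intro v hv; rw [pow_succ', Module.End.mul_apply]; exact h _ (ih v hv)

theorem finrank_map_pow_sup [FiniteDimensional F V] {N : Module.End F V} {A B : Submodule F V}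
    (hA : Inv N A) (hB : Inv N B) (hAB : Disjoint A B) (j : ℕ) :
    Module.finrank F ↥((A ⊔ B).map (N ^ j)) =
      Module.finrank F ↥(A.map (N ^ j)) + Module.finrank F ↥(B.map (N ^ j)) := by
  rw [Submodule.map_sup]
  exact finrank_sup_of_disjoint (hAB.mono (hA.pow j).map_le (hB.pow j).map_le)

/-- An invariant subspace on which the map is nilpotent splits off a cyclic block, with its
generator. -/
theorem exists_cyclic_compl_vec [FiniteDimensional F V] {N : Module.End F V} (hN : IsNilpotent N)
    {W : Submodule F V} (hW : Inv N W) (hne : W ≠ ⊥) :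
    ∃ (k : ℕ) (v : V) (Z W' : Submodule F V), 0 < k ∧ Inv N Z ∧ Inv N W' ∧ Disjoint Z W' ∧
      Z ⊔ W' = W ∧ (∀ j, Module.finrank F ↥(Z.map (N ^ j)) = k - j) ∧
      (∀ w ∈ W, (N ^ k) w = 0) ∧
      LinearIndependent F (fun i : Fin k => (N ^ (i : ℕ)) v) ∧
      Submodule.span F (Set.range fun i : Fin k => (N ^ (i : ℕ)) v) = Z := by
  classical
  obtain ⟨K, hK⟩ := hN
  have hex : ∃ k, ∀ v ∈ W, (N ^ k) v = 0 := ⟨K, fun v _ => by simp [hK]⟩
  set k := Nat.find hex with hk
  have hkW : ∀ v ∈ W, (N ^ k) v = 0 := Nat.find_spec hex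
  have hk0 : 0 < k := by
    by_contra h
    have hk' : k = 0 := by omega
    refine hne ((Submodule.eq_bot_iff _).2 fun v hv => ?_)
    simpa [hk'] using hkW v hv
  obtain ⟨v, hv, hv0⟩ : ∃ v ∈ W, (N ^ (k - 1)) v ≠ 0 := by
    have h := Nat.find_min hex (m := k - 1) (by omega)
    push Not at h
    exact h
  have hhigh : ∀ w ∈ W, ∀ j, k ≤ j → (N ^ j) w = 0 := fun w hw j hj => by
    rw [← Nat.sub_add_cancel hj, pow_add, Module.End.mul_apply, hkW w hw, map_zero]
  obtain ⟨φ, hφ⟩ := Module.Projective.exists_dual_ne_zero F hv0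
  let g : (Fin k → F) →ₗ[F] V := Fintype.linearCombination F fun i => (N ^ (i : ℕ)) v
  let L : V →ₗ[F] (Fin k → F) := LinearMap.pi fun i => φ.comp (N ^ (i : ℕ))
  -- the restriction of `L` to the block is injective
  have hinj : ∀ c : Fin k → F, L (g c) = 0 → c = 0 := by
    intro c hc
    by_contra hc0
    obtain ⟨i₀, hi₀, hmin⟩ : ∃ i, c i ≠ 0 ∧ ∀ l, l < i → c l = 0 := by
      obtain ⟨i, hi⟩ := Function.ne_iff.1 hc0
      have hne' : (Finset.univ.filter fun l => c l ≠ 0).Nonempty := ⟨i, by simpa using hi⟩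
      refine ⟨_, (Finset.mem_filter.1 (Finset.min'_mem _ hne')).2, fun l hl => ?_⟩
      by_contra hl0
      exact absurd (Finset.min'_le _ l (by simpa using hl0)) (not_le.2 hl)
    have h1 := congrFun hc ⟨k - 1 - i₀, by omega⟩
    simp only [L, g, LinearMap.pi_apply, LinearMap.comp_apply, Fintype.linearCombination_apply,
      map_sum, map_smul, Pi.zero_apply, smul_eq_mul] at h1
    rw [Finset.sum_eq_single i₀] at h1
    · rw [← Module.End.mul_apply, ← pow_add, show k - 1 - i₀ + i₀ = k - 1 by omega] at h1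
      exact mul_ne_zero hi₀ hφ h1
    · intro l _ hl
      rcases lt_or_gt_of_ne hl with h | h
      · rw [hmin l h, zero_mul]
      · rw [← Module.End.mul_apply, ← pow_add, hhigh v hv _ (by omega), map_zero, mul_zero]
    · simp
  have hg : Function.Injective g := by
    rw [injective_iff_map_eq_zero]
    exact fun c hc => hinj c (by rw [hc, map_zero])
  have hLg : Function.Bijective (L.comp g) :=
    have hi : Function.Injective (L.comp g) := (injective_iff_map_eq_zero _).2 fun c hc => hinj c hc
    ⟨hi, LinearMap.injective_iff_surjective.1 hi⟩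
  let W' : Submodule F V := W ⊓ LinearMap.ker L
  have hZW : LinearMap.range g ≤ W := by
    rintro _ ⟨c, rfl⟩
    rw [Fintype.linearCombination_apply]
    exact W.sum_mem fun i _ => W.smul_mem _ (hW.pow _ v hv)
  have hZ : ∀ j i, (N ^ (j + i)) v ∈ (LinearMap.range g).map (N ^ j) := by
    intro j i
    rcases Nat.lt_or_ge i k with h | h
    · refine ⟨g (Pi.single ⟨i, h⟩ 1), ⟨_, rfl⟩, ?_⟩
      rw [pow_add, Module.End.mul_apply]
      simp [g, Fintype.linearCombination_apply_single]
    · rw [hhigh v hv _ (by omega)]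
      exact Submodule.zero_mem _
  have hli : LinearIndependent F (fun i : Fin k => (N ^ (i : ℕ)) v) := by
    rw [Fintype.linearIndependent_iff]
    intro c hc i
    have h := hinj c (by rw [show g c = 0 from by rw [Fintype.linearCombination_apply]; exact hc, map_zero])
    exact congrFun h i
  refine ⟨k, v, LinearMap.range g, W', hk0, ?_, ?_, ?_, ?_, ?_, hkW, hli,
    (Fintype.range_linearCombination F _).symm⟩
  · rintro _ ⟨c, rfl⟩
    rw [Fintype.linearCombination_apply, map_sum]
    refine Submodule.sum_mem _ fun i _ => ?_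
    rw [map_smul, ← Module.End.mul_apply, ← pow_succ']
    refine Submodule.smul_mem _ _ ?_
    simpa using hZ 0 ((i : ℕ) + 1)
  · rintro w ⟨hwW, hwL⟩
    refine ⟨hW w hwW, funext fun i => ?_⟩
    simp only [L, LinearMap.pi_apply, LinearMap.comp_apply, Pi.zero_apply]
    rw [← Module.End.mul_apply, ← pow_succ]
    rcases Nat.lt_or_ge ((i : ℕ) + 1) k with h | h
    · exact congrFun hwL ⟨(i : ℕ) + 1, h⟩
    · rw [hhigh w hwW _ h, map_zero]
  · rw [Submodule.disjoint_def]
    rintro _ ⟨c, rfl⟩ hc
    rw [hinj c hc.2, map_zero]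
  · refine le_antisymm (sup_le hZW inf_le_left) fun w hw => ?_
    obtain ⟨c, hc⟩ := hLg.2 (L w)
    rw [LinearMap.comp_apply] at hc
    refine Submodule.mem_sup.2 ⟨g c, ⟨c, rfl⟩, w - g c, ⟨W.sub_mem hw (hZW ⟨c, rfl⟩), ?_⟩,
      add_sub_cancel _ _⟩
    simp [hc]
  · intro j
    let f : Fin (k - j) → V := fun i => (N ^ (j + (i : ℕ))) v
    have hspan : (LinearMap.range g).map (N ^ j) = Submodule.span F (Set.range f) := by
      refine le_antisymm ?_ (Submodule.span_le.2 (by rintro _ ⟨i, rfl⟩; exact hZ j i))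
      rintro _ ⟨_, ⟨c, rfl⟩, rfl⟩
      rw [Fintype.linearCombination_apply, map_sum]
      refine Submodule.sum_mem _ fun i _ => ?_
      rw [map_smul, ← Module.End.mul_apply, ← pow_add]
      refine Submodule.smul_mem _ _ ?_
      rcases Nat.lt_or_ge (i : ℕ) (k - j) with h | h
      · exact Submodule.subset_span ⟨⟨i, h⟩, rfl⟩
      · rw [hhigh v hv _ (by omega)]
        exact Submodule.zero_mem _
    have hfli : LinearIndependent F f := by
      have := hli.comp (fun i : Fin (k - j) => (⟨j + (i : ℕ), by omega⟩ : Fin k))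
        (fun a b h => Fin.ext (by simpa using congrArg Fin.val h))
      exact this
    rw [hspan, finrank_span_eq_card hfli, Fintype.card_fin]

/-- An invariant subspace on which the map is nilpotent splits off a cyclic block. -/
theorem exists_cyclic_compl [FiniteDimensional F V] {N : Module.End F V} (hN : IsNilpotent N)
    {W : Submodule F V} (hW : Inv N W) (hne : W ≠ ⊥) :
    ∃ (k : ℕ) (Z W' : Submodule F V), 0 < k ∧ Inv N Z ∧ Inv N W' ∧ Disjoint Z W' ∧ Z ⊔ W' = W ∧
      (∀ j, Module.finrank F ↥(Z.map (N ^ j)) = k - j) := by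
  obtain ⟨k, -, Z, W', h1, h2, h3, h4, h5, h6, -⟩ := exists_cyclic_compl_vec hN hW hne
  exact ⟨k, Z, W', h1, h2, h3, h4, h5, h6⟩

/-- The block sizes of a nilpotent map on an invariant subspace, with the splittings they give. -/
theorem exists_blocks [FiniteDimensional F V] {N : Module.End F V} (hN : IsNilpotent N) :
    ∀ W : Submodule F V, Inv N W → ∃ μ : Multiset ℕ, (∀ a ∈ μ, 0 < a) ∧
      (∀ j, Module.finrank F ↥(W.map (N ^ j)) = blockRank μ j) ∧
      ∀ ν ≤ μ, ∃ U U' : Submodule F V, Inv N U ∧ Inv N U' ∧ Disjoint U U' ∧ U ⊔ U' = W ∧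
        Module.finrank F U = ν.sum := by
  intro W
  induction hd : Module.finrank F W using Nat.strong_induction_on generalizing W with
  | _ d ih =>
  intro hW
  rcases eq_or_ne W ⊥ with rfl | hne
  · refine ⟨0, by simp, fun j => by simp, fun ν hν => ?_⟩
    rw [Multiset.le_zero] at hν
    subst hν
    exact ⟨⊥, ⊥, inv_bot N, inv_bot N, disjoint_bot_left, by simp, by simp⟩
  obtain ⟨k, Z, W', hk, hZ, hW', hdis, hsup, hrank⟩ := exists_cyclic_compl hN hW hne
  have hsum := finrank_sup_of_disjoint hdis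
  have hZk : Module.finrank F Z = k := by
    have h := hrank 0
    rwa [pow_zero, Nat.sub_zero, Module.End.one_eq_id, Submodule.map_id] at h
  rw [hsup, hd, hZk] at hsum
  obtain ⟨μ, hpos, hranks, hsplit⟩ := ih _ (by omega) W' rfl hW'
  refine ⟨k ::ₘ μ, ?_, fun j => ?_, fun ν hν => ?_⟩
  · intro a ha
    rcases Multiset.mem_cons.1 ha with rfl | h
    exacts [hk, hpos a h]
  · rw [← hsup, finrank_map_pow_sup hZ hW' hdis, hrank, hranks, blockRank_cons]
  · by_cases hkν : k ∈ ν
    · obtain ⟨ν', rfl⟩ := Multiset.exists_cons_of_mem hkν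
      obtain ⟨U, U', hU, hU', hd', hs', hUr⟩ := hsplit ν' ((Multiset.cons_le_cons_iff k).1 hν)
      refine ⟨Z ⊔ U, U', hZ.sup hU, hU', ?_, by rw [sup_assoc, hs', hsup], ?_⟩
      · exact hd'.disjoint_sup_left_of_disjoint_sup_right (hs'.symm ▸ hdis)
      · rw [finrank_sup_of_disjoint (hdis.mono_right (hs' ▸ le_sup_left)), hZk, hUr,
          Multiset.sum_cons]
    · obtain ⟨U, U', hU, hU', hd', hs', hUr⟩ := hsplit ν ((Multiset.le_cons_of_notMem hkν).1 hν)
      refine ⟨U, Z ⊔ U', hU, hZ.sup hU', ?_, by rw [← sup_assoc, sup_comm U, sup_assoc, hs', hsup], hUr⟩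
      exact (hd'.symm.disjoint_sup_left_of_disjoint_sup_right (sup_comm U U' ▸ hs'.symm ▸ hdis)).symm

/-- The shift on `Fin k → F`. -/
def shiftEnd (F : Type*) [Field F] (k : ℕ) : Module.End F (Fin k → F) where
  toFun f i := if h : (i : ℕ) + 1 < k then f ⟨i + 1, h⟩ else 0
  map_add' f g := funext fun i => by dsimp; split_ifs <;> simp
  map_smul' c f := funext fun i => by dsimp; split_ifs <;> simp

theorem shiftEnd_pow_apply (k j : ℕ) (f : Fin k → F) (i : Fin k) :
    (shiftEnd F k ^ j) f i = if h : (i : ℕ) + j < k then f ⟨i + j, h⟩ else 0 := by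
  induction j generalizing f with
  | zero => simp [i.2]
  | succ j ih =>
    rw [pow_succ, Module.End.mul_apply, ih]
    change (if h : (i : ℕ) + j < k then
      (if h' : (i : ℕ) + j + 1 < k then f ⟨i + j + 1, h'⟩ else 0) else 0) = _
    split_ifs <;> first | rfl | omega

theorem shiftEnd_pow_self (k : ℕ) : shiftEnd F k ^ k = 0 := by
  refine LinearMap.ext fun f => funext fun i => ?_
  rw [shiftEnd_pow_apply]
  simp

theorem finrank_range_shiftEnd_pow (k j : ℕ) :
    Module.finrank F (LinearMap.range (shiftEnd F k ^ j)) = k - j := by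
  let E : (Fin (k - j) → F) →ₗ[F] (Fin k → F) :=
    { toFun := fun g i => if h : (i : ℕ) < k - j then g ⟨i, h⟩ else 0
      map_add' := fun f g => funext fun i => by dsimp; split_ifs <;> simp
      map_smul' := fun c f => funext fun i => by dsimp; split_ifs <;> simp }
  have hE : Function.Injective E := fun f g h => funext fun i => by
    have := congrFun h ⟨i, by omega⟩
    simpa [E, i.2] using this
  have hr : LinearMap.range (shiftEnd F k ^ j) = LinearMap.range E := by
    apply le_antisymm
    · rintro _ ⟨f, rfl⟩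
      refine ⟨fun i => f ⟨i + j, by omega⟩, funext fun i => ?_⟩
      rw [shiftEnd_pow_apply]
      simp only [E, LinearMap.coe_mk, AddHom.coe_mk]
      split_ifs <;> first | rfl | omega
    · rintro _ ⟨g, rfl⟩
      refine ⟨fun i => if h : j ≤ (i : ℕ) then g ⟨(i : ℕ) - j, by omega⟩ else 0, funext fun i => ?_⟩
      rw [shiftEnd_pow_apply]
      simp only [E, LinearMap.coe_mk, AddHom.coe_mk]
      split_ifs with h1 h2 h3 <;> first | rfl | (congr 1; ext; simp) | omega
  rw [hr, LinearMap.finrank_range_of_inj hE, Module.finrank_fin_fun]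

/-- Nilpotent maps with given block sizes exist. -/
theorem exists_nilpotent (F : Type*) [Field F] (μ : Multiset ℕ) :
    ∃ N : Module.End F (Fin μ.sum → F), IsNilpotent N ∧
      ∀ j, Module.finrank F (LinearMap.range (N ^ j)) = blockRank μ j := by
  induction μ using Multiset.induction with
  | empty =>
    refine ⟨0, IsNilpotent.zero, fun j => ?_⟩
    rw [blockRank_zero_left, ← Nat.le_zero]
    refine (Submodule.finrank_le _).trans ?_
    rw [Module.finrank_fin_fun, Multiset.sum_zero]
  | cons k μ ih =>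
    obtain ⟨N, ⟨K, hK⟩, hN⟩ := ih
    let e : ((Fin k → F) × (Fin μ.sum → F)) ≃ₗ[F] (Fin (k ::ₘ μ).sum → F) :=
      LinearEquiv.ofFinrankEq _ _ (by
        simp [Module.finrank_prod, Module.finrank_fin_fun, Multiset.sum_cons])
    let P : Module.End F ((Fin k → F) × (Fin μ.sum → F)) := (shiftEnd F k).prodMap N
    have hP : ∀ j, P ^ j = (shiftEnd F k ^ j).prodMap (N ^ j) := by
      intro j
      induction j with
      | zero => exact LinearMap.ext fun v => rfl
      | succ j ih =>
        refine LinearMap.ext fun v => ?_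
        rw [pow_succ', Module.End.mul_apply, ih, pow_succ', pow_succ']
        rfl
    have hc : ∀ j, e.conj P ^ j = e.conj (P ^ j) := fun j => (map_pow (e.conjAlgEquiv F) P j).symm
    refine ⟨e.conj P, ⟨k + K, ?_⟩, fun j => ?_⟩
    · rw [hc, hP, pow_add, pow_add, shiftEnd_pow_self, hK, mul_zero, zero_mul]
      ext v
      simp
    · rw [hc, hP, blockRank_cons, ← hN j, ← finrank_range_shiftEnd_pow (F := F) k j]
      rw [LinearEquiv.conj_apply, LinearMap.range_comp, LinearEquiv.range, Submodule.map_top,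
        LinearMap.range_comp, LinearMap.range_prodMap, LinearEquiv.finrank_map_eq e]
      conv_lhs => rw [← Submodule.range_subtype (LinearMap.range (shiftEnd F k ^ j)),
        ← Submodule.range_subtype (LinearMap.range (N ^ j)), ← LinearMap.range_prodMap]
      rw [LinearMap.finrank_range_of_inj
          (Prod.map_injective.2 ⟨Submodule.injective_subtype _, Submodule.injective_subtype _⟩),
        Module.finrank_prod]

section unipotent

variable {p : ℕ} [Fact p.Prime] [CharP F p]

theorem sub_one_pow_char (T : Module.End F V) : (T - 1) ^ p = T ^ p - 1 := by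
  have h : ((X - 1 : F[X]) ^ p) = X ^ p - 1 := by
    rw [sub_pow_char, one_pow]
  simpa using congrArg (Polynomial.aeval T) h

theorem sub_one_pow_pred_char (T : Module.End F V) :
    (T - 1) ^ (p - 1) = ∑ i ∈ Finset.range p, T ^ i := by
  have hne : (X - 1 : F[X]) ≠ 0 := by rw [← map_one C]; exact X_sub_C_ne_zero 1
  have h : ((X - 1 : F[X]) ^ (p - 1)) = ∑ i ∈ Finset.range p, X ^ i := by
    refine mul_right_cancel₀ hne ?_
    rw [geom_sum_mul, ← pow_succ, Nat.sub_add_cancel (Fact.out : p.Prime).one_le, sub_pow_char,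
      one_pow]
  simpa [map_sum] using congrArg (Polynomial.aeval T) h

omit [Fact p.Prime] [CharP F p] in
theorem inv_sub_one_iff {T : Module.End F V} {W : Submodule F V} :
    Inv (T - 1) W ↔ Inv T W :=
  forall₂_congr fun v hv => by
    rw [LinearMap.sub_apply, Module.End.one_apply]
    exact W.sub_mem_iff_left hv

/-- The block sizes of a map of order dividing `p`. -/
theorem exists_blocks_char [FiniteDimensional F V] {T : Module.End F V} (hT : T ^ p = 1)
    {W : Submodule F V} (hW : Inv T W) :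
    ∃ μ : Multiset ℕ, (∀ a ∈ μ, 0 < a ∧ a ≤ p) ∧
      (∀ j, Module.finrank F ↥(W.map ((T - 1) ^ j)) = blockRank μ j) ∧
      μ.sum = Module.finrank F W ∧
      ∀ ν ≤ μ, ∃ U U' : Submodule F V, Inv T U ∧ Inv T U' ∧ Disjoint U U' ∧ U ⊔ U' = W ∧
        Module.finrank F U = ν.sum := by
  have hp0 : (T - 1) ^ p = 0 := by rw [sub_one_pow_char, hT, sub_self]
  obtain ⟨μ, hpos, hrank, hsplit⟩ := exists_blocks ⟨p, hp0⟩ W (inv_sub_one_iff.2 hW)
  refine ⟨μ, fun a ha => ⟨hpos a ha, le_of_blockRank_eq_zero ?_ ha⟩, hrank, ?_, fun ν hν => ?_⟩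
  · rw [← hrank p, hp0]; simp
  · rw [← blockRank_zero, ← hrank 0, pow_zero, Module.End.one_eq_id, Submodule.map_id]
  · obtain ⟨U, U', h1, h2, h3, h4, h5⟩ := hsplit ν hν
    exact ⟨U, U', inv_sub_one_iff.1 h1, inv_sub_one_iff.1 h2, h3, h4, h5⟩

/-- Block sizes of complementary invariant subspaces are sub-multisets. -/
theorem exists_sub_blocks [FiniteDimensional F V] {T : Module.End F V} (hT : T ^ p = 1)
    {μ : Multiset ℕ} (hμ : ∀ a ∈ μ, 0 < a)
    (hrank : ∀ j, Module.finrank F (LinearMap.range ((T - 1) ^ j)) = blockRank μ j)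
    {U W : Submodule F V} (hU : Inv T U) (hW : Inv T W) (hc : IsCompl U W) :
    ∃ ν ≤ μ, ν.sum = Module.finrank F U := by
  obtain ⟨ν, hν, hνr, hνs, -⟩ := exists_blocks_char hT hU
  obtain ⟨ν', hν', hν'r, -, -⟩ := exists_blocks_char hT hW
  refine ⟨ν, ?_, hνs⟩
  rw [eq_of_blockRank hμ (ν := ν + ν') (fun a ha => ?_) fun j => ?_]
  · exact Multiset.le_add_right ν ν'
  · rcases Multiset.mem_add.1 ha with h | h
    exacts [(hν a h).1, (hν' a h).1]
  · rw [blockRank_add, ← hνr, ← hν'r,
      ← finrank_map_pow_sup (inv_sub_one_iff.2 hU) (inv_sub_one_iff.2 hW) hc.disjoint,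
      hc.sup_eq_top, Submodule.map_top, hrank]

/-- An element of determinant one and order dividing `p` with given block sizes. -/
theorem exists_sl_blocks [Fintype F] (μ : Multiset ℕ) (hμ : ∀ a ∈ μ, a ≤ p) {n : ℕ}
    (hn : μ.sum = n) :
    ∃ x : Matrix.SpecialLinearGroup (Fin n) F,
      Matrix.toLin' (x : Matrix (Fin n) (Fin n) F) ^ p = 1 ∧
      ∀ j, Module.finrank F (LinearMap.range
        ((Matrix.toLin' (x : Matrix (Fin n) (Fin n) F) - 1) ^ j)) = blockRank μ j := by
  subst hn
  obtain ⟨N, -, hN⟩ := exists_nilpotent F μ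
  have hNp : N ^ p = 0 := by
    rw [← LinearMap.range_eq_bot, ← Submodule.finrank_eq_zero, hN]
    refine Multiset.sum_eq_zero fun b hb => ?_
    obtain ⟨a, ha, rfl⟩ := Multiset.mem_map.1 hb
    exact Nat.sub_eq_zero_of_le (hμ a ha)
  have hT : (1 + N) ^ p = 1 := by
    have h := sub_one_pow_char (p := p) (1 + N)
    rw [add_sub_cancel_left, hNp, eq_comm, sub_eq_zero] at h
    exact h
  have hdet : (LinearMap.toMatrix' (1 + N)).det = 1 := by
    rw [LinearMap.det_toMatrix']
    apply frobenius_inj F p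
    rw [frobenius_def, frobenius_def, ← map_pow, hT, map_one, one_pow]
  refine ⟨⟨LinearMap.toMatrix' (1 + N), hdet⟩, ?_, fun j => ?_⟩
  · change Matrix.toLin' (LinearMap.toMatrix' (1 + N)) ^ p = 1
    rw [Matrix.toLin'_toMatrix', hT]
  · change Module.finrank F (LinearMap.range ((Matrix.toLin' (LinearMap.toMatrix' (1 + N)) - 1) ^ j)) = _
    rw [Matrix.toLin'_toMatrix', add_sub_cancel_left, hN]

end unipotent

end CfsgLib.LinFix
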