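import Mathlib

/-!
# Counting subspaces over a finite field, and the primes dividing the counts
-/

set_option autoImplicit false

namespace CfsgLib.LinFix

variable {F : Type*} [Field F] [Fintype F]

section count

variable (V : Type*) [AddCommGroup V] [Module F V] [Finite V]

theorem card_subspace_mul_prod {m : ℕ} (hm : m ≤ Module.finrank F V) :
    Nat.card {W : Submodule F V // Module.finrank F W = m} *
        ∏ j ∈ Finset.range m, (Fintype.card F ^ m - Fintype.card F ^ j) =
      ∏ j ∈ Finset.range m, (Fintype.card F ^ Module.finrank F V - Fintype.card F ^ j) := by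
  classical
  haveI : Module.Finite F V := Module.Finite.of_finite
  haveI : Finite (Submodule F V) := Finite.of_injective _ SetLike.coe_injective
  rw [← Fin.prod_univ_eq_prod_range, ← Fin.prod_univ_eq_prod_range, ← card_linearIndependent hm]
  let Φ : {s : Fin m → V // LinearIndependent F s} →
      {W : Submodule F V // Module.finrank F W = m} :=
    fun s => ⟨Submodule.span F (Set.range s.1), by rw [finrank_span_eq_card s.2, Fintype.card_fin]⟩
  haveI : Fintype {W : Submodule F V // Module.finrank F W = m} := Fintype.ofFinite _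
  rw [← Nat.card_congr (Equiv.sigmaFiberEquiv Φ), Nat.card_sigma]
  rw [Finset.sum_congr rfl (g := fun _ => ∏ j : Fin m, (Fintype.card F ^ m - Fintype.card F ^ (j : ℕ))),
    Finset.sum_const, Finset.card_univ, Nat.card_eq_fintype_card, smul_eq_mul]
  intro W _
  have hfib : {s // Φ s = W} ≃ {s : Fin m → W.1 // LinearIndependent F s} :=
    { toFun := fun s => ⟨fun i => ⟨s.1.1 i, by
          have h := congrArg Subtype.val s.2
          rw [← h]; exact Submodule.subset_span ⟨i, rfl⟩⟩,
        LinearIndependent.of_comp W.1.subtype s.1.2⟩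
      invFun := fun s => ⟨⟨fun i => (s.1 i : V), s.2.map' W.1.subtype (Submodule.ker_subtype _)⟩, by
        apply Subtype.ext
        apply Submodule.eq_of_le_of_finrank_eq
        · exact Submodule.span_le.2 (by rintro _ ⟨i, rfl⟩; exact (s.1 i).2)
        · exact (Φ _).2.trans W.2.symm⟩
      left_inv := fun _ => rfl
      right_inv := fun _ => rfl }
  rw [Nat.card_congr hfib, card_linearIndependent (K := F) (V := W.1) W.2.ge, W.2]

end count

/-- The product `(q^n - 1) ⋯ (q^(n-k+1) - 1)`. -/
def fallProd (q n k : ℕ) : ℕ := ∏ j ∈ Finset.range k, (q ^ (n - j) - 1)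

theorem prod_sub_eq {q n k : ℕ} (hk : k ≤ n) :
    ∏ j ∈ Finset.range k, (q ^ n - q ^ j) = (∏ j ∈ Finset.range k, q ^ j) * fallProd q n k := by
  rw [fallProd, ← Finset.prod_mul_distrib]
  refine Finset.prod_congr rfl fun j hj => ?_
  rw [Nat.mul_sub, mul_one, ← pow_add, Nat.add_sub_cancel' (by rw [Finset.mem_range] at hj; omega)]

theorem fallProd_ne_zero {q : ℕ} (hq : 2 ≤ q) {n k : ℕ} (hk : k ≤ n) : fallProd q n k ≠ 0 :=
  Finset.prod_ne_zero_iff.2 fun j hj => by
    rw [Finset.mem_range] at hj
    have := Nat.one_lt_pow (by omega : n - j ≠ 0) (by omega : 1 < q)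
    omega

theorem fallProd_add (q : ℕ) {n a b : ℕ} :
    fallProd q n (a + b) = fallProd q n a * fallProd q (n - a) b := by
  rw [fallProd, fallProd, fallProd, Finset.prod_range_add]
  simp only [Nat.sub_sub]

variable {V : Type*} [AddCommGroup V] [Module F V] [Finite V] {q : ℕ}

theorem card_subspace_mul_fallProd (hq : Fintype.card F = q) {n m : ℕ}
    (hn : Module.finrank F V = n) (hm : m ≤ n) :
    Nat.card {W : Submodule F V // Module.finrank F W = m} * fallProd q m m = fallProd q n m := by
  subst hq hn
  have h := card_subspace_mul_prod (F := F) V hm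
  rw [prod_sub_eq le_rfl, prod_sub_eq hm, mul_left_comm] at h
  exact Nat.eq_of_mul_eq_mul_left (Finset.prod_pos fun j _ => pow_pos Fintype.card_pos j) h

theorem card_subspace_symm (hq : Fintype.card F = q) {n m : ℕ} (hn : Module.finrank F V = n)
    (hm : m ≤ n) :
    Nat.card {W : Submodule F V // Module.finrank F W = n - m} =
      Nat.card {W : Submodule F V // Module.finrank F W = m} := by
  have h1 := card_subspace_mul_fallProd (V := V) hq hn hm
  have h2 := card_subspace_mul_fallProd (V := V) hq hn (Nat.sub_le n m)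
  have hq2 : 2 ≤ q := hq ▸ Fintype.one_lt_card
  have e1 : fallProd q n n = fallProd q n m * fallProd q (n - m) (n - m) := by
    rw [← fallProd_add, Nat.add_sub_cancel' hm]
  have e2 : fallProd q n n = fallProd q n (n - m) * fallProd q m m := by
    conv_lhs => rw [← Nat.sub_add_cancel hm]; arg 3; skip
    rw [show fallProd q (n - m + m) (n - m + m) = fallProd q n (n - m + m) by rw [Nat.sub_add_cancel hm],
      fallProd_add, Nat.sub_sub_self hm]
  rw [← h1] at e1
  rw [← h2] at e2
  refine Nat.eq_of_mul_eq_mul_left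
    (Nat.mul_pos (Nat.pos_of_ne_zero (fallProd_ne_zero hq2 (le_refl (n - m))))
      (Nat.pos_of_ne_zero (fallProd_ne_zero hq2 (le_refl m)))) ?_
  linear_combination e1.symm.trans e2 |>.symm

/-- A prime dividing a falling product divides one of the factors. -/
theorem exists_dvd_of_dvd_fallProd {r n k : ℕ} (hr : r.Prime) (h : r ∣ fallProd q n k) :
    ∃ j < k, r ∣ q ^ (n - j) - 1 := by
  obtain ⟨j, hj, hd⟩ := hr.prime.exists_mem_finset_dvd h
  exact ⟨j, Finset.mem_range.1 hj, hd⟩

theorem exists_dvd_of_dvd_card_subspace (hq : Fintype.card F = q) {n m r : ℕ}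
    (hn : Module.finrank F V = n) (hm : m ≤ n) (hr : r.Prime)
    (h : r ∣ Nat.card {W : Submodule F V // Module.finrank F W = m}) :
    ∃ j < m, r ∣ q ^ (n - j) - 1 :=
  exists_dvd_of_dvd_fallProd hr ((h.mul_right _).trans (dvd_of_eq (card_subspace_mul_fallProd hq hn hm)))

theorem not_char_dvd_card_subspace (hq : Fintype.card F = q) {p : ℕ} [Fact p.Prime] [CharP F p]
    {n m : ℕ} (hn : Module.finrank F V = n) (hm : m ≤ n) :
    ¬ p ∣ Nat.card {W : Submodule F V // Module.finrank F W = m} := by
  intro h
  obtain ⟨j, hj, hd⟩ := exists_dvd_of_dvd_card_subspace hq hn hm Fact.out h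
  obtain ⟨k, hk, hkq⟩ := FiniteField.card F p
  rw [hq] at hkq
  have h1 : p ∣ q ^ (n - j) :=
    (hkq ▸ dvd_pow_self p k.ne_zero : p ∣ q).trans (dvd_pow_self q (by omega))
  have h2 : 1 ≤ q ^ (n - j) := Nat.one_le_pow _ _ (hq ▸ Fintype.card_pos)
  have h3 : p ∣ 1 := by
    have := Nat.dvd_sub h1 hd
    rwa [Nat.sub_sub_self h2] at this
  exact (Fact.out : p.Prime).not_dvd_one h3

/-- The number of pairs of nested subspaces. -/
theorem card_pairs {m k : ℕ} :
    Nat.card {P : Submodule F V × Submodule F V //
        P.1 ≤ P.2 ∧ Module.finrank F P.1 = m ∧ Module.finrank F P.2 = k} =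
      Nat.card {W : Submodule F V // Module.finrank F W = k} *
        Nat.card {U : Submodule F (Fin k → F) // Module.finrank F U = m} := by
  classical
  haveI : Finite (Submodule F V) := Finite.of_injective _ SetLike.coe_injective
  haveI : Module.Finite F V := Module.Finite.of_finite
  haveI : Fintype {W : Submodule F V // Module.finrank F W = k} := Fintype.ofFinite _
  let e : {P : Submodule F V × Submodule F V //
      P.1 ≤ P.2 ∧ Module.finrank F P.1 = m ∧ Module.finrank F P.2 = k} ≃
      Σ W : {W : Submodule F V // Module.finrank F W = k}, {U : Submodule F W.1 // Module.finrank F U = m} :=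
    { toFun := fun P => ⟨⟨P.1.2, P.2.2.2⟩, ⟨Submodule.comap P.1.2.subtype P.1.1, by
        rw [(Submodule.comapSubtypeEquivOfLe P.2.1).finrank_eq]; exact P.2.2.1⟩⟩
      invFun := fun x => ⟨(Submodule.map x.1.1.subtype x.2.1, x.1.1), Submodule.map_subtype_le _ _,
        by rw [Submodule.finrank_map_subtype_eq]; exact x.2.2, x.1.2⟩
      left_inv := fun P => by
        apply Subtype.ext
        apply Prod.ext
        · simp [Submodule.map_comap_subtype, inf_eq_right.2 P.2.1]
        · rfl
      right_inv := fun x => by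
        obtain ⟨⟨W, hW⟩, ⟨U, hU⟩⟩ := x
        refine Sigma.ext rfl (heq_of_eq (Subtype.ext ?_))
        exact Submodule.comap_map_eq_of_injective W.injective_subtype U }
  rw [Nat.card_congr e, Nat.card_sigma,
    Finset.sum_congr rfl (g := fun _ => Nat.card {U : Submodule F (Fin k → F) // Module.finrank F U = m}),
    Finset.sum_const, Finset.card_univ, smul_eq_mul, ← Nat.card_eq_fintype_card]
  intro W _
  haveI : Module.Finite F W.1 := inferInstance
  let ψ : W.1 ≃ₗ[F] (Fin k → F) := LinearEquiv.ofFinrankEq _ _ (by rw [W.2, Module.finrank_fin_fun])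
  exact Nat.card_congr ((Submodule.orderIsoMapComap ψ).toEquiv.subtypeEquiv fun U => by
    change _ ↔ Module.finrank F (U.map (ψ : W.1 →ₗ[F] Fin k → F)) = m
    rw [LinearEquiv.finrank_map_eq ψ])

/-- The number of complements of a subspace is a power of the characteristic. -/
theorem exists_card_compl {p : ℕ} [Fact p.Prime] [CharP F p] (U : Submodule F V) :
    ∃ a, Nat.card {W : Submodule F V // IsCompl U W} = p ^ a := by
  classical
  haveI : Module.Finite F V := Module.Finite.of_finite
  haveI : Finite (V →ₗ[F] U) := Finite.of_injective _ DFunLike.coe_injective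
  let K : Submodule F (V →ₗ[F] U) :=
    { carrier := {g | ∀ x : U, g x = 0}
      zero_mem' := fun _ => rfl
      add_mem' := fun {a b} ha hb x => by simp [ha x, hb x]
      smul_mem' := fun c a ha x => by simp [ha x] }
  obtain ⟨W₀, hW₀⟩ := Submodule.exists_isCompl U
  let f₀ : {f : V →ₗ[F] U // ∀ x : U, f x = x} := U.isComplEquivProj ⟨W₀, hW₀⟩
  let e : {f : V →ₗ[F] U // ∀ x : U, f x = x} ≃ K :=
    { toFun := fun f => ⟨f.1 - f₀.1, fun x => by simp [f.2 x, f₀.2 x]⟩
      invFun := fun g => ⟨g.1 + f₀.1, fun x => by simp [g.2 x, f₀.2 x]⟩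
      left_inv := fun f => Subtype.ext (sub_add_cancel _ _)
      right_inv := fun g => Subtype.ext (add_sub_cancel_right _ _) }
  obtain ⟨s, -, hs⟩ := FiniteField.card F p
  haveI : Fintype K := Fintype.ofFinite _
  refine ⟨s * Module.finrank F K, ?_⟩
  rw [Nat.card_congr (U.isComplEquivProj.trans e), Nat.card_eq_fintype_card,
    Module.card_eq_pow_finrank (K := F), hs, pow_mul]

/-- A prime other than the characteristic dividing the number of decompositions divides the number
of subspaces. -/
theorem dvd_card_subspace_of_dvd_card_compl_pairs {p : ℕ} [Fact p.Prime] [CharP F p] {r m : ℕ}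
    (hr : r.Prime) (hrp : r ≠ p) [Module.Finite F V]
    (h : r ∣ Nat.card {P : Submodule F V × Submodule F V // IsCompl P.1 P.2 ∧ Module.finrank F P.1 = m}) :
    r ∣ Nat.card {U : Submodule F V // Module.finrank F U = m} := by
  classical
  haveI : Finite (Submodule F V) := Finite.of_injective _ SetLike.coe_injective
  haveI : Fintype {U : Submodule F V // Module.finrank F U = m} := Fintype.ofFinite _
  let e : {P : Submodule F V × Submodule F V // IsCompl P.1 P.2 ∧ Module.finrank F P.1 = m} ≃
      Σ U : {U : Submodule F V // Module.finrank F U = m}, {W : Submodule F V // IsCompl U.1 W} :=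
    { toFun := fun P => ⟨⟨P.1.1, P.2.2⟩, ⟨P.1.2, P.2.1⟩⟩
      invFun := fun x => ⟨(x.1.1, x.2.1), x.2.2, x.1.2⟩
      left_inv := fun _ => rfl
      right_inv := fun _ => rfl }
  rcases isEmpty_or_nonempty {U : Submodule F V // Module.finrank F U = m} with hE | ⟨⟨U₀⟩⟩
  · rw [Nat.card_eq_zero.2 (Or.inl hE)]; exact dvd_zero r
  obtain ⟨a, ha⟩ := exists_card_compl (p := p) U₀.1
  -- all fibres have the same size
  have hfib : ∀ U : {U : Submodule F V // Module.finrank F U = m},
      Nat.card {W : Submodule F V // IsCompl U.1 W} = p ^ a := by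
    intro U
    rw [← ha]
    obtain ⟨W, hW⟩ := Submodule.exists_isCompl U.1
    obtain ⟨W', hW'⟩ := Submodule.exists_isCompl U₀.1
    have h1 := Submodule.finrank_add_eq_of_isCompl hW
    have h2 := Submodule.finrank_add_eq_of_isCompl hW'
    rw [U.2] at h1; rw [U₀.2] at h2
    let g : V ≃ₗ[F] V := (U.1.prodEquivOfIsCompl W hW).symm.trans
      (((LinearEquiv.ofFinrankEq U.1 U₀.1 (U.2.trans U₀.2.symm)).prodCongr
        (LinearEquiv.ofFinrankEq W W' (by omega))).trans (U₀.1.prodEquivOfIsCompl W' hW'))
    have hg : U.1.map (g : V →ₗ[F] V) = U₀.1 := by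
      refine Submodule.eq_of_le_of_finrank_eq ?_ (by rw [LinearEquiv.finrank_map_eq g, U.2, U₀.2])
      rintro _ ⟨u, hu, rfl⟩
      simp [g, Submodule.prodEquivOfIsCompl_symm_apply_left U.1 W hW ⟨u, hu⟩]
    refine Nat.card_congr ((Submodule.orderIsoMapComap g).toEquiv.subtypeEquiv fun W => ?_)
    rw [← hg]
    exact OrderIso.isCompl_iff (Submodule.orderIsoMapComap g)
  rw [Nat.card_congr e, Nat.card_sigma, Finset.sum_congr rfl (fun U _ => hfib U), Finset.sum_const,
    Finset.card_univ, smul_eq_mul, ← Nat.card_eq_fintype_card] at h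
  exact ((Nat.coprime_primes hr Fact.out).2 hrp).pow_right a |>.dvd_of_dvd_mul_right h

end CfsgLib.LinFix
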