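import Mathlib
import Cfsg.Agent.Lib.LinFix.Field

/-!
# Prime order elements of the projective special linear group and their invariant subspaces
-/

set_option autoImplicit false

namespace CfsgLib.LinFix

variable {F : Type*} [Field F] [Fintype F] {n r : ℕ} [hr : Fact r.Prime]

omit [Fintype F] hr in
theorem toLin'_pow' (M : Matrix (Fin n) (Fin n) F) (k : ℕ) :
    Matrix.toLin' (M ^ k) = Matrix.toLin' M ^ k :=
  map_pow (Matrix.toLinAlgEquiv' : Matrix (Fin n) (Fin n) F ≃ₐ[F] Module.End F (Fin n → F)) M k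

omit [Fintype F] hr in
theorem pow_eq_of_toLin' {x : Matrix.SpecialLinearGroup (Fin n) F} {c : F}
    (h : Matrix.toLin' (x : Matrix (Fin n) (Fin n) F) ^ r = c • 1) :
    ((x ^ r : Matrix.SpecialLinearGroup (Fin n) F) : Matrix (Fin n) (Fin n) F) = c • 1 := by
  apply Matrix.toLin'.injective
  rw [Matrix.SpecialLinearGroup.coe_pow, toLin'_pow', h, map_smul, Matrix.toLin'_one]
  rfl

omit [Fintype F] hr in
theorem toLin'_pow_eq {x : Matrix.SpecialLinearGroup (Fin n) F} {c : F}
    (h : ((x ^ r : Matrix.SpecialLinearGroup (Fin n) F) : Matrix (Fin n) (Fin n) F) = c • 1) :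
    Matrix.toLin' (x : Matrix (Fin n) (Fin n) F) ^ r = c • 1 := by
  rw [← toLin'_pow', ← Matrix.SpecialLinearGroup.coe_pow, h, map_smul, Matrix.toLin'_one]
  rfl

omit [Fintype F] hr in
/-- A map without invariant subspaces of some dimension below `n` is not scalar. -/
theorem not_scalar_of_no_invariant {x : Matrix.SpecialLinearGroup (Fin n) F} {m : ℕ} (hm : m ≤ n)
    (h : ∀ W : Submodule F (Fin n → F), Inv (Matrix.toLin' (x : Matrix (Fin n) (Fin n) F)) W →
      Module.finrank F W ≠ m) (c : F) : (x : Matrix (Fin n) (Fin n) F) ≠ c • 1 := by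
  intro hx
  obtain ⟨W, -, hW⟩ := exists_le_finrank (⊤ : Submodule F (Fin n → F)) (a := m)
    (by rwa [finrank_top, Module.finrank_fin_fun])
  refine h W (fun v hv => ?_) hW
  rw [hx, map_smul, Matrix.toLin'_one]
  exact W.smul_mem c hv

omit [Fintype F] in
/-- Normalising a map whose `r`-th power is the scalar `w ^ r`. -/
theorem exists_normalize {V : Type*} [AddCommGroup V] [Module F V] {T : Module.End F V} {c w : F}
    (hc : c ≠ 0) (hw : w ^ r = c) (hT : T ^ r = c • 1) :
    ∃ T' : Module.End F V, T' ^ r = 1 ∧ ∀ W : Submodule F V, Inv T' W ↔ Inv T W := by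
  have hw0 : w ≠ 0 := by rintro rfl; exact hc (by rw [← hw, zero_pow hr.out.ne_zero])
  refine ⟨w⁻¹ • T, ?_, fun W => inv_smul_iff (inv_ne_zero hw0)⟩
  rw [smul_pow, hT, smul_smul, inv_pow, hw, inv_mul_cancel₀ hc, one_smul]

omit [Fintype F] in
theorem scalar_ne_zero {x : Matrix.SpecialLinearGroup (Fin n) F} (hn : n ≠ 0) {c : F}
    (h : ((x ^ r : Matrix.SpecialLinearGroup (Fin n) F) : Matrix (Fin n) (Fin n) F) = c • 1) :
    c ≠ 0 := by
  rintro rfl
  have h1 := (x ^ r).2
  haveI : Nonempty (Fin n) := ⟨⟨0, Nat.pos_of_ne_zero hn⟩⟩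
  rw [h, zero_smul, Matrix.det_zero] at h1
  exact zero_ne_one h1

/-- When `r` divides `q - 1` and no scalar without `r`-th root occurs in determinant one, every
element is, up to a scalar, diagonalisable. -/
theorem root_of_criterion {q : ℕ} (hq : Fintype.card F = q) (hq1 : r ∣ q - 1) (hn : n ≠ 0)
    (hcrit : padicValNat r n ≤ padicValNat r (q - 1) ∧ (r = 2 → Even n → q % 4 = 1))
    {x : Matrix.SpecialLinearGroup (Fin n) F} {c : F}
    (hx : ((x ^ r : Matrix.SpecialLinearGroup (Fin n) F) : Matrix (Fin n) (Fin n) F) = c • 1) :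
    ∃ w : F, w ^ r = c := by
  by_contra hc
  push Not at hc
  rw [Matrix.SpecialLinearGroup.coe_pow] at hx
  obtain ⟨hdvd, hdet⟩ := det_of_pow_eq_nonpower hc hx
  exact (exists_nonpower_iff hq hq1 hn hdvd).1 ⟨c, hc, hdet.symm.trans x.2⟩ hcrit

/-- Existence of an element without eigenvalue when the criterion fails. -/
theorem exists_nonpower_element {q : ℕ} (hq : Fintype.card F = q) (hq1 : r ∣ q - 1) (hn : n ≠ 0)
    (hrF : (r : F) ≠ 0)
    (hcrit : ¬ (padicValNat r n ≤ padicValNat r (q - 1) ∧ (r = 2 → Even n → q % 4 = 1))) :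
    r ∣ n ∧ ∃ (x : Matrix.SpecialLinearGroup (Fin n) F) (c : F),
      ((x ^ r : Matrix.SpecialLinearGroup (Fin n) F) : Matrix (Fin n) (Fin n) F) = c • 1 ∧
      Homog (Matrix.toLin' (x : Matrix (Fin n) (Fin n) F)) ⊥ r := by
  have hdvd : r ∣ n := by
    by_contra h
    apply hcrit
    rw [padicValNat.eq_zero_of_not_dvd h]
    exact ⟨Nat.zero_le _, fun h2 he => absurd (h2 ▸ he.two_dvd) h⟩
  obtain ⟨c, hc, hdet⟩ := (exists_nonpower_iff hq hq1 hn hdvd).2 hcrit
  obtain ⟨x, hx⟩ := exists_sl_nonpower hc hdvd hdet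
  exact ⟨hdvd, x, c, pow_eq_of_toLin' hx, homog_nonpower hrF hc hx⟩

theorem Homog.dim_multiple {V : Type*} [AddCommGroup V] [Module F V] [FiniteDimensional F V]
    {T : Module.End F V} {d : ℕ} (h : Homog T ⊥ d) {W : Submodule F V} (hW : Inv T W) :
    d ∣ Module.finrank F W := by
  obtain ⟨j, hj⟩ := h.finrank_eq hW
  rw [inf_bot_eq, finrank_bot, zero_add] at hj
  exact ⟨j, by rw [hj, mul_comm]⟩

theorem Homog.exists_dim_multiple {V : Type*} [AddCommGroup V] [Module F V] [FiniteDimensional F V]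
    {T : Module.End F V} {d k : ℕ} (h : Homog T ⊥ d) {W : Submodule F V} (hW : Inv T W)
    (hdk : d ∣ k) (hk : k ≤ Module.finrank F W) :
    ∃ U ≤ W, Inv T U ∧ Module.finrank F U = k := by
  obtain ⟨j, rfl⟩ := hdk
  obtain ⟨U, hU, hU', hUr⟩ := h.exists_sub hW (a := 0) (j := j) (Nat.zero_le _)
    (by rw [inf_bot_eq, finrank_bot, zero_add, mul_comm]; exact hk)
  exact ⟨U, hU, hU', by rw [hUr, zero_add, mul_comm]⟩

end CfsgLib.LinFix
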