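import Mathlib
import Cfsg.Prelude.Def_GeometricClasses
import Cfsg.Agent.Lib.LinFix.Elements
import Cfsg.Agent.Lib.LinFix.Count

/-!
# Decompositions into subspaces of equal dimension permuted by a linear map
-/

set_option autoImplicit false

namespace CfsgLib.LinFix

open Cfsg.Geo

variable {F V : Type*} [Field F] [AddCommGroup V] [Module F V]

theorem finrank_finset_sup_le {ι : Type*} [FiniteDimensional F V] (D : ι → Submodule F V)
    (s : Finset ι) : Module.finrank F ↥(s.sup D) ≤ ∑ i ∈ s, Module.finrank F (D i) := by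
  classical
  induction s using Finset.induction with
  | empty => simp
  | insert i s hi ih =>
    rw [Finset.sup_insert, Finset.sum_insert hi]
    have := Submodule.finrank_sup_add_finrank_inf_eq (D i) (s.sup D)
    omega

/-- A spanning family of at most `a`-dimensional subspaces of the right size is a decomposition. -/
theorem indep_of_span {ι : Type*} [Fintype ι] [FiniteDimensional F V] {a : ℕ}
    {D : ι → Submodule F V} (hle : ∀ i, Module.finrank F (D i) ≤ a) (htop : iSup D = ⊤)
    (hdim : Fintype.card ι * a ≤ Module.finrank F V) :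
    iSupIndep D ∧ ∀ i, Module.finrank F (D i) = a := by
  classical
  have key : ∀ i, Module.finrank F (D i) = a ∧ Disjoint (D i) (⨆ (j) (_ : j ≠ i), D j) := by
    intro i
    have hS : (⨆ (j) (_ : j ≠ i), D j) = (Finset.univ.erase i).sup D := by
      rw [Finset.sup_eq_iSup]
      simp
    have hsup : D i ⊔ (⨆ (j) (_ : j ≠ i), D j) = ⊤ := by
      refine le_antisymm le_top (htop.symm.le.trans (iSup_le fun j => ?_))
      by_cases h : j = i
      · exact h ▸ le_sup_left
      · exact le_sup_of_le_right (le_iSup_of_le j (le_iSup_of_le h le_rfl))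
    have h1 := Submodule.finrank_sup_add_finrank_inf_eq (D i) (⨆ (j) (_ : j ≠ i), D j)
    rw [hsup, finrank_top] at h1
    have h2 : Module.finrank F ↥(⨆ (j) (_ : j ≠ i), D j) ≤ (Fintype.card ι - 1) * a := by
      rw [hS]
      refine (finrank_finset_sup_le D _).trans ((Finset.sum_le_card_nsmul _ _ a fun j _ => hle j).trans ?_)
      rw [Finset.card_erase_of_mem (Finset.mem_univ i), Finset.card_univ, smul_eq_mul]
    have h3 : Fintype.card ι * a = a + (Fintype.card ι - 1) * a := by
      obtain ⟨k, hk⟩ : ∃ k, Fintype.card ι = k + 1 :=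
        ⟨_, (Nat.succ_pred_eq_of_pos (Fintype.card_pos_iff.2 ⟨i⟩)).symm⟩
      rw [hk, Nat.add_sub_cancel]
      ring
    have hi := hle i
    refine ⟨by omega, ?_⟩
    rw [disjoint_iff, ← Submodule.finrank_eq_zero]
    omega
  exact ⟨fun i => (key i).2, fun i => (key i).1⟩

variable {n : ℕ}

/-- Packaging a permuted family as a decomposition of `F^n`. -/
theorem exists_decomp_of_family {a t : ℕ} {ι : Type*} [Fintype ι] (hι : Fintype.card ι = t)
    (ht : 2 ≤ t) (ha : 1 ≤ a) (hn : n = a * t) {T : Module.End F (Fin n → F)}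
    (hT : Function.Injective T) (D : ι → Submodule F (Fin n → F))
    (hle : ∀ i, Module.finrank F (D i) ≤ a) (htop : iSup D = ⊤) (π : Equiv.Perm ι)
    (hπ : ∀ i, (D i).map T ≤ D (π i)) :
    ∃ E : Fin t → Submodule F (Fin n → F), IsMDecomposition a E ∧
      ∃ σ : Equiv.Perm (Fin t), ∀ j, (E j).map T = E (σ j) := by
  obtain ⟨hind, hdim⟩ := indep_of_span hle htop (by rw [hι, Module.finrank_fin_fun, hn, mul_comm])
  let e : Fin t ≃ ι := (Fintype.equivFinOfCardEq hι).symm
  refine ⟨D ∘ e, ⟨ht, ha, fun i => hdim _, hind.comp e.injective, ?_⟩,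
    (e.trans π).trans e.symm, fun j => ?_⟩
  · rw [← htop]; exact e.surjective.iSup_comp D
  · refine Submodule.eq_of_le_of_finrank_eq ((hπ (e j)).trans (by simp)) ?_
    simp only [Function.comp_apply]
    rw [hdim, ← (Submodule.equivMapOfInjective T hT (D (e j))).finrank_eq, hdim]

variable [FiniteDimensional F V]

/-- Splitting a subspace into invariant parts of equal dimension. -/
theorem exists_parts {T : Module.End F V} {C : Submodule F V} {d : ℕ} (h : Homog T C d)
    (hsplit : ∀ A B : Submodule F V, Inv T A → Inv T B → Disjoint A B →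
      (A ⊔ B) ⊓ C ≤ (A ⊓ C) ⊔ (B ⊓ C)) (a : ℕ) :
    ∀ (u : ℕ) (W : Submodule F V), Inv T W → Module.finrank F W = u * a →
      u * (a % d) ≤ Module.finrank F ↥(W ⊓ C) →
      ∃ D : Fin u → Submodule F V, (∀ i, Inv T (D i) ∧ Module.finrank F (D i) = a) ∧ iSup D = W := by
  intro u
  induction u with
  | zero =>
    intro W _ hW _
    rw [zero_mul, Submodule.finrank_eq_zero] at hW
    exact ⟨Fin.elim0, fun i => i.elim0, by rw [hW]; exact iSup_of_empty _⟩
  | succ u ih =>
    intro W hW hWa hle
    set l := a % d with hl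
    set M := a / d with hM
    have haM : a = l + M * d := by rw [mul_comm]; exact (Nat.mod_add_div a d).symm
    obtain ⟨j, hj⟩ := h.finrank_eq hW
    set e := Module.finrank F ↥(W ⊓ C) with he
    rw [hWa] at hj
    have hexp : (u + 1) * a = (u + 1) * l + (u + 1) * M * d := by rw [haM]; ring
    have hjle : j ≤ (u + 1) * M := by
      refine Nat.le_of_mul_le_mul_right ?_ h.pos
      omega
    set K := (u + 1) * M - j with hK
    have hKd : K * d + j * d = (u + 1) * M * d := by rw [← Nat.add_mul, Nat.sub_add_cancel hjle]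
    set m := min M K with hm
    have hu : (u + 1) * M = u * M + M := by ring
    have hul : (u + 1) * l = u * l + l := by ring
    have hmd : m * d + (M - m) * d = M * d := by rw [← Nat.add_mul, Nat.add_sub_cancel' (min_le_left _ _)]
    have hmK : m * d ≤ K * d := Nat.mul_le_mul_right d (min_le_right _ _)
    have hMj : (M - m) * d ≤ j * d := Nat.mul_le_mul_right d (by omega)
    obtain ⟨U, hUW, hU, hUa, hUC⟩ := h.exists_sub_inf hW (a := l + m * d) (j := M - m)
      (by omega) (by omega)
    obtain ⟨W', hW'le, hW', hdis, hsup⟩ := exists_inv_compl h.semisimple hU hW hUW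
    have hsum := finrank_sup_of_disjoint hdis
    rw [hsup, hWa, hUa] at hsum
    have hW'a : Module.finrank F W' = u * a := by
      have : (u + 1) * a = u * a + a := by ring
      omega
    have hC : e ≤ Module.finrank F ↥(U ⊓ C) + Module.finrank F ↥(W' ⊓ C) := by
      have h1 := Submodule.finrank_mono (hsplit U W' hU hW' hdis)
      rw [hsup] at h1
      exact h1.trans (Submodule.finrank_add_le_finrank_add_finrank _ _)
    obtain ⟨D, hD, hDsup⟩ := ih W' hW' hW'a (by omega)
    refine ⟨Fin.cons U D, fun i => ?_, ?_⟩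
    · refine Fin.cases ⟨hU, ?_⟩ (fun i => ?_) i
      · rw [Fin.cons_zero, hUa]; omega
      · rw [Fin.cons_succ]; exact hD i
    · rw [← hsup, ← hDsup]
      refine le_antisymm (iSup_le fun i => ?_) (sup_le ?_ (iSup_le fun i => ?_))
      · refine Fin.cases ?_ (fun i => ?_) i
        · rw [Fin.cons_zero]; exact le_sup_left
        · rw [Fin.cons_succ]; exact le_sup_of_le_right (le_iSup D i)
      · exact le_iSup_of_le 0 (by rw [Fin.cons_zero])
      · exact le_iSup_of_le i.succ (by rw [Fin.cons_succ])

omit [FiniteDimensional F V] in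
theorem split_ker_sub_one (T : Module.End F V) {A B : Submodule F V} (hA : Inv T A) (hB : Inv T B)
    (hd : Disjoint A B) :
    (A ⊔ B) ⊓ LinearMap.ker (T - 1) ≤ (A ⊓ LinearMap.ker (T - 1)) ⊔ (B ⊓ LinearMap.ker (T - 1)) := by
  rintro v ⟨hv, hk⟩
  obtain ⟨x, hx, y, hy, rfl⟩ := Submodule.mem_sup.1 hv
  rw [SetLike.mem_coe, LinearMap.mem_ker, map_add, LinearMap.sub_apply, LinearMap.sub_apply,
    Module.End.one_apply, Module.End.one_apply] at hk
  have hx0 : T x - x = 0 := Submodule.disjoint_def.1 hd _ (A.sub_mem (hA x hx) hx)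
    (by rw [eq_neg_of_add_eq_zero_left hk]; exact B.neg_mem (B.sub_mem (hB y hy) hy))
  rw [hx0, zero_add] at hk
  exact Submodule.add_mem_sup ⟨hx, by simpa using hx0⟩ ⟨hy, by simpa using hk⟩

/-- The number of ordered decompositions times the orders of the small general linear groups. -/
theorem card_decomp_mul [Fintype F] {a t : ℕ} (ht : 2 ≤ t) (ha : 1 ≤ a) (hn : n = a * t) :
    Nat.card {D : Fin t → Submodule F (Fin n → F) // IsMDecomposition a D} *
        (∏ j : Fin a, (Fintype.card F ^ a - Fintype.card F ^ (j : ℕ))) ^ t =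
      ∏ j : Fin n, (Fintype.card F ^ n - Fintype.card F ^ (j : ℕ)) := by
  classical
  haveI : Finite (Submodule F (Fin n → F)) := Finite.of_injective _ SetLike.coe_injective
  haveI : Fintype {D : Fin t → Submodule F (Fin n → F) // IsMDecomposition a D} := Fintype.ofFinite _
  set G := ∏ j : Fin a, (Fintype.card F ^ a - Fintype.card F ^ (j : ℕ)) with hG
  have hlen : Module.finrank F (Fin n → F) = n := Module.finrank_fin_fun F
  let eI : Fin t × Fin a ≃ Fin n := Fintype.equivFinOfCardEq (by simp [hn, mul_comm])
  let T := {s : Fin t × Fin a → (Fin n → F) // LinearIndependent F s}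
  have hT : Nat.card T = ∏ j : Fin n, (Fintype.card F ^ n - Fintype.card F ^ (j : ℕ)) := by
    have e : T ≃ {s : Fin n → (Fin n → F) // LinearIndependent F s} :=
      (Equiv.arrowCongr eI (Equiv.refl _)).subtypeEquiv fun s => (linearIndependent_equiv eI.symm).symm
    rw [Nat.card_congr e, card_linearIndependent (K := F) (V := Fin n → F) hlen.ge, hlen]
  rw [← hT]
  let S := Σ D : {D : Fin t → Submodule F (Fin n → F) // IsMDecomposition a D},
    ∀ j, {s : Fin a → D.1 j // LinearIndependent F s}
  have hS : Nat.card S = Nat.card {D : Fin t → Submodule F (Fin n → F) // IsMDecomposition a D} * G ^ t := by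
    rw [Nat.card_sigma, Finset.sum_congr rfl (g := fun _ => G ^ t),
      Finset.sum_const, Finset.card_univ, smul_eq_mul, Nat.card_eq_fintype_card]
    intro D _
    rw [Nat.card_pi, Finset.prod_congr rfl (g := fun _ => G), Finset.prod_const, Finset.card_univ,
      Fintype.card_fin]
    intro j _
    rw [card_linearIndependent (K := F) (V := D.1 j) (D.2.finrank_eq j).ge, D.2.finrank_eq]
  rw [← hS]
  have hspanD : ∀ (D : {D : Fin t → Submodule F (Fin n → F) // IsMDecomposition a D})
      (s : ∀ j, {s : Fin a → D.1 j // LinearIndependent F s}) (j : Fin t),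
      Submodule.span F (Set.range fun k => ((s j).1 k : Fin n → F)) = D.1 j := fun D s j =>
    Submodule.eq_of_le_of_finrank_eq (Submodule.span_le.2 (by rintro _ ⟨k, rfl⟩; exact ((s j).1 k).2))
      (by rw [finrank_span_eq_card (b := fun k => ((s j).1 k : Fin n → F))
        ((s j).2.map' _ (Submodule.ker_subtype _)), Fintype.card_fin, D.2.finrank_eq j])
  let Φ : S → T := fun x => ⟨fun i => ((x.2 i.1).1 i.2 : Fin n → F), by
    refine linearIndependent_of_top_le_span_of_card_eq_finrank ?_ (by simp [hn, mul_comm])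
    refine x.1.2.iSup_eq_top.symm.le.trans (iSup_le fun j => ?_)
    rw [← hspanD x.1 x.2 j]
    exact Submodule.span_mono (by rintro _ ⟨k, rfl⟩; exact ⟨(j, k), rfl⟩)⟩
  refine Nat.card_congr (Equiv.ofBijective Φ ⟨fun x y hxy => ?_, fun s => ?_⟩)
  · obtain ⟨D, u⟩ := x
    obtain ⟨E, v⟩ := y
    have hc : ∀ j k, ((u j).1 k : Fin n → F) = ((v j).1 k : Fin n → F) := fun j k =>
      congrFun (congrArg Subtype.val hxy) (j, k)
    have hDE : D = E := Subtype.ext (funext fun j => by
      rw [← hspanD D u j, ← hspanD E v j]; simp [hc])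
    subst hDE
    exact congrArg (Sigma.mk D) (funext fun j => Subtype.ext (funext fun k => Subtype.ext (hc j k)))
  · let D : Fin t → Submodule F (Fin n → F) := fun j => Submodule.span F (Set.range fun k => s.1 (j, k))
    have hle : ∀ j, Module.finrank F (D j) ≤ a := fun j =>
      (finrank_range_le_card _).trans_eq (Fintype.card_fin a)
    have htop : iSup D = ⊤ := by
      rw [eq_top_iff, ← s.2.span_eq_top_of_card_eq_finrank' (by simp [hn, mul_comm]), Submodule.span_le]
      rintro _ ⟨⟨j, k⟩, rfl⟩
      exact Submodule.mem_iSup_of_mem j (Submodule.subset_span ⟨k, rfl⟩)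
    obtain ⟨hind, hdim⟩ := indep_of_span hle htop (by rw [Fintype.card_fin, hlen, hn, mul_comm])
    refine ⟨⟨⟨D, ⟨ht, ha, hdim, hind, htop⟩⟩, fun j => ⟨fun k => ⟨s.1 (j, k), Submodule.subset_span ⟨k, rfl⟩⟩,
      LinearIndependent.of_comp (D j).subtype
        (s.2.comp (fun k => (j, k)) fun k k' h => congrArg Prod.snd h)⟩⟩, rfl⟩

/-- The order of `q` modulo a prime dividing the number of decompositions is at most `n`. -/
theorem exists_le_of_dvd_card_decomp [Fintype F] {p : ℕ} [Fact p.Prime] [CharP F p] {q : ℕ}
    (hq : Fintype.card F = q) {a t : ℕ} (ht : 2 ≤ t) (ha : 1 ≤ a) (hn : n = a * t) {r : ℕ}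
    [Fact r.Prime] (hrp : r ≠ p)
    (h : r ∣ Nat.card {D : Fin t → Submodule F (Fin n → F) // IsMDecomposition a D} / t.factorial) :
    orderOf (q : ZMod r) ≤ n := by
  subst hq
  set N := Nat.card {D : Fin t → Submodule F (Fin n → F) // IsMDecomposition a D} with hN
  have hN' : r ∣ t.factorial * (N / t.factorial) := h.mul_left _
  have hr := (Fact.out : r.Prime)
  -- `N` is a multiple of `t!`, up to primes at most `t`
  by_cases hrt : r ≤ t
  · have h1 : orderOf (Fintype.card F : ZMod r) ≤ r - 1 := by
      refine Nat.le_of_dvd (by have := hr.two_le; omega) ?_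
      rw [orderOf_dvd_iff_pow_eq_one]
      refine ZMod.pow_card_sub_one_eq_one fun h0 => ?_
      rw [CharP.cast_eq_zero_iff (ZMod r) r] at h0
      obtain ⟨k, -, hk⟩ := FiniteField.card F p
      rw [hk] at h0
      exact hrp ((Nat.prime_dvd_prime_iff_eq hr Fact.out).1 (hr.dvd_of_dvd_pow h0))
    have : t ≤ a * t := Nat.le_mul_of_pos_left t ha
    omega
  · obtain ⟨f, hf⟩ : r ∣ N := by
      by_contra hnd
      have hdvd : N / t.factorial * t.factorial + N % t.factorial = N := Nat.div_add_mod' _ _
      have hperm : t.factorial ∣ N := by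
        haveI : Finite (Submodule F (Fin n → F)) := Finite.of_injective _ SetLike.coe_injective
        let X := {D : Fin t → Submodule F (Fin n → F) // IsMDecomposition a D}
        letI : MulAction (Equiv.Perm (Fin t)) X :=
          { smul := fun σ D => ⟨D.1 ∘ σ.symm, ⟨D.2.two_le, D.2.pos, fun i => D.2.finrank_eq _,
              D.2.indep.comp σ.symm.injective, by
                rw [← D.2.iSup_eq_top]; exact σ.symm.surjective.iSup_comp D.1⟩⟩
            one_smul := fun D => Subtype.ext rfl
            mul_smul := fun σ τ D => Subtype.ext (funext fun i => rfl) }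
        have hfree : ∀ D : X, MulAction.stabilizer (Equiv.Perm (Fin t)) D = ⊥ := fun D => by
          rw [eq_bot_iff]
          intro σ hσ
          rw [MulAction.mem_stabilizer_iff] at hσ
          have hinj : Function.Injective D.1 := D.2.indep.injective fun i h0 => by
            have := D.2.finrank_eq i
            rw [h0, finrank_bot] at this
            exact absurd this.symm (Nat.one_le_iff_ne_zero.1 D.2.pos)
          rw [Subgroup.mem_bot]
          refine Equiv.ext fun i => hinj ?_
          have := congrFun (congrArg Subtype.val hσ) (σ i)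
          change D.1 (σ.symm (σ i)) = D.1 (σ i) at this
          rw [Equiv.symm_apply_apply] at this
          exact this.symm
        have hcard : ∀ D : X,
            Nat.card (MulAction.orbit (Equiv.Perm (Fin t)) D) = t.factorial := fun D => by
          rw [Nat.card_coe_set_eq,
            ← MulAction.index_stabilizer, hfree, Subgroup.index_bot, Nat.card_perm, Nat.card_fin]
        haveI : Finite (MulAction.orbitRel.Quotient (Equiv.Perm (Fin t)) X) := Quotient.finite _
        haveI := Fintype.ofFinite (MulAction.orbitRel.Quotient (Equiv.Perm (Fin t)) X)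
        rw [hN, Nat.card_congr (MulAction.selfEquivSigmaOrbits (Equiv.Perm (Fin t)) X), Nat.card_sigma]
        exact Finset.dvd_sum fun ω _ => (hcard _).symm.dvd
      exact hnd (h.trans (Nat.div_dvd_of_dvd hperm))
    have hmul := card_decomp_mul (F := F) ht ha hn
    rw [← hN, hf, mul_assoc] at hmul
    have hdvd : r ∣ ∏ j : Fin n, (Fintype.card F ^ n - Fintype.card F ^ (j : ℕ)) := Dvd.intro _ hmul
    rw [Fin.prod_univ_eq_prod_range (fun j => Fintype.card F ^ n - Fintype.card F ^ j),
      prod_sub_eq le_rfl] at hdvd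
    rcases hr.dvd_mul.1 hdvd with h' | h'
    · obtain ⟨j, -, hj⟩ := hr.prime.exists_mem_finset_dvd h'
      obtain ⟨k, -, hk⟩ := FiniteField.card F p
      rw [hk] at hj
      exact absurd ((Nat.prime_dvd_prime_iff_eq hr Fact.out).1 (hr.dvd_of_dvd_pow (hr.dvd_of_dvd_pow hj))) hrp
    · obtain ⟨j, hj, hj'⟩ := exists_dvd_of_dvd_fallProd hr h'
      exact (Nat.le_of_dvd (by omega) ((dvd_pow_sub_one_iff Fintype.card_pos _).1 hj')).trans (Nat.sub_le _ _)

end CfsgLib.LinFix
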