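import Mathlib
import Cfsg.Agent.Lib.LinFix.Field

/-!
# Ranks of Kronecker products minus scalars
-/

set_option autoImplicit false

namespace CfsgLib.LinFix

open Matrix
open scoped Kronecker

section rank

variable {F : Type*} [Field F] {ι κ : Type*} [Fintype ι] [Fintype κ] [DecidableEq ι] [DecidableEq κ]

theorem kronecker_mulVec_apply (A : Matrix ι ι F) (B : Matrix κ κ F) (w : ι → F) (v : κ → F)
    (i : ι) (k : κ) :
    ((A ⊗ₖ B) *ᵥ fun p : ι × κ => w p.1 * v p.2) (i, k) = (A *ᵥ w) i * (B *ᵥ v) k := by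
  simp only [Matrix.mulVec, dotProduct, Fintype.sum_prod_type, Finset.sum_mul_sum,
    kroneckerMap_apply]
  refine Finset.sum_congr rfl fun j _ => Finset.sum_congr rfl fun l _ => ?_
  ring

/-- A Kronecker product minus a scalar has rank at least the size of the second factor, unless
the first factor is scalar. -/
theorem card_le_rank_kronecker_sub {A : Matrix ι ι F} {B : Matrix κ κ F} (hB : IsUnit B.det)
    {u w : ι → F} (huw : u ⬝ᵥ w = 0) (hA : u ⬝ᵥ (A *ᵥ w) ≠ 0) (μ : F) :
    Fintype.card κ ≤ (A ⊗ₖ B - μ • 1).rank := by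
  set M := A ⊗ₖ B - μ • (1 : Matrix (ι × κ) (ι × κ) F)
  let ext' : (κ → F) →ₗ[F] (ι × κ → F) :=
    { toFun := fun v p => w p.1 * v p.2
      map_add' := fun v v' => funext fun p => by simp [mul_add]
      map_smul' := fun c v => funext fun p => by simp [mul_left_comm] }
  let out : (ι × κ → F) →ₗ[F] (κ → F) :=
    { toFun := fun y k => ∑ i, u i * y (i, k)
      map_add' := fun y y' => funext fun k => by simp [mul_add, Finset.sum_add_distrib]
      map_smul' := fun c y => funext fun k => by simp [Finset.mul_sum, mul_left_comm] }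
  have key : ∀ v, out (M *ᵥ ext' v) = (u ⬝ᵥ (A *ᵥ w)) • (B *ᵥ v) := by
    intro v
    funext k
    simp only [out, LinearMap.coe_mk, AddHom.coe_mk, ext', M, Matrix.sub_mulVec, Pi.sub_apply,
      Matrix.smul_mulVec, Matrix.one_mulVec, Pi.smul_apply, smul_eq_mul, mul_sub,
      Finset.sum_sub_distrib, kronecker_mulVec_apply]
    have h2 : ∑ i, u i * (μ * (w i * v k)) = (u ⬝ᵥ w) * (μ * v k) := by
      simp only [dotProduct, Finset.sum_mul]
      exact Finset.sum_congr rfl fun i _ => by ring
    have h1 : ∑ i, u i * ((A *ᵥ w) i * (B *ᵥ v) k) = (u ⬝ᵥ (A *ᵥ w)) * (B *ᵥ v) k := by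
      simp only [dotProduct, Finset.sum_mul]
      exact Finset.sum_congr rfl fun i _ => by ring
    rw [h1, h2, huw, zero_mul, sub_zero]
  have hinj : Function.Injective ((out.comp M.mulVecLin).comp ext') := by
    intro v v' h
    simp only [LinearMap.comp_apply, Matrix.mulVecLin_apply, key] at h
    exact Matrix.mulVec_injective_iff_isUnit.2 ((Matrix.isUnit_iff_isUnit_det B).2 hB)
      (smul_right_injective _ hA h)
  calc Fintype.card κ = Module.finrank F (LinearMap.range ((out.comp M.mulVecLin).comp ext')) := by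
        rw [LinearMap.finrank_range_of_inj hinj, Module.finrank_fintype_fun_eq_card]
    _ ≤ Module.finrank F (LinearMap.range (out.comp M.mulVecLin)) :=
        Submodule.finrank_mono (LinearMap.range_comp_le_range _ _)
    _ ≤ M.rank := by
        rw [LinearMap.range_comp, Matrix.rank]
        exact Submodule.finrank_map_le _ _

/-- A matrix with `u ⬝ A w = 0` for all orthogonal `u, w` is scalar. -/
theorem exists_eq_smul_one [Nonempty ι] {A : Matrix ι ι F}
    (h : ∀ u w : ι → F, u ⬝ᵥ w = 0 → u ⬝ᵥ (A *ᵥ w) = 0) : ∃ s : F, A = s • 1 := by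
  obtain ⟨i₀⟩ := ‹Nonempty ι›
  have hoff : ∀ i j, i ≠ j → A i j = 0 := fun i j hij => by
    have := h (Pi.single i 1) (Pi.single j 1) (by simp [Ne.symm hij])
    simpa using this
  refine ⟨A i₀ i₀, ?_⟩
  ext i j
  rcases eq_or_ne i j with rfl | hij
  · rcases eq_or_ne i i₀ with rfl | hi
    · simp
    · have := h (Pi.single i 1 - Pi.single i₀ 1) (Pi.single i 1 + Pi.single i₀ 1)
        (by simp [sub_dotProduct, dotProduct_add, hi, Ne.symm hi])
      simp [sub_dotProduct, Matrix.mulVec_add, dotProduct_add, hoff _ _ hi, hoff _ _ (Ne.symm hi),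
        sub_eq_zero] at this
      simp; linear_combination this
  · simp [hij, hoff i j hij]

/-- If a Kronecker product minus a scalar has small rank then the first factor is scalar. -/
theorem exists_left_scalar [Nonempty ι] {A : Matrix ι ι F} {B : Matrix κ κ F} (hB : IsUnit B.det)
    {μ : F} (h : (A ⊗ₖ B - μ • 1).rank < Fintype.card κ) : ∃ s : F, A = s • 1 := by
  refine exists_eq_smul_one fun u w huw => ?_
  by_contra hA
  exact absurd (card_le_rank_kronecker_sub hB huw hA μ) (by omega)

omit [DecidableEq κ] in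
/-- The rank of a block diagonal matrix with constant blocks. -/
theorem rank_one_kronecker (C : Matrix κ κ F) :
    ((1 : Matrix ι ι F) ⊗ₖ C).rank = Fintype.card ι * C.rank := by
  have happ : ∀ (y : ι × κ → F) i k,
      (((1 : Matrix ι ι F) ⊗ₖ C) *ᵥ y) (i, k) = (C *ᵥ fun l => y (i, l)) k := by
    intro y i k
    simp [Matrix.mulVec, dotProduct, Fintype.sum_prod_type, Matrix.one_apply, ite_mul]
  let e : LinearMap.ker ((1 : Matrix ι ι F) ⊗ₖ C).mulVecLin ≃ₗ[F]
      (ι → LinearMap.ker C.mulVecLin) :=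
    { toFun := fun y i => ⟨fun l => y.1 (i, l), by
        rw [LinearMap.mem_ker, Matrix.mulVecLin_apply]
        funext k
        rw [← happ, ← Matrix.mulVecLin_apply, LinearMap.mem_ker.1 y.2]
        rfl⟩
      invFun := fun z => ⟨fun p => (z p.1).1 p.2, by
        rw [LinearMap.mem_ker, Matrix.mulVecLin_apply]
        funext ⟨i, k⟩
        rw [happ]
        exact congrFun (LinearMap.mem_ker.1 (z i).2) k⟩
      map_add' := fun _ _ => rfl
      map_smul' := fun _ _ => rfl
      left_inv := fun _ => rfl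
      right_inv := fun _ => rfl }
  have h1 := LinearMap.finrank_range_add_finrank_ker ((1 : Matrix ι ι F) ⊗ₖ C).mulVecLin
  have h2 := LinearMap.finrank_range_add_finrank_ker C.mulVecLin
  rw [Module.finrank_fintype_fun_eq_card] at h2
  rw [e.finrank_eq, Module.finrank_pi_fintype, Finset.sum_const, Finset.card_univ, smul_eq_mul,
    Module.finrank_fintype_fun_eq_card, Fintype.card_prod, ← h2, mul_add] at h1
  unfold Matrix.rank
  omega

theorem kronecker_pow (A : Matrix ι ι F) (B : Matrix κ κ F) (k : ℕ) :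
    (A ⊗ₖ B) ^ k = (A ^ k) ⊗ₖ (B ^ k) := by
  induction k with
  | zero => simp
  | succ k ih => rw [pow_succ, pow_succ, pow_succ, ih, Matrix.mul_kronecker_mul]

theorem eq_one_of_one_kronecker [Nonempty ι] {C : Matrix κ κ F}
    (h : (1 : Matrix ι ι F) ⊗ₖ C = 1) : C = 1 := by
  obtain ⟨i⟩ := ‹Nonempty ι›
  ext k l
  have := congrFun (congrFun h (i, k)) (i, l)
  simpa [Matrix.one_apply] using this

theorem smul_one_kronecker (s : F) (B : Matrix κ κ F) :
    (s • (1 : Matrix ι ι F)) ⊗ₖ B = (1 : Matrix ι ι F) ⊗ₖ (s • B) := by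
  rw [Matrix.smul_kronecker, Matrix.kronecker_smul]

theorem one_kronecker_sub_smul (C : Matrix κ κ F) (μ : F) :
    (1 : Matrix ι ι F) ⊗ₖ C - μ • 1 = (1 : Matrix ι ι F) ⊗ₖ (C - μ • 1) := by
  ext ⟨i, k⟩ ⟨j, l⟩
  rcases eq_or_ne i j with rfl | hij <;> simp [Matrix.one_apply, *]

/-- One small rank forces all ranks to be multiples of the size of the first factor. -/
theorem exists_rank_eq_of_lt [Nonempty ι] {A : Matrix ι ι F} {B : Matrix κ κ F}
    (hB : IsUnit B.det) {μ : F} (h : (A ⊗ₖ B - μ • 1).rank < Fintype.card κ) :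
    ∃ C : Matrix κ κ F, A ⊗ₖ B = (1 : Matrix ι ι F) ⊗ₖ C ∧
      ∀ μ' : F, (A ⊗ₖ B - μ' • 1).rank = Fintype.card ι * (C - μ' • 1).rank := by
  obtain ⟨s, rfl⟩ := exists_left_scalar hB h
  refine ⟨s • B, smul_one_kronecker s B, fun μ' => ?_⟩
  rw [smul_one_kronecker, one_kronecker_sub_smul, rank_one_kronecker]

end rank

/-- An element of order dividing `r` moving fewer dimensions than the order of `q` modulo `r` is
trivial. -/
theorem eq_one_of_finrank_range_lt {F : Type*} [Field F] [Fintype F] {r : ℕ} [hr : Fact r.Prime]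
    {V : Type*} [AddCommGroup V] [Module F V] [FiniteDimensional F V]
    (hr0 : 0 < orderOf (Fintype.card F : ZMod r)) (hrF : (r : F) ≠ 0)
    {T : Module.End F V} (hT : T ^ r = 1)
    (h : Module.finrank F (LinearMap.range (T - 1)) < orderOf (Fintype.card F : ZMod r)) : T = 1 := by
  by_contra hne
  have hW0 : LinearMap.range (T - 1) ≠ ⊥ := fun h0 =>
    hne (sub_eq_zero.1 (LinearMap.range_eq_bot.1 h0))
  have hinv : Inv T (LinearMap.range (T - 1)) := by
    rintro _ ⟨v, rfl⟩
    exact ⟨T v, by simp [LinearMap.sub_apply]⟩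
  have hdis : Disjoint (LinearMap.range (T - 1)) (LinearMap.ker (T - 1)) := by
    rw [Submodule.disjoint_def]
    rintro _ ⟨w, rfl⟩ hv
    rw [LinearMap.mem_ker] at hv
    set v := (T - 1) w with hvdef
    have hTv : T v = v := sub_eq_zero.1 (by simpa using hv)
    have hTw : T w = w + v := by rw [hvdef]; simp
    have hk : ∀ k : ℕ, (T ^ k) w = w + (k : F) • v := by
      intro k
      induction k with
      | zero => simp
      | succ k ih =>
        rw [pow_succ', Module.End.mul_apply, ih, map_add, map_smul, hTv, hTw, Nat.cast_succ]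
        module
    have := hk r
    rw [hT, Module.End.one_apply, eq_comm, add_eq_left] at this
    exact (smul_eq_zero.1 this).resolve_left hrF
  obtain ⟨U, hU, -, hUd⟩ := (homog_order hr0 hrF hT).step _ hinv hW0 hdis
  have := Submodule.finrank_mono hU
  omega

/-- Matrix form of `eq_one_of_finrank_range_lt`. -/
theorem matrix_eq_one_of_rank_lt {F : Type*} [Field F] [Fintype F] {r : ℕ} [Fact r.Prime]
    {m : Type*} [Fintype m] [DecidableEq m] (hr0 : 0 < orderOf (Fintype.card F : ZMod r))
    (hrF : (r : F) ≠ 0) {M : Matrix m m F} (hM : M ^ r = 1)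
    (h : (M - 1).rank < orderOf (Fintype.card F : ZMod r)) : M = 1 := by
  let φ := (Matrix.toLinAlgEquiv' : Matrix m m F ≃ₐ[F] Module.End F (m → F))
  apply φ.injective
  rw [map_one]
  refine eq_one_of_finrank_range_lt hr0 hrF (by rw [← map_pow, hM, map_one]) ?_
  rw [← map_one φ, ← map_sub]
  exact h

end CfsgLib.LinFix
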