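import Mathlib
import Cfsg.Prelude.Def_GeometricClasses
import Cfsg.Agent.Lib.LinFix.Kron
import Cfsg.Agent.Lib.UnipotentClassical.Parity
import Cfsg.Agent.Lib.ClassicalMax.TensorTools

/-!
Kronecker products preserving forms: Gram matrices, parity of ranks and a rank bound.
-/

set_option autoImplicit false

namespace CfsgLib.LinFix.KronForm

open Matrix Module
open scoped Kronecker

variable {F : Type*} [Field F] {ι κ : Type*} [Fintype ι] [Fintype κ] [DecidableEq ι] [DecidableEq κ]

omit [Fintype ι] [DecidableEq ι] [DecidableEq κ] [Fintype κ] in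
/-- A Kronecker product determines its factors up to inverse scalars. -/
theorem exists_scalar_of_kronecker_eq {A A' : Matrix ι ι F} {B B' : Matrix κ κ F} (hA : A' ≠ 0)
    (hB : B' ≠ 0) (h : A ⊗ₖ B = A' ⊗ₖ B') : ∃ s : F, s ≠ 0 ∧ A = s • A' ∧ B = s⁻¹ • B' := by
  obtain ⟨i, j, hij⟩ : ∃ i j, A' i j ≠ 0 := by
    by_contra hh
    push Not at hh
    exact hA (Matrix.ext hh)
  obtain ⟨k, l, hkl⟩ : ∃ k l, B' k l ≠ 0 := by
    by_contra hh
    push Not at hh
    exact hB (Matrix.ext hh)
  have e : ∀ a b c d, A a b * B c d = A' a b * B' c d := fun a b c d => congrFun (congrFun h (a, c)) (b, d)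
  have hB0 : B k l ≠ 0 := fun h0 => mul_ne_zero hij hkl (by rw [← e, h0, mul_zero])
  refine ⟨B' k l / B k l, div_ne_zero hkl hB0, ?_, ?_⟩
  · ext a b
    rw [Matrix.smul_apply, smul_eq_mul, div_mul_eq_mul_div, eq_div_iff hB0, e, mul_comm]
  · ext c d
    have h1 := e i j c d
    have h2 := e i j k l
    have hA0 : A i j ≠ 0 := fun h0 => mul_ne_zero hij hkl (by rw [← e, h0, zero_mul])
    rw [Matrix.smul_apply, smul_eq_mul, inv_div, div_mul_eq_mul_div, eq_div_iff hkl]
    refine mul_left_cancel₀ hA0 ?_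
    calc A i j * (B c d * B' k l) = (A i j * B c d) * B' k l := by ring
      _ = (A i j * B k l) * B' c d := by rw [h1, h2]; ring
      _ = _ := by ring

/-- An alternating matrix has even rank. -/
theorem even_rank {K : Matrix ι ι F} (h : ∀ v, v ⬝ᵥ (K *ᵥ v) = 0) : Even K.rank := by
  let b : (ι → F) →ₗ[F] (ι → F) →ₗ[F] F := Matrix.toBilin' K
  have hb : ∀ v, b v v = 0 := fun v => by
    simp only [b, Matrix.toBilin'_apply']
    exact h v
  have heven := UnipotentClassical.even_finrank_sub_ker b hb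
  have hker : LinearMap.ker b = LinearMap.ker Kᵀ.mulVecLin := by
    ext v
    simp only [LinearMap.mem_ker, Matrix.mulVecLin_apply]
    constructor
    · intro hv
      funext j
      have := LinearMap.congr_fun hv (Pi.single j 1)
      rw [Matrix.mulVec_transpose]
      simp [b, Matrix.toBilin'_apply', Matrix.vecMul, Matrix.col] at this
      exact this
    · intro hv
      refine LinearMap.ext fun w => ?_
      simp only [b, Matrix.toBilin'_apply', LinearMap.zero_apply]
      rw [Matrix.dotProduct_mulVec, ← Matrix.mulVec_transpose, hv, zero_dotProduct]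
  have h1 := LinearMap.finrank_range_add_finrank_ker Kᵀ.mulVecLin
  rw [hker, Module.finrank_fintype_fun_eq_card] at heven
  rw [Module.finrank_fintype_fun_eq_card] at h1
  rw [← Matrix.rank_transpose, Matrix.rank]
  convert heven using 1
  omega

/-- A skew matrix is alternating away from characteristic two. -/
theorem dot_self_zero (h2 : (2 : F) ≠ 0) {K : Matrix ι ι F} (hK : Kᵀ = -K) (v : ι → F) :
    v ⬝ᵥ (K *ᵥ v) = 0 := by
  have h : v ⬝ᵥ (K *ᵥ v) = -(v ⬝ᵥ (K *ᵥ v)) := by
    conv_lhs => rw [Matrix.dotProduct_mulVec, ← Matrix.mulVec_transpose, hK, Matrix.neg_mulVec,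
      neg_dotProduct, dotProduct_comm]
  exact (mul_eq_zero.1 (show (2 : F) * (v ⬝ᵥ (K *ᵥ v)) = 0 by linear_combination h)).resolve_left h2

/-- Matrices with the same kernel have the same rank. -/
theorem rank_eq_of_ker_eq {K L : Matrix ι ι F} (h : ∀ v, K *ᵥ v = 0 ↔ L *ᵥ v = 0) : K.rank = L.rank := by
  have h1 := LinearMap.finrank_range_add_finrank_ker K.mulVecLin
  have h2 := LinearMap.finrank_range_add_finrank_ker L.mulVecLin
  rw [show LinearMap.ker K.mulVecLin = LinearMap.ker L.mulVecLin from Submodule.ext fun v => h v] at h1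
  simp only [Matrix.rank]
  omega

/-- Fixed vectors of a square, for odd order. -/
theorem fix_of_sq_fix {r : ℕ} (hr : Odd r) {A : Matrix ι ι F} (hA : A ^ r = 1) {v : ι → F}
    (h : A *ᵥ (A *ᵥ v) = v) : A *ᵥ v = v := by
  obtain ⟨k, rfl⟩ := hr
  have hk : ∀ j : ℕ, A ^ (2 * j) *ᵥ v = v := by
    intro j
    induction j with
    | zero => simp
    | succ j ih => rw [Nat.mul_succ, pow_add, ← Matrix.mulVec_mulVec, pow_two, ← Matrix.mulVec_mulVec, h, ih]
  calc A *ᵥ v = A *ᵥ (A ^ (2 * k) *ᵥ v) := by rw [hk]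
    _ = v := by rw [Matrix.mulVec_mulVec, ← pow_succ', hA, Matrix.one_mulVec]

/-- An element of order dividing `r` fixing `v` modulo fixed vectors fixes it. -/
theorem fix_of_sub_fix {r : ℕ} (hrF : (r : F) ≠ 0) {A : Matrix ι ι F} (hA : A ^ r = 1) {v : ι → F}
    (h : A *ᵥ (A *ᵥ v - v) = A *ᵥ v - v) : A *ᵥ v = v := by
  set w := A *ᵥ v - v with hw
  have hAv : A *ᵥ v = v + w := by rw [hw]; abel
  have hk : ∀ j : ℕ, A ^ j *ᵥ v = v + (j : F) • w := by
    intro j
    induction j with
    | zero => simp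
    | succ j ih =>
      rw [pow_succ', ← Matrix.mulVec_mulVec, ih, Matrix.mulVec_add, Matrix.mulVec_smul, h, hAv]
      push_cast
      module
  have := hk r
  rw [hA, Matrix.one_mulVec, eq_comm, add_eq_left] at this
  rw [hAv, (smul_eq_zero.1 this).resolve_left hrF, add_zero]

/-- An isometry of odd order of a symmetric form moves an even number of dimensions. -/
theorem even_rank_orth {r : ℕ} (hr : Odd r) (h2 : (2 : F) ≠ 0) {G B : Matrix ι ι F} (hG : IsUnit G.det)
    (hGs : Gᵀ = G) (hB : B ^ r = 1) (hBG : Bᵀ * G * B = G) : Even (B - 1).rank := by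
  obtain ⟨s, hs⟩ : ∃ s, r = s + 1 := ⟨r - 1, by have := hr.pos; omega⟩
  set B' := B ^ s with hB'
  have hB1 : B * B' = 1 := by rw [hB', ← pow_succ', ← hs, hB]
  have hB2 : B' * B = 1 := by rw [hB', ← pow_succ, ← hs, hB]
  have hBT : Bᵀ * G = G * B' := by
    calc Bᵀ * G = Bᵀ * G * (B * B') := by rw [hB1, Matrix.mul_one]
      _ = G * B' := by rw [← Matrix.mul_assoc, hBG]
  have hskew : (G * (B - B'))ᵀ = -(G * (B - B')) := by
    rw [Matrix.mul_sub, Matrix.transpose_sub, Matrix.transpose_mul, hGs, hBT, ← hBT, Matrix.transpose_mul,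
      Matrix.transpose_transpose, hGs]
    rw [neg_sub]
  have h := even_rank (dot_self_zero h2 hskew)
  rw [Matrix.rank_mul_eq_right_of_isUnit_det _ _ hG] at h
  rwa [rank_eq_of_ker_eq (L := B - 1) fun v => ?_] at h
  simp only [Matrix.sub_mulVec, Matrix.one_mulVec, sub_eq_zero]
  constructor
  · intro hv
    refine fix_of_sq_fix hr hB ?_
    rw [hv, Matrix.mulVec_mulVec, hB1, Matrix.one_mulVec]
  · intro hv
    rw [hv]
    conv_rhs => rw [← hv, Matrix.mulVec_mulVec, hB2, Matrix.one_mulVec]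

/-- An isometry of odd order of an alternating form moves an even number of dimensions. -/
theorem even_rank_symp {r : ℕ} (h2 : (2 : F) ≠ 0) (hrF : (r : F) ≠ 0) {G A : Matrix ι ι F} (hG : IsUnit G.det)
    (hGs : Gᵀ = -G) (hA : A ^ r = 1) (hAG : Aᵀ * G * A = G) : Even (A - 1).rank := by
  have hAu : IsUnit A.det := by
    have h := congrArg Matrix.det hAG
    rw [Matrix.det_mul] at h
    exact isUnit_of_mul_isUnit_right (h ▸ hG)
  have hskew : ((A - 1)ᵀ * G * (A - 1))ᵀ = -((A - 1)ᵀ * G * (A - 1)) := by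
    rw [Matrix.transpose_mul, Matrix.transpose_mul, Matrix.transpose_transpose, hGs]
    simp [Matrix.mul_assoc]
  have h := even_rank (dot_self_zero h2 hskew)
  rwa [rank_eq_of_ker_eq (L := A - 1) fun v => ?_] at h
  simp only [Matrix.sub_mulVec, Matrix.one_mulVec, sub_eq_zero, ← Matrix.mulVec_mulVec, Matrix.transpose_sub,
    Matrix.transpose_one, Matrix.mulVec_sub]
  refine ⟨fun hv => ?_, fun hv => by rw [hv]⟩
  set w := A *ᵥ v - v with hw
  have hw' : Aᵀ *ᵥ (G *ᵥ w) = G *ᵥ w := by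
    rw [hw, Matrix.mulVec_sub, Matrix.mulVec_sub]
    rw [sub_eq_sub_iff_add_eq_add] at hv ⊢
    rw [hv]; abel
  refine fix_of_sub_fix hrF hA ?_
  rw [← hw]
  refine Matrix.mulVec_injective_iff_isUnit.2 ((Matrix.isUnit_iff_isUnit_det G).2 hG) ?_
  refine Matrix.mulVec_injective_iff_isUnit.2 ((Matrix.isUnit_iff_isUnit_det Aᵀ).2 (by rwa [Matrix.det_transpose])) ?_
  change Aᵀ *ᵥ (G *ᵥ (A *ᵥ w)) = Aᵀ *ᵥ (G *ᵥ w)
  rw [hw', Matrix.mulVec_mulVec, Matrix.mulVec_mulVec, hAG]

/-- The rank of a Kronecker product minus a scalar, from a subspace met trivially by its image. -/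
theorem mul_card_le_rank {A : Matrix ι ι F} {B : Matrix κ κ F} (hB : IsUnit B.det) {k : ℕ}
    {w : Fin k → ι → F} (hli : LinearIndependent F (Sum.elim w fun l => A *ᵥ w l)) (μ : F) :
    k * Fintype.card κ ≤ (A ⊗ₖ B - μ • 1).rank := by
  let emb : (Fin k → κ → F) →ₗ[F] (ι × κ → F) :=
    { toFun := fun v p => ∑ l, w l p.1 * v l p.2
      map_add' := fun v v' => funext fun p => by simp [mul_add, Finset.sum_add_distrib]
      map_smul' := fun c v => funext fun p => by simp [Finset.mul_sum, mul_left_comm] }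
  set M := A ⊗ₖ B - μ • (1 : Matrix (ι × κ) (ι × κ) F)
  have hinj : Function.Injective (M.mulVecLin.comp emb) := by
    rw [← LinearMap.ker_eq_bot, LinearMap.ker_eq_bot']
    intro v hv
    have happ : ∀ i j, (M *ᵥ emb v) (i, j) =
        ∑ l, ((A *ᵥ w l) i * (B *ᵥ v l) j - μ * (w l i * v l j)) := by
      intro i j
      have hsplit : emb v = ∑ l, fun p : ι × κ => w l p.1 * v l p.2 := by
        funext p; simp [emb, Finset.sum_apply]
      rw [hsplit, Matrix.mulVec_sum, Finset.sum_apply]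
      refine Finset.sum_congr rfl fun l _ => ?_
      simp only [M, Matrix.sub_mulVec, Pi.sub_apply, Matrix.smul_mulVec, Matrix.one_mulVec, Pi.smul_apply,
        smul_eq_mul, kronecker_mulVec_apply]
    have hB0 : ∀ l, B *ᵥ v l = 0 := fun l => funext fun j => by
      have h0 := Fintype.linearIndependent_iff.1 hli
        (Sum.elim (fun l => -μ * v l j) fun l => (B *ᵥ v l) j) (funext fun i => by
          have := congrFun hv (i, j)
          simp only [LinearMap.comp_apply, Matrix.mulVecLin_apply, happ, Pi.zero_apply] at this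
          rw [Finset.sum_apply, Fintype.sum_sum_type]
          simp only [Sum.elim_inl, Sum.elim_inr, Pi.smul_apply, smul_eq_mul, Pi.zero_apply]
          rw [← this, ← Finset.sum_add_distrib]
          exact Finset.sum_congr rfl fun l _ => by ring) (Sum.inr l)
      simpa using h0
    funext l
    exact Matrix.mulVec_injective_iff_isUnit.2 ((Matrix.isUnit_iff_isUnit_det B).2 hB)
      (by simp [hB0 l])
  calc k * Fintype.card κ = finrank F (LinearMap.range (M.mulVecLin.comp emb)) := by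
        rw [LinearMap.finrank_range_of_inj hinj, Module.finrank_pi_fintype]
        simp
    _ ≤ M.rank := Submodule.finrank_mono (LinearMap.range_comp_le_range _ _)

/-- Two vectors spanning, with their images, four dimensions. -/
theorem exists_pair {r : ℕ} (hr : 0 < r) (hroot : ∀ z : F, z ^ r = 1 → z = 1) {A : Matrix ι ι F}
    (hA : A ^ r = 1) (hfix : ∀ v, A *ᵥ v = v → v = 0) (h4 : 4 ≤ Fintype.card ι) :
    ∃ w : Fin 2 → ι → F, LinearIndependent F (Sum.elim w fun l => A *ᵥ w l) := by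
  haveI : Nonempty ι := Fintype.card_pos_iff.1 (by omega)
  obtain ⟨v, hv⟩ := exists_ne (0 : ι → F)
  have heig : ∀ (u : ι → F) (t : F), A *ᵥ u = t • u → u = 0 := by
    intro u t hu
    by_contra hu0
    have hk : ∀ j : ℕ, A ^ j *ᵥ u = t ^ j • u := by
      intro j
      induction j with
      | zero => simp
      | succ j ih => rw [pow_succ', ← Matrix.mulVec_mulVec, ih, Matrix.mulVec_smul, hu, smul_smul, pow_succ]
    have htr := hk r
    rw [hA, Matrix.one_mulVec] at htr
    have ht : t ^ r = 1 := by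
      by_contra hne
      refine hu0 ((smul_eq_zero.1 (show (t ^ r - 1) • u = 0 by rw [sub_smul, one_smul, ← htr, sub_self])).resolve_left
        (sub_ne_zero.2 hne))
    rw [hroot t ht, one_smul] at hu
    exact hu0 (hfix u hu)
  have hli2 : LinearIndependent F ![v, A *ᵥ v] :=
    (LinearIndependent.pair_iff' hv).2 fun t h => hv (heig v t h.symm)
  by_cases h4' : LinearIndependent F ![v, A *ᵥ v, A *ᵥ (A *ᵥ v), A *ᵥ (A *ᵥ (A *ᵥ v))]
  · refine ⟨![v, A *ᵥ (A *ᵥ v)], ?_⟩
    let e : Fin 2 ⊕ Fin 2 → Fin 4 := Sum.elim ![0, 2] ![1, 3]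
    have he : Function.Injective e := by decide
    rw [show Sum.elim ![v, A *ᵥ (A *ᵥ v)] (fun l => A *ᵥ ![v, A *ᵥ (A *ᵥ v)] l) =
      ![v, A *ᵥ v, A *ᵥ (A *ᵥ v), A *ᵥ (A *ᵥ (A *ᵥ v))] ∘ e from
        funext fun i => by rcases i with i | i <;> fin_cases i <;> rfl]
    exact h4'.comp e he
  -- an invariant subspace of dimension at most three
  let U := Submodule.span F (Set.range ![v, A *ᵥ v, A *ᵥ (A *ᵥ v)])
  have m0 : v ∈ U := Submodule.subset_span ⟨0, rfl⟩
  have m1 : A *ᵥ v ∈ U := Submodule.subset_span ⟨1, rfl⟩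
  have m2 : A *ᵥ (A *ᵥ v) ∈ U := Submodule.subset_span ⟨2, rfl⟩
  have m3 : A *ᵥ (A *ᵥ (A *ᵥ v)) ∈ U := by
    by_contra hn
    refine h4' ?_
    have h3 : LinearIndependent F ![v, A *ᵥ v, A *ᵥ (A *ᵥ v)] := by
      by_contra h3'
      refine hn ?_
      have h2 : A *ᵥ (A *ᵥ v) ∈ Submodule.span F (Set.range ![v, A *ᵥ v]) := by
        by_contra hn2
        refine h3' ?_
        have := hli2.finSnoc hn2
        rw [show ![v, A *ᵥ v, A *ᵥ (A *ᵥ v)] = Fin.snoc ![v, A *ᵥ v] (A *ᵥ (A *ᵥ v)) from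
          funext fun i => by fin_cases i <;> rfl]
        exact this
      have hle : (Submodule.span F (Set.range ![v, A *ᵥ v])).map A.mulVecLin ≤ U := by
        rw [Submodule.map_span, Submodule.span_le]
        rintro _ ⟨_, ⟨i, rfl⟩, rfl⟩
        fin_cases i
        · exact m1
        · exact m2
      exact hle ⟨_, h2, rfl⟩
    rw [show ![v, A *ᵥ v, A *ᵥ (A *ᵥ v), A *ᵥ (A *ᵥ (A *ᵥ v))] =
      Fin.snoc ![v, A *ᵥ v, A *ᵥ (A *ᵥ v)] (A *ᵥ (A *ᵥ (A *ᵥ v))) from funext fun i => by fin_cases i <;> rfl]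
    exact h3.finSnoc hn
  have hinv : ∀ u ∈ U, A *ᵥ u ∈ U := by
    have : U.map A.mulVecLin ≤ U := by
      simp only [U]
      rw [Submodule.map_span, Submodule.span_le]
      rintro _ ⟨_, ⟨i, rfl⟩, rfl⟩
      fin_cases i
      · exact m1
      · exact m2
      · exact m3
    exact fun u hu => this ⟨u, hu, rfl⟩
  have hU3 : finrank F U ≤ 3 := (finrank_range_le_card _).trans (by simp)
  obtain ⟨v', hv'⟩ : ∃ v', v' ∉ U := by
    by_contra hall
    push Not at hall
    have htop : U = ⊤ := eq_top_iff.2 fun x _ => hall x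
    rw [htop, finrank_top, Module.finrank_fintype_fun_eq_card] at hU3
    omega
  refine ⟨![v, v'], ?_⟩
  let S := Submodule.span F (Set.range ![v, A *ᵥ v])
  have hSU : S ≤ U := Submodule.span_le.2 (by
    rintro _ ⟨i, rfl⟩
    fin_cases i
    exacts [m0, m1])
  have h3 : LinearIndependent F ![v, A *ᵥ v, v'] := by
    rw [show ![v, A *ᵥ v, v'] = Fin.snoc ![v, A *ᵥ v] v' from funext fun i => by fin_cases i <;> rfl]
    exact hli2.finSnoc fun h => hv' (hSU h)
  have hn4 : A *ᵥ v' ∉ Submodule.span F (Set.range ![v, A *ᵥ v, v']) := by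
    intro hmem
    obtain ⟨c, hc⟩ := (Submodule.mem_span_range_iff_exists_fun F).1 hmem
    simp [Fin.sum_univ_three] at hc
    set t := c 2 with ht
    set u := c 0 • v + c 1 • (A *ᵥ v) with hu
    have huU : u ∈ U := U.add_mem (U.smul_mem _ m0) (U.smul_mem _ m1)
    have hAv' : A *ᵥ v' = u + t • v' := hc.symm
    have hk : ∀ j : ℕ, ∃ u' ∈ U, A ^ j *ᵥ v' = u' + t ^ j • v' := by
      intro j
      induction j with
      | zero => exact ⟨0, U.zero_mem, by simp⟩
      | succ j ih =>
        obtain ⟨u', hu', he⟩ := ih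
        refine ⟨A *ᵥ u' + t ^ j • u, U.add_mem (hinv _ hu') (U.smul_mem _ huU), ?_⟩
        rw [pow_succ', ← Matrix.mulVec_mulVec, he, Matrix.mulVec_add, Matrix.mulVec_smul, hAv', pow_succ,
          smul_add, smul_smul, add_assoc]
    obtain ⟨u', hu', he⟩ := hk r
    rw [hA, Matrix.one_mulVec] at he
    have ht1 : t ^ r = 1 := by
      by_contra hne
      refine hv' ?_
      have h : (1 - t ^ r) • v' = u' := by rw [sub_smul, one_smul]; nth_rewrite 1 [he]; abel
      rw [← inv_smul_smul₀ (sub_ne_zero.2 (Ne.symm hne)) v', h]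
      exact U.smul_mem _ hu'
    rw [hroot t ht1, one_smul] at hAv'
    let T : U →ₗ[F] U := (A.mulVecLin - 1).restrict fun x hx => U.sub_mem (hinv x hx) hx
    have hT : Function.Injective T := by
      rw [← LinearMap.ker_eq_bot, LinearMap.ker_eq_bot']
      rintro ⟨x, hx⟩ h
      exact Subtype.ext (hfix x (sub_eq_zero.1 (congrArg Subtype.val h :)))
    obtain ⟨⟨z, hz⟩, hzz⟩ := LinearMap.injective_iff_surjective.1 hT ⟨u, huU⟩
    have hz' : A *ᵥ z - z = u := congrArg Subtype.val hzz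
    refine hv' (sub_eq_zero.1 (hfix (v' - z) ?_) ▸ hz)
    rw [Matrix.mulVec_sub, hAv', ← hz']
    abel
  have h4'' := h3.finSnoc hn4
  let e : Fin 2 ⊕ Fin 2 → Fin 4 := Sum.elim ![0, 2] ![1, 3]
  have he : Function.Injective e := by decide
  rw [show Sum.elim ![v, v'] (fun l => A *ᵥ ![v, v'] l) = Fin.snoc ![v, A *ᵥ v, v'] (A *ᵥ v') ∘ e from
    funext fun i => by rcases i with i | i <;> fin_cases i <;> rfl]
  exact h4''.comp e he

end CfsgLib.LinFix.KronForm
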