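import Mathlib
import Cfsg.Agent.Lib.LinFix.Basic
import Cfsg.Agent.Lib.LinFix.Decomp
import Cfsg.Agent.Lib.LinFix.KronForm
import Cfsg.Agent.Lib.RootCount.Orth
import Cfsg.Agent.Lib.RootCount.QuadInv
import Cfsg.Agent.Lib.RootCount.QuadType

/-!
# Invariant non-degenerate subspaces of orthogonal transformations of odd prime order
-/

set_option autoImplicit false

namespace CfsgLib.OrthInv

open Module QuadraticMap Polynomial
open CfsgLib.Classical.Quad (NDPolar)
open CfsgLib.RootCount (IsPlus)
open CfsgLib.LinFix (Inv)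

variable {F : Type*} [Field F] {V : Type*} [AddCommGroup V] [Module F V]

/-- A subspace on which the polar form is non-degenerate. -/
def Nd (Q : QuadraticForm F V) (W : Submodule F V) : Prop :=
  ∀ x ∈ W, (∀ y ∈ W, polar Q x y = 0) → x = 0

/-- The minimal dimension moved by an element of order `r`, where `i` is the order of the field size mod `r`. -/
def per (i : ℕ) : ℕ := if Even i then i else 2 * i

theorem per_pos {i : ℕ} (hi : 0 < i) : 0 < per i := by
  unfold per; split_ifs <;> omega

theorem per_even {i : ℕ} : Even (per i) := by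
  unfold per; split_ifs with h
  · exact h
  · exact even_two_mul i

theorem nd_top {Q : QuadraticForm F V} (hQ : NDPolar Q) : Nd Q ⊤ :=
  fun x _ h => hQ x fun y => h y Submodule.mem_top

theorem ndPolar_comp {Q : QuadraticForm F V} {W : Submodule F V} (hW : Nd Q W) :
    NDPolar (Q.comp W.subtype) := by
  intro x hx
  refine Subtype.ext (hW x x.2 fun y hy => ?_)
  have := hx ⟨y, hy⟩
  simpa [polar] using this

theorem polar_map_eq {Q : QuadraticForm F V} {T : Module.End F V} (hiso : ∀ v, Q (T v) = Q v) (u v : V) :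
    polar Q (T u) (T v) = polar Q u v := by
  simp only [polar, ← map_add, hiso]

theorem pow_apply_mem {T : Module.End F V} {W : Submodule F V} (hW : Inv T W) :
    ∀ (j : ℕ) (v : V), v ∈ W → (T ^ j) v ∈ W := by
  intro j
  induction j with
  | zero => intro v hv; simpa using hv
  | succ j ih => intro v hv; rw [pow_succ', Module.End.mul_apply]; exact hW _ (ih v hv)

theorem pow_sub_mem_range (T : Module.End F V) (j : ℕ) (v : V) : (T ^ j) v - v ∈ LinearMap.range (T - 1) := by
  induction j with
  | zero => simp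
  | succ j ih =>
    have h : (T ^ (j + 1)) v - v = (T - 1) ((T ^ j) v) + ((T ^ j) v - v) := by
      rw [pow_succ', Module.End.mul_apply, LinearMap.sub_apply, Module.End.one_apply]; abel
    rw [h]
    exact add_mem ⟨_, rfl⟩ ih

section decomp

variable {r : ℕ} {T : Module.End F V} (hrF : (r : F) ≠ 0) (hT : T ^ r = 1)

include hrF hT

theorem disjoint_fix_range : Disjoint (LinearMap.ker (T - 1)) (LinearMap.range (T - 1)) := by
  rw [Submodule.disjoint_def]
  rintro _ hu ⟨w, rfl⟩
  rw [LinearMap.mem_ker, LinearMap.sub_apply, Module.End.one_apply, sub_eq_zero] at hu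
  have hk : ∀ j : ℕ, (T ^ j) w = w + (j : F) • (T - 1) w := by
    intro j
    induction j with
    | zero => simp
    | succ j ih =>
      rw [pow_succ', Module.End.mul_apply, ih, map_add, map_smul, hu, Nat.cast_succ, add_smul, one_smul,
        LinearMap.sub_apply, Module.End.one_apply]
      abel
  have h := hk r
  rw [hT, Module.End.one_apply, left_eq_add, smul_eq_zero] at h
  exact h.resolve_left hrF

/-- An invariant subspace splits along the fixed space and the moved space. -/
theorem exists_split {W : Submodule F V} (hW : Inv T W) {v : V} (hv : v ∈ W) :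
    ∃ a ∈ W ⊓ LinearMap.ker (T - 1), ∃ b ∈ W ⊓ LinearMap.range (T - 1), a + b = v := by
  set a := (r : F)⁻¹ • ∑ j ∈ Finset.range r, (T ^ j) v with ha
  have haW : a ∈ W := W.smul_mem _ (Submodule.sum_mem _ fun j _ => pow_apply_mem hW j v hv)
  refine ⟨a, ⟨haW, ?_⟩, v - a, ⟨W.sub_mem hv haW, ?_⟩, by abel⟩
  · show (T - 1) a = 0
    rw [ha, map_smul, map_sum]
    have h : ∑ j ∈ Finset.range r, (T - 1) ((T ^ j) v) = ∑ j ∈ Finset.range r, ((T ^ (j + 1)) v - (T ^ j) v) :=
      Finset.sum_congr rfl fun j _ => by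
        rw [pow_succ', Module.End.mul_apply, LinearMap.sub_apply, Module.End.one_apply]
    rw [h, Finset.sum_range_sub (fun j => (T ^ j) v), hT, pow_zero, sub_self, smul_zero]
  · have h : v - a = (r : F)⁻¹ • ∑ j ∈ Finset.range r, -((T ^ j) v - v) := by
      simp only [neg_sub, Finset.sum_sub_distrib, Finset.sum_const, Finset.card_range, smul_sub, ha,
        ← Nat.cast_smul_eq_nsmul F, inv_smul_smul₀ hrF]
    rw [h]
    exact Submodule.smul_mem _ _ (Submodule.sum_mem _ fun j _ => neg_mem (pow_sub_mem_range T j v))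

theorem sup_split {W : Submodule F V} (hW : Inv T W) :
    (W ⊓ LinearMap.ker (T - 1)) ⊔ (W ⊓ LinearMap.range (T - 1)) = W := by
  refine le_antisymm (sup_le inf_le_left inf_le_left) fun v hv => ?_
  obtain ⟨a, ha, b, hb, rfl⟩ := exists_split hrF hT hW hv
  exact Submodule.add_mem_sup ha hb

theorem finrank_split [FiniteDimensional F V] {W : Submodule F V} (hW : Inv T W) :
    finrank F ↥(W ⊓ LinearMap.ker (T - 1)) + finrank F ↥(W ⊓ LinearMap.range (T - 1)) = finrank F W := by
  conv_rhs => rw [← sup_split hrF hT hW]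
  exact (LinFix.finrank_sup_of_disjoint ((disjoint_fix_range hrF hT).mono inf_le_right inf_le_right)).symm

omit hrF hT in
theorem polar_fix_range {Q : QuadraticForm F V} (hiso : ∀ v, Q (T v) = Q v) {a b : V}
    (ha : a ∈ LinearMap.ker (T - 1)) (hb : b ∈ LinearMap.range (T - 1)) : polar Q a b = 0 := by
  obtain ⟨w, rfl⟩ := hb
  rw [LinearMap.mem_ker, LinearMap.sub_apply, Module.End.one_apply, sub_eq_zero] at ha
  rw [LinearMap.sub_apply, Module.End.one_apply, polar_sub_right]
  nth_rw 1 [← ha]
  rw [polar_map_eq hiso, sub_self]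

theorem nd_parts {Q : QuadraticForm F V} (hiso : ∀ v, Q (T v) = Q v) {W : Submodule F V} (hW : Inv T W)
    (hnd : Nd Q W) : Nd Q (W ⊓ LinearMap.ker (T - 1)) ∧ Nd Q (W ⊓ LinearMap.range (T - 1)) := by
  constructor
  · intro x hx h
    refine hnd x hx.1 fun y hy => ?_
    obtain ⟨a, ha, b, hb, rfl⟩ := exists_split hrF hT hW hy
    rw [polar_add_right, h a ha, polar_fix_range hiso hx.2 hb.2, add_zero]
  · intro x hx h
    refine hnd x hx.1 fun y hy => ?_
    obtain ⟨a, ha, b, hb, rfl⟩ := exists_split hrF hT hW hy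
    rw [polar_add_right, h b hb, polar_comm, polar_fix_range hiso ha.2 hx.2, add_zero]

end decomp

theorem inv_range (T : Module.End F V) : Inv T (LinearMap.range (T - 1)) := by
  rintro _ ⟨w, rfl⟩
  exact ⟨T w, by simp [LinearMap.sub_apply]⟩

/-- Orthogonal complement inside a subspace. -/
theorem exists_compl_in [FiniteDimensional F V] {Q : QuadraticForm F V} {T : Module.End F V}
    (hiso : ∀ v, Q (T v) = Q v) {W D : Submodule F V} (hW : Inv T W) (hWn : Nd Q W) (hD : Inv T D) (hDn : Nd Q D)
    (hle : W ≤ D) :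
    ∃ D' ≤ D, Inv T D' ∧ Nd Q D' ∧ Disjoint W D' ∧ finrank F W + finrank F D' = finrank F D ∧
      ∀ x ∈ W, ∀ y ∈ D', polar Q x y = 0 := by
  let B : LinearMap.BilinForm F V := polarBilin Q
  let f : V →ₗ[F] Module.Dual F W := (LinearMap.lcomp F F W.subtype).comp B
  have hf : ∀ v (w : W), f v w = polar Q v w := fun v w => rfl
  have hinj : Function.Injective (f.comp W.subtype) := (injective_iff_map_eq_zero _).2 fun w hw =>
    Subtype.ext (hWn w w.2 fun y hy => LinearMap.congr_fun hw ⟨y, hy⟩)
  have hsur : Function.Surjective (f.comp W.subtype) :=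
    (LinearMap.injective_iff_surjective_of_finrank_eq_finrank Subspace.dual_finrank_eq.symm).1 hinj
  refine ⟨D ⊓ LinearMap.ker f, inf_le_left, ?_, ?_, ?_, ?_, ?_⟩
  · rintro v ⟨hv, hv'⟩
    refine ⟨hD v hv, LinearMap.ext fun w => ?_⟩
    rw [LinearMap.zero_apply, hf]
    have hTW : W.map T = W := by
      refine Submodule.eq_of_le_of_finrank_eq hW.map_le ?_
      refine le_antisymm (Submodule.finrank_map_le _ _) ?_
      have hinjT : Function.Injective (T.restrict hW) := (injective_iff_map_eq_zero _).2 fun x hx =>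
        Subtype.ext (hWn x x.2 fun y hy => by
          rw [← polar_map_eq hiso, show T (x : V) = 0 from congrArg Subtype.val hx, polar_zero_left])
      have h1 := LinearMap.finrank_range_of_inj hinjT
      have hinjD : Function.Injective (T.domRestrict W) := fun a b h => hinjT (Subtype.ext h)
      have h2 := LinearMap.finrank_range_of_inj hinjD
      rw [LinearMap.range_domRestrict] at h2
      exact h2.ge
    obtain ⟨w', hw', hw''⟩ : (w : V) ∈ W.map T := hTW.symm ▸ w.2
    rw [← hw'', polar_map_eq hiso]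
    exact LinearMap.congr_fun hv' ⟨w', hw'⟩
  · intro x hx h
    refine hDn x hx.1 fun y hy => ?_
    obtain ⟨w, hw⟩ := hsur (f y)
    have hy' : y - (w : V) ∈ D ⊓ LinearMap.ker f :=
      ⟨D.sub_mem hy (hle w.2), by
        show f (y - (w : V)) = 0
        rw [map_sub]; exact sub_eq_zero.2 hw.symm⟩
    have h1 := h _ hy'
    have h2 : polar Q x (w : V) = 0 := LinearMap.congr_fun hx.2 w
    rwa [polar_sub_right, h2, sub_zero] at h1
  · rw [Submodule.disjoint_def]
    rintro x hx ⟨-, hx'⟩
    exact hWn x hx fun y hy => LinearMap.congr_fun hx' ⟨y, hy⟩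
  · have hd : Disjoint W (D ⊓ LinearMap.ker f) := by
      rw [Submodule.disjoint_def]
      rintro x hx ⟨-, hx'⟩
      exact hWn x hx fun y hy => LinearMap.congr_fun hx' ⟨y, hy⟩
    rw [← LinFix.finrank_sup_of_disjoint hd]
    suffices hs : W ⊔ (D ⊓ LinearMap.ker f) = D by rw [hs]
    refine le_antisymm (sup_le hle inf_le_left) fun y hy => ?_
    obtain ⟨w, hw⟩ := hsur (f y)
    refine Submodule.mem_sup.2 ⟨w, w.2, y - w, ⟨D.sub_mem hy (hle w.2), ?_⟩, by abel⟩
    show f (y - (w : V)) = 0
    rw [map_sub]; exact sub_eq_zero.2 hw.symm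
  · intro x hx y hy
    rw [polar_comm]
    exact LinearMap.congr_fun hy.2 ⟨x, hx⟩

section period

variable [Fintype F] [FiniteDimensional F V] {r : ℕ} [Fact r.Prime] {i : ℕ}
  {Q : QuadraticForm F V} {T : Module.End F V}

theorem injective_of_pow {r : ℕ} (hr : r ≠ 0) (hT : T ^ r = 1) : Function.Injective T := by
  obtain ⟨s, rfl⟩ := Nat.exists_eq_succ_of_ne_zero hr
  intro x y h
  have := congrArg (T ^ s) h
  rwa [← Module.End.mul_apply, ← Module.End.mul_apply, ← pow_succ, hT] at this

/-- The restriction to an invariant subspace, as an equivalence. -/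
noncomputable def onSub (hT : T ^ r = 1) {D : Submodule F V} (hD : Inv T D) : D ≃ₗ[F] D :=
  LinearEquiv.ofInjectiveEndo (T.restrict hD) fun _ _ h =>
    Subtype.ext (injective_of_pow (Fact.out : r.Prime).ne_zero hT (congrArg Subtype.val h :))

theorem onSub_apply (hT : T ^ r = 1) {D : Submodule F V} (hD : Inv T D) (x : D) :
    (onSub hT hD x : V) = T x := rfl

theorem onSub_iterate (hT : T ^ r = 1) {D : Submodule F V} (hD : Inv T D) (x : D) :
    (⇑(onSub hT hD))^[r] x = x := by
  have h : ∀ j, (((⇑(onSub hT hD))^[j] x : D) : V) = (T ^ j) x := fun j => by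
    induction j with
    | zero => rfl
    | succ j ih => rw [Function.iterate_succ_apply', onSub_apply, ih, pow_succ', Module.End.mul_apply]
  exact Subtype.ext (by rw [h, hT]; rfl)

theorem onSub_fixed (hT : T ^ r = 1) {D : Submodule F V} (hD : Inv T D)
    (hdis : Disjoint D (LinearMap.ker (T - 1))) (x : D) (hx : onSub hT hD x = x) : x = 0 := by
  refine Subtype.ext ((Submodule.disjoint_def.1 hdis) x x.2 ?_)
  have := congrArg Subtype.val hx
  rw [onSub_apply] at this
  simp [LinearMap.sub_apply, this]

variable (hi : orderOf (Fintype.card F : ZMod r) = i) (hi0 : 0 < i) (hr2 : r ≠ 2) (hrF : (r : F) ≠ 0)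
  (hiso : ∀ v, Q (T v) = Q v) (hT : T ^ r = 1)

include hi hi0 hr2 hrF hiso hT

/-- Fixed-point-free invariant non-degenerate subspaces have dimension divisible by the period. -/
theorem per_dvd {D : Submodule F V} (hD : Inv T D) (hDn : Nd Q D) (hdis : Disjoint D (LinearMap.ker (T - 1))) :
    per i ∣ finrank F D := by
  have hh := CfsgLib.LinFix.homog_order (hi.symm ▸ hi0) hrF hT
  have h1 : i ∣ finrank F D := hi ▸ (hh.disjoint_dims _ D rfl hD hdis).1
  unfold per
  split_ifs with he
  · exact h1
  · haveI : NeZero (r : F) := ⟨hrF⟩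
    obtain ⟨U, -, hU⟩ := CfsgLib.RootCount.isPlus_of_odd_order (onSub hT hD) hr2
      (hi.symm ▸ Nat.not_even_iff_odd.1 he) (onSub_fixed hT hD hdis) (onSub_iterate hT hD)
      (Q.comp D.subtype) (ndPolar_comp hDn) (fun x => hiso x)
    exact Nat.Coprime.mul_dvd_of_dvd_of_dvd (Nat.coprime_two_left.2 (Nat.not_even_iff_odd.1 he))
      ⟨_, hU.symm⟩ h1

/-- The type of a fixed-point-free invariant non-degenerate subspace. -/
theorem type_iff {D : Submodule F V} (hD : Inv T D) (hDn : Nd Q D) (hdis : Disjoint D (LinearMap.ker (T - 1))) :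
    IsPlus (Q.comp D.subtype) ↔ (Odd i ∨ Even (finrank F D / i)) := by
  haveI : NeZero (r : F) := ⟨hrF⟩
  have hdvd := per_dvd hi hi0 hr2 hrF hiso hT hD hDn hdis
  rcases Nat.even_or_odd i with ⟨i', hi'⟩ | ho
  · rcases Nat.eq_zero_or_pos (finrank F D) with h0 | hpos
    · rw [h0, Nat.zero_div]
      refine iff_of_true ⟨⊥, fun x hx => by rw [(Submodule.mem_bot F).1 hx]; simp, ?_⟩ (Or.inr ⟨0, rfl⟩)
      rw [finrank_bot, h0]
    have hev : Even i := ⟨i', hi'⟩
    rw [per, if_pos hev] at hdvd
    obtain ⟨b, hb⟩ := hdvd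
    have hne : ¬ Odd i := Nat.not_odd_iff_even.2 hev
    rw [CfsgLib.RootCount.type_of_even_order (onSub hT hD) hr2 (i' := i') (b := b) (m := i' * b)
      (by rw [hi]; omega) (by omega)
      (by
        rcases Nat.eq_zero_or_pos (i' * b) with h | h
        · rw [hb, hi', ← two_mul, mul_assoc, h] at hpos; omega
        · exact h)
      (by rw [hb, hi']; ring) rfl (onSub_fixed hT hD hdis) (onSub_iterate hT hD) _ (ndPolar_comp hDn)
      (fun x => hiso x), hb, Nat.mul_div_cancel_left _ hi0]
    simp [hne]
  · exact iff_of_true (CfsgLib.RootCount.isPlus_of_odd_order (onSub hT hD) hr2 (hi.symm ▸ ho)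
      (onSub_fixed hT hD hdis) (onSub_iterate hT hD) (Q.comp D.subtype) (ndPolar_comp hDn) (fun x => hiso x))
      (Or.inl ho)

/-- A non-degenerate invariant subspace of minimal dimension. -/
theorem exists_per_sub {D : Submodule F V} (hD : Inv T D) (hDn : Nd Q D)
    (hdis : Disjoint D (LinearMap.ker (T - 1))) (hne : D ≠ ⊥) :
    ∃ W ≤ D, Inv T W ∧ Nd Q W ∧ finrank F W = per i := by
  have hr := (Fact.out : r.Prime)
  have hh := CfsgLib.LinFix.homog_order (hi.symm ▸ hi0) hrF hT
  rw [hi] at hh
  obtain ⟨S, hSD, hS, hS0, g, hg, hSr, hgdvd, hgS⟩ := CfsgLib.LinFix.exists_irreducible_sub T hD hne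
  have hgdeg : g.natDegree = i := by
    refine (CfsgLib.LinFix.natDegree_eq_order (hi.symm ▸ hi0) hg (hgdvd _ (by simp [hT])) fun h => ?_).trans hi
    obtain ⟨v, hv, hv0⟩ := Submodule.exists_mem_ne_zero_of_ne_bot hS0
    refine hv0 ((Submodule.disjoint_def.1 hdis) v (hSD hv) ?_)
    obtain ⟨w, hw⟩ := h
    have h1 : (aeval T (X - 1 : F[X])) v = 0 := by
      rw [hw, mul_comm, map_mul, Module.End.mul_apply, hgS v hv, map_zero]
    simpa using h1
  have hSi : finrank F S = i := hSr.trans hgdeg
  -- invariant subspaces of dimension `i` are non-degenerate or totally isotropic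
  have hrad : ∀ S' : Submodule F V, Inv T S' → S' ≤ D → finrank F S' = i → (¬ ∀ u ∈ S', ∀ v ∈ S', polar Q u v = 0) →
      Nd Q S' := by
    intro S' hS' hS'D hS'i hnot x hx hx'
    by_contra hx0
    let f : V →ₗ[F] Module.Dual F S' := (LinearMap.lcomp F F S'.subtype).comp (polarBilin Q)
    let R : Submodule F V := S' ⊓ LinearMap.ker f
    have hmapS : ∀ u ∈ S', ∃ u' ∈ S', T u' = u := fun u hu => by
      refine ⟨(T ^ (r - 1)) u, pow_apply_mem hS' _ u hu, ?_⟩
      rw [← Module.End.mul_apply, ← pow_succ', Nat.sub_add_cancel hr.one_le, hT, Module.End.one_apply]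
    have hR : Inv T R := by
      rintro v ⟨hv, hv'⟩
      refine ⟨hS' v hv, LinearMap.ext fun w => ?_⟩
      obtain ⟨w', hw', hw''⟩ := hmapS w w.2
      show polar Q (T v) (w : V) = 0
      rw [← hw'', polar_map_eq hiso]
      exact LinearMap.congr_fun hv' ⟨w', hw'⟩
    have hxR : x ∈ R := ⟨hx, LinearMap.ext fun w => hx' w w.2⟩
    have hdR := (hh.disjoint_dims _ R rfl hR (hdis.mono_left (inf_le_left.trans hS'D))).1
    have hR0 : R ≠ ⊥ := fun h => hx0 ((Submodule.mem_bot F).1 (h ▸ hxR))
    have hRS : R = S' := Submodule.eq_of_le_of_finrank_le inf_le_left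
      (hS'i.le.trans (Nat.le_of_dvd (Submodule.one_le_finrank_iff.2 hR0) hdR))
    exact hnot fun u hu v hv => LinearMap.congr_fun (show u ∈ R from hRS.symm ▸ hu).2 ⟨v, hv⟩
  rcases Nat.even_or_odd i with hev | hodd
  · -- self-dual case
    obtain ⟨h, hh'⟩ := hev
    have hper : per i = i := if_pos ⟨h, hh'⟩
    have hqh : ((Fintype.card F : ZMod r)) ^ h = -1 := by
      have h1 : ((Fintype.card F : ZMod r) ^ h) ^ 2 = 1 := by
        rw [← pow_mul, show h * 2 = i by omega, ← hi, pow_orderOf_eq_one]
      rcases sq_eq_one_iff.1 h1 with h' | h'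
      · exfalso
        have := orderOf_dvd_of_pow_eq_one h'
        rw [hi] at this
        have := Nat.le_of_dvd (by omega) this
        omega
      · exact h'
    have hdvd : r ∣ Fintype.card F ^ h + 1 := by
      rw [← CharP.cast_eq_zero_iff (ZMod r) r]
      push_cast
      rw [hqh]; ring
    set Qn := Fintype.card F ^ h with hQn
    have hinvT : ∀ v, (T ^ Qn) (T v) = v := by
      intro v
      obtain ⟨k, hk⟩ := hdvd
      rw [← Module.End.mul_apply, ← pow_succ, hk, pow_mul, hT, one_pow, Module.End.one_apply]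
    have hadj : ∀ (P : F[X]) u v, polar Q (aeval T P u) v = polar Q u (aeval (T ^ Qn) P v) := by
      intro P u v
      induction P using Polynomial.induction_on generalizing u v with
      | C a => simp [polar_smul_left, polar_smul_right]
      | add P P' hP hP' =>
        simp only [map_add, LinearMap.add_apply, polar_add_left, polar_add_right, hP, hP']
      | monomial k a ih =>
        have hstep : ∀ u v, polar Q (T u) v = polar Q u ((T ^ Qn) v) := fun u v => by
          conv_lhs => rw [show v = T ((T ^ Qn) v) by rw [← Module.End.mul_apply, ← pow_succ', pow_succ, Module.End.mul_apply, hinvT]]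
          rw [polar_map_eq hiso]
        rw [pow_succ, ← mul_assoc]
        conv_rhs => rw [mul_comm (C a * X ^ k) X]
        rw [map_mul (aeval T) (C a * X ^ k) X, map_mul (aeval (T ^ Qn)) X, aeval_X, aeval_X, Module.End.mul_apply, Module.End.mul_apply, ih, hstep]
    have hexp : aeval (T ^ Qn) g = (aeval T g) ^ Qn := by
      have hs : ∀ j : ℕ, aeval (T ^ (Fintype.card F ^ j)) g = (aeval T g) ^ (Fintype.card F ^ j) := by
        intro j
        induction j with
        | zero => simp
        | succ j ih =>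
          have h1 : aeval ((T ^ (Fintype.card F ^ j)) ^ Fintype.card F) g =
              (aeval (T ^ (Fintype.card F ^ j)) g) ^ Fintype.card F := by
            rw [← map_pow, ← FiniteField.expand_card, Polynomial.expand_aeval]
          rw [pow_succ, pow_mul, h1, ih, ← pow_mul]
      exact hs h
    have hQn0 : 0 < Qn := pow_pos Fintype.card_pos _
    let Dg : Submodule F V := D ⊓ LinearMap.ker (aeval T g)
    have hDg : Inv T Dg := fun v hv => ⟨hD v hv.1, by
      show aeval T g (T v) = 0
      have : aeval T g * T = T * aeval T g := by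
        have := congrArg (aeval T) (mul_comm g X)
        rwa [map_mul, map_mul, aeval_X] at this
      rw [← Module.End.mul_apply, this, Module.End.mul_apply, LinearMap.mem_ker.1 hv.2, map_zero]⟩
    -- the kernel of `g` is orthogonal to its image
    have hDgn : Nd Q Dg := by
      intro x hx hx'
      let G : D →ₗ[F] D := (aeval T g).restrict (hD.aeval g)
      have hss := CfsgLib.LinFix.isSemisimple_of_pow_eq (c := (1 : F)) hrF one_ne_zero (T := T)
        (by rw [hT, one_smul])
      obtain ⟨B, hBD, hB, hBdis, hBsup⟩ := CfsgLib.LinFix.exists_inv_compl hss hDg hD inf_le_left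
      refine hDn x hx.1 fun y hy => ?_
      obtain ⟨a, ha, b, hb, rfl⟩ := Submodule.mem_sup.1 (hBsup.symm ▸ hy)
      rw [polar_add_right, hx' a ha, zero_add]
      -- `aeval T g` is injective, hence surjective, on the complement
      have hinj : Function.Injective ((aeval T g).restrict (hB.aeval g)) :=
        (injective_iff_map_eq_zero _).2 fun w hw => Subtype.ext ((Submodule.disjoint_def.1 hBdis) w
          ⟨hBD w.2, congrArg Subtype.val hw⟩ w.2)
      obtain ⟨b', hb'⟩ := LinearMap.injective_iff_surjective.1 hinj ⟨b, hb⟩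
      have hb'' : aeval T g (b' : V) = b := congrArg Subtype.val hb'
      rw [← hb'', polar_comm, hadj, hexp]
      obtain ⟨s, hs⟩ := Nat.exists_eq_succ_of_ne_zero hQn0.ne'
      rw [hs, pow_succ, Module.End.mul_apply, LinearMap.mem_ker.1 hx.2, map_zero, polar_zero_right]
    have hSDg : S ≤ Dg := fun v hv => ⟨hSD hv, hgS v hv⟩
    obtain ⟨v, hv, hvT⟩ : ∃ v ∈ Dg, polar Q v (T v) ≠ 0 := by
      by_contra hcon
      push Not at hcon
      obtain ⟨w, hw, hw0⟩ := Submodule.exists_mem_ne_zero_of_ne_bot hS0
      have hmapD : ∀ u ∈ Dg, ∃ u' ∈ Dg, T u' = u := fun u hu => by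
        refine ⟨(T ^ (r - 1)) u, pow_apply_mem hDg _ u hu, ?_⟩
        rw [← Module.End.mul_apply, ← pow_succ', Nat.sub_add_cancel hr.one_le, hT, Module.End.one_apply]
      have hTT : ∀ u ∈ Dg, T (T u) = -u := by
        intro u hu
        refine eq_neg_of_add_eq_zero_left (hDgn _ (add_mem (hDg _ (hDg u hu)) hu) fun y hy => ?_)
        obtain ⟨y', hy', rfl⟩ := hmapD y hy
        have h1 := hcon (u + y') (add_mem hu hy')
        rw [map_add, polar_add_left, polar_add_right, polar_add_right, hcon u hu, hcon y' hy', zero_add, add_zero] at h1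
        rw [polar_add_left, polar_map_eq hiso, polar_comm (⇑Q) (T u) y', add_comm]
        exact h1
      have hit : ∀ j : ℕ, (T ^ (2 * j)) w = ((-1 : F) ^ j) • w := by
        intro j
        induction j with
        | zero => simp
        | succ j ih =>
          rw [show 2 * (j + 1) = 2 + 2 * j by ring, pow_add, Module.End.mul_apply, ih, map_smul, pow_two,
            Module.End.mul_apply, hTT w (hSDg hw), smul_neg, pow_succ, mul_neg_one, neg_smul]
      have h1 := hit r
      rw [mul_comm 2 r, pow_mul, hT, one_pow, Module.End.one_apply, (hr.odd_of_ne_two hr2).neg_one_pow, neg_smul,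
        one_smul, eq_neg_iff_add_eq_zero, ← two_smul F, smul_eq_zero] at h1
      have h2F : (2 : F) = 0 := h1.resolve_right hw0
      have hneg : (-w : V) = w := by
        rw [neg_eq_iff_add_eq_zero, ← two_smul F, h2F, zero_smul]
      have h3 : T (T w) = w := (hTT w (hSDg hw)).trans hneg
      have h4 : ∀ j : ℕ, (T ^ (2 * j)) w = w := fun j => by
        induction j with
        | zero => simp
        | succ j ih =>
          rw [show 2 * (j + 1) = 2 + 2 * j by ring, pow_add, Module.End.mul_apply, ih, pow_two,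
            Module.End.mul_apply, h3]
      obtain ⟨j, hj⟩ := hr.odd_of_ne_two hr2
      have h5 : (T ^ (2 * j + 1)) w = w := by rw [← hj, hT, Module.End.one_apply]
      rw [add_comm, pow_add, pow_one, Module.End.mul_apply, h4] at h5
      exact hw0 ((Submodule.disjoint_def.1 hdis) w (hSD hw) (by simp [LinearMap.sub_apply, h5]))
    let L : F[X] →ₗ[F] V := (LinearMap.applyₗ v).comp (aeval T).toLinearMap
    let Z : Submodule F V := LinearMap.range L
    have hZD : Z ≤ D := by rintro _ ⟨P, rfl⟩; exact hD.aeval P v hv.1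
    have hZ : Inv T Z := by
      rintro _ ⟨P, rfl⟩
      exact ⟨X * P, by simp [L]⟩
    have hvZ : v ∈ Z := ⟨1, by simp [L]⟩
    have hZle : finrank F Z ≤ i := by
      have hker : (Ideal.span {g}).restrictScalars F ≤ LinearMap.ker L := by
        intro P hP
        rw [Submodule.restrictScalars_mem, Ideal.mem_span_singleton] at hP
        obtain ⟨w, rfl⟩ := hP
        show aeval T (g * w) v = 0
        rw [mul_comm, map_mul, Module.End.mul_apply, LinearMap.mem_ker.1 hv.2, map_zero]
      haveI : Module.Finite F (F[X] ⧸ (Ideal.span {g}).restrictScalars F) := by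
        haveI : Module.Finite F (F[X] ⧸ Ideal.span {g}) := (AdjoinRoot.powerBasis hg.ne_zero).finite
        exact Module.Finite.equiv (Submodule.Quotient.restrictScalarsEquiv F (Ideal.span {g})).symm
      have h1 := LinearMap.finrank_range_le (((Ideal.span {g}).restrictScalars F).liftQ L hker)
      rw [Submodule.range_liftQ] at h1
      refine h1.trans (le_of_eq ?_)
      exact ((Submodule.Quotient.restrictScalarsEquiv F (Ideal.span {g})).finrank_eq).trans
        ((finrank_quotient_span_eq_natDegree (f := g)).trans hgdeg)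
    have hv0 : v ≠ 0 := fun h => hvT (by rw [h, polar_zero_left])
    have hZi : finrank F Z = i := le_antisymm hZle (Nat.le_of_dvd
      (Submodule.one_le_finrank_iff.2 fun h => hv0 ((Submodule.mem_bot F).1 (h ▸ hvZ)))
      (hh.disjoint_dims _ Z rfl hZ (hdis.mono_left hZD)).1)
    exact ⟨Z, hZD, hZ, hrad Z hZ hZD hZi fun h => hvT (h v hvZ _ (hZ v hvZ)), by rw [hper]; exact hZi⟩
  · -- two dual totally isotropic pieces
    have hper : per i = 2 * i := if_neg (Nat.not_even_iff_odd.2 hodd)
    have hts : ∀ u ∈ S, ∀ v ∈ S, polar Q u v = 0 := by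
      by_contra h
      have := per_dvd hi hi0 hr2 hrF hiso hT hS (hrad S hS hSD hSi h) (hdis.mono_left hSD)
      rw [hper, hSi] at this
      have := Nat.le_of_dvd hi0 this
      omega
    let f : V →ₗ[F] Module.Dual F S := (LinearMap.lcomp F F S.subtype).comp (polarBilin Q)
    have hperp : Inv T (D ⊓ LinearMap.ker f) := by
      rintro v ⟨hv, hv'⟩
      refine ⟨hD v hv, LinearMap.ext fun w => ?_⟩
      have hw'' : T ((T ^ (r - 1)) (w : V)) = w := by
        rw [← Module.End.mul_apply, ← pow_succ', Nat.sub_add_cancel hr.one_le, hT, Module.End.one_apply]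
      show polar Q (T v) (w : V) = 0
      rw [← hw'', polar_map_eq hiso]
      exact LinearMap.congr_fun hv' ⟨_, pow_apply_mem hS _ _ w.2⟩
    obtain ⟨S', hS'D, hS', hS'dis, hS'sup⟩ := CfsgLib.LinFix.exists_inv_compl hh.semisimple hperp hD inf_le_left
    have hinj : Function.Injective (f.comp S'.subtype) := (injective_iff_map_eq_zero _).2 fun w hw =>
      Subtype.ext ((Submodule.disjoint_def.1 hS'dis) w ⟨hS'D w.2, hw⟩ w.2)
    have hS'le : finrank F S' ≤ i := by
      have := LinearMap.finrank_le_finrank_of_injective hinj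
      rwa [Subspace.dual_finrank_eq, hSi] at this
    have hpair : ∀ x ∈ S, (∀ y ∈ S', polar Q x y = 0) → x = 0 := by
      intro x hx h
      refine hDn x (hSD hx) fun y hy => ?_
      obtain ⟨a, ha, b, hb, rfl⟩ := Submodule.mem_sup.1 (hS'sup.symm ▸ hy)
      rw [polar_add_right, polar_comm (⇑Q) x a, show polar Q a x = 0 from LinearMap.congr_fun ha.2 ⟨x, hx⟩,
        h b hb, add_zero]
    have hsub : S ≤ D ⊓ LinearMap.ker f := fun x hx => ⟨hSD hx, LinearMap.ext fun w => hts x hx w w.2⟩
    have hdSS : Disjoint S S' := hS'dis.mono_left hsub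
    have hWn : Nd Q (S ⊔ S') := by
      intro x hx h
      obtain ⟨a, ha, b, hb, rfl⟩ := Submodule.mem_sup.1 hx
      have hb0 : b = 0 := (Submodule.disjoint_def.1 hS'dis) b ⟨hS'D hb, LinearMap.ext fun w => by
        have := h w (Submodule.mem_sup_left w.2)
        rw [polar_add_left, hts a ha w w.2, zero_add] at this
        exact this⟩ hb
      rw [hb0, add_zero] at h ⊢
      exact hpair a ha fun y hy => h y (Submodule.mem_sup_right hy)
    have hdvd := per_dvd hi hi0 hr2 hrF hiso hT (hS.sup hS') hWn (hdis.mono_left (sup_le hSD hS'D))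
    refine ⟨S ⊔ S', sup_le hSD hS'D, hS.sup hS', hWn, ?_⟩
    have hsum := CfsgLib.LinFix.finrank_sup_of_disjoint hdSS
    rw [hper] at hdvd ⊢
    have := Nat.le_of_dvd (by omega) hdvd
    omega

/-- Non-degenerate invariant subspaces of every dimension divisible by the period. -/
theorem exists_sub (j : ℕ) : ∀ {D : Submodule F V}, Inv T D → Nd Q D → Disjoint D (LinearMap.ker (T - 1)) →
    j * per i ≤ finrank F D → ∃ W ≤ D, Inv T W ∧ Nd Q W ∧ finrank F W = j * per i := by
  induction j with
  | zero =>
    intro D hD hDn hdis _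
    exact ⟨⊥, bot_le, CfsgLib.LinFix.inv_bot T, fun x hx _ => (Submodule.mem_bot F).1 hx, by simp⟩
  | succ j ih =>
    intro D hD hDn hdis hle
    have hp := per_pos hi0
    rw [Nat.succ_mul] at hle
    obtain ⟨W, hWD, hW, hWn, hWc⟩ := exists_per_sub hi hi0 hr2 hrF hiso hT hD hDn hdis
      (fun h => by rw [h, finrank_bot] at hle; omega)
    obtain ⟨D', hD'le, hD', hD'n, hdis', hsum, horth⟩ := exists_compl_in hiso hW hWn hD hDn hWD
    obtain ⟨W', hW'le, hW', hW'n, hW'c⟩ := ih hD' hD'n (hdis.mono_left hD'le) (by omega)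
    refine ⟨W ⊔ W', sup_le hWD (hW'le.trans hD'le), hW.sup hW', ?_, ?_⟩
    · intro x hx h
      obtain ⟨a, ha, b, hb, rfl⟩ := Submodule.mem_sup.1 hx
      have ha0 : a = 0 := hWn a ha fun y hy => by
        have := h y (Submodule.mem_sup_left hy)
        rwa [polar_add_left, polar_comm (⇑Q) b y, horth y hy b (hW'le hb), add_zero] at this
      rw [ha0, zero_add] at h ⊢
      exact hW'n b hb fun y hy => h y (Submodule.mem_sup_right hy)
    · rw [CfsgLib.LinFix.finrank_sup_of_disjoint (hdis'.mono_right hW'le), hWc, hW'c]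
      ring

end period

end CfsgLib.OrthInv
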