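import Mathlib
import Cfsg.Agent.Lib.LinFix.OrthInv
import Cfsg.Agent.Lib.OrthCrit.Forms
import Cfsg.Agent.Lib.Forms.Witt

/-!
# Existence of orthogonal transformations of odd prime order and counting of fixed subspaces
-/

set_option autoImplicit false

namespace CfsgLib.OrthInv

open Module QuadraticMap Polynomial
open CfsgLib.Classical.Quad (NDPolar)
open CfsgLib.RootCount (IsPlus)
open CfsgLib.LinFix (Inv)

variable {F : Type*} [Field F] [Fintype F] {r : ℕ} [Fact r.Prime] {i : ℕ}

/-- A block of minimal size: a fixed-point-free map of order `r` preserving a non-degenerate bilinear form. -/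
theorem exists_block {p : ℕ} [Fact p.Prime] [CharP F p] (hrp : r ≠ p) (hi : orderOf (Fintype.card F : ZMod r) = i) :
    ∃ (A : Module.End F (Fin (per i) → F)) (S : LinearMap.BilinForm F (Fin (per i) → F)),
      A ^ r = 1 ∧ (∀ x, A x = x → x = 0) ∧ (∀ x, (∀ y, S x y = 0) → x = 0) ∧ ∀ x y, S (A x) (A y) = S x y := by
  classical
  have hord := CfsgLib.LinFix.orderOf_pos_of_ne (F := F) (p := p) hrp
  rw [hi] at hord
  obtain ⟨g, hg, hgm, hgdvd, hg1⟩ := CfsgLib.LinFix.exists_irreducible_dvd_X_pow_sub_one (F := F) (r := r) hrp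
  have hdeg : g.natDegree = i :=
    (CfsgLib.LinFix.natDegree_eq_order (hi.symm ▸ hord) hg hgdvd hg1).trans hi
  haveI : Fact (Irreducible g) := ⟨hg⟩
  haveI : Module.Finite F (AdjoinRoot g) := (AdjoinRoot.powerBasis hg.ne_zero).finite
  haveI : Finite (AdjoinRoot g) := Module.finite_of_finite F
  let L := AdjoinRoot g
  let α : L := AdjoinRoot.root g
  have hL : finrank F L = i := hdeg ▸ finrank_quotient_span_eq_natDegree (f := g)
  have hroot : ∀ P : F[X], aeval α P = 0 ↔ g ∣ P := fun P => by
    rw [AdjoinRoot.aeval_eq, AdjoinRoot.mk_eq_zero]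
  have hαr : α ^ r = 1 := by
    have := (hroot _).2 hgdvd
    simpa [sub_eq_zero] using this
  have hα1 : α ≠ 1 := fun h => hg1 ((hroot _).1 (by simp [h]))
  have hα0 : α ≠ 0 := fun h0 => by rw [h0, zero_pow (Fact.out : r.Prime).ne_zero] at hαr; exact zero_ne_one hαr
  have hnd : ∀ a : L, (∀ b, Algebra.trace F L (a * b) = 0) → a = 0 := fun a h =>
    (traceForm_nondegenerate F L).1 a h
  have hfix : ∀ (β z : L), β ≠ 1 → β * z = z → z = 0 := fun β z hβ h => by
    have h1 : (β - 1) * z = 0 := by rw [sub_mul, one_mul, h, sub_self]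
    exact (mul_eq_zero.1 h1).resolve_left (sub_ne_zero.2 hβ)
  suffices key : ∃ (M : Type _) (_ : AddCommGroup M) (_ : Module F M) (_ : FiniteDimensional F M)
      (A : Module.End F M) (S : LinearMap.BilinForm F M), finrank F M = per i ∧ A ^ r = 1 ∧
      (∀ x, A x = x → x = 0) ∧ (∀ x, (∀ y, S x y = 0) → x = 0) ∧ ∀ x y, S (A x) (A y) = S x y by
    obtain ⟨M, iM, iM', iM'', A, S, hdim, hAr, hAf, hS, hAS⟩ := key
    let e : M ≃ₗ[F] (Fin (per i) → F) := LinearEquiv.ofFinrankEq M _ (by rw [hdim, Module.finrank_fin_fun])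
    refine ⟨e.conj A, S.compl₁₂ e.symm.toLinearMap e.symm.toLinearMap, ?_, ?_, ?_, ?_⟩
    · rw [show e.conj A = e.conjAlgEquiv F A from rfl, ← map_pow, hAr, map_one]
    · intro x hx
      have h := hAf (e.symm x) (e.injective (by simpa [LinearEquiv.conj_apply] using hx))
      simpa using congrArg e h
    · intro x hx
      have h := hS (e.symm x) fun y => by simpa using hx (e y)
      simpa using congrArg e h
    · intro x y
      simp [LinearEquiv.conj_apply, hAS]
  rcases Nat.even_or_odd i with ⟨h, hh⟩ | hodd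
  · -- one self-dual block
    let σ : L →ₐ[F] L := (FiniteField.frobeniusAlgHom F L) ^ h
    have hσ : ∀ (j : ℕ) (z : L), ((FiniteField.frobeniusAlgHom F L) ^ j) z = z ^ (Fintype.card F ^ j) := by
      intro j
      induction j with
      | zero => intro z; simp
      | succ j ih =>
        intro z
        rw [pow_succ', AlgHom.mul_apply, ih]
        simp [← pow_mul, pow_succ]
    have hαQ : α * σ α = 1 := by
      rw [show σ α = α ^ (Fintype.card F ^ h) from hσ h α, ← pow_succ']
      have hd : r ∣ Fintype.card F ^ h + 1 := by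
        rw [← CharP.cast_eq_zero_iff (ZMod r) r]
        push_cast
        have h1 : ((Fintype.card F : ZMod r) ^ h) ^ 2 = 1 := by
          rw [← pow_mul, show h * 2 = i by omega, ← hi, pow_orderOf_eq_one]
        rcases sq_eq_one_iff.1 h1 with h' | h'
        · exfalso
          have := orderOf_dvd_of_pow_eq_one h'
          rw [hi] at this
          have := Nat.le_of_dvd (by omega) this
          omega
        · rw [h']; ring
      obtain ⟨k, hk⟩ := hd
      rw [hk, pow_mul, hαr, one_pow]
    refine ⟨L, inferInstance, inferInstance, inferInstance, Algebra.lmul F L α,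
      (Algebra.traceForm F L).compl₁₂ LinearMap.id σ.toLinearMap, by rw [hL, per, if_pos ⟨h, hh⟩],
      by rw [← map_pow, hαr, map_one], fun z hz => hfix α z hα1 hz, fun a ha => hnd a fun b => ?_, fun a b => ?_⟩
    · obtain ⟨b', rfl⟩ := (Finite.injective_iff_surjective.1 σ.toRingHom.injective) b
      exact ha b'
    · change Algebra.trace F L ((α * a) * σ (α * b)) = Algebra.trace F L (a * σ b)
      rw [map_mul σ, mul_mul_mul_comm, hαQ, one_mul]
  · -- a dual pair of blocks
    have hαi : α⁻¹ ≠ 1 := fun h => hα1 (inv_eq_one.1 h)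
    let fs : L × L →ₗ[F] L := LinearMap.fst F L L
    let sn : L × L →ₗ[F] L := LinearMap.snd F L L
    refine ⟨L × L, inferInstance, inferInstance, inferInstance,
      LinearMap.prodMap (Algebra.lmul F L α) (Algebra.lmul F L α⁻¹),
      (Algebra.traceForm F L).compl₁₂ fs sn + (Algebra.traceForm F L).compl₁₂ sn fs, ?_, ?_, ?_, ?_, ?_⟩
    · rw [Module.finrank_prod, hL, per, if_neg (Nat.not_even_iff_odd.2 hodd), two_mul]
    · have hp : ∀ (j : ℕ) (z : L × L), ((LinearMap.prodMap (Algebra.lmul F L α) (Algebra.lmul F L α⁻¹)) ^ j) z =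
          (α ^ j * z.1, α⁻¹ ^ j * z.2) := by
        intro j
        induction j with
        | zero => intro z; simp
        | succ j ih =>
          intro z
          rw [pow_succ', Module.End.mul_apply, ih]
          simp [pow_succ', mul_assoc]
      exact LinearMap.ext fun z => by rw [hp, hαr, inv_pow, hαr, inv_one, one_mul, one_mul]; rfl
    · rintro ⟨a, b⟩ h
      simp only [LinearMap.prodMap_apply, Prod.mk.injEq] at h
      exact Prod.ext (hfix α a hα1 h.1) (hfix α⁻¹ b hαi h.2)
    · rintro ⟨a, b⟩ h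
      refine Prod.ext (hnd a fun c => ?_) (hnd b fun c => ?_)
      · simpa [fs, sn] using h (0, c)
      · simpa [fs, sn] using h (c, 0)
    · rintro ⟨a, b⟩ ⟨c, d⟩
      change Algebra.trace F L ((α * a) * (α⁻¹ * d)) + Algebra.trace F L ((α⁻¹ * b) * (α * c)) =
        Algebra.trace F L (a * d) + Algebra.trace F L (b * c)
      rw [mul_mul_mul_comm, mul_inv_cancel₀ hα0, one_mul, mul_mul_mul_comm α⁻¹, inv_mul_cancel₀ hα0, one_mul]

/-- An isometry of order `r` with prescribed number of blocks. -/
theorem exists_element {V : Type*} [AddCommGroup V] [Module F V] [FiniteDimensional F V]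
    {p : ℕ} [Fact p.Prime] [CharP F p] (hrp : r ≠ p) (hr2 : r ≠ 2) (hi : orderOf (Fintype.card F : ZMod r) = i)
    {Q : QuadraticForm F V} (hQ : NDPolar Q) {d N : ℕ} (hdim : finrank F V = 2 * d) (hN : N * per i ≤ 2 * d)
    (htype : N * per i = 2 * d → (IsPlus Q ↔ (Odd i ∨ Even (2 * d / i)))) :
    ∃ T : Module.End F V, (∀ v, Q (T v) = Q v) ∧ T ^ r = 1 ∧
      finrank F (LinearMap.ker (T - 1)) + N * per i = 2 * d := by
  classical
  obtain ⟨A, S, hAr, hAf, hS, hAS⟩ := exists_block (F := F) (p := p) hrp hi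
  have hord := CfsgLib.LinFix.orderOf_pos_of_ne (F := F) (p := p) hrp
  rw [hi] at hord
  have hrF : (r : F) ≠ 0 := CfsgLib.LinFix.natCast_ne_zero_of_ne (p := p) hrp
  haveI : NeZero (r : F) := ⟨hrF⟩
  set e := 2 * d - N * per i with he
  let U := (Fin N → Fin (per i) → F) × (Fin e → F)
  have hU : finrank F U = 2 * d := by
    simp [U, Module.finrank_pi_fintype]; omega
  let A' : Module.End F U := LinearMap.prodMap (LinearMap.pi fun k => A.comp (LinearMap.proj k)) LinearMap.id
  have hA'app : ∀ u : U, A' u = (fun k => A (u.1 k), u.2) := fun u => rfl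
  have hpw : ∀ (j : ℕ) (u : U), (A' ^ j) u = (fun k => (A ^ j) (u.1 k), u.2) := by
    intro j
    induction j with
    | zero => intro u; simp
    | succ j ih => intro u; rw [pow_succ', Module.End.mul_apply, ih, hA'app, pow_succ']; rfl
  have hA'r : A' ^ r = 1 := LinearMap.ext fun u => by rw [hpw, hAr]; rfl
  let AE : U ≃ₗ[F] U := LinearEquiv.ofInjectiveEndo A' (injective_of_pow (Fact.out : r.Prime).ne_zero hA'r)
  have hAE : ∀ u, AE u = A' u := fun u => rfl
  have hit : ∀ u, (⇑AE)^[r] u = u := fun u => by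
    have h : ∀ j, (⇑AE)^[j] u = (A' ^ j) u := fun j => by
      induction j with
      | zero => rfl
      | succ j ih => rw [Function.iterate_succ_apply', ih, hAE, pow_succ', Module.End.mul_apply]
    rw [h, hA'r, Module.End.one_apply]
  let pr : Fin N → U →ₗ[F] (Fin (per i) → F) := fun k => (LinearMap.proj k).comp (LinearMap.fst F _ _)
  let sn : U →ₗ[F] (Fin e → F) := LinearMap.snd F _ _
  let S' : LinearMap.BilinForm F U := (∑ k : Fin N, S.compl₁₂ (pr k) (pr k)) +
    (Matrix.toBilin' (1 : Matrix (Fin e) (Fin e) F)).compl₁₂ sn sn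
  have hS'v : ∀ u v : U, S' u v = (∑ k, S (u.1 k) (v.1 k)) + u.2 ⬝ᵥ v.2 := fun u v => by
    simp [S', pr, sn, LinearMap.sum_apply, Matrix.toBilin'_apply', LinearMap.fst_apply, LinearMap.snd_apply]
    rfl
  have hS'n : ∀ u, (∀ v, S' u v = 0) → u = 0 := by
    intro u hu
    refine Prod.ext (funext fun k => hS _ fun y => ?_) (funext fun l => ?_)
    · have h := hu (Pi.single k y, 0)
      rw [hS'v, dotProduct_zero, add_zero, Finset.sum_eq_single k (fun l _ hl => by simp [Pi.single_eq_of_ne hl])
        (by simp)] at h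
      simpa using h
    · have h := hu (0, Pi.single l 1)
      rw [hS'v] at h
      simpa using h
  obtain ⟨Q', hQ'n, hQ'A, hQ'p⟩ := CfsgLib.RootCount.exists_form_of_type AE hit
    ((Fact.out : r.Prime).odd_of_ne_two hr2) hrF S' hS'n
    (fun x y => by
      rw [hAE, hAE, hS'v, hS'v, hA'app, hA'app]
      simp [hAS]) hU (IsPlus Q) (fun hfix Q' hQ' hQA => by
      have he0 : e = 0 := by
        by_contra hne
        have h := hfix (0, Pi.single ⟨0, by omega⟩ 1) (by rw [hAE, hA'app]; exact Prod.ext (funext fun k => by simp) rfl)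
        have := congrFun (congrArg Prod.snd h) ⟨0, by omega⟩
        simp at this
      rw [htype (by omega)]
      have hdis : Disjoint (⊤ : Submodule F U) (LinearMap.ker (A' - 1)) := by
        rw [Submodule.disjoint_def]
        intro x _ hx
        exact hfix x (by rw [hAE]; exact sub_eq_zero.1 hx)
      have h := type_iff hi hord hr2 hrF (T := A') (Q := Q') hQA hA'r (CfsgLib.LinFix.inv_top A') (nd_top hQ') hdis
      rw [finrank_top, hU] at h
      rw [← h]
      exact ⟨fun hp => CfsgLib.RootCount.isPlus_congr Q' _ Submodule.topEquiv.symm (fun x => rfl) hp,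
        fun hp => CfsgLib.RootCount.isPlus_congr _ Q' Submodule.topEquiv (fun x => rfl) hp⟩)
  obtain ⟨f, hf⟩ := CfsgLib.RootCount.exists_isometry_even Q' Q hQ'n hQ hU hdim hQ'p
  refine ⟨f.conj A', fun v => ?_, ?_, ?_⟩
  · obtain ⟨u, rfl⟩ := f.surjective v
    simp only [LinearEquiv.conj_apply, LinearMap.comp_apply, LinearEquiv.coe_coe, LinearEquiv.symm_apply_apply, hf]
    exact hQ'A u
  · rw [show f.conj A' = f.conjAlgEquiv F A' from rfl, ← map_pow, hA'r, map_one]
  · have hker : LinearMap.ker (f.conj A' - 1) = (LinearMap.range (LinearMap.inr F (Fin N → Fin (per i) → F) (Fin e → F))).map f.toLinearMap := by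
      ext v
      obtain ⟨u, rfl⟩ := f.surjective v
      rw [LinearMap.mem_ker, LinearMap.sub_apply, Module.End.one_apply, sub_eq_zero, LinearEquiv.conj_apply,
        LinearMap.comp_apply, LinearMap.comp_apply, LinearEquiv.coe_coe, LinearEquiv.coe_coe,
        LinearEquiv.symm_apply_apply, f.injective.eq_iff, Submodule.mem_map_equiv, LinearEquiv.symm_apply_apply, hA'app]
      constructor
      · intro h
        exact ⟨u.2, Prod.ext (funext fun k => (hAf _ (congrFun (congrArg Prod.fst h) k)).symm) rfl⟩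
      · rintro ⟨w, rfl⟩
        exact Prod.ext (funext fun k => by simp) rfl
    rw [hker, LinearEquiv.finrank_map_eq, LinearMap.finrank_range_of_inj LinearMap.inr_injective, Module.finrank_fin_fun]
    omega

section odd

variable {V : Type*} [AddCommGroup V] [Module F V] [FiniteDimensional F V]

/-- Two subspaces carrying isometric forms. -/
def Iso (Q : QuadraticForm F V) (W W' : Submodule F V) : Prop :=
  ∃ e : W ≃ₗ[F] W', ∀ w : W, Q ((e w : W') : V) = Q (w : V)

omit [Fintype F] [FiniteDimensional F V] in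
theorem Iso.nd {Q : QuadraticForm F V} {W W' : Submodule F V} (h : Iso Q W W') (hW : Nd Q W') : Nd Q W := by
  obtain ⟨e, he⟩ := h
  intro x hx hx'
  have h0 : e ⟨x, hx⟩ = 0 := Subtype.ext (hW _ (e ⟨x, hx⟩).2 fun y hy => by
    obtain ⟨w, hw⟩ := e.surjective ⟨y, hy⟩
    have h1 := hx' w w.2
    have hp : polar Q ((e ⟨x, hx⟩ : W') : V) ((e w : W') : V) = polar Q x (w : V) := by
      simp only [polar, ← Submodule.coe_add, ← map_add, he]
      rfl
    rw [hw] at hp
    exact hp.trans h1)
  exact congrArg Subtype.val (e.map_eq_zero_iff.1 h0)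

/-- Every class of odd-dimensional subspaces occurs inside a larger even-dimensional one. -/
theorem exists_iso_sub (h2 : (2 : F) ≠ 0) {Q : QuadraticForm F V} {C W₀ : Submodule F V} (hC : Nd Q C)
    (hW₀ : Nd Q W₀) {h k : ℕ} (hCdim : finrank F C = 2 * h) (hWdim : finrank F W₀ = 2 * k + 1) (hk : k < h) :
    ∃ W ≤ C, finrank F W = 2 * k + 1 ∧ Nd Q W ∧ Iso Q W W₀ := by
  classical
  obtain ⟨dd, hd0, E, hE⟩ := CfsgLib.RootCount.classify_odd h2 (Q.comp W₀.subtype) (ndPolar_comp hW₀) hWdim
  obtain ⟨a, c, hac⟩ := CfsgLib.RootCount.exists_aniso (F := F)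
  suffices key : ∃ J : (Unit ⊕ (Fin k ⊕ Fin k) → F) →ₗ[F] V,
      (∀ v, J v ∈ C ∧ Q (J v) = dd * CfsgLib.OrthCrit.oddForm k F v) by
    obtain ⟨J, hJ⟩ := key
    have hinj : Function.Injective J := (injective_iff_map_eq_zero _).2 fun v hv => by
      refine CfsgLib.OrthCrit.ndPolar_oddForm h2 k v fun y => ?_
      have h1 : polar Q (J v) (J y) = 0 := by rw [hv, polar_zero_left]
      have h2' : polar Q (J v) (J y) = dd * polar (CfsgLib.OrthCrit.oddForm k F) v y := by
        simp only [polar, ← map_add, (hJ _).2]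
        ring
      exact (mul_eq_zero.1 (h2'.symm.trans h1)).resolve_left hd0
    let e' : LinearMap.range J ≃ₗ[F] W₀ := (LinearEquiv.ofInjective J hinj).symm.trans E
    have hiso : Iso Q (LinearMap.range J) W₀ := by
      refine ⟨e', fun w => ?_⟩
      obtain ⟨v, hv⟩ := (LinearEquiv.ofInjective J hinj).surjective w
      subst hv
      have h1 := hE v
      simp only [e', LinearEquiv.trans_apply, LinearEquiv.symm_apply_apply, LinearEquiv.ofInjective_apply,
        (hJ v).2]
      exact h1
    refine ⟨LinearMap.range J, by rintro _ ⟨v, rfl⟩; exact (hJ v).1, ?_, hiso.nd hW₀, hiso⟩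
    rw [LinearMap.finrank_range_of_inj hinj, Module.finrank_fintype_fun_eq_card]
    simp; ring
  obtain ⟨h', rfl⟩ : ∃ h', h = k + 1 + h' := ⟨h - (k + 1), by omega⟩
  rcases CfsgLib.RootCount.classify_even (Q.comp C.subtype) (ndPolar_comp hC) hCdim hac with
    ⟨-, G, hG⟩ | ⟨-, k', hk', G, hG⟩
  · let z : Fin (k + 1 + h') := ⟨k, by omega⟩
    let emb : Fin k → Fin (k + 1 + h') := fun j => ⟨j, by omega⟩
    have hemb : ∀ j, emb j ≠ z := fun j hj => by have := congrArg Fin.val hj; simp [emb, z] at this; omega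
    have hinje : Function.Injective emb := fun a b hab => Fin.ext (congrArg Fin.val hab :)
    let J₀ : (Unit ⊕ (Fin k ⊕ Fin k) → F) →ₗ[F] (Fin (k + 1 + h') ⊕ Fin (k + 1 + h') → F) :=
      (Pi.single (Sum.inl z) (1 : F) : _ → F) |> fun u => (LinearMap.proj (Sum.inl ())).smulRight u +
        (LinearMap.proj (R := F) (φ := fun _ : Unit ⊕ (Fin k ⊕ Fin k) => F) (Sum.inl ())).smulRight (Pi.single (Sum.inr z) dd) +
        ∑ j : Fin k, (LinearMap.proj (Sum.inr (Sum.inl j))).smulRight (Pi.single (Sum.inl (emb j)) dd) +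
        ∑ j : Fin k, (LinearMap.proj (Sum.inr (Sum.inr j))).smulRight (Pi.single (Sum.inr (emb j)) 1)
    refine ⟨C.subtype.comp (G.toLinearMap.comp J₀), fun v => ⟨Submodule.coe_mem _, ?_⟩⟩
    have hx : ∀ l, J₀ v (Sum.inl l) = (if l = z then v (Sum.inl ()) else 0) +
        ∑ j, if l = emb j then dd * v (Sum.inr (Sum.inl j)) else 0 := fun l => by
      simp [J₀, Pi.single_apply, Finset.sum_apply, mul_comm]
    have hy : ∀ l, J₀ v (Sum.inr l) = (if l = z then dd * v (Sum.inl ()) else 0) +
        ∑ j, if l = emb j then v (Sum.inr (Sum.inr j)) else 0 := fun l => by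
      simp [J₀, Pi.single_apply, Finset.sum_apply, mul_comm]
    change (Q.comp C.subtype) (G (J₀ v)) = _
    rw [hG]
    change Cfsg.quadFormPlus _ F (J₀ v) = dd * Cfsg.quadFormOdd k F v
    simp only [Cfsg.quadFormPlus, Cfsg.quadFormOdd]
    have hterm : ∀ l, J₀ v (Sum.inl l) * J₀ v (Sum.inr l) = (if l = z then dd * v (Sum.inl ()) ^ 2 else 0) +
        ∑ j, if l = emb j then dd * (v (Sum.inr (Sum.inl j)) * v (Sum.inr (Sum.inr j))) else 0 := by
      intro l
      rw [hx, hy]
      by_cases hl : l = z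
      · subst hl
        have hz : ∀ j, z ≠ emb j := fun j => (hemb j).symm
        simp [hz]; ring
      · simp only [if_neg hl, zero_add]
        by_cases hl' : ∃ j, l = emb j
        · obtain ⟨j, rfl⟩ := hl'
          simp [hinje.eq_iff]; ring
        · push Not at hl'
          simp [hl']
    rw [Finset.sum_congr rfl fun l _ => hterm l, Finset.sum_add_distrib, Finset.sum_ite_eq', Finset.sum_comm]
    simp only [Finset.mem_univ, if_true, Finset.sum_ite_eq', mul_add, Finset.mul_sum]
  · obtain rfl : k' = k + h' := by omega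
    let emb : Fin k → Fin (k + h') := fun j => ⟨j, by omega⟩
    have hinje : Function.Injective emb := fun a b hab => Fin.ext (congrArg Fin.val hab :)
    obtain ⟨u, hu⟩ := CfsgLib.Classical.Quad.exists_binForm_eq (a := a) (b := c) hac dd
    let J₀ : (Unit ⊕ (Fin k ⊕ Fin k) → F) →ₗ[F] ((Fin (k + h') ⊕ Fin (k + h')) ⊕ Fin 2 → F) :=
      (LinearMap.proj (Sum.inl ())).smulRight (Pi.single (Sum.inr 0) (u 0)) +
        (LinearMap.proj (Sum.inl ())).smulRight (Pi.single (Sum.inr 1) (u 1)) +
        ∑ j : Fin k, (LinearMap.proj (Sum.inr (Sum.inl j))).smulRight (Pi.single (Sum.inl (Sum.inl (emb j))) dd) +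
        ∑ j : Fin k, (LinearMap.proj (Sum.inr (Sum.inr j))).smulRight (Pi.single (Sum.inl (Sum.inr (emb j))) 1)
    refine ⟨C.subtype.comp (G.toLinearMap.comp J₀), fun v => ⟨Submodule.coe_mem _, ?_⟩⟩
    have hx : ∀ l, J₀ v (Sum.inl (Sum.inl l)) = ∑ j, if l = emb j then dd * v (Sum.inr (Sum.inl j)) else 0 := fun l => by
      simp [J₀, Pi.single_apply, Finset.sum_apply, mul_comm]
    have hy : ∀ l, J₀ v (Sum.inl (Sum.inr l)) = ∑ j, if l = emb j then v (Sum.inr (Sum.inr j)) else 0 := fun l => by
      simp [J₀, Pi.single_apply, Finset.sum_apply, mul_comm]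
    have hz0 : J₀ v (Sum.inr 0) = u 0 * v (Sum.inl ()) := by simp [J₀, Pi.single_apply, Finset.sum_apply, mul_comm]
    have hz1 : J₀ v (Sum.inr 1) = u 1 * v (Sum.inl ()) := by simp [J₀, Pi.single_apply, Finset.sum_apply, mul_comm]
    change (Q.comp C.subtype) (G (J₀ v)) = _
    rw [hG]
    change Cfsg.quadFormMinus _ F a c (J₀ v) = dd * Cfsg.quadFormOdd k F v
    simp only [Cfsg.quadFormMinus, Cfsg.quadFormOdd]
    have hterm : ∀ l, J₀ v (Sum.inl (Sum.inl l)) * J₀ v (Sum.inl (Sum.inr l)) =
        ∑ j, if l = emb j then dd * (v (Sum.inr (Sum.inl j)) * v (Sum.inr (Sum.inr j))) else 0 := by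
      intro l
      rw [hx, hy]
      by_cases hl' : ∃ j, l = emb j
      · obtain ⟨j, rfl⟩ := hl'
        simp [hinje.eq_iff]; ring
      · push Not at hl'
        simp [hl']
    rw [hz0, hz1, Finset.sum_congr rfl fun l _ => hterm l, Finset.sum_comm]
    simp only [Finset.mem_univ, if_true, Finset.sum_ite_eq', mul_add, Finset.mul_sum]
    have hu' : u 0 ^ 2 + a * u 0 * u 1 + c * u 1 ^ 2 = dd := by
      rw [← hu, CfsgLib.Classical.Quad.binForm_apply]
    linear_combination (v (Sum.inl ()) ^ 2) * hu'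

/-- A space too small for elements of order `r` has a number of isometric subspaces prime to `r`. -/
theorem not_dvd_card_iso {p : ℕ} [Fact p.Prime] [CharP F p] (hrp : r ≠ p) (hr2 : r ≠ 2)
    (hi : orderOf (Fintype.card F : ZMod r) = i) {Q : QuadraticForm F V} {C W₀ : Submodule F V} (hC : Nd Q C)
    (hsmall : finrank F C < per i) (hex : ∃ W ≤ C, Iso Q W W₀) :
    ¬ r ∣ Nat.card {W : Submodule F V // W ≤ C ∧ Iso Q W W₀} := by
  classical
  obtain ⟨W₁, hW₁C, e₁, he₁⟩ := hex
  have hord := CfsgLib.LinFix.orderOf_pos_of_ne (F := F) (p := p) hrp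
  rw [hi] at hord
  have hrF : (r : F) ≠ 0 := CfsgLib.LinFix.natCast_ne_zero_of_ne (p := p) hrp
  set QC := Q.comp C.subtype with hQC
  haveI : Finite C := Module.finite_of_finite F
  haveI : Finite (C ≃ₗ[F] C) := Finite.of_injective (fun g => (g : C → C)) DFunLike.coe_injective
  let G := CfsgLib.Classical.Quad.Orth QC
  let f : G → {W : Submodule F V // W ≤ C ∧ Iso Q W W₀} := fun g =>
    ⟨((W₁.comap C.subtype).map (g.1 : C →ₗ[F] C)).map C.subtype, by
      refine ⟨Submodule.map_subtype_le _ _, ?_⟩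
      let E : W₁ ≃ₗ[F] ↥(((W₁.comap C.subtype).map (g.1 : C →ₗ[F] C)).map C.subtype) :=
        (Submodule.comapSubtypeEquivOfLe hW₁C).symm.trans
          ((Submodule.equivMapOfInjective (g.1 : C →ₗ[F] C) g.1.injective _).trans
            (Submodule.equivMapOfInjective C.subtype C.subtype_injective _))
      refine ⟨E.symm.trans e₁, fun w => ?_⟩
      obtain ⟨u, rfl⟩ := E.surjective w
      rw [LinearEquiv.trans_apply, LinearEquiv.symm_apply_apply, he₁]
      exact (g.2 ⟨(u : V), hW₁C u.2⟩).symm⟩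
  have hsurj : Function.Surjective f := by
    rintro ⟨W, hWC, e, he⟩
    let φ : W₁ ≃ₗ[F] W := e₁.trans e.symm
    have hφ : ∀ u : W₁, Q ((φ u : W) : V) = Q (u : V) := fun u => by
      rw [← he (φ u), LinearEquiv.trans_apply, LinearEquiv.apply_symm_apply, he₁]
    let X : Submodule F C := W₁.comap C.subtype
    let f₀ : X →ₗ[F] C := (Submodule.inclusion hWC).comp (φ.toLinearMap.comp (Submodule.comapSubtypeEquivOfLe hW₁C).toLinearMap)
    obtain ⟨fe, hfe⟩ := LinearMap.exists_extend f₀
    have hfe' : ∀ x (hx : x ∈ X), fe x = f₀ ⟨x, hx⟩ := fun x hx => LinearMap.congr_fun hfe ⟨x, hx⟩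
    obtain ⟨g, hg, hgX⟩ := CfsgLib.Forms.witt_quadratic QC (CfsgLib.Orth.ndPolar_iff.1 (ndPolar_comp hC)) X fe
      (fun x hx => by
        rw [hfe' x hx]
        exact hφ _)
      (fun x hx h => by
        rw [hfe' x hx] at h
        have h1 : φ (Submodule.comapSubtypeEquivOfLe hW₁C ⟨x, hx⟩) = 0 :=
          Subtype.ext (congrArg Subtype.val h :)
        have h2 := (Submodule.comapSubtypeEquivOfLe hW₁C).map_eq_zero_iff.1 (φ.map_eq_zero_iff.1 h1)
        exact congrArg Subtype.val h2)
    refine ⟨⟨g, hg⟩, Subtype.ext (le_antisymm ?_ ?_)⟩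
    · rintro _ ⟨_, ⟨x, hx, rfl⟩, rfl⟩
      change ((g x : C) : V) ∈ W
      rw [hgX x hx, hfe' x hx]
      exact Submodule.coe_mem _
    · intro w hw
      obtain ⟨u, hu⟩ := φ.surjective ⟨w, hw⟩
      refine ⟨g ⟨u, hW₁C u.2⟩, ⟨⟨u, hW₁C u.2⟩, u.2, rfl⟩, ?_⟩
      change ((g ⟨u, hW₁C u.2⟩ : C) : V) = w
      rw [hgX _ u.2, hfe' _ u.2]
      exact congrArg Subtype.val hu
  intro hdvd
  -- the fibres are translates of the stabiliser
  have hfib : ∀ g : G, Nat.card {a : G // f a = f g} = Nat.card {a : G // f a = f 1} := by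
    intro g
    have hact : ∀ a b : G, f a = f b → ∀ c : G, f (c * a) = f (c * b) := by
      intro a b hab c
      have h1 : (W₁.comap C.subtype).map (a.1 : C →ₗ[F] C) = (W₁.comap C.subtype).map (b.1 : C →ₗ[F] C) :=
        Submodule.map_injective_of_injective C.subtype_injective (congrArg Subtype.val hab)
      apply Subtype.ext
      change ((W₁.comap C.subtype).map ((c.1 : C →ₗ[F] C).comp (a.1 : C →ₗ[F] C))).map C.subtype =
        ((W₁.comap C.subtype).map ((c.1 : C →ₗ[F] C).comp (b.1 : C →ₗ[F] C))).map C.subtype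
      rw [Submodule.map_comp _ (c.1 : C →ₗ[F] C), Submodule.map_comp _ (c.1 : C →ₗ[F] C), h1]
    refine Nat.card_congr ⟨fun a => ⟨g⁻¹ * a.1, ?_⟩, fun a => ⟨g * a.1, ?_⟩, fun a => ?_, fun a => ?_⟩
    · simpa using hact _ _ a.2 g⁻¹
    · simpa using hact _ _ a.2 g
    · simp
    · simp
  have hcard : Nat.card G = Nat.card {W : Submodule F V // W ≤ C ∧ Iso Q W W₀} * Nat.card {a : G // f a = f 1} := by
    haveI : Finite V := Module.finite_of_finite F
    haveI : Finite (Submodule F V) := Finite.of_injective _ SetLike.coe_injective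
    haveI := Fintype.ofFinite {W : Submodule F V // W ≤ C ∧ Iso Q W W₀}
    rw [← Nat.card_congr (Equiv.sigmaFiberEquiv f), Nat.card_sigma]
    have hconst : ∀ W, Nat.card {a : G // f a = W} = Nat.card {a : G // f a = f 1} := fun W => by
      obtain ⟨g, rfl⟩ := hsurj W
      exact hfib g
    rw [Finset.sum_congr rfl fun W _ => hconst W, Finset.sum_const,
      Finset.card_univ, smul_eq_mul, Nat.card_eq_fintype_card (α := {W : Submodule F V // W ≤ C ∧ Iso Q W W₀})]
  haveI : Finite G := Subtype.finite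
  obtain ⟨g, hg⟩ := exists_prime_orderOf_dvd_card' (G := G) r (hdvd.trans (hcard ▸ dvd_mul_right _ _))
  let T : Module.End F C := (g.1 : C →ₗ[F] C)
  have hTr : T ^ r = 1 := by
    have h : ∀ j : ℕ, T ^ j = (((g ^ j : G)).1 : C →ₗ[F] C) := by
      intro j
      induction j with
      | zero => rfl
      | succ j ih => rw [pow_succ, ih, pow_succ]; rfl
    rw [h, ← hg, pow_orderOf_eq_one]; rfl
  have hTiso : ∀ v, QC (T v) = QC v := g.2
  set D := LinearMap.range (T - 1)
  have hDn : Nd QC D := by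
    simpa using (nd_parts hrF hTr hTiso (CfsgLib.LinFix.inv_top T) (nd_top (ndPolar_comp hC))).2
  have hdvd' := per_dvd hi hord hr2 hrF hTiso hTr (inv_range T) hDn (disjoint_fix_range hrF hTr).symm
  have hD0 : D = ⊥ := by
    by_contra h
    have h1 := Nat.le_of_dvd (Submodule.one_le_finrank_iff.2 h) hdvd'
    have := Submodule.finrank_le D
    omega
  have hg1 : g = 1 := by
    apply CfsgLib.Classical.Quad.orth_ext
    intro x
    exact sub_eq_zero.1 ((Submodule.mem_bot F).1 (hD0 ▸ LinearMap.mem_range_self (T - 1) x))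
  rw [hg1, orderOf_one] at hg
  exact (Fact.out : r.Prime).ne_one hg.symm

omit [Fintype F] [Fact r.Prime] in
/-- The number of subspaces with an invariant property is congruent to the number of fixed ones. -/
theorem card_modEq_fixed [Fintype F] [Fact r.Prime] {T : Module.End F V} (hT : T ^ r = 1) (P : Submodule F V → Prop)
    (hP : ∀ W, P W → P (W.map T)) :
    Nat.card {W : Submodule F V // P W} ≡ Nat.card {W : Submodule F V // P W ∧ W.map T = W} [MOD r] := by
  classical
  haveI : Finite V := Module.finite_of_finite F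
  haveI : Finite (Submodule F V) := Finite.of_injective _ SetLike.coe_injective
  haveI := Fintype.ofFinite {W : Submodule F V // P W}
  let S : Function.End {W : Submodule F V // P W} := fun W => ⟨W.1.map T, hP W.1 W.2⟩
  have hS : ∀ (j : ℕ) W, ((S^[j]) W).1 = W.1.map (T ^ j) := by
    intro j
    induction j with
    | zero => intro W; rw [Function.iterate_zero_apply, pow_zero, Module.End.one_eq_id, Submodule.map_id]
    | succ j ih =>
      intro W
      rw [Function.iterate_succ_apply', pow_succ', Module.End.mul_eq_comp, Submodule.map_comp, ← ih]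
  have hco : ∀ (j : ℕ), (S ^ j : Function.End {W : Submodule F V // P W}) = S^[j] := fun j => by
    induction j with
    | zero => rfl
    | succ j ih => rw [pow_succ, ih]; rfl
  have hSr : S ^ r ^ 1 = 1 := funext fun W => Subtype.ext (by
    rw [pow_one, hco, hS, hT, Module.End.one_eq_id, Submodule.map_id]; rfl)
  have h := Equiv.Perm.card_fixedPoints_modEq (p := r) (n := 1) hSr
  rw [Nat.card_eq_fintype_card]
  refine h.trans (congrArg (fun x => x % r) ?_)
  rw [← Nat.card_eq_fintype_card]
  exact Nat.card_congr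
    { toFun := fun W => ⟨W.1.1, W.1.2, congrArg Subtype.val W.2⟩
      invFun := fun W => ⟨⟨W.1, W.2.1⟩, Subtype.ext W.2.2⟩
      left_inv := fun W => rfl
      right_inv := fun W => rfl }

end odd

end CfsgLib.OrthInv
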