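import Mathlib
import Cfsg.Prelude.Def_GeometricClasses
import Cfsg.Agent.Lib.LinFix.OrthInvModel
import Cfsg.Agent.Lib.PrimeFix.Quad

/-!
# Even-dimensional non-degenerate subspaces of prescribed type
-/

set_option autoImplicit false

namespace CfsgLib.OrthInv

open Module QuadraticMap
open CfsgLib.Classical.Quad (NDPolar)
open CfsgLib.RootCount (IsPlus)
open CfsgLib.LinFix (Inv)

variable {F : Type*} [Field F] {V : Type*} [AddCommGroup V] [Module F V] [FiniteDimensional F V]
  {Q : QuadraticForm F V}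

/-- `W` contains a totally singular subspace of half its dimension. -/
def PlusOn (Q : QuadraticForm F V) (W : Submodule F V) : Prop :=
  ∃ U ≤ W, (∀ x ∈ U, Q x = 0) ∧ 2 * finrank F U = finrank F W

theorem plusOn_iff (W : Submodule F V) : PlusOn Q W ↔ IsPlus (Q.comp W.subtype) := by
  constructor
  · rintro ⟨U, hUW, hU, hd⟩
    exact ⟨U.comap W.subtype, fun x hx => hU _ hx, by
      rw [(Submodule.comapSubtypeEquivOfLe hUW).finrank_eq, hd]⟩
  · rintro ⟨U, hU, hd⟩
    refine ⟨U.map W.subtype, Submodule.map_subtype_le _ _, ?_, by rw [Submodule.finrank_map_subtype_eq, hd]⟩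
    rintro _ ⟨x, hx, rfl⟩
    exact hU x hx

theorem plusOn_top : PlusOn Q ⊤ ↔ IsPlus Q := by
  constructor
  · rintro ⟨U, -, hU, hd⟩
    exact ⟨U, hU, by rw [hd, finrank_top]⟩
  · rintro ⟨U, hU, hd⟩
    exact ⟨U, le_top, hU, by rw [hd, finrank_top]⟩

theorem plusOn_bot : PlusOn Q ⊥ :=
  ⟨⊥, le_rfl, fun x hx => by simp [(Submodule.mem_bot F).1 hx], by simp⟩

theorem geo_iff {ι : Type} [Fintype ι] [DecidableEq ι] {Q : QuadraticForm F (ι → F)} (W : Submodule F (ι → F)) :
    Cfsg.Geo.IsPlusTypeOn (⇑Q) W ↔ PlusOn Q W := Iff.rfl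

omit [FiniteDimensional F V] in
theorem nd_sup {A B : Submodule F V} (hA : Nd Q A) (hB : Nd Q B)
    (ho : ∀ a ∈ A, ∀ b ∈ B, polar Q a b = 0) : Nd Q (A ⊔ B) := by
  intro x hx h
  obtain ⟨a, ha, b, hb, rfl⟩ := Submodule.mem_sup.1 hx
  have ha0 : a = 0 := hA a ha fun y hy => by
    have h1 := h y (Submodule.mem_sup_left hy)
    rwa [polar_add_left, polar_comm (⇑Q) b y, ho y hy b hb, add_zero] at h1
  have hb0 : b = 0 := hB b hb fun y hy => by
    have h1 := h y (Submodule.mem_sup_right hy)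
    rwa [polar_add_left, ho a ha y hy, zero_add] at h1
  rw [ha0, hb0, add_zero]

theorem disjoint_of_nd {A B : Submodule F V} (hA : Nd Q A) (ho : ∀ a ∈ A, ∀ b ∈ B, polar Q a b = 0) :
    Disjoint A B := Submodule.disjoint_def.2 fun x hxA hxB => hA x hxA fun y hy => by
  rw [polar_comm]; exact ho y hy x hxB

variable [Fintype F]

/-- The type of an orthogonal sum. -/
theorem plusOn_sup {A B : Submodule F V} (hA : Nd Q A) (hB : Nd Q B)
    (ho : ∀ a ∈ A, ∀ b ∈ B, polar Q a b = 0) (heA : Even (finrank F A)) (heB : Even (finrank F B)) :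
    PlusOn Q (A ⊔ B) ↔ (PlusOn Q A ↔ PlusOn Q B) := by
  have hd := disjoint_of_nd hA ho
  set W := A ⊔ B with hW
  have hAW : A ≤ W := le_sup_left
  have hBW : B ≤ W := le_sup_right
  have hnd := ndPolar_comp (nd_sup hA hB ho)
  have key : ∀ X : Submodule F V, X ≤ W →
      (PlusOn Q X ↔ IsPlus ((Q.comp W.subtype).comp (X.comap W.subtype).subtype)) := fun X hX => by
    rw [plusOn_iff]
    exact ⟨CfsgLib.RootCount.isPlus_congr (Q.comp X.subtype) _ (Submodule.comapSubtypeEquivOfLe hX).symm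
      fun x => rfl, CfsgLib.RootCount.isPlus_congr _ (Q.comp X.subtype) (Submodule.comapSubtypeEquivOfLe hX)
      fun x => rfl⟩
  rw [plusOn_iff W, key A hAW, key B hBW]
  refine CfsgLib.PrimeFix.Quad.isPlus_iff_of_decomp hnd ?_ ?_ (fun c hc d hd' => ?_) ?_ ?_
  · refine Submodule.eq_top_iff'.2 fun x => ?_
    obtain ⟨a, ha, b, hb, hab⟩ := Submodule.mem_sup.1 (x.2 : (x : V) ∈ A ⊔ B)
    exact Submodule.mem_sup.2 ⟨⟨a, hAW ha⟩, ha, ⟨b, hBW hb⟩, hb, Subtype.ext hab⟩
  · exact eq_bot_iff.2 fun x hx => (Submodule.mem_bot F).2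
      (Subtype.ext ((Submodule.disjoint_def.1 hd) _ hx.1 hx.2))
  · simpa [polar] using ho _ hc _ hd'
  · rwa [(Submodule.comapSubtypeEquivOfLe hAW).finrank_eq]
  · rwa [(Submodule.comapSubtypeEquivOfLe hBW).finrank_eq]

/-- The part orthogonal to a non-degenerate subspace inside a non-degenerate subspace. -/
theorem exists_perp {A C : Submodule F V} (hA : Nd Q A) (hC : Nd Q C) (hle : A ≤ C) :
    ∃ B ≤ C, Nd Q B ∧ A ⊔ B = C ∧ finrank F A + finrank F B = finrank F C ∧
      ∀ a ∈ A, ∀ b ∈ B, polar Q a b = 0 := by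
  obtain ⟨B, hBC, -, hBn, hd, hs, ho⟩ := exists_compl_in (T := (1 : Module.End F V)) (fun v => rfl)
    (fun v hv => hv) hA (fun v hv => hv) hC hle
  exact ⟨B, hBC, hBn, Submodule.eq_of_le_of_finrank_eq (sup_le hle hBC)
    (by rw [CfsgLib.LinFix.finrank_sup_of_disjoint hd, hs]), hs, ho⟩

/-- Isometric images of standard spaces. -/
theorem of_embedding {κ : Type*} [Fintype κ] {S : QuadraticForm F (κ → F)} (hS : NDPolar S) {C : Submodule F V}
    (J : (κ → F) →ₗ[F] V) (hJC : ∀ v, J v ∈ C) (hJQ : ∀ v, Q (J v) = S v) :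
    ∃ W ≤ C, finrank F W = Fintype.card κ ∧ Nd Q W ∧ (PlusOn Q W ↔ IsPlus S) := by
  have hinj : Function.Injective J := (injective_iff_map_eq_zero _).2 fun v hv => hS v fun y => by
    have h : polar Q (J v) (J y) = 0 := by rw [hv, polar_zero_left]
    rw [← h]
    simp only [polar, ← map_add, hJQ]
  let E := LinearEquiv.ofInjective J hinj
  refine ⟨LinearMap.range J, by rintro _ ⟨v, rfl⟩; exact hJC v, ?_, ?_, ?_⟩
  · rw [LinearMap.finrank_range_of_inj hinj, Module.finrank_fintype_fun_eq_card]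
  · rintro _ ⟨v, rfl⟩ h
    rw [hS v fun y => ?_, map_zero]
    have := h _ ⟨y, rfl⟩
    rw [← this]
    simp only [polar, ← map_add, hJQ]
  · rw [plusOn_iff]
    exact ⟨CfsgLib.RootCount.isPlus_congr _ S E.symm (fun x => by
        obtain ⟨v, rfl⟩ := E.surjective x
        rw [LinearEquiv.symm_apply_apply]
        exact (hJQ v).symm),
      CfsgLib.RootCount.isPlus_congr S _ E (fun v => hJQ v)⟩

omit [FiniteDimensional F V] in
theorem isPlus_plusForm (a : ℕ) : IsPlus (CfsgLib.OrthCrit.plusForm a F) := by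
  refine ⟨LinearMap.range ((LinearEquiv.sumArrowLequivProdArrow (Fin a) (Fin a) F F).symm.toLinearMap ∘ₗ
    LinearMap.inl F (Fin a → F) (Fin a → F)), ?_, ?_⟩
  · rintro _ ⟨u, rfl⟩
    simp [Cfsg.quadFormPlus]
  · rw [LinearMap.finrank_range_of_inj (f := (LinearEquiv.sumArrowLequivProdArrow (Fin a) (Fin a) F F).symm.toLinearMap ∘ₗ
      LinearMap.inl F (Fin a → F) (Fin a → F))
      ((LinearEquiv.sumArrowLequivProdArrow (Fin a) (Fin a) F F).symm.injective.comp
        (LinearMap.inl_injective (R := F) (M := Fin a → F) (M₂ := Fin a → F)))]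
    simp [two_mul]

theorem plane_in_pairs {α β : F} (hac : CfsgLib.RootCount.Aniso α β) :
    ∃ L : (Fin 2 → F) →ₗ[F] (Fin 2 ⊕ Fin 2 → F), ∀ z, Cfsg.quadFormPlus 2 F (L z) =
      z 0 ^ 2 + α * z 0 * z 1 + β * z 1 ^ 2 :=
  ⟨{ toFun := fun z => Sum.elim ![z 0, z 1] ![z 0 + α * z 1, β * z 1]
     map_add' := fun u v => by funext x; rcases x with x | x <;> fin_cases x <;> simp <;> ring
     map_smul' := fun c v => by funext x; rcases x with x | x <;> fin_cases x <;> simp <;> ring },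
    fun z => by simp [Cfsg.quadFormPlus]; ring⟩

/-- Subspaces of every possible dimension and type. -/
theorem exists_typed {C : Submodule F V} (hC : Nd Q C) {h a : ℕ} (hCdim : finrank F C = 2 * h) (ha : a ≤ h)
    (τ : Prop) (h0 : a = 0 → τ) (hfull : a = h → (τ ↔ PlusOn Q C)) :
    ∃ W ≤ C, finrank F W = 2 * a ∧ Nd Q W ∧ (PlusOn Q W ↔ τ) := by
  classical
  rcases Nat.eq_zero_or_pos a with rfl | ha0
  · exact ⟨⊥, bot_le, by simp, fun x hx _ => (Submodule.mem_bot F).1 hx, iff_of_true plusOn_bot (h0 rfl)⟩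
  rcases eq_or_lt_of_le ha with rfl | hlt
  · exact ⟨C, le_rfl, hCdim, hC, (hfull rfl).symm⟩
  obtain ⟨α, β, hac⟩ := CfsgLib.RootCount.exists_aniso (F := F)
  obtain ⟨a', rfl⟩ : ∃ a', a = a' + 1 := ⟨a - 1, by omega⟩
  obtain ⟨L, hL⟩ := plane_in_pairs hac
  have hndm := CfsgLib.OrthCrit.ndPolar_minusForm a' α β hac (CfsgLib.OrthCrit.a_ne_zero_of_anisotropic hac)
  have hnotp := CfsgLib.RootCount.not_isPlus_minus hac a'
  rcases CfsgLib.RootCount.classify_even (Q.comp C.subtype) (ndPolar_comp hC) hCdim hac with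
    ⟨-, G, hG⟩ | ⟨-, k, hk, G, hG⟩
  · by_cases hτ : τ
    · let J₀ : (Fin (a' + 1) ⊕ Fin (a' + 1) → F) →ₗ[F] (Fin h ⊕ Fin h → F) :=
        { toFun := fun v => Sum.elim
            (fun l => if hl : (l : ℕ) < a' + 1 then v (.inl ⟨l, hl⟩) else 0)
            (fun l => if hl : (l : ℕ) < a' + 1 then v (.inr ⟨l, hl⟩) else 0)
          map_add' := fun u v => by funext x; rcases x with x | x <;> simp <;> split_ifs <;> simp
          map_smul' := fun c v => by funext x; rcases x with x | x <;> simp }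
      obtain ⟨W, hWC, hWd, hWn, hWp⟩ := of_embedding (Q := Q) (CfsgLib.OrthCrit.ndPolar_plusForm (F := F) (a' + 1))
        (C.subtype.comp (G.toLinearMap.comp J₀)) (fun v => Submodule.coe_mem _) (fun v => by
          change (Q.comp C.subtype) (G (J₀ v)) = _
          rw [hG]
          change Cfsg.quadFormPlus h F (J₀ v) = Cfsg.quadFormPlus (a' + 1) F v
          obtain ⟨e, rfl⟩ : ∃ e, h = (a' + 1) + e := ⟨h - (a' + 1), by omega⟩
          simp only [Cfsg.quadFormPlus]
          rw [Fin.sum_univ_add (b := e)]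
          simp [J₀, fun x : Fin (a' + 1) => Fin.is_le x, show ∀ x : ℕ, ¬ (a' + 1 + x ≤ a') by omega])
      exact ⟨W, hWC, by rw [hWd]; simp; ring, hWn, iff_of_true (hWp.2 (isPlus_plusForm _)) hτ⟩
    · let J₀ : ((Fin a' ⊕ Fin a') ⊕ Fin 2 → F) →ₗ[F] (Fin h ⊕ Fin h → F) :=
        { toFun := fun v => Sum.elim
            (fun l => if hl : (l : ℕ) < a' then v (.inl (.inl ⟨l, hl⟩)) else
              if hl' : (l : ℕ) - a' < 2 then L (fun i => v (.inr i)) (.inl ⟨(l : ℕ) - a', hl'⟩) else 0)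
            (fun l => if hl : (l : ℕ) < a' then v (.inl (.inr ⟨l, hl⟩)) else
              if hl' : (l : ℕ) - a' < 2 then L (fun i => v (.inr i)) (.inr ⟨(l : ℕ) - a', hl'⟩) else 0)
          map_add' := fun u v => by
            have : (fun i => u (Sum.inr i) + v (Sum.inr i)) = (fun i => u (Sum.inr i)) + fun i => v (Sum.inr i) := rfl
            funext x; rcases x with x | x <;> simp only [Sum.elim_inl, Sum.elim_inr, Pi.add_apply] <;>
              split_ifs <;> simp [this, map_add]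
          map_smul' := fun c v => by
            have : (fun i => c * v (Sum.inr i)) = c • fun i => v (Sum.inr i) := rfl
            funext x; rcases x with x | x <;>
              simp only [Sum.elim_inl, Sum.elim_inr, Pi.smul_apply, smul_eq_mul, RingHom.id_apply] <;> split_ifs <;>
              simp [this, map_smul] }
      obtain ⟨W, hWC, hWd, hWn, hWp⟩ := of_embedding (Q := Q) hndm
        (C.subtype.comp (G.toLinearMap.comp J₀)) (fun v => Submodule.coe_mem _) (fun v => by
          change (Q.comp C.subtype) (G (J₀ v)) = _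
          rw [hG]
          change Cfsg.quadFormPlus h F (J₀ v) = Cfsg.quadFormMinus a' F α β v
          obtain ⟨e, rfl⟩ : ∃ e, h = (a' + 2) + e := ⟨h - (a' + 2), by omega⟩
          simp only [Cfsg.quadFormMinus, ← hL fun i => v (.inr i), Cfsg.quadFormPlus]
          rw [Fin.sum_univ_add (b := e), Fin.sum_univ_add (b := 2)]
          simp [J₀, Fin.sum_univ_two, show ¬ (a' + 1 < a') by omega, show ∀ x : ℕ, ¬ (a' + 2 + x < a') by omega,
            show ∀ x : ℕ, ¬ (a' + 2 + x - a' < 2) by omega, show ∀ x : ℕ, ¬ (a' + 2 + x ≤ 1 + a') by omega])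
      exact ⟨W, hWC, by rw [hWd]; simp; ring, hWn, iff_of_false (fun h => hnotp (hWp.1 h)) hτ⟩
  · by_cases hτ : τ
    · let J₀ : (Fin (a' + 1) ⊕ Fin (a' + 1) → F) →ₗ[F] ((Fin k ⊕ Fin k) ⊕ Fin 2 → F) :=
        { toFun := fun v => Sum.elim (Sum.elim
            (fun l => if hl : (l : ℕ) < a' + 1 then v (.inl ⟨l, hl⟩) else 0)
            (fun l => if hl : (l : ℕ) < a' + 1 then v (.inr ⟨l, hl⟩) else 0)) 0
          map_add' := fun u v => by funext x; rcases x with (x | x) | x <;> simp <;> split_ifs <;> simp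
          map_smul' := fun c v => by funext x; rcases x with (x | x) | x <;> simp }
      obtain ⟨W, hWC, hWd, hWn, hWp⟩ := of_embedding (Q := Q) (CfsgLib.OrthCrit.ndPolar_plusForm (F := F) (a' + 1))
        (C.subtype.comp (G.toLinearMap.comp J₀)) (fun v => Submodule.coe_mem _) (fun v => by
          change (Q.comp C.subtype) (G (J₀ v)) = _
          rw [hG]
          change Cfsg.quadFormMinus k F α β (J₀ v) = Cfsg.quadFormPlus (a' + 1) F v
          obtain ⟨e, rfl⟩ : ∃ e, k = (a' + 1) + e := ⟨k - (a' + 1), by omega⟩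
          simp only [Cfsg.quadFormPlus, Cfsg.quadFormMinus]
          rw [Fin.sum_univ_add (b := e)]
          simp [J₀, fun x : Fin (a' + 1) => Fin.is_le x, show ∀ x : ℕ, ¬ (a' + 1 + x ≤ a') by omega])
      exact ⟨W, hWC, by rw [hWd]; simp; ring, hWn, iff_of_true (hWp.2 (isPlus_plusForm _)) hτ⟩
    · let J₀ : ((Fin a' ⊕ Fin a') ⊕ Fin 2 → F) →ₗ[F] ((Fin k ⊕ Fin k) ⊕ Fin 2 → F) :=
        { toFun := fun v => Sum.elim (Sum.elim
            (fun l => if hl : (l : ℕ) < a' then v (.inl (.inl ⟨l, hl⟩)) else 0)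
            (fun l => if hl : (l : ℕ) < a' then v (.inl (.inr ⟨l, hl⟩)) else 0)) (fun i => v (.inr i))
          map_add' := fun u v => by funext x; rcases x with (x | x) | x <;> simp <;> split_ifs <;> simp
          map_smul' := fun c v => by funext x; rcases x with (x | x) | x <;> simp }
      obtain ⟨W, hWC, hWd, hWn, hWp⟩ := of_embedding (Q := Q) hndm
        (C.subtype.comp (G.toLinearMap.comp J₀)) (fun v => Submodule.coe_mem _) (fun v => by
          change (Q.comp C.subtype) (G (J₀ v)) = _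
          rw [hG]
          change Cfsg.quadFormMinus k F α β (J₀ v) = Cfsg.quadFormMinus a' F α β v
          obtain ⟨e, rfl⟩ : ∃ e, k = a' + e := ⟨k - a', by omega⟩
          simp only [Cfsg.quadFormMinus]
          rw [Fin.sum_univ_add (b := e)]
          simp [J₀])
      exact ⟨W, hWC, by rw [hWd]; simp; ring, hWn, iff_of_false (fun h => hnotp (hWp.1 h)) hτ⟩

/-- Elliptic subspaces of dimension `m`. -/
def Ell (Q : QuadraticForm F V) (m : ℕ) (W : Submodule F V) : Prop :=
  finrank F W = m ∧ Nd Q W ∧ ¬ PlusOn Q W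

/-- Elliptic subspaces of equal dimension are isometric. -/
theorem Ell.iso {m : ℕ} (hm : Even m) {W W' : Submodule F V} (h : Ell Q m W) (h' : Ell Q m W') : Iso Q W W' := by
  obtain ⟨a, rfl⟩ := hm
  obtain ⟨α, β, hac⟩ := CfsgLib.RootCount.exists_aniso (F := F)
  have key : ∀ {X : Submodule F V}, Ell Q (a + a) X → ∃ k, a = k + 1 ∧
      ∃ E : ((Fin k ⊕ Fin k) ⊕ Fin 2 → F) ≃ₗ[F] X,
        ∀ v, (Q.comp X.subtype) (E v) = CfsgLib.OrthCrit.minusForm k F α β v := by
    intro X hX
    rcases CfsgLib.RootCount.classify_even (Q.comp X.subtype) (ndPolar_comp hX.2.1)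
      (m := a) (by rw [hX.1]; ring) hac with ⟨hp, -⟩ | ⟨-, h⟩
    · exact absurd ((plusOn_iff X).2 hp) hX.2.2
    · exact h
  obtain ⟨k, hk, E, hE⟩ := key h
  obtain ⟨k', hk', E', hE'⟩ := key h'
  obtain rfl : k = k' := by omega
  refine ⟨E.symm.trans E', fun w => ?_⟩
  obtain ⟨v, rfl⟩ := E.surjective w
  rw [LinearEquiv.trans_apply, LinearEquiv.symm_apply_apply]
  exact (hE' v).trans (hE v).symm

theorem Iso.plusOn_iff {W W' : Submodule F V} (h : Iso Q W W') : PlusOn Q W ↔ PlusOn Q W' := by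
  obtain ⟨e, he⟩ := h
  rw [CfsgLib.OrthInv.plusOn_iff, CfsgLib.OrthInv.plusOn_iff]
  exact ⟨CfsgLib.RootCount.isPlus_congr _ _ e (fun x => he x),
    CfsgLib.RootCount.isPlus_congr _ _ e.symm (fun x => by
      have := he (e.symm x); rw [LinearEquiv.apply_symm_apply] at this; exact this.symm)⟩

end CfsgLib.OrthInv
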