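import Mathlib
import Cfsg.Prelude.Def_GeometricClasses
import Cfsg.Agent.Lib.PGroup.SymplecticType

/-!
# Groups of symplectic type of exponent four: elementary facts about their normalizers
-/

set_option autoImplicit false
open scoped MatrixGroups commutatorElement

namespace CfsgLib.TwoSymp

open Matrix

variable {ι : Type} [Fintype ι] [DecidableEq ι] {F : Type*} [Field F]

local notation "M" => Matrix ι ι F

/-- A group of exponent four which is abelian modulo scalars and absolutely irreducible. -/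
structure Good (R : Subgroup (GL ι F)) : Prop where
  finite : Finite R
  comm : ∀ x ∈ R, ∀ y ∈ R, (y : M) * x = x * y ∨ (y : M) * x = -((x : M) * y)
  sq : ∀ x ∈ R, ∃ c : F, ((x : M)) ^ 2 = c • 1 ∧ c ^ 2 = 1
  scalar_of_commute : ∀ A : M, (∀ x ∈ R, A * x = x * A) → ∃ c : F, A = c • 1
  two_ne : (2 : F) ≠ 0

theorem eq_or_neg_of_commutator {x y : GL ι F} {c : F} (hc : c = 1 ∨ c = -1)
    (h : (y : M) * x = c • ((x : M) * y)) : (y : M) * x = x * y ∨ (y : M) * x = -((x : M) * y) := by
  rcases hc with rfl | rfl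
  · exact Or.inl (by rw [h, one_smul])
  · exact Or.inr (by rw [h, neg_smul, one_smul])

/-- Groups of symplectic type of exponent four are of this form. -/
theorem good_of_sympType [Finite F] [Nonempty ι] {R : Subgroup (GL ι F)}
    (hR : Cfsg.Geo.IsSymplecticTypeGroup 2 R)
    (hirr : Cfsg.Geo.ActsAbsolutelyIrreducibly (Cfsg.Geo.matrixSet R)) (h2 : (2 : F) ≠ 0) :
    Good R := by
  haveI : Finite R := inferInstance
  haveI : Fact (Nat.Prime 2) := ⟨Nat.prime_two⟩
  have hexp : ∀ g : R, g ^ 4 = 1 := fun g => by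
    have := Monoid.pow_exponent_eq_one g
    rwa [hR.exponent_eq, show 2 * Nat.gcd 2 2 = 4 from rfl] at this
  have hord : ∀ g : R, orderOf g ≤ 4 := fun g =>
    Nat.le_of_dvd (by norm_num) (orderOf_dvd_of_pow_eq_one (hexp g))
  obtain ⟨E, C, hEC, hsup, hE, hC⟩ :=
    CfsgLib.PGroup.SympType.structure_theorem hR.pGroup hR.cyclic_of_characteristic
  have hCcyc : IsCyclic C := by
    rcases hC with h | ⟨-, h16, h⟩
    · exact h
    exfalso
    have hord' : ∀ g : C, orderOf g ≤ 4 := fun g => by rw [← Subgroup.orderOf_coe]; exact hord _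
    rcases h with ⟨m, ⟨e⟩⟩ | ⟨m, ⟨e⟩⟩ | ⟨m, hm, hcard, x, -, hx, -⟩
    · have h1 : orderOf (e.symm (DihedralGroup.r 1)) = m := by
        rw [MulEquiv.orderOf_eq, DihedralGroup.orderOf_r_one]
      have h2 := hord' (e.symm (DihedralGroup.r 1))
      rw [Nat.card_congr e.toEquiv, DihedralGroup.nat_card] at h16
      omega
    · have hm0 : m ≠ 0 := by
        rintro rfl
        haveI : Finite (QuaternionGroup 0) := Finite.of_equiv _ e.toEquiv
        haveI : Finite ℤ := Finite.of_injective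
          (fun z : ℤ => (QuaternionGroup.a z : QuaternionGroup 0)) (fun u v h => by injection h)
        exact not_finite ℤ
      haveI : NeZero m := ⟨hm0⟩
      have h1 : orderOf (e.symm (QuaternionGroup.a 1)) = 2 * m := by
        rw [MulEquiv.orderOf_eq, QuaternionGroup.orderOf_a_one]
      have h2 := hord' (e.symm (QuaternionGroup.a 1))
      rw [Nat.card_congr e.toEquiv, Nat.card_eq_fintype_card, QuaternionGroup.card] at h16
      omega
    · have h2 := hord' x
      rw [hx] at h2
      have := Nat.pow_le_pow_right (show 0 < 2 by norm_num) hm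
      omega
  have hscal : ∀ g : R, g ∈ Subgroup.center R → ∃ c : F, ((g : GL ι F) : M) = c • 1 := fun g hg =>
    hirr.2 _ (by
      rintro _ ⟨y, hy, rfl⟩
      exact congrArg (fun z : R => ((z : GL ι F) : M)) (Subgroup.mem_center_iff.1 hg ⟨y, hy⟩).symm)
  have hCcen : ∀ c ∈ C, c ∈ Subgroup.center R := by
    intro c hc
    haveI : IsMulCommutative C := hCcyc.commutative
    rw [Subgroup.mem_center_iff]
    intro g
    have hg : g ∈ E ⊔ C := hsup ▸ Subgroup.mem_top g
    have hcom : E ⊔ C ≤ Subgroup.centralizer {c} := by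
      refine sup_le (fun e he => Subgroup.mem_centralizer_singleton_iff.2 ?_)
        (fun d hd => Subgroup.mem_centralizer_singleton_iff.2 ?_)
      · exact (hEC e he c hc)
      · exact congrArg Subtype.val (IsMulCommutative.is_comm.comm (⟨d, hd⟩ : C) ⟨c, hc⟩)
    exact Subgroup.mem_centralizer_singleton_iff.1 (hcom hg)
  have hEcomm : ∀ x ∈ E, ∀ y ∈ E, x * y * x⁻¹ * y⁻¹ ∈ Subgroup.center R := by
    rcases hE with rfl | hE
    · intro x hx y hy
      rw [Subgroup.mem_bot] at hx hy
      simp [hx, hy]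
    intro x hx y hy
    have h1 : (⟨x, hx⟩ : E) * ⟨y, hy⟩ * (⟨x, hx⟩ : E)⁻¹ * (⟨y, hy⟩ : E)⁻¹ ∈ Subgroup.center E := by
      rw [← hE.1.2.2, commutator_def]
      exact Subgroup.commutator_mem_commutator (Subgroup.mem_top _) (Subgroup.mem_top _)
    have h2 : E ⊔ C ≤ Subgroup.centralizer {x * y * x⁻¹ * y⁻¹} := by
      refine sup_le (fun e he => Subgroup.mem_centralizer_singleton_iff.2 ?_)
        (fun d hd => Subgroup.mem_centralizer_singleton_iff.2 ?_)
      · exact congrArg Subtype.val (Subgroup.mem_center_iff.1 h1 ⟨e, he⟩)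
      · exact (Subgroup.mem_center_iff.1 (hCcen d hd) _).symm
    rw [Subgroup.mem_center_iff]
    intro g
    exact Subgroup.mem_centralizer_singleton_iff.1 (h2 (hsup ▸ Subgroup.mem_top g))
  have hmod : ∀ g : R, ∃ e ∈ E, ∃ c ∈ C, g = e * c := by
    intro g
    have hn : C ≤ Subgroup.center R := hCcen
    haveI : C.Normal := ⟨fun c hc g => by
      have := Subgroup.mem_center_iff.1 (hn hc) g
      rwa [this, mul_inv_cancel_right]⟩
    obtain ⟨e, he, c, hc, h⟩ := Subgroup.mem_sup_of_normal_right.1 (hsup ▸ Subgroup.mem_top g : g ∈ E ⊔ C)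
    exact ⟨e, he, c, hc, h.symm⟩
  have hcc : ∀ x y : R, x * y * x⁻¹ * y⁻¹ ∈ Subgroup.center R := by
    intro x y
    obtain ⟨e, he, c, hc, rfl⟩ := hmod x
    obtain ⟨e', he', c', hc', rfl⟩ := hmod y
    have k1 := Subgroup.mem_center_iff.1 (hCcen c hc)
    have k2 := Subgroup.mem_center_iff.1 (hCcen c' hc')
    have : e * c * (e' * c') * (e * c)⁻¹ * (e' * c')⁻¹ = e * e' * e⁻¹ * e'⁻¹ := by
      calc e * c * (e' * c') * (e * c)⁻¹ * (e' * c')⁻¹
          = e * ((c * e') * c' * c⁻¹) * e⁻¹ * c'⁻¹ * e'⁻¹ := by group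
        _ = e * ((e' * c) * c' * c⁻¹) * e⁻¹ * c'⁻¹ * e'⁻¹ := by rw [k1 e']
        _ = e * e' * ((c * c') * c⁻¹) * e⁻¹ * c'⁻¹ * e'⁻¹ := by group
        _ = e * e' * ((c' * c) * c⁻¹) * e⁻¹ * c'⁻¹ * e'⁻¹ := by rw [k1 c']
        _ = e * e' * (c' * e⁻¹) * c'⁻¹ * e'⁻¹ := by group
        _ = e * e' * (e⁻¹ * c') * c'⁻¹ * e'⁻¹ := by rw [k2 e⁻¹]
        _ = _ := by group
    rw [this]
    exact hEcomm e he e' he'
  have hsq : ∀ x y : R, (x * y * x⁻¹ * y⁻¹) ^ 2 = 1 := by
    intro x y
    have hh : Commute x ⁅y, x⁆ := Subgroup.mem_center_iff.1 (hcc y x) x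
    have hk : Commute y ⁅y, x⁆ := Subgroup.mem_center_iff.1 (hcc y x) y
    have h4 := CfsgLib.PGroup.SympType.mul_pow_commutator hh hk 4
    rw [hexp, hexp, hexp, one_mul, mul_one, show Nat.choose 4 2 = 6 from rfl, commutatorElement_def,
      show (6 : ℕ) = 4 + 2 from rfl, pow_add, hexp, one_mul] at h4
    rw [show x * y * x⁻¹ * y⁻¹ = (y * x * y⁻¹ * x⁻¹)⁻¹ by group, inv_pow, ← h4, inv_one]
  refine ⟨inferInstance, fun x hx y hy => ?_, fun x hx => ?_, fun A hA => hirr.2 A ?_, h2⟩
  · obtain ⟨c, hc⟩ := hscal _ (hcc ⟨y, hy⟩ ⟨x, hx⟩)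
    have h2' := congrArg (fun z : R => ((z : GL ι F) : M)) (hsq ⟨y, hy⟩ ⟨x, hx⟩)
    simp only [SubmonoidClass.coe_pow, Units.val_pow_eq_pow_val, OneMemClass.coe_one, Units.val_one] at h2'
    rw [hc, _root_.smul_pow, one_pow] at h2'
    have hc1 : c ^ 2 = 1 := by
      have := congrFun (congrFun h2' (Classical.arbitrary ι)) (Classical.arbitrary ι)
      simpa using this
    refine eq_or_neg_of_commutator (sq_eq_one_iff.1 hc1) ?_
    calc (y : M) * x = ((y * x * y⁻¹ * x⁻¹ * (x * y) : GL ι F) : M) := by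
          rw [show y * x * y⁻¹ * x⁻¹ * (x * y) = y * x by group, Units.val_mul]
      _ = c • ((x : M) * y) := by
          rw [Units.val_mul, show ((y * x * y⁻¹ * x⁻¹ : GL ι F) : M) = c • 1 from hc, Matrix.smul_mul,
            one_mul, Units.val_mul]
  · have hcen : (⟨x, hx⟩ : R) ^ 2 ∈ Subgroup.center R := by
      rw [Subgroup.mem_center_iff]
      intro g
      set u : R := ⟨x, hx⟩
      have hk := Subgroup.mem_center_iff.1 (hcc g u)
      calc g * u ^ 2 = (g * u * g⁻¹ * u⁻¹) * u * g * u := by rw [pow_two]; group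
        _ = u * ((g * u * g⁻¹ * u⁻¹) * (g * u)) := by rw [← hk u]; group
        _ = u * ((g * u * g⁻¹ * u⁻¹) * (g * u * g⁻¹ * u⁻¹) * (u * g)) := by group
        _ = u ^ 2 * g := by rw [← pow_two, hsq, one_mul, pow_two, mul_assoc]
    obtain ⟨c, hc⟩ := hscal _ hcen
    refine ⟨c, by simpa using hc, ?_⟩
    have := congrArg (fun z : R => ((z : GL ι F) : M)) (hexp ⟨x, hx⟩)
    simp only [SubmonoidClass.coe_pow, Units.val_pow_eq_pow_val, OneMemClass.coe_one, Units.val_one] at this hc
    rw [show (4 : ℕ) = 2 * 2 from rfl, pow_mul, hc, _root_.smul_pow, one_pow] at this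
    have := congrFun (congrFun this (Classical.arbitrary ι)) (Classical.arbitrary ι)
    simpa using this
  · rintro _ ⟨y, hy, rfl⟩
    exact hA y hy

namespace Good

variable {R : Subgroup (GL ι F)}

theorem scalar_or_anti (h : Good R) {g : GL ι F} (hg : g ∈ R) :
    (∃ c : F, (g : M) = c • 1) ∨ ∃ x ∈ R, (x : M) * g = -((g : M) * x) := by
  by_contra hn
  push Not at hn
  obtain ⟨c, hc⟩ := h.scalar_of_commute (g : M) fun x hx =>
    ((h.comm g hg x hx).resolve_right (hn.2 x hx)).symm
  exact hn.1 c hc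

/-- Elements outside the centre have trace zero. -/
theorem trace_eq_zero (h : Good R) {g : GL ι F} (hg : g ∈ R) (hns : ∀ c : F, (g : M) ≠ c • 1) :
    (g : M).trace = 0 := by
  rcases h.scalar_or_anti hg with ⟨c, hc⟩ | ⟨x, -, hx⟩
  · exact absurd hc (hns c)
  have h2 : ((x : M) * g * ((x⁻¹ : GL ι F) : M)).trace = (g : M).trace := by
    rw [Matrix.trace_mul_comm, ← Matrix.mul_assoc, Units.inv_mul, one_mul]
  rw [hx, Matrix.neg_mul, Matrix.mul_assoc, Units.mul_inv, mul_one, Matrix.trace_neg] at h2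
  exact (mul_eq_zero.1 (show (2 : F) * (g : M).trace = 0 by linear_combination -h2)).resolve_left h.two_ne

theorem conj_mem {y x : GL ι F} (hy : y ∈ Cfsg.Geo.subgroupNormalizer R) (hx : x ∈ R) :
    y * x * y⁻¹ ∈ R := (Subgroup.mem_set_normalizer_iff.1 hy x).1 hx

/-- A pseudo-reflection other than a reflection does not normalize. -/
theorem no_pseudo (h : Good R) (hι : Fintype.card ι = 4) {y : GL ι F}
    (hy : y ∈ Cfsg.Geo.subgroupNormalizer R) {s : F} (hs : s ≠ 0) {v ψ : ι → F}
    (hne : Matrix.vecMulVec v ψ ≠ 0) (h1 : ψ ⬝ᵥ v ≠ -1) (h2 : ψ ⬝ᵥ v ≠ -2)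
    (hyv : (y : M) = s • (1 + Matrix.vecMulVec v ψ)) : False := by
  classical
  haveI : Nonempty ι := Fintype.card_pos_iff.1 (by omega)
  set τ := ψ ⬝ᵥ v
  have hv : v ≠ 0 := fun h0 => hne (by ext i j; simp [Matrix.vecMulVec, h0])
  -- a vector killed by two functionals
  have hker : ∀ φ : ι → F, ∃ w : ι → F, w ≠ 0 ∧ ψ ⬝ᵥ w = 0 ∧ φ ⬝ᵥ w = 0 := by
    intro φ
    let L : (ι → F) →ₗ[F] (Fin 2 → F) := Matrix.mulVecLin (Matrix.of ![ψ, φ])
    have hle := LinearMap.finrank_range_add_finrank_ker L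
    have := Submodule.finrank_le (LinearMap.range L)
    rw [Module.finrank_fintype_fun_eq_card, hι] at hle
    rw [Module.finrank_fin_fun] at this
    obtain ⟨w, hw, hw0⟩ := Submodule.exists_mem_ne_zero_of_ne_bot
      (show LinearMap.ker L ≠ ⊥ by intro hb; rw [hb, finrank_bot] at hle; omega)
    exact ⟨w, hw0, congrFun (LinearMap.mem_ker.1 hw) 0, congrFun (LinearMap.mem_ker.1 hw) 1⟩
  have hys : ∃ a ∈ R, a * y ≠ y * a := by
    by_contra hall
    push Not at hall
    obtain ⟨t, ht⟩ := h.scalar_of_commute (y : M) fun x hx =>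
      (congrArg Units.val (hall x hx)).symm
    rw [hyv] at ht
    obtain ⟨w, hw0, hψw, -⟩ := hker ψ
    have hw := congrArg (fun A : M => A *ᵥ w) ht
    simp [Matrix.smul_mulVec, Matrix.add_mulVec, Matrix.vecMulVec_mulVec, hψw] at hw
    obtain ⟨i, hi⟩ := Function.ne_iff.1 hw0
    have hts : s = t := mul_right_cancel₀ hi (congrFun hw i)
    apply hne
    ext i j
    have := congrFun (congrFun ht i) j
    rw [← hts] at this
    simpa [hs] using this
  obtain ⟨a, ha, hay⟩ := hys
  set u := (a : M) *ᵥ v with hu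
  set φ := ψ ᵥ* ((a⁻¹ : GL ι F) : M) with hφ
  set g := a * y * a⁻¹ * y⁻¹ with hgdef
  have hgR : g ∈ R := by
    rw [hgdef, mul_assoc, mul_assoc, ← mul_assoc y]
    exact R.mul_mem ha (conj_mem hy (R.inv_mem ha))
  have hφu : φ ⬝ᵥ u = τ := by
    rw [hφ, hu, Matrix.dotProduct_mulVec, Matrix.vecMul_vecMul, Units.inv_mul, Matrix.vecMul_one]
  have hgy : (g : M) * (1 + Matrix.vecMulVec v ψ) = 1 + Matrix.vecMulVec u φ := by
    have : (g : M) * (y : M) = (a : M) * (y : M) * ((a⁻¹ : GL ι F) : M) := by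
      rw [← Units.val_mul, ← Units.val_mul, ← Units.val_mul]; congr 1; rw [hgdef]; group
    rw [hyv, Matrix.mul_smul, Matrix.mul_smul, Matrix.smul_mul] at this
    have := smul_right_injective M hs this
    rw [this, Matrix.mul_add, Matrix.mul_one, Matrix.add_mul, Units.mul_inv, Matrix.mul_vecMulVec,
      Matrix.vecMulVec_mul]
  obtain ⟨ε, hε, -⟩ := h.sq g hgR
  -- the scalar case
  by_cases hgs : ∃ c : F, (g : M) = c • 1
  · obtain ⟨c, hc⟩ := hgs
    obtain ⟨w, hw0, hψw, hφw⟩ := hker φ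
    have hw := congrArg (fun A : M => A *ᵥ w) hgy
    simp [hc, Matrix.smul_mulVec, Matrix.add_mulVec, Matrix.vecMulVec_mulVec, hψw, hφw] at hw
    obtain ⟨i, hi⟩ := Function.ne_iff.1 hw0
    have hc1 : c = 1 := mul_right_cancel₀ hi (by simpa using congrFun hw i)
    rw [hc1, one_smul] at hc
    have hg1 : g = 1 := Units.ext hc
    apply hay
    calc a * y = g * (y * a) := by rw [hgdef]; group
      _ = y * a := by rw [hg1, one_mul]
  push Not at hgs
  have htr := h.trace_eq_zero hgR hgs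
  set α := φ ⬝ᵥ v with hα
  set β := ψ ⬝ᵥ u with hβ
  have e1 : (1 + τ) • ((g : M) *ᵥ v) = v + α • u := by
    have := congrArg (fun A : M => A *ᵥ v) hgy
    simp only [← Matrix.mulVec_mulVec, Matrix.add_mulVec, Matrix.one_mulVec, Matrix.vecMulVec_mulVec,
      op_smul_eq_smul] at this
    rw [← hα, Matrix.mulVec_add, Matrix.mulVec_smul] at this
    rw [← this, add_smul, one_smul]
  have e2 : (g : M) *ᵥ u + β • ((g : M) *ᵥ v) = (1 + τ) • u := by
    have := congrArg (fun A : M => A *ᵥ u) hgy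
    simp only [← Matrix.mulVec_mulVec, Matrix.add_mulVec, Matrix.one_mulVec, Matrix.vecMulVec_mulVec,
      op_smul_eq_smul] at this
    rw [← hβ, hφu, Matrix.mulVec_add, Matrix.mulVec_smul] at this
    rw [this, add_smul, one_smul]
  have e3 : α * β = (τ + 2) ^ 2 := by
    have hgt : ((g : M) * Matrix.vecMulVec v ψ).trace = ψ ⬝ᵥ ((g : M) *ᵥ v) := by
      rw [Matrix.mul_vecMulVec, Matrix.trace_vecMulVec, dotProduct_comm]
    have := congrArg Matrix.trace hgy
    rw [Matrix.mul_add, Matrix.mul_one, Matrix.trace_add, Matrix.trace_add, htr, zero_add, hgt,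
      Matrix.trace_one, hι, Matrix.trace_vecMulVec, dotProduct_comm u φ, hφu] at this
    have h3 := congrArg (fun z => ψ ⬝ᵥ z) e1
    simp only [dotProduct_smul, dotProduct_add, smul_eq_mul] at h3
    rw [this, ← hβ] at h3
    push_cast at h3
    linear_combination -h3
  have hτ1 : 1 + τ ≠ 0 := fun h0 => h1 (by linear_combination h0)
  have hα0 : α ≠ 0 := fun h0 => h2 (by
    rw [h0, zero_mul] at e3
    have := eq_zero_of_pow_eq_zero e3.symm
    linear_combination this)
  -- `u` is a multiple of `v`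
  have e4 : ((1 + τ) ^ 2 * ε - (1 - α * β)) • v =
      (α * (1 - α * β + (1 + τ) ^ 2)) • u := by
    have hgg : (g : M) *ᵥ ((g : M) *ᵥ v) = ε • v := by
      rw [Matrix.mulVec_mulVec, ← pow_two, hε, Matrix.smul_mulVec, Matrix.one_mulVec]
    have h5 := congrArg (fun z => (1 + τ) • ((g : M) *ᵥ z)) e1
    simp only [Matrix.mulVec_smul, Matrix.mulVec_add, smul_add, hgg] at h5
    rw [e1, smul_comm (1 + τ) α] at h5
    have e2' : (g : M) *ᵥ u = (1 + τ) • u - β • ((g : M) *ᵥ v) := eq_sub_of_add_eq e2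
    rw [e2', smul_sub, smul_comm (1 + τ) β, e1] at h5
    funext i
    have h6 := congrFun h5 i
    simp only [Pi.smul_apply, Pi.add_apply, Pi.sub_apply, smul_eq_mul] at h6 ⊢
    linear_combination h6
  have hcoef : α * (1 - α * β + (1 + τ) ^ 2) ≠ 0 := by
    refine mul_ne_zero hα0 fun h0 => ?_
    rw [e3] at h0
    exact mul_ne_zero h.two_ne hτ1 (by linear_combination -h0)
  set k := (α * (1 - α * β + (1 + τ) ^ 2))⁻¹ * ((1 + τ) ^ 2 * ε - (1 - α * β)) with hk
  have huv : u = k • v := by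
    rw [hk, ← smul_smul, e4, smul_smul, inv_mul_cancel₀ hcoef, one_smul]
  have a1 : k * α = τ := by rw [← hφu, huv, dotProduct_smul, smul_eq_mul]
  have a2 : β = k * τ := by rw [hβ, huv, dotProduct_smul, smul_eq_mul]
  have h4 : (4 : F) * (τ + 1) = 0 := by
    rw [a2] at e3
    linear_combination -e3 + τ * a1
  rcases mul_eq_zero.1 h4 with h' | h'
  · exact mul_ne_zero h.two_ne h.two_ne (by linear_combination h')
  · exact h1 (by linear_combination h')

/-- The part of the group fixed by an element. -/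
def fixedPart (R : Subgroup (GL ι F)) (y : GL ι F) : Subgroup R :=
  (Subgroup.centralizer {y}).subgroupOf R

theorem mem_fixedPart {y : GL ι F} {x : R} :
    x ∈ fixedPart R y ↔ y * (x : GL ι F) = x * y := by
  rw [fixedPart, Subgroup.mem_subgroupOf, Subgroup.mem_centralizer_singleton_iff]
  exact eq_comm

/-- Fixed points of an element of prime order on an invariant subgroup. -/
theorem fixed_modEq (h : Good R) {r : ℕ} [Fact r.Prime] {y : GL ι F} (hyr : y ^ r = 1)
    {D : Subgroup R} (hD : ∀ x ∈ D, ∃ z ∈ D, (z : GL ι F) = y * (x : GL ι F) * y⁻¹) :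
    Nat.card D ≡ Nat.card ↥(D ⊓ fixedPart R y) [MOD r] := by
  classical
  haveI := h.finite
  haveI : Fintype D := Fintype.ofFinite _
  choose f hfD hf using hD
  let φ : Function.End D := fun x => ⟨f x x.2, hfD x x.2⟩
  have hpow : ∀ k : ℕ, ∀ x : D, (((φ ^ k) x : D) : GL ι F) = y ^ k * x * (y ^ k)⁻¹ := by
    intro k
    induction k with
    | zero => intro x; simp; rfl
    | succ k ih =>
      intro x
      rw [pow_succ']
      change ((f _ _ : R) : GL ι F) = _
      rw [hf, ih x, pow_succ']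
      group
  have hφr : φ ^ r ^ 1 = 1 := by
    funext x
    apply Subtype.ext
    apply Subtype.ext
    rw [pow_one, hpow, hyr]
    simp
    rfl
  have hmod := Equiv.Perm.card_fixedPoints_modEq hφr
  rw [← Nat.card_eq_fintype_card, ← Nat.card_eq_fintype_card] at hmod
  refine hmod.trans ?_
  rw [Nat.card_congr ({ toFun := fun x => ⟨x.1.1, x.1.2, mem_fixedPart.2 ?_⟩
                        invFun := fun x => ⟨⟨x.1, x.2.1⟩, ?_⟩
                        left_inv := fun _ => rfl
                        right_inv := fun _ => rfl } :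
      φ.fixedPoints ≃ ↥(D ⊓ fixedPart R y))]
  · have hx : φ x.1 = x.1 := x.2
    have := congrArg (fun z : D => ((z : R) : GL ι F)) hx
    simp only [φ, hf] at this
    exact mul_inv_eq_iff_eq_mul.1 this
  · show φ _ = _
    apply Subtype.ext
    apply Subtype.ext
    simp only [φ, hf]
    exact mul_inv_eq_iff_eq_mul.2 (mem_fixedPart.1 x.2.2)

theorem center_le_fixedPart (h : Good R) (y : GL ι F) : Subgroup.center R ≤ fixedPart R y := by
  intro x hx
  obtain ⟨c, hc⟩ := h.scalar_of_commute ((x : GL ι F) : M) fun z hz =>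
    (congrArg (fun u : R => ((u : GL ι F) : M)) (Subgroup.mem_center_iff.1 hx ⟨z, hz⟩)).symm
  rw [mem_fixedPart]
  apply Units.ext
  rw [Units.val_mul, Units.val_mul, hc, Matrix.mul_smul, Matrix.smul_mul, one_mul, mul_one]

theorem fixed_modEq_top (h : Good R) {r : ℕ} [Fact r.Prime] {y : GL ι F} (hyr : y ^ r = 1)
    (hy : y ∈ Cfsg.Geo.subgroupNormalizer R) :
    Nat.card R ≡ Nat.card ↥(fixedPart R y) [MOD r] := by
  have := h.fixed_modEq hyr (D := ⊤) fun x _ => ⟨⟨_, conj_mem hy x.2⟩, Subgroup.mem_top _, rfl⟩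
  rwa [top_inf_eq, Nat.card_congr Subgroup.topEquiv.toEquiv] at this

/-- The trace of an element of odd prime order in the normalizer. -/
theorem trace_mul_trace (h : Good R) (hι : Fintype.card ι = 4) {r : ℕ} [Fact r.Prime] (hr2 : r ≠ 2)
    {y : GL ι F} (hyr : y ^ r = 1) (hy : y ∈ Cfsg.Geo.subgroupNormalizer R) :
    (Nat.card R : F) * (y : M).trace * ((y⁻¹ : GL ι F) : M).trace =
      16 * (Nat.card ↥(fixedPart R y) : F) := by
  classical
  haveI := h.finite
  haveI : Fintype R := Fintype.ofFinite _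
  haveI : Nonempty ι := Fintype.card_pos_iff.1 (by omega)
  let S : M := ∑ x : R, ((x : GL ι F) : M) * (y : M) * ((((x : GL ι F))⁻¹ : GL ι F) : M)
  obtain ⟨t, ht⟩ := h.scalar_of_commute S fun z hz => by
    simp only [S, Finset.mul_sum, Finset.sum_mul]
    refine Fintype.sum_equiv (Equiv.mulLeft (⟨z, hz⟩ : R)⁻¹) _ _ fun x => ?_
    simp [Matrix.mul_assoc]
  have h4t : 4 * t = (Nat.card R : F) * (y : M).trace := by
    have h' := congrArg Matrix.trace ht
    simp only [S, Matrix.trace_sum, Matrix.trace_smul, Matrix.trace_one, hι, smul_eq_mul] at h'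
    rw [Finset.sum_congr rfl (g := fun _ => (y : M).trace) (fun x _ => by
      rw [Matrix.trace_mul_comm, ← Matrix.mul_assoc, Units.inv_mul, one_mul]), Finset.sum_const,
      Finset.card_univ, nsmul_eq_mul, ← Nat.card_eq_fintype_card] at h'
    push_cast at h'
    linear_combination -h'
  have hterm : ∀ x : R,
      (((x : GL ι F) : M) * (y : M) * ((((x : GL ι F))⁻¹ : GL ι F) : M) * ((y⁻¹ : GL ι F) : M)).trace =
        if x ∈ fixedPart R y then (4 : F) else 0 := by
    intro x
    rw [← Units.val_mul, ← Units.val_mul, ← Units.val_mul]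
    split_ifs with hx
    · rw [mem_fixedPart] at hx
      rw [show (x : GL ι F) * y * (x : GL ι F)⁻¹ * y⁻¹ = 1 by rw [← hx]; group, Units.val_one,
        Matrix.trace_one, hι]
      norm_num
    · set g := (x : GL ι F) * y * (x : GL ι F)⁻¹ * y⁻¹ with hg
      have hgR : g ∈ R := by
        rw [hg, mul_assoc, mul_assoc, ← mul_assoc y]
        exact R.mul_mem x.2 (conj_mem hy (R.inv_mem x.2))
      refine h.trace_eq_zero hgR fun c hc => hx ?_
      obtain ⟨ε, hε, hε2⟩ := h.sq g hgR
      rw [hc, _root_.smul_pow, one_pow] at hε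
      have hc2 : c ^ 2 = ε := by
        simpa using congrFun (congrFun hε (Classical.arbitrary ι)) (Classical.arbitrary ι)
      have hgc : ∀ z : GL ι F, z * g = g * z := fun z => Units.ext (by
        change (z : M) * (g : M) = (g : M) * (z : M)
        rw [hc, Matrix.mul_smul, Matrix.smul_mul, one_mul, mul_one])
      have hconj : (x : GL ι F) * y * (x : GL ι F)⁻¹ = g * y := by rw [hg]; group
      have hgr : g ^ r = 1 := by
        have := congrArg (fun z : GL ι F => z ^ r) hconj
        rw [conj_pow, hyr, (show Commute g y from (hgc y).symm).mul_pow, hyr, mul_one, mul_one,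
          mul_inv_cancel] at this
        exact this.symm
      have hcr : c ^ r = 1 := by
        have := congrArg (fun z : GL ι F => (z : M) (Classical.arbitrary ι) (Classical.arbitrary ι)) hgr
        simpa [Units.val_pow_eq_pow_val, hc, _root_.smul_pow] using this
      have hc1 : c = 1 := by
        have h4 : c ^ 4 = 1 := by rw [show 4 = 2 * 2 from rfl, pow_mul, hc2, hε2]
        have hg' := (pow_gcd_eq_one (m := 4) (n := r) (a := c)).2 ⟨h4, hcr⟩
        rwa [Nat.Coprime.gcd_eq_one ((Nat.coprime_primes Nat.prime_two Fact.out).2 (Ne.symm hr2) |>.pow_left 2),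
          pow_one] at hg'
      have hg1 : g = 1 := Units.ext (by rw [hc, hc1, one_smul, Units.val_one])
      rw [mem_fixedPart]
      calc y * (x : GL ι F) = g⁻¹ * ((x : GL ι F) * y) := by rw [hg]; group
        _ = (x : GL ι F) * y := by rw [hg1]; group
  have hsum : t * ((y⁻¹ : GL ι F) : M).trace = 4 * (Nat.card ↥(fixedPart R y) : F) := by
    rw [← smul_eq_mul t, ← Matrix.trace_smul, show t • ((y⁻¹ : GL ι F) : M) = S * ((y⁻¹ : GL ι F) : M) by
      rw [ht, Matrix.smul_mul, one_mul]]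
    simp only [S, Finset.sum_mul, Matrix.trace_sum, hterm]
    rw [Finset.sum_ite, Finset.sum_const, Finset.sum_const_zero, add_zero, nsmul_eq_mul,
      Nat.card_eq_fintype_card, Fintype.card_subtype]
    ring
  linear_combination 4 * hsum - ((y⁻¹ : GL ι F) : M).trace * h4t

/-- Elements of prime order at least seven centralise. -/
theorem scalar_of_big (h : Good R) {n j : ℕ}
    (hnj : (n = 6 ∧ j = 2) ∨ (n = 5 ∧ j = 1)) (hR : Nat.card R = 2 ^ n)
    (hZ : Nat.card (Subgroup.center R) = 2 ^ j) {r : ℕ} [hr : Fact r.Prime] (hr7 : 7 ≤ r)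
    {y : GL ι F} (hyr : y ^ r = 1) (hy : y ∈ Cfsg.Geo.subgroupNormalizer R) :
    ∃ c : F, (y : M) = c • 1 := by
  haveI := h.finite
  set C := fixedPart R y
  have hZC := h.center_le_fixedPart y
  obtain ⟨k, hkn, hk⟩ := (Nat.dvd_prime_pow Nat.prime_two).1
    (hR ▸ Subgroup.card_subgroup_dvd_card C)
  have hjk : j ≤ k := (Nat.pow_le_pow_iff_right (by norm_num)).1
    (hZ ▸ hk ▸ Subgroup.card_le_of_le hZC)
  have hmod := h.fixed_modEq_top hyr hy
  rw [hR, hk] at hmod
  rcases Nat.lt_or_ge k n with hlt | hge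
  · exfalso
    have hd := (Nat.modEq_iff_dvd' (Nat.pow_le_pow_right (by norm_num) hkn)).1 hmod.symm
    have hprimes : ∀ m ∈ [60, 48, 32, 30, 24, 16, 12], ¬ r ∣ m := by
      intro m hm hdm
      have h480 : m ∣ 2 ^ 5 * (3 * 5) := by fin_cases hm <;> norm_num
      have h' := hdm.trans h480
      have hne : ∀ l : ℕ, l.Prime → l ≤ 5 → ¬ r ∣ l := fun l hl hl5 hdl => by
        have := (Nat.prime_dvd_prime_iff_eq hr.out hl).1 hdl
        omega
      rcases hr.out.dvd_mul.1 h' with h1 | h1
      · exact hne 2 Nat.prime_two (by norm_num) (hr.out.dvd_of_dvd_pow h1)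
      · rcases hr.out.dvd_mul.1 h1 with h2 | h2
        · exact hne 3 Nat.prime_three (by norm_num) h2
        · exact hne 5 Nat.prime_five le_rfl h2
    have hcase : (n = 6 ∧ j = 2 ∧ k = 3) ∨ (n = 5 ∧ j = 1 ∧ k = 2) := by
      rcases hnj with ⟨rfl, rfl⟩ | ⟨rfl, rfl⟩ <;> interval_cases k <;>
        first | omega | (norm_num at hd; exact absurd hd (hprimes _ (by simp)))
    obtain ⟨u, huC, huZ⟩ : ∃ u, u ∈ C ∧ u ∉ Subgroup.center R := by
      by_contra hall
      push Not at hall
      have := Subgroup.card_le_of_le (show C ≤ Subgroup.center R from hall)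
      rw [hk, hZ] at this
      have := (Nat.pow_le_pow_iff_right (by norm_num)).1 this
      omega
    -- the centraliser of `u`
    set D := Subgroup.centralizer ({u} : Set R) with hD
    have hidx : D.index = 2 := by
      obtain ⟨a, ha⟩ : ∃ a : R, a ∉ D := by
        by_contra hall
        push Not at hall
        exact huZ (Subgroup.mem_center_iff.2 fun g =>
          Subgroup.mem_centralizer_singleton_iff.1 (hall g))
      rw [Subgroup.index_eq_two_iff]
      have hDiff : ∀ b : R, b ∈ D ↔ ((b : GL ι F) : M) * ((u : GL ι F) : M) =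
          ((u : GL ι F) : M) * ((b : GL ι F) : M) := fun b => by
        rw [hD, Subgroup.mem_centralizer_singleton_iff, Subtype.ext_iff, Units.ext_iff]
        simp
      refine ⟨a, fun b => ?_⟩
      have hA := (h.comm u u.2 a a.2).resolve_left fun h' => ha ((hDiff a).2 h')
      by_cases hb : b ∈ D
      · exact Or.inr ⟨hb, fun hba => ha (by simpa using D.mul_mem (D.inv_mem hb) hba)⟩
      · refine Or.inl ⟨(hDiff _).2 ?_, hb⟩
        have hB := (h.comm u u.2 b b.2).resolve_left fun h' => hb ((hDiff b).2 h')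
        rw [Subgroup.coe_mul, Units.val_mul, Matrix.mul_assoc, hA, Matrix.mul_neg, ← Matrix.mul_assoc,
          hB, Matrix.neg_mul, neg_neg, Matrix.mul_assoc]
    have hDcard : Nat.card D = 2 ^ (n - 1) := by
      have := Subgroup.card_mul_index D
      rw [hidx, hR, show n = (n - 1) + 1 by omega, pow_succ] at this
      exact Nat.eq_of_mul_eq_mul_right two_pos this
    have huy : y * (u : GL ι F) = u * y := mem_fixedPart.1 huC
    have hm2 := h.fixed_modEq hyr (D := D) fun x hx => by
      refine ⟨⟨_, conj_mem hy x.2⟩, ?_, rfl⟩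
      rw [hD, Subgroup.mem_centralizer_singleton_iff] at hx ⊢
      apply Subtype.ext
      have hxu : (x : GL ι F) * u = u * x := congrArg Subtype.val hx
      show y * (x : GL ι F) * y⁻¹ * u = u * (y * (x : GL ι F) * y⁻¹)
      calc y * (x : GL ι F) * y⁻¹ * u = y * (x : GL ι F) * (y⁻¹ * (u * y)) * y⁻¹ := by group
        _ = y * ((x : GL ι F) * u) * y⁻¹ := by rw [← huy]; group
        _ = (y * u) * x * y⁻¹ := by rw [hxu]; group
        _ = _ := by rw [huy]; group
    obtain ⟨l, hl, hlc⟩ := (Nat.dvd_prime_pow Nat.prime_two).1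
      (hk ▸ Subgroup.card_dvd_of_le (inf_le_right : D ⊓ C ≤ C))
    have hl2 : j < l := by
      rw [← Nat.pow_lt_pow_iff_right (show 1 < 2 by norm_num), ← hlc, ← hZ]
      have hle : Subgroup.center R ≤ D ⊓ C := le_inf (Subgroup.center_le_centralizer _) hZC
      refine lt_of_le_of_ne (Subgroup.card_le_of_le hle) fun heq => huZ ?_
      rw [Subgroup.eq_of_le_of_card_ge hle heq.ge]
      exact ⟨Subgroup.mem_centralizer_singleton_iff.2 rfl, huC⟩
    rw [hDcard, hlc] at hm2
    have hd2 := (Nat.modEq_iff_dvd' (Nat.pow_le_pow_right (by norm_num) (by omega))).1 hm2.symm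
    rcases hcase with ⟨rfl, rfl, rfl⟩ | ⟨rfl, rfl, rfl⟩
    · obtain rfl : l = 3 := by omega
      exact hprimes 24 (by simp) hd2
    · obtain rfl : l = 2 := by omega
      exact hprimes 12 (by simp) hd2
  · have htop : C = ⊤ := Subgroup.eq_top_of_card_eq _ (by rw [hk, hR, show k = n by omega])
    exact h.scalar_of_commute _ fun x hx => congrArg Units.val
      (mem_fixedPart.1 (show (⟨x, hx⟩ : R) ∈ C from htop ▸ Subgroup.mem_top _))

end Good

end CfsgLib.TwoSymp
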