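import Mathlib
import Cfsg.Agent.Lib.LinFix.TwoSymp
import Cfsg.Agent.Lib.Aschbacher.SymplecticType

/-!
# The Pauli model of a two-qubit group of symplectic type with centre of order four
-/

set_option autoImplicit false
open scoped MatrixGroups

namespace CfsgLib.TwoSymp

open Matrix

variable {F : Type*} [Field F]

local notation "M4" => Matrix (Fin 4) (Fin 4) F

/-- Generator. -/
def pX1 (F : Type*) [Field F] : Matrix (Fin 4) (Fin 4) F :=
  !![0, 0, 1, 0; 0, 0, 0, 1; 1, 0, 0, 0; 0, 1, 0, 0]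
/-- Generator. -/
def pZ1 (F : Type*) [Field F] : Matrix (Fin 4) (Fin 4) F := Matrix.diagonal ![1, 1, -1, -1]
/-- Generator. -/
def pX2 (F : Type*) [Field F] : Matrix (Fin 4) (Fin 4) F :=
  !![0, 1, 0, 0; 1, 0, 0, 0; 0, 0, 0, 1; 0, 0, 1, 0]
/-- Generator. -/
def pZ2 (F : Type*) [Field F] : Matrix (Fin 4) (Fin 4) F := Matrix.diagonal ![1, -1, 1, -1]

/-- An element of order three of one qubit. -/
def cT1 (im : F) : Matrix (Fin 4) (Fin 4) F := (2⁻¹ : F) •
  !![-1 - im, 0, -1 - im, 0; 0, -1 - im, 0, -1 - im; 1 - im, 0, -1 + im, 0; 0, 1 - im, 0, -1 + im]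
/-- An element of order three of two qubits. -/
def cTT (im : F) : Matrix (Fin 4) (Fin 4) F := (2⁻¹ : F) •
  !![im, im, im, im; -1, 1, -1, 1; -1, -1, 1, 1; -im, im, im, -im]
/-- An element of order five. -/
def cM5 (im : F) : Matrix (Fin 4) (Fin 4) F := (2⁻¹ : F) •
  !![-im, -im, -im, im; -im, im, -im, -im; 1, 1, -1, 1; 1, -1, -1, -1]

/-- The standard presentation. -/
structure Pauli (R : Subgroup (GL (Fin 4) F)) (im : F) (Q X1 Z1 X2 Z2 I : GL (Fin 4) F) : Prop where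
  im_sq : im ^ 2 = -1
  finite : Finite R
  gen : Subgroup.closure {I, X1, Z1, X2, Z2} = R
  hI : (I : M4) = im • 1
  hX1 : (X1 : M4) = (Q : M4) * pX1 F * ((Q⁻¹ : GL (Fin 4) F) : M4)
  hZ1 : (Z1 : M4) = (Q : M4) * pZ1 F * ((Q⁻¹ : GL (Fin 4) F) : M4)
  hX2 : (X2 : M4) = (Q : M4) * pX2 F * ((Q⁻¹ : GL (Fin 4) F) : M4)
  hZ2 : (Z2 : M4) = (Q : M4) * pZ2 F * ((Q⁻¹ : GL (Fin 4) F) : M4)

/-- Existence of the standard presentation. -/
theorem exists_pauli [Finite F] {R : Subgroup (GL (Fin 4) F)} (h : Good R) (hR : Nat.card R = 2 ^ 6)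
    (hZ : Nat.card (Subgroup.center R) = 4) :
    ∃ (im : F) (Q X1 Z1 X2 Z2 I : GL (Fin 4) F), Pauli R im Q X1 Z1 X2 Z2 I := by
  classical
  haveI := h.finite
  haveI := Fintype.ofFinite F
  have hcen : ∀ x : R, x ∈ Subgroup.center R ↔ ∃ c : F, ((x : GL (Fin 4) F) : M4) = c • 1 := by
    intro x
    refine ⟨fun hx => h.scalar_of_commute _ fun z hz =>
      (congrArg (fun u : R => ((u : GL (Fin 4) F) : M4)) (Subgroup.mem_center_iff.1 hx ⟨z, hz⟩)).symm,
      fun ⟨c, hc⟩ => Subgroup.mem_center_iff.2 fun z => Subtype.ext (Units.ext ?_)⟩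
    rw [Subgroup.coe_mul, Subgroup.coe_mul, Units.val_mul, Units.val_mul, hc, Matrix.mul_smul,
      Matrix.smul_mul, one_mul, mul_one]
  choose sc hsc using fun x : Subgroup.center R => (hcen x).1 x.2
  have hscinj : Function.Injective sc := fun x y hxy =>
    Subtype.ext (Subtype.ext (Units.ext (by rw [hsc, hsc, hxy])))
  have hsc4 : ∀ x, sc x ^ 2 = 1 ∨ sc x ^ 2 = -1 := fun x => by
    obtain ⟨c, hc, hc2⟩ := h.sq _ (x : R).2
    rw [hsc, _root_.smul_pow, one_pow] at hc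
    have : sc x ^ 2 = c := by simpa using congrFun (congrFun hc 0) 0
    rw [this]
    exact sq_eq_one_iff.1 hc2
  obtain ⟨xI, hxI⟩ : ∃ x : Subgroup.center R, sc x ^ 2 = -1 := by
    by_contra hall
    push Not at hall
    have hle : Set.range sc ⊆ ({1, -1} : Set F) := by
      rintro _ ⟨x, rfl⟩
      simpa using sq_eq_one_iff.1 ((hsc4 x).resolve_right (hall x))
    have h1 := Set.ncard_le_ncard hle (Set.toFinite _)
    rw [Set.ncard_range_of_injective hscinj, hZ] at h1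
    have h2 := Set.ncard_insert_le (1 : F) {-1}
    rw [Set.ncard_singleton] at h2
    omega
  set im := sc xI with him
  set I : GL (Fin 4) F := ((xI : R) : GL (Fin 4) F) with hIdef
  have hIR : I ∈ R := (xI : R).2
  have hI : (I : M4) = im • 1 := hsc xI
  -- scalar elements are powers of `I`
  have hscal : ∀ g ∈ R, (∃ c : F, ((g : GL (Fin 4) F) : M4) = c • 1) → g ∈ Subgroup.zpowers I := by
    rintro g hg ⟨c, hc⟩
    obtain ⟨d, hd, hd2⟩ := h.sq g hg
    rw [hc, _root_.smul_pow, one_pow] at hd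
    have hcd : c ^ 2 = d := by simpa using congrFun (congrFun hd 0) 0
    rw [← hcd] at hd2
    have hpow : ∀ k : ℕ, c = im ^ k → g ∈ Subgroup.zpowers I := fun k hk =>
      ⟨k, by
        show I ^ (k : ℤ) = g
        rw [zpow_natCast]
        exact Units.ext (by rw [Units.val_pow_eq_pow_val, hI, hc, hk, _root_.smul_pow, one_pow])⟩
    rcases sq_eq_one_iff.1 hd2 with h1 | h1
    · rcases sq_eq_one_iff.1 h1 with h2 | h2
      · exact hpow 0 (by rw [h2, pow_zero])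
      · exact hpow 2 (by rw [h2, hxI])
    · rcases sq_eq_sq_iff_eq_or_eq_neg.1 (h1.trans hxI.symm) with h2 | h2
      · exact hpow 1 (by rw [h2, pow_one])
      · exact hpow 3 (by rw [h2, pow_succ, hxI]; ring)
  -- multiply to an involution
  have adjust : ∀ g ∈ R, ∃ g' ∈ R, (g' : M4) ^ 2 = 1 ∧ ∃ c : F, c ≠ 0 ∧ (g' : M4) = c • (g : M4) := by
    intro g hg
    obtain ⟨c, hc, hc2⟩ := h.sq g hg
    rcases sq_eq_one_iff.1 hc2 with rfl | rfl
    · exact ⟨g, hg, by rw [hc, one_smul], 1, one_ne_zero, (one_smul F _).symm⟩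
    · refine ⟨I * g, R.mul_mem hIR hg, ?_, im, ?_, by rw [Units.val_mul, hI, Matrix.smul_mul, one_mul]⟩
      · rw [Units.val_mul, hI, Matrix.smul_mul, one_mul, _root_.smul_pow, hc, smul_smul, hxI]
        norm_num
      · intro h0
        rw [h0, zero_pow two_ne_zero] at hxI
        exact one_ne_zero (neg_eq_zero.1 hxI.symm)
  have anti_ne : ∀ {x y : GL (Fin 4) F}, (y : M4) * x = -((x : M4) * y) → (y : M4) * x ≠ x * y := by
    intro x y h1 h2
    rw [h1] at h2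
    have h3 : (2 : F) • ((x : M4) * y) = 0 := by
      rw [two_smul]; exact neg_eq_iff_add_eq_zero.1 h2
    exact (x * y).ne_zero ((smul_eq_zero.1 h3).resolve_left h.two_ne)
  -- first pair
  obtain ⟨a, haR, ha⟩ : ∃ a ∈ R, ∀ c : F, (a : M4) ≠ c • 1 := by
    by_contra hall
    push Not at hall
    have : Subgroup.center R = ⊤ := eq_top_iff.2 fun x _ => (hcen x).2 (hall x x.2)
    rw [this, Subgroup.card_top, hR] at hZ
    norm_num at hZ
  obtain ⟨Z1, hZ1R, hZ1sq, c1, hc1, hc1e⟩ := adjust a haR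
  obtain ⟨b, hbR, hb⟩ := (h.scalar_or_anti hZ1R).resolve_left fun ⟨c, hc⟩ => ha (c1⁻¹ * c) (by
    rw [← smul_smul, ← hc, hc1e, smul_smul, inv_mul_cancel₀ hc1, one_smul])
  obtain ⟨X1, hX1R, hX1sq, c2, hc2, hc2e⟩ := adjust b hbR
  have hXZ1 : (X1 : M4) * Z1 = -((Z1 : M4) * X1) := by
    rw [hc2e, Matrix.smul_mul, hb, Matrix.mul_smul, smul_neg]
  have prodrule : ∀ {g x z : GL (Fin 4) F}, (x : M4) * g = -((g : M4) * x) →
      (z : M4) * g = -((g : M4) * z) → (g : M4) * (x * z : GL (Fin 4) F) = (x * z : GL (Fin 4) F) * (g : M4) := by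
    intro g x z h1 h2
    rw [Units.val_mul, Matrix.mul_assoc (x : M4), h2, Matrix.mul_neg, ← Matrix.mul_assoc (x : M4), h1,
      Matrix.neg_mul, neg_neg, Matrix.mul_assoc]
  -- correct an element so as to commute with a pair
  have correct : ∀ {X Z : GL (Fin 4) F}, X ∈ R → Z ∈ R → (X : M4) * Z = -((Z : M4) * X) →
      ∀ g ∈ R, ∃ i j : ℕ, i < 2 ∧ j < 2 ∧ (g * X ^ i * Z ^ j) ∈ R ∧
        (X : M4) * (g * X ^ i * Z ^ j : GL (Fin 4) F) = (g * X ^ i * Z ^ j : GL (Fin 4) F) * (X : M4) ∧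
        (Z : M4) * (g * X ^ i * Z ^ j : GL (Fin 4) F) = (g * X ^ i * Z ^ j : GL (Fin 4) F) * (Z : M4) := by
    intro X Z hX hZ hXZ g hg
    have hZX : (Z : M4) * X = -((X : M4) * Z) := by rw [hXZ, neg_neg]
    obtain ⟨i, hi, hgi⟩ : ∃ i < 2, (Z : M4) * (g * X ^ i : GL (Fin 4) F) = (g * X ^ i : GL (Fin 4) F) * (Z : M4) := by
      rcases h.comm g hg Z hZ with h1 | h1
      · exact ⟨0, two_pos, by simpa using h1⟩
      · refine ⟨1, one_lt_two, ?_⟩
        rw [pow_one]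
        exact prodrule (by rw [h1, neg_neg]) hXZ
    obtain ⟨j, hj, hgj⟩ : ∃ j < 2, (X : M4) * (g * X ^ i * Z ^ j : GL (Fin 4) F) = (g * X ^ i * Z ^ j : GL (Fin 4) F) * (X : M4) := by
      rcases h.comm (g * X ^ i) (R.mul_mem hg (R.pow_mem hX i)) X hX with h1 | h1
      · exact ⟨0, two_pos, by simpa using h1⟩
      · refine ⟨1, one_lt_two, ?_⟩
        rw [pow_one]
        exact prodrule (by rw [h1, neg_neg]) hZX
    refine ⟨i, j, hi, hj, R.mul_mem (R.mul_mem hg (R.pow_mem hX i)) (R.pow_mem hZ j), hgj, ?_⟩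
    rw [Units.val_mul (g * X ^ i), ← Matrix.mul_assoc, hgi, Matrix.mul_assoc, Matrix.mul_assoc,
      Units.val_pow_eq_pow_val, ((Commute.refl (Z : M4)).pow_right j).eq]
  -- second pair
  obtain ⟨x, z, hxR, hzR, hx1, hx2, hz1, hz2, hxz⟩ : ∃ x z, x ∈ R ∧ z ∈ R ∧
      (X1 : M4) * x = x * X1 ∧ (Z1 : M4) * x = x * Z1 ∧ (X1 : M4) * z = z * X1 ∧
      (Z1 : M4) * z = z * Z1 ∧ (x : M4) * z = -((z : M4) * x) := by
    by_contra hall
    push Not at hall
    have hsc' : ∀ g ∈ R, (X1 : M4) * g = g * X1 → (Z1 : M4) * g = g * Z1 → ∃ c : F, (g : M4) = c • 1 := by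
      intro g hg h1 h2
      refine h.scalar_of_commute _ fun y hy => ?_
      obtain ⟨i, j, -, -, hy', hy1, hy2⟩ := correct hX1R hZ1R hXZ1 y hy
      have hgy := (h.comm g hg _ hy').resolve_right (hall _ g hy' hg hy1 hy2 h1 h2)
      have hgyu : g * (y * X1 ^ i * Z1 ^ j) = (y * X1 ^ i * Z1 ^ j) * g := Units.ext hgy.symm
      have h1u : Commute g X1 := Units.ext h1.symm
      have h2u : Commute g Z1 := Units.ext h2.symm
      have hcy : Commute g y := by
        have e : y = (y * X1 ^ i * Z1 ^ j) * ((X1 ^ i * Z1 ^ j))⁻¹ := by group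
        rw [e]
        exact Commute.mul_right hgyu (((h1u.pow_right i).mul_right (h2u.pow_right j)).inv_right)
      exact congrArg Units.val hcy.eq
    have hsurj : Function.Surjective (fun t : Subgroup.center R × Fin 2 × Fin 2 =>
        (t.1 : R) * (⟨(X1 ^ (t.2.1 : ℕ) * Z1 ^ (t.2.2 : ℕ))⁻¹,
          R.inv_mem (R.mul_mem (R.pow_mem hX1R _) (R.pow_mem hZ1R _))⟩ : R)) := by
      intro g
      obtain ⟨i, j, hi, hj, hg', h1, h2⟩ := correct hX1R hZ1R hXZ1 g g.2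
      refine ⟨(⟨⟨_, hg'⟩, (hcen _).2 (hsc' _ hg' h1 h2)⟩, ⟨i, hi⟩, ⟨j, hj⟩), Subtype.ext ?_⟩
      show (g : GL (Fin 4) F) * X1 ^ i * Z1 ^ j * (X1 ^ i * Z1 ^ j)⁻¹ = g
      group
    have := Nat.card_le_card_of_surjective _ hsurj
    rw [Nat.card_prod, Nat.card_prod, Nat.card_fin, hZ, hR] at this
    norm_num at this
  obtain ⟨Z2, hZ2R, hZ2sq, c3, hc3, hc3e⟩ := adjust z hzR
  obtain ⟨X2, hX2R, hX2sq, c4, hc4, hc4e⟩ := adjust x hxR
  have hXZ2 : (X2 : M4) * Z2 = -((Z2 : M4) * X2) := by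
    rw [hc3e, hc4e, Matrix.smul_mul, Matrix.mul_smul, hxz, Matrix.smul_mul, Matrix.mul_smul, smul_neg,
      smul_neg, smul_comm c4 c3]
  have c12 : (X1 : M4) * Z2 = Z2 * X1 := by rw [hc3e, Matrix.mul_smul, hz1, Matrix.smul_mul]
  have c14 : (Z1 : M4) * Z2 = Z2 * Z1 := by rw [hc3e, Matrix.mul_smul, hz2, Matrix.smul_mul]
  have c13 : (X1 : M4) * X2 = X2 * X1 := by rw [hc4e, Matrix.mul_smul, hx1, Matrix.smul_mul]
  have c15 : (Z1 : M4) * X2 = X2 * Z1 := by rw [hc4e, Matrix.mul_smul, hx2, Matrix.smul_mul]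
  -- a common fixed vector
  obtain ⟨w, hw⟩ : ∃ w : Fin 4 → F, (((Z1 : M4) + 1) * ((Z2 : M4) + 1)) *ᵥ w ≠ 0 := by
    by_contra hall
    push Not at hall
    have h0 : ((Z1 : M4) + 1) * ((Z2 : M4) + 1) = 0 :=
      Matrix.ext_of_mulVec_single fun i => by rw [hall, Matrix.zero_mulVec]
    have h1 : (1 - (Z1 : M4)) * ((Z2 : M4) + 1) = 0 := by
      have := congrArg (fun A : M4 => (X1 : M4) * A * (X1 : M4)) h0
      simp only [Matrix.mul_zero, Matrix.zero_mul] at this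
      rw [← this]
      have e : ((Z2 : M4) + 1) * X1 = X1 * ((Z2 : M4) + 1) := by
        rw [Matrix.add_mul, Matrix.mul_add, c12]; simp
      rw [Matrix.mul_assoc, Matrix.mul_assoc ((Z1 : M4) + 1), e, ← Matrix.mul_assoc,
        ← Matrix.mul_assoc]
      congr 1
      rw [Matrix.mul_add, Matrix.mul_one, Matrix.add_mul, hXZ1, Matrix.neg_mul, Matrix.mul_assoc,
        ← pow_two, hX1sq, mul_one]
      abel
    have h2 : (2 : F) • ((Z2 : M4) + 1) = 0 := by
      rw [two_smul]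
      calc ((Z2 : M4) + 1) + ((Z2 : M4) + 1) = ((Z1 : M4) + 1) * ((Z2 : M4) + 1) + (1 - (Z1 : M4)) * ((Z2 : M4) + 1) := by
            rw [← Matrix.add_mul, show (Z1 : M4) + 1 + (1 - Z1) = 1 + 1 by abel, Matrix.add_mul, one_mul]
        _ = 0 := by rw [h0, h1, add_zero]
    have h3 : (Z2 : M4) = -1 := eq_neg_of_add_eq_zero_left ((smul_eq_zero.1 h2).resolve_left h.two_ne)
    exact anti_ne hXZ2 (by rw [h3]; simp)
  set v := (((Z1 : M4) + 1) * ((Z2 : M4) + 1)) *ᵥ w with hv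
  have z1v : (Z1 : M4) *ᵥ v = v := by
    have e : (Z1 : M4) * ((Z1 : M4) + 1) = (Z1 : M4) + 1 := by
      rw [Matrix.mul_add, ← pow_two, hZ1sq, mul_one, add_comm]
    rw [hv, Matrix.mulVec_mulVec, ← Matrix.mul_assoc, e]
  have z2v : (Z2 : M4) *ᵥ v = v := by
    have hcomm : ((Z1 : M4) + 1) * ((Z2 : M4) + 1) = ((Z2 : M4) + 1) * ((Z1 : M4) + 1) := by
      simp only [add_mul, mul_add, one_mul, mul_one, c14]; abel
    have e : (Z2 : M4) * ((Z2 : M4) + 1) = (Z2 : M4) + 1 := by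
      rw [Matrix.mul_add, ← pow_two, hZ2sq, mul_one, add_comm]
    rw [hv, hcomm, Matrix.mulVec_mulVec, ← Matrix.mul_assoc, e]
  let u : Fin 4 → (Fin 4 → F) := ![v, (X2 : M4) *ᵥ v, (X1 : M4) *ᵥ v, (X1 : M4) *ᵥ ((X2 : M4) *ᵥ v)]
  have hzx1 : (Z1 : M4) * X1 = -((X1 : M4) * Z1) := by rw [hXZ1, neg_neg]
  have hzx2 : (Z2 : M4) * X2 = -((X2 : M4) * Z2) := by rw [hXZ2, neg_neg]
  have hz1u : ∀ j, (Z1 : M4) *ᵥ u j = (![1, 1, -1, -1] j : F) • u j := by
    intro j
    fin_cases j <;> simp [u, Matrix.mulVec_mulVec, c15, hzx1]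
    · exact z1v
    · rw [← Matrix.mulVec_mulVec, z1v]
    · rw [Matrix.neg_mulVec, ← Matrix.mulVec_mulVec, z1v]
    · rw [← Matrix.mul_assoc, hzx1, Matrix.neg_mul, Matrix.mul_assoc, c15, ← Matrix.mul_assoc,
        Matrix.neg_mulVec, ← Matrix.mulVec_mulVec, z1v]
  have hz2u : ∀ j, (Z2 : M4) *ᵥ u j = (![1, -1, 1, -1] j : F) • u j := by
    intro j
    fin_cases j <;> simp [u, Matrix.mulVec_mulVec, c12.symm, hzx2]
    · exact z2v
    · rw [Matrix.neg_mulVec, ← Matrix.mulVec_mulVec, z2v]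
    · rw [← Matrix.mulVec_mulVec, z2v]
    · rw [← Matrix.mul_assoc, c12.symm, Matrix.mul_assoc, hzx2, Matrix.mul_neg, ← Matrix.mul_assoc,
        Matrix.neg_mulVec, ← Matrix.mulVec_mulVec, z2v]
  have hu0 : ∀ j, u j ≠ 0 := by
    have hinj : ∀ (X : GL (Fin 4) F) (y : Fin 4 → F), y ≠ 0 → (X : M4) *ᵥ y ≠ 0 := fun X y hy h0 => hy (by
      have := congrArg (fun t => ((X⁻¹ : GL (Fin 4) F) : M4) *ᵥ t) h0
      simpa [Matrix.mulVec_mulVec] using this)
    intro j
    fin_cases j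
    · exact hw
    · exact hinj _ _ hw
    · exact hinj _ _ hw
    · exact hinj _ _ (hinj _ _ hw)
  have h11 : (1 : F) ≠ -1 := fun he => h.two_ne (by linear_combination he)
  have hli : LinearIndependent F u := CfsgLib.Asch.indep_of_separated u hu0
    (fun t : Bool => Matrix.toLin' (if t then (Z1 : M4) else Z2))
    (fun t j => if t then ![1, 1, -1, -1] j else ![1, -1, 1, -1] j)
    (fun t j => by cases t <;> simp [Matrix.toLin'_apply, hz1u, hz2u])
    (fun i j hij => by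
      fin_cases i <;> fin_cases j <;> simp at hij ⊢ <;> simp [h11, Ne.symm h11])
  let Qm : M4 := (Matrix.of u)ᵀ
  have hQdet : Qm.det ≠ 0 := by
    rw [Matrix.det_transpose]
    exact ((Matrix.isUnit_iff_isUnit_det _).1
      (Matrix.linearIndependent_rows_iff_isUnit.1 hli)).ne_zero
  let Q := Matrix.GeneralLinearGroup.mkOfDetNeZero Qm hQdet
  have key : ∀ (A : GL (Fin 4) F) (N : M4), (∀ j i, ((A : M4) *ᵥ u j) i = ∑ k, N k j * u k i) →
      (A : M4) = (Q : M4) * N * ((Q⁻¹ : GL (Fin 4) F) : M4) := by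
    intro A N hA
    have : (A : M4) * Qm = Qm * N := by
      ext i j
      rw [show ((A : M4) * Qm) i j = ((A : M4) *ᵥ u j) i from rfl, hA, Matrix.mul_apply]
      exact Finset.sum_congr rfl fun k _ => mul_comm _ _
    rw [show (Q : M4) = Qm from rfl, ← this, Matrix.mul_assoc, show Qm = (Q : M4) from rfl, Units.mul_inv,
      mul_one]
  have ex1 : (X1 : M4) = (Q : M4) * pX1 F * ((Q⁻¹ : GL (Fin 4) F) : M4) := key _ _ fun j i => by
    fin_cases j <;>
      simp [u, pX1, Fin.sum_univ_four, Matrix.mulVec_mulVec, ← Matrix.mul_assoc, ← pow_two, hX1sq]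
  have ex2 : (X2 : M4) = (Q : M4) * pX2 F * ((Q⁻¹ : GL (Fin 4) F) : M4) := key _ _ fun j i => by
    fin_cases j <;>
      simp [u, pX2, Fin.sum_univ_four, Matrix.mulVec_mulVec, ← Matrix.mul_assoc, ← pow_two, hX2sq, c13.symm]
    rw [Matrix.mul_assoc, ← pow_two, hX2sq, mul_one]
  have ez1 : (Z1 : M4) = (Q : M4) * pZ1 F * ((Q⁻¹ : GL (Fin 4) F) : M4) := key _ _ fun j i => by
    rw [hz1u]; fin_cases j <;> simp [pZ1, Fin.sum_univ_four, Matrix.diagonal_apply]
  have ez2 : (Z2 : M4) = (Q : M4) * pZ2 F * ((Q⁻¹ : GL (Fin 4) F) : M4) := key _ _ fun j i => by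
    rw [hz2u]; fin_cases j <;> simp [pZ2, Fin.sum_univ_four, Matrix.diagonal_apply]
  refine ⟨im, Q, X1, Z1, X2, Z2, I, hxI, h.finite, le_antisymm ?_ ?_, hI, ex1, ez1, ex2, ez2⟩
  · rw [Subgroup.closure_le]
    rintro g (rfl | rfl | rfl | rfl | rfl) <;> assumption
  intro g hg
  set S := Subgroup.closure {I, X1, Z1, X2, Z2} with hS
  have m1 : I ∈ S := Subgroup.subset_closure (by simp)
  have m2 : X1 ∈ S := Subgroup.subset_closure (by simp)
  have m3 : Z1 ∈ S := Subgroup.subset_closure (by simp)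
  have m4 : X2 ∈ S := Subgroup.subset_closure (by simp)
  have m5 : Z2 ∈ S := Subgroup.subset_closure (by simp)
  obtain ⟨i, j, -, -, hg', hg1, hg2⟩ := correct hX1R hZ1R hXZ1 g hg
  set g' := g * X1 ^ i * Z1 ^ j with hg'def
  obtain ⟨k, l, -, -, hg'', hg3, hg4⟩ := correct hX2R hZ2R hXZ2 g' hg'
  set g'' := g' * X2 ^ k * Z2 ^ l with hg''def
  have k1 : (X1 : M4) * g'' = g'' * X1 := by
    rw [hg''def, Units.val_mul, Units.val_mul, Units.val_pow_eq_pow_val, Units.val_pow_eq_pow_val]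
    exact (((show Commute (X1 : M4) g' from hg1).mul_right
      ((show Commute (X1 : M4) X2 from c13).pow_right k)).mul_right
      ((show Commute (X1 : M4) Z2 from c12).pow_right l)).eq
  have k2 : (Z1 : M4) * g'' = g'' * Z1 := by
    rw [hg''def, Units.val_mul, Units.val_mul, Units.val_pow_eq_pow_val, Units.val_pow_eq_pow_val]
    exact (((show Commute (Z1 : M4) g' from hg2).mul_right
      ((show Commute (Z1 : M4) X2 from c15).pow_right k)).mul_right
      ((show Commute (Z1 : M4) Z2 from c14).pow_right l)).eq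
  set N := ((Q⁻¹ : GL (Fin 4) F) : M4) * (g'' : M4) * (Q : M4) with hN
  have hNc : ∀ (A : GL (Fin 4) F) (P : M4), (A : M4) = (Q : M4) * P * ((Q⁻¹ : GL (Fin 4) F) : M4) →
      (A : M4) * g'' = g'' * A → P * N = N * P := by
    intro A P hP hA
    rw [hP] at hA
    have := congrArg (fun Y : M4 => ((Q⁻¹ : GL (Fin 4) F) : M4) * Y * (Q : M4)) hA
    simpa [hN, Matrix.mul_assoc] using this
  have n1 := hNc _ _ ex1 k1
  have n2 := hNc _ _ ez1 k2
  have n3 := hNc _ _ ex2 hg3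
  have n4 := hNc _ _ ez2 hg4
  have hoff : ∀ a b : Fin 4, a ≠ b → N a b = 0 := by
    intro a b hab
    have e1 := congrFun (congrFun n2 a) b
    have e2 := congrFun (congrFun n4 a) b
    rw [pZ1, Matrix.diagonal_mul, Matrix.mul_diagonal] at e1
    rw [pZ2, Matrix.diagonal_mul, Matrix.mul_diagonal] at e2
    fin_cases a <;> fin_cases b <;> simp at hab e1 e2 ⊢ <;>
      first
      | exact (mul_eq_zero.1 (show (2 : F) * _ = 0 by linear_combination e1)).resolve_left h.two_ne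
      | exact (mul_eq_zero.1 (show (2 : F) * _ = 0 by linear_combination -e1)).resolve_left h.two_ne
      | exact (mul_eq_zero.1 (show (2 : F) * _ = 0 by linear_combination e2)).resolve_left h.two_ne
      | exact (mul_eq_zero.1 (show (2 : F) * _ = 0 by linear_combination -e2)).resolve_left h.two_ne
  have e1 : N 0 0 = N 2 2 := by
    have := congrFun (congrFun n1 0) 2
    simp [Matrix.mul_apply, Fin.sum_univ_four, pX1] at this
    exact this.symm
  have e2 : N 1 1 = N 3 3 := by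
    have := congrFun (congrFun n1 1) 3
    simp [Matrix.mul_apply, Fin.sum_univ_four, pX1] at this
    exact this.symm
  have e3 : N 0 0 = N 1 1 := by
    have := congrFun (congrFun n3 0) 1
    simp [Matrix.mul_apply, Fin.sum_univ_four, pX2] at this
    exact this.symm
  have hNs : N = N 0 0 • (1 : M4) := by
    ext a b
    rcases eq_or_ne a b with rfl | hab
    · fin_cases a <;> simp [← e1, ← e3, ← e2]
    · simp [hab, hoff a b hab]
  have hgs : ∃ c : F, (g'' : M4) = c • 1 := ⟨N 0 0, by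
    calc (g'' : M4) = (Q : M4) * N * ((Q⁻¹ : GL (Fin 4) F) : M4) := by simp [hN, Matrix.mul_assoc]
      _ = _ := by rw [hNs]; simp⟩
  have hg''S : g'' ∈ S := Subgroup.zpowers_le.2 m1 (hscal _ hg'' hgs)
  have : g = g'' * (Z2 ^ l)⁻¹ * (X2 ^ k)⁻¹ * (Z1 ^ j)⁻¹ * (X1 ^ i)⁻¹ := by
    rw [hg''def, hg'def]; group
  rw [this]
  exact S.mul_mem (S.mul_mem (S.mul_mem (S.mul_mem hg''S (S.inv_mem (S.pow_mem m5 l)))
    (S.inv_mem (S.pow_mem m4 k))) (S.inv_mem (S.pow_mem m3 j))) (S.inv_mem (S.pow_mem m2 i))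

namespace Pauli

variable {R : Subgroup (GL (Fin 4) F)} {im : F} {Q X1 Z1 X2 Z2 I : GL (Fin 4) F}

theorem mem (h : Pauli R im Q X1 Z1 X2 Z2 I) : I ∈ R ∧ X1 ∈ R ∧ Z1 ∈ R ∧ X2 ∈ R ∧ Z2 ∈ R := by
  rw [← h.gen]
  refine ⟨?_, ?_, ?_, ?_, ?_⟩ <;> exact Subgroup.subset_closure (by simp)

/-- Conjugation of a matrix by the change of basis, as a predicate. -/
def InModel (R : Subgroup (GL (Fin 4) F)) (Q : GL (Fin 4) F) (P : Matrix (Fin 4) (Fin 4) F) : Prop :=
  ∃ g ∈ R, (g : M4) = (Q : M4) * P * ((Q⁻¹ : GL (Fin 4) F) : M4)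

theorem inModel_mul {P P' : M4} (h1 : InModel R Q P) (h2 : InModel R Q P') : InModel R Q (P * P') := by
  obtain ⟨g, hg, he⟩ := h1
  obtain ⟨g', hg', he'⟩ := h2
  exact ⟨g * g', R.mul_mem hg hg', by rw [Units.val_mul, he, he']; simp [Matrix.mul_assoc]⟩

theorem inModel_smul (h : Pauli R im Q X1 Z1 X2 Z2 I) {P : M4} (k : ℕ) (h1 : InModel R Q P) :
    InModel R Q ((im ^ k) • P) := by
  obtain ⟨g, hg, he⟩ := h1
  exact ⟨I ^ k * g, R.mul_mem (R.pow_mem h.mem.1 k) hg, by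
    rw [Units.val_mul, Units.val_pow_eq_pow_val, h.hI, _root_.smul_pow, one_pow, he, Matrix.smul_mul,
      one_mul, Matrix.mul_smul, Matrix.smul_mul]⟩

theorem inModel_gens (h : Pauli R im Q X1 Z1 X2 Z2 I) :
    InModel R Q (pX1 F) ∧ InModel R Q (pZ1 F) ∧ InModel R Q (pX2 F) ∧ InModel R Q (pZ2 F) ∧
      InModel R Q 1 :=
  ⟨⟨X1, h.mem.2.1, h.hX1⟩, ⟨Z1, h.mem.2.2.1, h.hZ1⟩, ⟨X2, h.mem.2.2.2.1, h.hX2⟩,
    ⟨Z2, h.mem.2.2.2.2, h.hZ2⟩, ⟨1, R.one_mem, by simp⟩⟩

/-- Criterion for normalizing in the model. -/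
theorem mem_normalizer (h : Pauli R im Q X1 Z1 X2 Z2 I) {y : GL (Fin 4) F} {Y : M4}
    (hy : (y : M4) = (Q : M4) * Y * ((Q⁻¹ : GL (Fin 4) F) : M4))
    (h1 : ∃ P, InModel R Q P ∧ Y * pX1 F = P * Y) (h2 : ∃ P, InModel R Q P ∧ Y * pZ1 F = P * Y)
    (h3 : ∃ P, InModel R Q P ∧ Y * pX2 F = P * Y) (h4 : ∃ P, InModel R Q P ∧ Y * pZ2 F = P * Y) :
    y ∈ Cfsg.Geo.subgroupNormalizer R := by
  haveI := h.finite
  have hc : ∀ (g : GL (Fin 4) F) (G : M4), (g : M4) = (Q : M4) * G * ((Q⁻¹ : GL (Fin 4) F) : M4) →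
      (∃ P, InModel R Q P ∧ Y * G = P * Y) → y * g * y⁻¹ ∈ R := by
    rintro g G hg ⟨P, ⟨g', hg', he⟩, hP⟩
    have : y * g * y⁻¹ = g' := by
      rw [mul_inv_eq_iff_eq_mul]
      apply Units.ext
      rw [Units.val_mul, Units.val_mul, hy, hg, he]
      simp only [Matrix.mul_assoc]
      rw [← Matrix.mul_assoc ((Q⁻¹ : GL (Fin 4) F) : M4), Units.inv_mul, one_mul,
        ← Matrix.mul_assoc ((Q⁻¹ : GL (Fin 4) F) : M4), Units.inv_mul, one_mul, ← Matrix.mul_assoc Y, hP,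
        Matrix.mul_assoc]
    rw [this]; exact hg'
  have hle : R.map (MulAut.conj y).toMonoidHom ≤ R := by
    conv_lhs => rw [← h.gen]
    rw [MonoidHom.map_closure, Subgroup.closure_le]
    rintro _ ⟨g, rfl | rfl | rfl | rfl | rfl, rfl⟩
    · have : y * g * y⁻¹ = g := by
        have : y * g = g * y := Units.ext (by
          rw [Units.val_mul, Units.val_mul, h.hI, Matrix.mul_smul, Matrix.smul_mul, one_mul, mul_one])
        rw [this, mul_inv_cancel_right]
      show y * g * y⁻¹ ∈ R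
      rw [this]; exact h.mem.1
    · exact hc _ _ h.hX1 h1
    · exact hc _ _ h.hZ1 h2
    · exact hc _ _ h.hX2 h3
    · exact hc _ _ h.hZ2 h4
  have heq : R.map (MulAut.conj y).toMonoidHom = R :=
    Subgroup.eq_of_le_of_card_ge hle (Subgroup.card_map_of_injective (MulEquiv.injective _)).ge
  rw [Cfsg.Geo.subgroupNormalizer, Subgroup.mem_set_normalizer_iff]
  intro g
  refine ⟨fun hg => heq.le ⟨g, hg, rfl⟩, fun hg => ?_⟩
  obtain ⟨g', hg', hgg⟩ := heq.ge hg
  exact (mul_left_cancel (mul_right_cancel hgg) : g' = g) ▸ hg'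

theorem inModel_signs (h : Pauli R im Q X1 Z1 X2 Z2 I) {P : M4} (hP : InModel R Q P) (e e' : F)
    (he : e = 1 ∨ e = -1) (he' : e' = 1 ∨ e' = -1) :
    InModel R Q (Matrix.diagonal ![e, e', e, e'] * P) ∧ InModel R Q (Matrix.diagonal ![e, e, e', e'] * P) := by
  obtain ⟨-, hZ1', -, hZ2', h1⟩ := h.inModel_gens
  have key : ∀ D : Fin 4 → F, InModel R Q (Matrix.diagonal D) →
      InModel R Q (Matrix.diagonal fun i => -D i) := fun D hD => by
    have := h.inModel_smul 2 hD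
    rw [h.im_sq, ← Matrix.diagonal_smul] at this
    convert this using 3
    simp
  have hone : InModel R Q (Matrix.diagonal fun _ : Fin 4 => (1 : F)) := by rw [Matrix.diagonal_one]; exact h1
  constructor <;> refine inModel_mul ?_ hP <;> rcases he with rfl | rfl <;> rcases he' with rfl | rfl
  · convert hone using 2; funext i; fin_cases i <;> simp
  · exact hZ2'
  · convert key _ hZ2' using 2; funext i; fin_cases i <;> simp
  · convert key _ hone using 2; funext i; fin_cases i <;> simp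
  · convert hone using 2; funext i; fin_cases i <;> simp
  · exact hZ1'
  · convert key _ hZ1' using 2; funext i; fin_cases i <;> simp
  · convert key _ hone using 2; funext i; fin_cases i <;> simp

/-- Diagonal matrices with all entries equal up to sign normalize. -/
theorem diag_normalizes (h : Pauli R im Q X1 Z1 X2 Z2 I) {y : GL (Fin 4) F} {d : Fin 4 → F} {w : F}
    (hw : w ≠ 0) (hd : ∀ i, d i = w ∨ d i = -w)
    (hy : (y : M4) = (Q : M4) * Matrix.diagonal d * ((Q⁻¹ : GL (Fin 4) F) : M4)) :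
    y ∈ Cfsg.Geo.subgroupNormalizer R := by
  have hd0 : ∀ i, d i ≠ 0 := fun i => by rcases hd i with e | e <;> simp [e, hw]
  have hq : ∀ i j, d i / d j = 1 ∨ d i / d j = -1 := fun i j => by
    rcases hd i with e | e <;> rcases hd j with e' | e' <;> simp [e, e', hw, div_neg, neg_div]
  have hq' : ∀ i j, d i / d j = d j / d i := fun i j => by
    rcases hd i with e | e <;> rcases hd j with e' | e' <;> simp [e, e', div_neg, neg_div]
  have hsq : ∀ i j, d i ^ 2 = d j ^ 2 := fun i j => by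
    rcases hd i with e | e <;> rcases hd j with e' | e' <;> simp [e, e']
  obtain ⟨g1, g2, g3, g4, -⟩ := h.inModel_gens
  refine h.mem_normalizer hy
    ⟨_, (h.inModel_signs g1 (d 0 / d 2) (d 1 / d 3) (hq 0 2) (hq 1 3)).1, ?_⟩ ⟨_, g2, ?_⟩
    ⟨_, (h.inModel_signs g3 (d 0 / d 1) (d 2 / d 3) (hq 0 1) (hq 2 3)).2, ?_⟩ ⟨_, g4, ?_⟩
  · ext i j
    have e := hq' 0 2
    have e' := hq' 1 3
    rw [Matrix.diagonal_mul, Matrix.mul_diagonal, Matrix.diagonal_mul]
    fin_cases i <;> fin_cases j <;> simp [pX1] <;>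
      first
      | (rw [e]; field_simp [hd0 0, hd0 2]; done)
      | (rw [e]; field_simp [hd0 0, hd0 2]; exact hsq _ _)
      | (rw [e']; field_simp [hd0 1, hd0 3]; done)
      | (rw [e']; field_simp [hd0 1, hd0 3]; exact hsq _ _)
      | (field_simp [hd0 0, hd0 1, hd0 2, hd0 3]; done)
      | (field_simp [hd0 0, hd0 1, hd0 2, hd0 3]; exact hsq _ _)
  · rw [pZ1, Matrix.diagonal_mul_diagonal, Matrix.diagonal_mul_diagonal]; congr 1; funext i; ring
  · ext i j
    have e := hq' 0 1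
    have e' := hq' 2 3
    rw [Matrix.diagonal_mul, Matrix.mul_diagonal, Matrix.diagonal_mul]
    fin_cases i <;> fin_cases j <;> simp [pX2] <;>
      first
      | (rw [e]; field_simp [hd0 0, hd0 1]; done)
      | (rw [e]; field_simp [hd0 0, hd0 1]; exact hsq _ _)
      | (rw [e']; field_simp [hd0 2, hd0 3]; done)
      | (rw [e']; field_simp [hd0 2, hd0 3]; exact hsq _ _)
      | (field_simp [hd0 0, hd0 1, hd0 2, hd0 3]; done)
      | (field_simp [hd0 0, hd0 1, hd0 2, hd0 3]; exact hsq _ _)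
  · rw [pZ2, Matrix.diagonal_mul_diagonal, Matrix.diagonal_mul_diagonal]; congr 1; funext i; ring

/-- An entrywise multiple normalizes likewise. -/
theorem cT1_normalizes (h : Pauli R im Q X1 Z1 X2 Z2 I) {y : GL (Fin 4) F}
    (hy : (y : M4) = (Q : M4) * cT1 im * ((Q⁻¹ : GL (Fin 4) F) : M4)) :
    y ∈ Cfsg.Geo.subgroupNormalizer R := by
  obtain ⟨g1, g2, g3, g4, -⟩ := h.inModel_gens
  refine h.mem_normalizer hy ⟨_, g2, ?_⟩ ⟨_, h.inModel_smul 1 (inModel_mul g1 g2), ?_⟩ ⟨_, g3, ?_⟩ ⟨_, g4, ?_⟩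
  all_goals
    rw [cT1, Matrix.smul_mul, Matrix.mul_smul]
    congr 1
    ext i j
    fin_cases i <;> fin_cases j <;>
      simp [pX1, pZ1, pX2, pZ2, Matrix.mul_apply, Fin.sum_univ_four, Matrix.diagonal_apply, Matrix.vecMul_diagonal] <;>
      grind [h.im_sq]

theorem cTT_normalizes (h : Pauli R im Q X1 Z1 X2 Z2 I) {y : GL (Fin 4) F}
    (hy : (y : M4) = (Q : M4) * cTT im * ((Q⁻¹ : GL (Fin 4) F) : M4)) :
    y ∈ Cfsg.Geo.subgroupNormalizer R := by
  obtain ⟨g1, g2, g3, g4, -⟩ := h.inModel_gens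
  refine h.mem_normalizer hy ⟨_, g2, ?_⟩ ⟨_, h.inModel_smul 1 (inModel_mul g1 g2), ?_⟩ ⟨_, g4, ?_⟩
    ⟨_, h.inModel_smul 1 (inModel_mul g3 g4), ?_⟩
  all_goals
    rw [cTT, Matrix.smul_mul, Matrix.mul_smul]
    congr 1
    ext i j
    fin_cases i <;> fin_cases j <;>
      simp [pX1, pZ1, pX2, pZ2, Matrix.mul_apply, Fin.sum_univ_four, Matrix.diagonal_apply, Matrix.vecMul_diagonal] <;>
      grind [h.im_sq]

theorem cM5_normalizes (h : Pauli R im Q X1 Z1 X2 Z2 I) {y : GL (Fin 4) F}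
    (hy : (y : M4) = (Q : M4) * cM5 im * ((Q⁻¹ : GL (Fin 4) F) : M4)) :
    y ∈ Cfsg.Geo.subgroupNormalizer R := by
  obtain ⟨g1, g2, g3, g4, -⟩ := h.inModel_gens
  refine h.mem_normalizer hy ⟨_, inModel_mul g2 g3, ?_⟩ ⟨_, h.inModel_smul 1 (inModel_mul g1 g2), ?_⟩
    ⟨_, h.inModel_smul 1 (inModel_mul (inModel_mul g1 g2) g4), ?_⟩ ⟨_, g3, ?_⟩
  all_goals
    rw [cM5, Matrix.smul_mul, Matrix.mul_smul]
    congr 1
    ext i j
    fin_cases i <;> fin_cases j <;>
      simp [pX1, pZ1, pX2, pZ2, Matrix.mul_apply, Fin.sum_univ_four, Matrix.diagonal_apply, Matrix.vecMul_diagonal] <;>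
      grind [h.im_sq]

theorem cT1_rel (him : im ^ 2 = -1) (h2 : (2 : F) ≠ 0) :
    cT1 im * cT1 im + cT1 im + 1 = (0 : M4) := by
  ext i j
  fin_cases i <;> fin_cases j <;> simp [cT1, Matrix.mul_apply, Fin.sum_univ_four] <;> grind

theorem cTT_pow (him : im ^ 2 = -1) (h2 : (2 : F) ≠ 0) :
    cTT im ^ 3 = 1 ∧ (cTT im).trace = 1 := by
  have e : cTT im * cTT im = (2⁻¹ : F) •
      !![-im, -1, -1, im; -im, 1, -1, -im; -im, -1, 1, -im; -im, 1, 1, im] := by
    ext i j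
    fin_cases i <;> fin_cases j <;> simp [cTT, Matrix.mul_apply, Fin.sum_univ_four] <;> grind
  refine ⟨?_, ?_⟩
  · rw [pow_three', e]
    ext i j
    fin_cases i <;> fin_cases j <;> simp [cTT, Matrix.mul_apply, Fin.sum_univ_four] <;> grind
  · simp [Matrix.trace, Fin.sum_univ_four, cTT]
    grind

theorem cM5_pow (him : im ^ 2 = -1) (h2 : (2 : F) ≠ 0) :
    cM5 im ^ 5 = 1 ∧ (cM5 im).trace = -1 := by
  have e : cM5 im * cM5 im = (2⁻¹ : F) •
      !![-1, -im, -1, -im; -im, -1, im, 1; -im, -1, -im, -1; -1, -im, 1, im] := by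
    ext i j
    fin_cases i <;> fin_cases j <;> simp [cM5, Matrix.mul_apply, Fin.sum_univ_four] <;> grind
  have e4 : cM5 im * cM5 im * (cM5 im * cM5 im) = (2⁻¹ : F) •
      !![im, im, 1, 1; im, -im, 1, -1; im, im, -1, -1; -im, im, 1, -1] := by
    rw [e]
    ext i j
    fin_cases i <;> fin_cases j <;> simp [Matrix.mul_apply, Fin.sum_univ_four] <;> grind
  refine ⟨?_, ?_⟩
  · rw [show cM5 im ^ 5 = cM5 im * cM5 im * (cM5 im * cM5 im) * cM5 im by noncomm_ring, e4]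
    ext i j
    fin_cases i <;> fin_cases j <;> simp [cM5, Matrix.mul_apply, Fin.sum_univ_four] <;> grind
  · simp [Matrix.trace, Fin.sum_univ_four, cM5]
    grind

end Pauli

end CfsgLib.TwoSymp
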