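import Mathlib

/-!
Symplectic bases adapted to a skew map with non-square scalar square.
-/

set_option autoImplicit false

namespace CfsgLib.LinFix.UnitaryBasis

open Module

variable {F V : Type*} [Field F] [AddCommGroup V] [Module F V]

/-- Pairwise orthogonal hyperbolic pairs are linearly independent. -/
theorem li_of_pairs {B : LinearMap.BilinForm F V} (hB : B.IsAlt) {κ : Type*} [Fintype κ]
    {b : κ × Fin 2 → V} (horth : ∀ x y, x.1 ≠ y.1 → B (b x) (b y) = 0)
    (hpair : ∀ i, B (b (i, 0)) (b (i, 1)) = 1) : LinearIndependent F b := by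
  classical
  rw [Fintype.linearIndependent_iff]
  rintro g hg ⟨i, c⟩
  have h0 := congrArg (fun v => B v (b (i, 1))) hg
  have h1 := congrArg (fun v => B v (b (i, 0))) hg
  simp only [map_sum, map_smul, LinearMap.sum_apply, LinearMap.smul_apply, smul_eq_mul, map_zero,
    LinearMap.zero_apply, Fintype.sum_prod_type, Fin.sum_univ_two, map_add, LinearMap.add_apply] at h0 h1
  rw [Finset.sum_eq_single i (fun j _ hj => by rw [horth _ _ hj, horth _ _ hj]; simp) (by simp)] at h0 h1
  have hs : B (b (i, 1)) (b (i, 0)) = -1 := by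
    rw [← LinearMap.IsAlt.neg hB, hpair]
  rw [hpair, show B (b (i, 1)) (b (i, 1)) = 0 from hB _] at h0
  rw [hs, show B (b (i, 0)) (b (i, 0)) = 0 from hB _] at h1
  fin_cases c
  · simpa using h0
  · simpa using h1

theorem exists_rep_one [Fintype F] {ε : F} (hε : ¬ IsSquare ε) (e : F) :
    ∃ u v : F, u * u - ε * (v * v) = e := by
  classical
  have hF : ringChar F ≠ 2 := fun h => hε (FiniteField.isSquare_of_char_two h ε)
  have hε0 : ε ≠ 0 := fun h => hε (h ▸ ⟨0, (mul_zero 0).symm⟩)
  obtain ⟨c, d, hcd⟩ := FiniteField.exists_root_sum_quadratic (R := F)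
    (Polynomial.degree_X_pow_sub_C (by norm_num : 0 < 2) e)
    (Polynomial.degree_C_mul_X_pow (n := 2) (neg_ne_zero.mpr hε0))
    (FiniteField.odd_card_of_char_ne_two hF)
  simp at hcd
  exact ⟨c, d, by linear_combination hcd⟩

/-- A skew map with non-square scalar square has an adapted symplectic basis. -/
theorem exists_unit_basis [Fintype F] [FiniteDimensional F V] {B : LinearMap.BilinForm F V} (hB : B.IsAlt)
    (hnd : ∀ u, (∀ v, B u v = 0) → u = 0) {ε : F} (hε : ¬ IsSquare ε) (J : V →ₗ[F] V)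
    (hJ : ∀ v, J (J v) = ε • v) (hskew : ∀ u v, B (J u) v = - B u (J v)) :
    ∃ (d : ℕ) (b : Basis (Fin d × Fin 2) F V), (∀ i, J (b (i, 0)) = b (i, 1)) ∧
      (∀ i, B (b (i, 0)) (b (i, 1)) = 1) ∧ ∀ x y, x.1 ≠ y.1 → B (b x) (b y) = 0 := by
  classical
  have h2 : (2 : F) ≠ 0 := fun h => by
    haveI : CharP F 2 := CharTwo.of_one_ne_zero_of_two_eq_zero one_ne_zero h
    exact hε (FiniteField.isSquare_of_char_two (ringChar.eq F 2) ε)
  have hswap : ∀ u v, B u v = - B v u := fun u v => (LinearMap.IsAlt.neg hB v u).symm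
  suffices h : ∀ W : Submodule F V, (∀ u ∈ W, J u ∈ W) → (∀ u ∈ W, (∀ v ∈ W, B u v = 0) → u = 0) →
      ∃ (d : ℕ) (b : Fin d × Fin 2 → V), Submodule.span F (Set.range b) = W ∧
        (∀ i, J (b (i, 0)) = b (i, 1)) ∧
        (∀ i, B (b (i, 0)) (b (i, 1)) = 1) ∧ ∀ x y, x.1 ≠ y.1 → B (b x) (b y) = 0 by
    obtain ⟨d, b, hs, h1, h2, h3⟩ := h ⊤ (fun _ _ => trivial) fun u _ h => hnd u fun v => h v trivial
    exact ⟨d, Basis.mk (li_of_pairs hB h3 h2) hs.ge, fun i => by simpa using h1 i,
      fun i => by simpa using h2 i, fun x y hxy => by simpa using h3 x y hxy⟩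
  intro W
  induction hd : finrank F W using Nat.strong_induction_on generalizing W with
  | _ m ih =>
    intro hJW hnW
    by_cases h0 : W = ⊥
    · subst h0
      refine ⟨0, fun x => x.1.elim0, ?_, fun i => i.elim0, fun i => i.elim0, fun x => x.1.elim0⟩
      rw [Submodule.span_eq_bot]
      rintro _ ⟨⟨i, -⟩, rfl⟩
      exact i.elim0
    obtain ⟨v, hv, hQ⟩ : ∃ v ∈ W, B v (J v) ≠ 0 := by
      by_contra hc
      push Not at hc
      obtain ⟨u, hu, hu0⟩ := Submodule.exists_mem_ne_zero_of_ne_bot h0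
      refine hu0 (hnW u hu fun w hw => ?_)
      have hzero : ∀ w ∈ W, B u (J w) = 0 := fun w hw => by
        have h := hc (u + w) (W.add_mem hu hw)
        simp only [map_add, LinearMap.add_apply, hc u hu, hc w hw, zero_add, add_zero] at h
        rw [hswap w (J u), hskew, neg_neg] at h
        exact (mul_eq_zero.mp (show (2 : F) * B u (J w) = 0 by linear_combination h)).resolve_left h2
      have h := hzero (J w) (hJW w hw)
      rw [hJ, map_smul, smul_eq_mul] at h
      exact (mul_eq_zero.mp h).resolve_left fun h' => hε (h' ▸ ⟨0, (mul_zero 0).symm⟩)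
    obtain ⟨α, β, hαβ⟩ := exists_rep_one hε (B v (J v))⁻¹
    set e := α • v + β • J v with he
    have heW : e ∈ W := W.add_mem (W.smul_mem _ hv) (W.smul_mem _ (hJW v hv))
    have heg : B e (J e) = 1 := by
      have h' : B (J v) v = - B v (J v) := hskew v v
      simp only [he, map_add, map_smul, hJ, LinearMap.add_apply, LinearMap.smul_apply, smul_eq_mul,
        show B v v = 0 from hB v, show B (J v) (J v) = 0 from hB _, h']
      rw [← inv_mul_cancel₀ hQ, ← hαβ]
      ring
    have hge : B (J e) e = -1 := by rw [hskew, heg]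
    have hee : B e e = 0 := hB e
    have hgg : B (J e) (J e) = 0 := hB _
    set W' := W ⊓ LinearMap.ker (B e) ⊓ LinearMap.ker (B (J e)) with hW'
    have hmem : ∀ x, x ∈ W' ↔ x ∈ W ∧ B e x = 0 ∧ B (J e) x = 0 := fun x => by simp [W', and_assoc]
    have hproj : ∀ x ∈ W, x - ((- B (J e) x) • e + B e x • J e) ∈ W' := fun x hx => by
      rw [hmem]
      refine ⟨W.sub_mem hx (W.add_mem (W.smul_mem _ heW) (W.smul_mem _ (hJW e heW))), ?_, ?_⟩ <;>
        simp [heg, hge, hee, hgg]
    have hJW' : ∀ u ∈ W', J u ∈ W' := fun u hu => by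
      rw [hmem] at hu ⊢
      refine ⟨hJW u hu.1, ?_, ?_⟩
      · rw [← neg_eq_zero, ← hskew]; exact hu.2.2
      · rw [← neg_eq_zero, ← hskew, hJ, map_smul, LinearMap.smul_apply, hu.2.1, smul_zero]
    have hnW' : ∀ u ∈ W', (∀ v ∈ W', B u v = 0) → u = 0 := fun u hu h => by
      refine hnW u ((hmem u).mp hu).1 fun x hx => ?_
      have h' := h _ (hproj x hx)
      simp only [map_sub, map_add, map_smul, smul_eq_mul] at h'
      obtain ⟨-, hu1, hu2⟩ := (hmem u).mp hu
      rw [hswap u e, hswap u (J e), hu1, hu2] at h'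
      simpa using h'
    have hlt : finrank F W' < m := by
      rw [← hd]
      refine Submodule.finrank_lt_finrank_of_lt (lt_of_le_of_ne (inf_le_left.trans inf_le_left) fun h => ?_)
      have := ((hmem _).mp (h ▸ hJW e heW)).2.1
      rw [heg] at this
      exact one_ne_zero this
    obtain ⟨d, b, hs, h1, h2', h3⟩ := ih _ hlt W' rfl hJW' hnW'
    have hbW : ∀ x, b x ∈ W' := fun x => hs ▸ Submodule.subset_span ⟨x, rfl⟩
    let b' : Fin (d + 1) × Fin 2 → V :=
      fun x => Fin.cons (α := fun _ => V) (![e, J e] x.2) (fun i => b (i, x.2)) x.1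
    refine ⟨d + 1, b', ?_, ?_, ?_, ?_⟩
    · refine le_antisymm (Submodule.span_le.mpr ?_) fun x hx => ?_
      · rintro _ ⟨⟨i, c⟩, rfl⟩
        refine Fin.cases ?_ (fun i => ?_) i
        · fin_cases c <;> simp [b', heW, hJW e heW]
        · exact ((hmem _).mp (hbW (i, c))).1
      · have hx' : x = (x - ((- B (J e) x) • e + B e x • J e)) + ((- B (J e) x) • e + B e x • J e) := by abel
        rw [hx']
        refine add_mem ?_ (add_mem (Submodule.smul_mem _ _ (Submodule.subset_span ⟨(0, 0), rfl⟩))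
          (Submodule.smul_mem _ _ (Submodule.subset_span ⟨(0, 1), rfl⟩)))
        refine Submodule.span_mono ?_ (hs.symm ▸ hproj x hx)
        rintro _ ⟨⟨i, c⟩, rfl⟩
        exact ⟨(i.succ, c), by simp [b']⟩
    · intro i
      induction i using Fin.cases with
      | zero => simp [b']
      | succ i => simpa [b'] using h1 i
    · intro i
      induction i using Fin.cases with
      | zero => simpa [b'] using heg
      | succ i => simpa [b'] using h2' i
    · have hperp : ∀ (c : Fin 2) y, B (![e, J e] c) (b y) = 0 := fun c y => by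
        obtain ⟨-, hu1, hu2⟩ := (hmem _).mp (hbW y)
        fin_cases c <;> simp [hu1, hu2]
      rintro ⟨i, c⟩ ⟨i', c'⟩ hne
      induction i using Fin.cases with
      | zero =>
        induction i' using Fin.cases with
        | zero => exact absurd rfl hne
        | succ i' => simp only [b', Fin.cons_zero, Fin.cons_succ]; exact hperp _ _
      | succ i =>
        induction i' using Fin.cases with
        | zero => simp only [b', Fin.cons_zero, Fin.cons_succ]; rw [hswap, hperp, neg_zero]
        | succ i' => simp only [b', Fin.cons_succ]; exact h3 _ _ (by simpa using hne)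

/-- Two such maps are conjugate by an isometry. -/
theorem exists_isometry [Fintype F] [FiniteDimensional F V] {B : LinearMap.BilinForm F V} (hB : B.IsAlt)
    (hnd : ∀ u, (∀ v, B u v = 0) → u = 0) {ε : F} (hε : ¬ IsSquare ε) (J D : V →ₗ[F] V)
    (hJ : ∀ v, J (J v) = ε • v) (hJs : ∀ u v, B (J u) v = - B u (J v))
    (hD : ∀ v, D (D v) = ε • v) (hDs : ∀ u v, B (D u) v = - B u (D v)) :
    ∃ g : V ≃ₗ[F] V, (∀ u v, B (g u) (g v) = B u v) ∧ ∀ v, g (J v) = D (g v) := by
  classical
  obtain ⟨d, b, b1, b2, b3⟩ := exists_unit_basis hB hnd hε J hJ hJs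
  obtain ⟨d', c, c1, c2, c3⟩ := exists_unit_basis hB hnd hε D hD hDs
  obtain rfl : d = d' := by
    have h := (finrank_eq_card_basis b).symm.trans (finrank_eq_card_basis c)
    simp at h
    omega
  refine ⟨b.equiv c (Equiv.refl _), ?_, ?_⟩
  · have key : B.compl₁₂ (b.equiv c (Equiv.refl _)).toLinearMap (b.equiv c (Equiv.refl _)).toLinearMap = B := by
      refine LinearMap.ext_basis b b fun x y => ?_
      simp only [LinearMap.compl₁₂_apply, LinearEquiv.coe_coe, Basis.equiv_apply, Equiv.refl_apply]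
      obtain ⟨i, a⟩ := x
      obtain ⟨j, a'⟩ := y
      by_cases hij : i = j
      · subst hij
        fin_cases a <;> fin_cases a' <;> simp only [Fin.zero_eta, Fin.mk_one]
        · rw [show B (c (i, 0)) (c (i, 0)) = 0 from hB _, show B (b (i, 0)) (b (i, 0)) = 0 from hB _]
        · rw [c2, b2]
        · rw [← LinearMap.IsAlt.neg hB, c2, ← LinearMap.IsAlt.neg hB, b2]
        · rw [show B (c (i, 1)) (c (i, 1)) = 0 from hB _, show B (b (i, 1)) (b (i, 1)) = 0 from hB _]
      · rw [c3 _ _ (by exact hij), b3 _ _ (by exact hij)]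
    exact fun u v => LinearMap.congr_fun₂ key u v
  · refine LinearMap.congr_fun (b.ext (f₁ := (b.equiv c (Equiv.refl _)).toLinearMap ∘ₗ J)
      (f₂ := D ∘ₗ (b.equiv c (Equiv.refl _)).toLinearMap) ?_)
    rintro ⟨i, a⟩
    fin_cases a <;> simp only [Fin.zero_eta, Fin.mk_one, LinearMap.comp_apply, LinearEquiv.coe_coe]
    · simp [b1, c1]
    · rw [← b1, hJ]; simp [← c1, hD, b1]

end CfsgLib.LinFix.UnitaryBasis
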