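import Mathlib
import Cfsg.Prelude.Def_GeometricClasses
import Cfsg.Agent.Lib.Linear.Symplectic
import Cfsg.Agent.Lib.Linear.SympCard
import Cfsg.Agent.Lib.SympGeom.Basic
import Cfsg.Agent.Lib.UnitaryEmb.Basic
import Cfsg.Agent.Lib.Classical.Herm.Std
import Cfsg.Agent.Lib.LinFix.Field
import Cfsg.Agent.Lib.LinFix.UnitaryBasis

/-!
The primes dividing the index of a unitary group inside the symplectic group.
-/

set_option autoImplicit false

namespace CfsgLib.LinFix.UnitaryIndex

open Module Matrix Cfsg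

variable {F : Type*} [Field F] [Fintype F] {d : ℕ}

theorem card_spGL' (d : ℕ) : Nat.card (Cfsg.spGL d F) = Fintype.card F ^ (d ^ 2) *
    ∏ k ∈ Finset.range d, (Fintype.card F ^ (2 * (k + 1)) - 1) := by
  rw [← CfsgLib.Linear.Symp.card_symplectic]
  refine Nat.card_congr (Equiv.ofBijective
    (fun g => ⟨(g : GL (Fin d ⊕ Fin d) F).1, CfsgLib.Linear.Symp.mem_of_form_mulVec g.2⟩)
    ⟨fun g h e => Subtype.ext (Units.ext (congrArg Subtype.val e)), fun A => ?_⟩)
  exact ⟨⟨((Matrix.symplecticGroup (Fin d) F).subtype).toHomUnits A,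
    CfsgLib.Linear.Symp.form_mulVec A.2⟩, rfl⟩

/-- A copy of the unitary group commuting with a skew square root of a non-square. -/
theorem exists_unitary_subgroup (hd : 1 ≤ d) {ε : F} (hε : ¬ IsSquare ε)
    (J : (Fin d ⊕ Fin d → F) →ₗ[F] (Fin d ⊕ Fin d → F)) (hJ : ∀ v, J (J v) = ε • v)
    (hskew : ∀ u v, sympForm d F (J u) v = - sympForm d F u (J v)) :
    ∃ U : Subgroup (GL (Fin d ⊕ Fin d) F), U ≤ Cfsg.spGL d F ∧
      (∀ g ∈ U, ∀ v, (g : Matrix (Fin d ⊕ Fin d) (Fin d ⊕ Fin d) F) *ᵥ J v =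
        J ((g : Matrix (Fin d ⊕ Fin d) (Fin d ⊕ Fin d) F) *ᵥ v)) ∧
      Nat.card U = Fintype.card F ^ (d * (d - 1) / 2) *
        ∏ i ∈ Finset.range d, (if Even i then Fintype.card F ^ (i + 1) + 1 else Fintype.card F ^ (i + 1) - 1) := by
  classical
  set B := CfsgLib.SympGeom.sympBilin d F with hB
  have hB' : ∀ u v, B u v = sympForm d F u v := fun u v => CfsgLib.SympGeom.sympBilin_apply u v
  have halt : B.IsAlt := CfsgLib.SympGeom.sympBilin_alt
  obtain ⟨d', b, hb1, hb2, hb3⟩ := UnitaryBasis.exists_unit_basis halt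
    CfsgLib.SympGeom.sympBilin_nondeg.1 hε J hJ (fun u v => by rw [hB', hB', hskew])
  obtain rfl : d' = d := by
    have h1 := finrank_eq_card_basis b
    rw [CfsgLib.SympGeom.finrank_space] at h1
    simp at h1; omega
  set q := Fintype.card F with hq
  let P : Polynomial F := Polynomial.X ^ 2 - Polynomial.C ε
  have hPdeg : P.natDegree = 2 := Polynomial.natDegree_X_pow_sub_C
  have hirr : Irreducible P := by
    refine (Polynomial.irreducible_iff_roots_eq_zero_of_degree_le_three (by omega) (by omega)).2 ?_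
    refine Multiset.eq_zero_of_forall_notMem fun t ht => hε ⟨t, ?_⟩
    have := (Polynomial.mem_roots'.1 ht).2
    simp [P, sub_eq_zero] at this
    rw [← this, pow_two]
  haveI : Fact (Irreducible P) := ⟨hirr⟩
  haveI : Module.Finite F (AdjoinRoot P) := (AdjoinRoot.powerBasis hirr.ne_zero).finite
  haveI : Finite (AdjoinRoot P) := Module.finite_of_finite F
  letI : Fintype (AdjoinRoot P) := Fintype.ofFinite _
  let L := AdjoinRoot P
  let θ : L := AdjoinRoot.root P
  have hrank : finrank F L = 2 := by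
    rw [(AdjoinRoot.powerBasis hirr.ne_zero).finrank, AdjoinRoot.powerBasis_dim, hPdeg]
  have hL : Fintype.card L = q ^ 2 := by rw [Module.card_eq_pow_finrank (K := F), hrank]
  have hθ : θ * θ = algebraMap F L ε := by
    have h := AdjoinRoot.eval₂_root P
    simp [P, sub_eq_zero, pow_two] at h
    exact h
  have hcoef : ∀ a c : F, algebraMap F L a + algebraMap F L c * θ = 0 → a = 0 ∧ c = 0 := fun a c h => by
    by_cases hc : c = 0
    · subst hc; simpa using h
    · exfalso
      refine hε ⟨-(a / c), ?_⟩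
      apply (algebraMap F L).injective
      have hc' : algebraMap F L c ≠ 0 := by simpa using hc
      rw [← hθ, map_mul, map_neg, map_div₀, show θ = -(algebraMap F L a / algebraMap F L c) by
        apply mul_left_cancel₀ hc'
        rw [mul_neg, mul_div_cancel₀ _ hc']
        linear_combination h]
  have hconj : θ ^ q = -θ := by
    have h1 : (θ ^ q - θ) * (θ ^ q + θ) = 0 := by
      have h := congrArg (fun x : L => x ^ q) hθ
      simp only [mul_pow, ← map_pow, hq, FiniteField.pow_card] at h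
      rw [← hθ] at h
      rw [hq]
      linear_combination h
    rcases mul_eq_zero.1 h1 with h2 | h2
    · obtain ⟨a, ha⟩ := CfsgLib.UnitaryEmb.conj_fixed_mem_range (F := F) (x := θ) (by
        rw [CfsgLib.UnitaryEmb.conj_apply]; exact sub_eq_zero.1 h2)
      exact absurd (hcoef a (-1) (by rw [ha, map_neg, map_one]; ring)).2 (neg_ne_zero.mpr one_ne_zero)
    · exact eq_neg_of_add_eq_zero_left h2
  let E₀ : (Fin d' ⊕ Fin d' → F) →ₗ[F] (Fin d' → L) :=
    LinearMap.pi fun i => (Algebra.linearMap F L).comp (b.coord (i, 0)) +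
      θ • (Algebra.linearMap F L).comp (b.coord (i, 1))
  have hE₀ : ∀ v i, E₀ v i = algebraMap F L (b.repr v (i, 0)) + algebraMap F L (b.repr v (i, 1)) * θ :=
    fun v i => by simp [E₀, mul_comm]
  have hinj : Function.Injective E₀ := by
    rw [injective_iff_map_eq_zero]
    intro v hv
    refine b.ext_elem fun x => ?_
    obtain ⟨i, c⟩ := x
    obtain ⟨e0, e1⟩ := hcoef _ _ ((hE₀ v i).symm.trans (congrFun hv i))
    fin_cases c <;> simp [e0, e1]
  let E := LinearMap.linearEquivOfInjective E₀ hinj (by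
    rw [CfsgLib.SympGeom.finrank_space, Module.finrank_pi_fintype, hrank]; simp [mul_comm])
  have hE : ∀ v i, E v i = algebraMap F L (b.repr v (i, 0)) + algebraMap F L (b.repr v (i, 1)) * θ := hE₀
  let Sm : (Fin d' ⊕ Fin d' → F) → (Fin d' ⊕ Fin d' → F) → F := fun u v =>
    ∑ i, (b.repr u (i, 0) * b.repr v (i, 0) - ε * (b.repr u (i, 1) * b.repr v (i, 1)))
  have hform : ∀ u v, sympForm d' F u v =
      ∑ i, (b.repr u (i, 0) * b.repr v (i, 1) - b.repr u (i, 1) * b.repr v (i, 0)) := fun u v => by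
    have hBb : ∀ i, B u (b (i, 0)) = - b.repr u (i, 1) ∧ B u (b (i, 1)) = b.repr u (i, 0) := fun i => by
      have h0 : B (b (i, 0)) (b (i, 0)) = 0 := halt _
      have h1 : B (b (i, 1)) (b (i, 1)) = 0 := halt _
      have h10 : B (b (i, 1)) (b (i, 0)) = -1 := by rw [← LinearMap.IsAlt.neg halt, hb2]
      constructor <;>
        conv_lhs => rw [← b.sum_repr u, map_sum, LinearMap.sum_apply, Fintype.sum_prod_type,
          Finset.sum_eq_single i (fun j _ hj => by
            simp [Fin.sum_univ_two, hb3 (j, 0) (i, 0) hj, hb3 (j, 1) (i, 0) hj, hb3 (j, 0) (i, 1) hj,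
              hb3 (j, 1) (i, 1) hj]) (by simp)]
      · simp [Fin.sum_univ_two, h0, h10]
      · simp [Fin.sum_univ_two, h1, hb2]
    rw [← hB']
    conv_lhs => rw [← b.sum_repr v, map_sum, Fintype.sum_prod_type]
    refine Finset.sum_congr rfl fun i _ => ?_
    simp only [Fin.sum_univ_two, map_smul, smul_eq_mul, (hBb i).1, (hBb i).2]
    ring
  have hherm : ∀ u v, Cfsg.hermForm d' L q (E u) (E v) =
      algebraMap F L (Sm u v) + algebraMap F L (- sympForm d' F u v) * θ := fun u v => by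
    simp only [Cfsg.hermForm, hE, Sm, hform, map_sum, map_neg, Finset.sum_mul,
      ← Finset.sum_neg_distrib, ← Finset.sum_add_distrib]
    refine Finset.sum_congr rfl fun i _ => ?_
    have hpow : ∀ a c : F, (algebraMap F L a + algebraMap F L c * θ) ^ q =
        algebraMap F L a - algebraMap F L c * θ := fun a c => by
      show CfsgLib.UnitaryEmb.conj F L (algebraMap F L a + algebraMap F L c * θ) = _
      rw [map_add, map_mul, AlgHom.commutes, AlgHom.commutes, CfsgLib.UnitaryEmb.conj_apply, ← hq, hconj]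
      ring
    rw [hpow]
    simp only [map_sub, map_mul, ← hθ]
    ring
  let φ : ↥(Cfsg.GU d' L q) →* GL (Fin d' ⊕ Fin d') F :=
    (CfsgLib.UnitaryEmb.toSubfieldGL E).comp (Cfsg.GU d' L q).subtype
  refine ⟨φ.range, ?_, ?_, ?_⟩
  · rintro _ ⟨g, rfl⟩
    intro u v
    have h := g.2 (E u) (E v)
    have hu : ∀ w, E ((φ g : Matrix (Fin d' ⊕ Fin d') (Fin d' ⊕ Fin d') F) *ᵥ w) =
        ((g : GL (Fin d') L) : Matrix (Fin d') (Fin d') L) *ᵥ E w := fun w =>
      CfsgLib.UnitaryEmb.toSubfield_mulVec E _ w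
    show sympForm d' F ((φ g : Matrix (Fin d' ⊕ Fin d') (Fin d' ⊕ Fin d') F) *ᵥ u)
      ((φ g : Matrix (Fin d' ⊕ Fin d') (Fin d' ⊕ Fin d') F) *ᵥ v) = sympForm d' F u v
    have h' : Cfsg.hermForm d' L q (((g : GL (Fin d') L) : Matrix (Fin d') (Fin d') L) *ᵥ E u)
      (((g : GL (Fin d') L) : Matrix (Fin d') (Fin d') L) *ᵥ E v) = Cfsg.hermForm d' L q (E u) (E v) := h
    rw [← hu, ← hu, hherm, hherm] at h'
    obtain ⟨-, h2⟩ := hcoef (Sm ((φ g : Matrix (Fin d' ⊕ Fin d') (Fin d' ⊕ Fin d') F) *ᵥ u)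
        ((φ g : Matrix (Fin d' ⊕ Fin d') (Fin d' ⊕ Fin d') F) *ᵥ v) - Sm u v)
      (- sympForm d' F ((φ g : Matrix (Fin d' ⊕ Fin d') (Fin d' ⊕ Fin d') F) *ᵥ u)
        ((φ g : Matrix (Fin d' ⊕ Fin d') (Fin d' ⊕ Fin d') F) *ᵥ v) - - sympForm d' F u v)
      (by rw [map_sub, map_sub]; linear_combination h')
    linear_combination -h2
  · rintro _ ⟨g, rfl⟩ v
    have hu : ∀ w, E ((φ g : Matrix (Fin d' ⊕ Fin d') (Fin d' ⊕ Fin d') F) *ᵥ w) =
        ((g : GL (Fin d') L) : Matrix (Fin d') (Fin d') L) *ᵥ E w := fun w =>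
      CfsgLib.UnitaryEmb.toSubfield_mulVec E _ w
    have hEJ : ∀ w, E (J w) = θ • E w := fun w => by
      have hrepr : b.repr (J w) = ∑ x, b.repr w x • b.repr (J (b x)) := by
        conv_lhs => rw [← b.sum_repr w]
        simp only [map_sum, map_smul]
      funext i
      rw [Pi.smul_apply, smul_eq_mul, hE, hE, hrepr]
      simp only [Fintype.sum_prod_type, Fin.sum_univ_two, Finsupp.coe_finsetSum, Finset.sum_apply,
        Finsupp.coe_add, Pi.add_apply, Finsupp.coe_smul, Pi.smul_apply]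
      have hJ0 : ∀ j, b.repr (J (b (j, 0))) = Finsupp.single (j, 1) 1 := fun j => by rw [hb1, b.repr_self]
      have hJ1 : ∀ j, b.repr (J (b (j, 1))) = Finsupp.single (j, 0) ε := fun j => by
        rw [← hb1, hJ, map_smul, b.repr_self, Finsupp.smul_single, smul_eq_mul, mul_one]
      simp [hJ0, hJ1, Finsupp.single_apply, Finset.sum_ite_eq', map_mul, ← hθ]
      ring
    apply E.injective
    rw [hu, hEJ, hEJ, hu, Matrix.mulVec_smul]
  · rw [Nat.card_congr (MonoidHom.ofInjective (f := φ) (fun g h e => Subtype.ext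
      (CfsgLib.UnitaryEmb.toSubfieldGL_injective E e))).toEquiv.symm,
      Nat.card_congr (CfsgLib.Classical.Herm.guEquiv hL d').toEquiv, CfsgLib.Classical.Herm.card_unit hL]

/-- A prime dividing the index of the unitary group has odd order at most `d`, or order a multiple
of four at most `2 d`. -/
theorem order_of_dvd {r p : ℕ} [hr : Fact r.Prime] [Fact p.Prime] [CharP F p] (hr2 : r ≠ 2) (hrp : r ≠ p)
    (hd : 1 ≤ d) {U N : Subgroup (GL (Fin d ⊕ Fin d) F)} (hU : U ≤ Cfsg.spGL d F) (hUN : U ≤ N)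
    (hcard : Nat.card U = Fintype.card F ^ (d * (d - 1) / 2) *
        ∏ i ∈ Finset.range d, (if Even i then Fintype.card F ^ (i + 1) + 1 else Fintype.card F ^ (i + 1) - 1))
    (hΩ : r ∣ N.relIndex (Cfsg.spGL d F)) :
    0 < orderOf (Fintype.card F : ZMod r) ∧
      ((Odd (orderOf (Fintype.card F : ZMod r)) ∧ orderOf (Fintype.card F : ZMod r) ≤ d) ∨
        ∃ h, Even h ∧ 0 < h ∧ h ≤ d ∧ orderOf (Fintype.card F : ZMod r) = 2 * h) := by
  classical
  set q := Fintype.card F with hq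
  set i := orderOf (q : ZMod r) with hi
  refine ⟨orderOf_pos_of_ne hrp, ?_⟩
  have h1 : r ∣ U.relIndex (Cfsg.spGL d F) := hΩ.trans (Subgroup.relIndex_dvd_of_le_left _ hUN)
  have h2 : U.relIndex (Cfsg.spGL d F) * Nat.card U = Nat.card (Cfsg.spGL d F) := by
    rw [← Nat.card_congr (Subgroup.subgroupOfEquivOfLe hU).toEquiv]
    exact Subgroup.index_mul_card _
  set A : ℕ → ℕ := fun k => if Even k then q ^ (k + 1) - 1 else q ^ (k + 1) + 1
  have hq1 : 1 < q := Fintype.one_lt_card
  have hfac : ∀ k, q ^ (2 * (k + 1)) - 1 =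
      A k * (if Even k then q ^ (k + 1) + 1 else q ^ (k + 1) - 1) := fun k => by
    have hsq : q ^ (2 * (k + 1)) - 1 = (q ^ (k + 1) + 1) * (q ^ (k + 1) - 1) := by
      rw [← Nat.sq_sub_sq, one_pow, ← pow_mul, mul_comm]
    simp only [A]
    split_ifs <;> rw [hsq]
    exact mul_comm _ _
  rw [hcard, card_spGL'] at h2
  simp only [← hq, hfac, Finset.prod_mul_distrib] at h2
  set M := ∏ k ∈ Finset.range d, (if Even k then q ^ (k + 1) + 1 else q ^ (k + 1) - 1)
  have hM : 0 < M := Finset.prod_pos fun k _ => by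
    split_ifs
    · omega
    · have := Nat.one_lt_pow (n := k + 1) (by omega) hq1; omega
  have h3 : U.relIndex (Cfsg.spGL d F) * q ^ (d * (d - 1) / 2) = q ^ d ^ 2 * ∏ k ∈ Finset.range d, A k :=
    Nat.eq_of_mul_eq_mul_right hM (by linear_combination h2)
  have h4 : r ∣ q ^ d ^ 2 * ∏ k ∈ Finset.range d, A k := h3 ▸ h1.mul_right _
  have hrq : ¬ r ∣ q := fun hd => by
    obtain ⟨k, -, hk⟩ := FiniteField.card F p
    rw [hq, hk] at hd
    exact hrp ((Nat.prime_dvd_prime_iff_eq hr.out Fact.out).1 (hr.out.dvd_of_dvd_pow hd))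
  rcases hr.out.dvd_mul.1 h4 with h5 | h5
  · exact absurd (hr.out.dvd_of_dvd_pow h5) hrq
  obtain ⟨k, hk, hk'⟩ := hr.out.prime.exists_mem_finset_dvd h5
  rw [Finset.mem_range] at hk
  simp only [A] at hk'
  split_ifs at hk' with hev
  · have hdvd := (dvd_pow_sub_one_iff (r := r) hq1.le _).1 hk'
    exact Or.inl ⟨Odd.of_dvd_nat (Even.add_one hev) hdvd,
      (Nat.le_of_dvd (by omega) hdvd).trans (by omega)⟩
  · have hdvd2 : i ∣ 2 * (k + 1) := (dvd_pow_sub_one_iff (r := r) hq1.le _).1 (by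
      rw [show q ^ (2 * (k + 1)) - 1 = (q ^ (k + 1) + 1) * (q ^ (k + 1) - 1) by
        rw [← Nat.sq_sub_sq, one_pow, ← pow_mul, mul_comm]]
      exact hk'.mul_right _)
    have hndvd : ¬ i ∣ k + 1 := fun h => by
      have h6 := (dvd_pow_sub_one_iff (r := r) hq1.le _).2 h
      have h7 := Nat.dvd_sub hk' h6
      rw [show q ^ (k + 1) + 1 - (q ^ (k + 1) - 1) = 2 by
        have := Nat.one_le_pow (k + 1) q (by omega); omega] at h7
      exact hr2 ((Nat.prime_dvd_prime_iff_eq hr.out Nat.prime_two).1 h7)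
    rcases Nat.even_or_odd i with hie | hio
    · obtain ⟨h, hh⟩ := hie
      have hh2 : h ∣ k + 1 := Nat.dvd_of_mul_dvd_mul_left two_pos (by rwa [two_mul h, ← hh])
      have hpos : 0 < h := Nat.pos_of_ne_zero fun h0 => by
        subst h0; simp at hh2
      refine Or.inr ⟨h, ?_, hpos, (Nat.le_of_dvd (by omega) hh2).trans (by omega), by omega⟩
      by_contra hne
      rw [Nat.not_even_iff_odd] at hne
      refine hndvd ?_
      rw [hh, ← two_mul]
      exact (Nat.coprime_two_left.mpr hne).mul_dvd_of_dvd_of_dvd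
        (even_iff_two_dvd.1 ((Nat.not_even_iff_odd.1 hev).add_one)) hh2
    · exact absurd ((Nat.coprime_two_right.mpr hio).dvd_of_dvd_mul_left hdvd2) hndvd

end CfsgLib.LinFix.UnitaryIndex
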