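import Mathlib
import Cfsg.Prelude.Def_GeometricClasses
import Cfsg.Agent.Lib.LinFix.TwoSymp
import Cfsg.Agent.Lib.LinFix.UnitaryIndex

/-!
# Extraspecial groups of order 32 of minus type inside the symplectic group in dimension four
-/

set_option autoImplicit false
open scoped MatrixGroups

namespace CfsgLib.MinusSymp

open Matrix CfsgLib.TwoSymp

variable {F : Type*} [Field F]

local notation "I4" => (Fin 2 ⊕ Fin 2)
local notation "M4" => Matrix (Fin 2 ⊕ Fin 2) (Fin 2 ⊕ Fin 2) F

theorem transpose_mul_J {x : GL I4 F} (hx : x ∈ Cfsg.spGL 2 F) :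
    (x : M4)ᵀ * Matrix.J (Fin 2) F * (x : M4) = Matrix.J (Fin 2) F :=
  SymplecticGroup.mem_iff'.1 (CfsgLib.Linear.Symp.mem_of_form_mulVec hx)

theorem mul_J_transpose {x : GL I4 F} (hx : x ∈ Cfsg.spGL 2 F) :
    (x : M4) * Matrix.J (Fin 2) F * (x : M4)ᵀ = Matrix.J (Fin 2) F :=
  SymplecticGroup.mem_iff.1 (CfsgLib.Linear.Symp.mem_of_form_mulVec hx)

theorem mem_spGL_of {x : GL I4 F}
    (hx : (x : M4)ᵀ * Matrix.J (Fin 2) F * (x : M4) = Matrix.J (Fin 2) F) : x ∈ Cfsg.spGL 2 F :=
  CfsgLib.Linear.Symp.form_mulVec (SymplecticGroup.mem_iff'.2 hx)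

theorem J_sq : Matrix.J (Fin 2) F * Matrix.J (Fin 2) F = (-1 : M4) := Matrix.J_squared (Fin 2) F

theorem scalar_sq {x : GL I4 F} (hx : x ∈ Cfsg.spGL 2 F) {c : F} (hc : (x : M4) = c • 1) : c ^ 2 = 1 := by
  have := congrFun (congrFun (transpose_mul_J hx) (Sum.inr 0)) (Sum.inl 0)
  simp [hc, Matrix.J, Matrix.transpose_smul] at this
  linear_combination this

variable {R : Subgroup (GL I4 F)}

theorem mem_center_iff_scalar (h : Good R) {x : R} :
    x ∈ Subgroup.center R ↔ ∃ c : F, ((x : GL I4 F) : M4) = c • 1 := by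
  refine ⟨fun hx => h.scalar_of_commute _ fun z hz =>
    (congrArg (fun u : R => ((u : GL I4 F) : M4)) (Subgroup.mem_center_iff.1 hx ⟨z, hz⟩)).symm,
    fun ⟨c, hc⟩ => Subgroup.mem_center_iff.2 fun z => Subtype.ext (Units.ext ?_)⟩
  rw [Subgroup.coe_mul, Subgroup.coe_mul, Units.val_mul, Units.val_mul, hc, Matrix.mul_smul,
    Matrix.smul_mul, one_mul, mul_one]

theorem trace_quot (h : Good R) (hRf : R ≤ Cfsg.spGL 2 F) (x y : R) :
    (((x * y⁻¹ : R) : GL I4 F) : M4).trace = 0 ∨
      ((x : R ⧸ Subgroup.center R) = y ∧ (((x * y⁻¹ : R) : GL I4 F) : M4).trace ≠ 0) := by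
  by_cases hs : ∃ c : F, (((x * y⁻¹ : R) : GL I4 F) : M4) = c • 1
  · obtain ⟨c, hc⟩ := hs
    refine Or.inr ⟨?_, ?_⟩
    · have hm := (mem_center_iff_scalar h).2 ⟨c, hc⟩
      rw [QuotientGroup.eq]
      have e : x⁻¹ * y = (x * y⁻¹)⁻¹ := by
        have := Subgroup.mem_center_iff.1 hm x⁻¹
        calc x⁻¹ * y = (x⁻¹ * (x * y⁻¹) * x)⁻¹ := by group
          _ = (x * y⁻¹ * x⁻¹ * x)⁻¹ := by rw [this]
          _ = (x * y⁻¹)⁻¹ := by group
      rw [e]
      exact inv_mem hm
    · rw [hc, Matrix.trace_smul, Matrix.trace_one, smul_eq_mul, Fintype.card_sum, Fintype.card_fin]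
      refine mul_ne_zero (fun h0 => ?_) ?_
      · have := scalar_sq (hRf (x * y⁻¹).2) hc
        rw [h0, zero_pow two_ne_zero] at this
        exact zero_ne_one this
      · rw [show ((2 + 2 : ℕ) : F) = 2 * 2 by norm_num]
        exact mul_ne_zero h.two_ne h.two_ne
  · push Not at hs
    exact Or.inl (h.trace_eq_zero (x * y⁻¹).2 hs)

/-- Coset representatives modulo the centre are linearly independent. -/
theorem linearIndependent_out (h : Good R) (hRf : R ≤ Cfsg.spGL 2 F) :
    LinearIndependent F fun q : R ⧸ Subgroup.center R => ((q.out : GL I4 F) : M4) := by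
  classical
  rw [linearIndependent_iff']
  intro s c hc q hq
  have := congrArg (fun A : M4 => (A * ((((q.out : R)⁻¹ : R) : GL I4 F) : M4)).trace) hc
  simp only [Finset.sum_mul, Matrix.smul_mul, Matrix.trace_sum, Matrix.trace_smul, Matrix.zero_mul,
    Matrix.trace_zero, ← Units.val_mul, ← Subgroup.coe_mul, smul_eq_mul] at this
  rw [Finset.sum_eq_single q] at this
  · refine (mul_eq_zero.1 this).resolve_right ?_
    rw [mul_inv_cancel, OneMemClass.coe_one, Units.val_one, Matrix.trace_one, Fintype.card_sum,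
      Fintype.card_fin, show ((2 + 2 : ℕ) : F) = 2 * 2 by norm_num]
    exact mul_ne_zero h.two_ne h.two_ne
  · intro q' _ hne
    rcases trace_quot h hRf q'.out q.out with h' | ⟨h', -⟩
    · rw [h', mul_zero]
    · rw [QuotientGroup.out_eq', QuotientGroup.out_eq'] at h'
      exact absurd h' hne
  · exact fun hn => absurd hq hn

variable [Finite F]

/-- There are twelve elements with square one. -/
theorem card_sq_one (h : Good R) (hRf : R ≤ Cfsg.spGL 2 F) (hR5 : Nat.card R = 2 ^ 5)
    (hRZ : Nat.card (Subgroup.center R) = 2) :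
    Nat.card {x : R // ((x : GL I4 F) : M4) ^ 2 = 1} = 12 := by
  classical
  haveI := h.finite
  haveI : Fintype (R ⧸ Subgroup.center R) := Fintype.ofFinite _
  set Q := R ⧸ Subgroup.center R
  have hQ : Fintype.card Q = 16 := by
    have := Subgroup.card_eq_card_quotient_mul_card_subgroup (Subgroup.center R)
    rw [hR5, hRZ, Nat.card_eq_fintype_card] at this
    change 2 ^ 5 = Fintype.card Q * 2 at this
    omega
  let J := Matrix.J (Fin 2) F
  have hJ0 : ∀ A : M4, J * A = 0 → A = 0 := fun A hA => by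
    have := congrArg (J * ·) hA
    simpa [J, ← Matrix.mul_assoc, J_sq] using this
  let σ : Fin 4 → I4 := (finSumFinEquiv (m := 2) (n := 2)).symm
  have hsym : ∀ (ε : F) (q : Q), ((q.out : GL I4 F) : M4) ^ 2 = ε • 1 →
      (J * ((q.out : GL I4 F) : M4))ᵀ = (-ε) • (J * ((q.out : GL I4 F) : M4)) := by
    intro ε q hq
    have hx := transpose_mul_J (hRf q.out.2)
    set X := ((q.out : GL I4 F) : M4)
    rw [Matrix.transpose_mul, show Jᵀ = -J from Matrix.J_transpose (Fin 2) F, Matrix.mul_neg, neg_smul]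
    congr 1
    calc Xᵀ * J = Xᵀ * J * (X * X) * ((ε)⁻¹ • (1 : M4)) := by
          rw [← pow_two, hq, Matrix.mul_smul, mul_one, Matrix.mul_smul, mul_one, smul_smul]
          obtain ⟨c, hc, hc2⟩ := h.sq _ q.out.2
          have hεc : ε = c := by
            have := congrFun (congrFun (hq.symm.trans hc) (Sum.inl 0)) (Sum.inl 0)
            simpa using this
          rw [inv_mul_cancel₀ (fun h0 => by rw [hεc] at h0; rw [h0] at hc2; simp at hc2), one_smul]
      _ = J * X * ((ε)⁻¹ • (1 : M4)) := by rw [← Matrix.mul_assoc (Xᵀ * J), hx]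
      _ = ε • (J * X) := by
          obtain ⟨c, hc, hc2⟩ := h.sq _ q.out.2
          have hεc : ε = c := by
            have := congrFun (congrFun (hq.symm.trans hc) (Sum.inl 0)) (Sum.inl 0)
            simpa using this
          rw [Matrix.mul_smul, mul_one, show ε⁻¹ = ε from inv_eq_of_mul_eq_one_right (by
            rw [hεc, ← pow_two, hc2])]
  have bound : ∀ (ε : F) (P : Finset (Fin 4 × Fin 4)),
      (∀ A : M4, Aᵀ = (-ε) • A → (∀ ij ∈ P, A (σ ij.1) (σ ij.2) = 0) → A = 0) →
      Fintype.card {q : Q // ((q.out : GL I4 F) : M4) ^ 2 = ε • 1} ≤ P.card := by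
    intro ε P hP
    let L : M4 →ₗ[F] (P → F) :=
      { toFun := fun A ij => (J * A) (σ ij.1.1) (σ ij.1.2)
        map_add' := fun A B => by funext ij; simp [Matrix.mul_add]
        map_smul' := fun c A => by funext ij; simp }
    have hli : LinearIndependent F fun q : {q : Q // ((q.out : GL I4 F) : M4) ^ 2 = ε • 1} =>
        L ((q.1.out : GL I4 F) : M4) := by
      rw [linearIndependent_iff']
      intro s c hc q hq
      have h0 : (∑ i ∈ s, c i • ((i.1.out : GL I4 F) : M4)) = 0 := by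
        refine hJ0 _ (hP _ ?_ fun ij hij => ?_)
        · simp only [Finset.mul_sum, Matrix.mul_smul, Matrix.transpose_sum, Matrix.transpose_smul,
            Finset.smul_sum]
          exact Finset.sum_congr rfl fun i _ => by rw [hsym ε i.1 i.2, smul_comm]
        · have := congrFun hc ⟨ij, hij⟩
          simp only [← map_smul, ← map_sum] at this
          exact this
      exact linearIndependent_iff'.1
        ((linearIndependent_out h hRf).comp Subtype.val Subtype.val_injective) s c h0 q hq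
    simpa using hli.fintype_card_le_finrank
  have hdiag : ∀ (A : M4), Aᵀ = -A → ∀ i, A i i = 0 := fun A hA i => by
    have := congrFun (congrFun hA i) i
    simp at this
    exact (mul_eq_zero.1 (show (2 : F) * A i i = 0 by linear_combination this)).resolve_left h.two_ne
  have b1 := bound 1 (Finset.univ.filter fun ij : Fin 4 × Fin 4 => ij.1 < ij.2) (by
    intro A hA hz
    rw [neg_one_smul] at hA
    ext a b
    obtain ⟨i, rfl⟩ := (finSumFinEquiv (m := 2) (n := 2)).symm.surjective a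
    obtain ⟨j, rfl⟩ := (finSumFinEquiv (m := 2) (n := 2)).symm.surjective b
    rcases lt_trichotomy i j with hij | rfl | hij
    · exact hz (i, j) (by simp [hij])
    · exact hdiag A hA _
    · have := congrFun (congrFun hA (σ j)) (σ i)
      rw [Matrix.transpose_apply, Matrix.neg_apply, hz (j, i) (by simp [hij]), neg_zero] at this
      exact this)
  have b2 := bound (-1) (Finset.univ.filter fun ij : Fin 4 × Fin 4 => ij.1 ≤ ij.2) (by
    intro A hA hz
    rw [neg_neg, one_smul] at hA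
    ext a b
    obtain ⟨i, rfl⟩ := (finSumFinEquiv (m := 2) (n := 2)).symm.surjective a
    obtain ⟨j, rfl⟩ := (finSumFinEquiv (m := 2) (n := 2)).symm.surjective b
    rcases le_total i j with hij | hij
    · exact hz (i, j) (by simp [hij])
    · have := congrFun (congrFun hA (σ j)) (σ i)
      rw [Matrix.transpose_apply, hz (j, i) (by simp [hij])] at this
      exact this)
  rw [show (Finset.univ.filter fun ij : Fin 4 × Fin 4 => ij.1 < ij.2).card = 6 from rfl] at b1
  rw [show (Finset.univ.filter fun ij : Fin 4 × Fin 4 => ij.1 ≤ ij.2).card = 10 from rfl] at b2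
  have hcover : ∀ q : Q, ((q.out : GL I4 F) : M4) ^ 2 = (1 : F) • 1 ∨
      ((q.out : GL I4 F) : M4) ^ 2 = (-1 : F) • 1 := fun q => by
    obtain ⟨c, hc, hc2⟩ := h.sq _ q.out.2
    rcases sq_eq_one_iff.1 hc2 with rfl | rfl
    · exact Or.inl hc
    · exact Or.inr hc
  have htot : 16 ≤ Fintype.card {q : Q // ((q.out : GL I4 F) : M4) ^ 2 = (1 : F) • 1} +
      Fintype.card {q : Q // ((q.out : GL I4 F) : M4) ^ 2 = (-1 : F) • 1} := by
    rw [← hQ]
    refine le_trans ?_ (Fintype.card_subtype_or _ _)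
    rw [Fintype.card_congr (Equiv.subtypeUnivEquiv hcover)]
  have h6 : Fintype.card {q : Q // ((q.out : GL I4 F) : M4) ^ 2 = (1 : F) • 1} = 6 := by omega
  have hinv : ∀ x : R, ((x : GL I4 F) : M4) ^ 2 =
      ((((x : Q)).out : GL I4 F) : M4) ^ 2 := by
    intro x
    obtain ⟨z, hz⟩ := QuotientGroup.mk_out_eq_mul (Subgroup.center R) x
    obtain ⟨c, hc⟩ := (mem_center_iff_scalar h).1 z.2
    rw [hz, Subgroup.coe_mul, Units.val_mul, hc, Matrix.mul_smul, mul_one, _root_.smul_pow,
      scalar_sq (hRf (z : R).2) hc, one_smul]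
  calc Nat.card {x : R // ((x : GL I4 F) : M4) ^ 2 = 1}
      = Nat.card (QuotientGroup.mk ⁻¹' {q : Q | ((q.out : GL I4 F) : M4) ^ 2 = (1 : F) • 1} : Set R) :=
        Nat.card_congr (Equiv.subtypeEquivRight fun x => by
          rw [hinv x]; simp [Q])
    _ = Nat.card (Subgroup.center R) * Fintype.card {q : Q // ((q.out : GL I4 F) : M4) ^ 2 = (1 : F) • 1} := by
        rw [Nat.card_congr (QuotientGroup.preimageMkEquivSubgroupProdSet _ _), Nat.card_prod,
          ← Nat.card_eq_fintype_card]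
        rfl
    _ = 12 := by rw [hRZ, h6]

/-- An element of order three fixes more than the centre. -/
theorem fixedPart_ne_two (h : Good R) (hRf : R ≤ Cfsg.spGL 2 F) (hR5 : Nat.card R = 2 ^ 5)
    (hRZ : Nat.card (Subgroup.center R) = 2) {y : GL I4 F} (hy3 : y ^ 3 = 1)
    (hy : y ∈ Cfsg.Geo.subgroupNormalizer R) : Nat.card ↥(Good.fixedPart R y) ≠ 2 := by
  classical
  intro hC
  haveI := h.finite
  haveI : Fact (Nat.Prime 3) := ⟨Nat.prime_three⟩
  haveI : Fintype {x : R // ((x : GL I4 F) : M4) ^ 2 = 1} := Fintype.ofFinite _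
  have hK : ∀ x : {x : R // ((x : GL I4 F) : M4) ^ 2 = 1}, (((⟨_, Good.conj_mem hy x.1.2⟩ : R) : GL I4 F) : M4) ^ 2 = 1 := fun x => by
    rw [Units.val_mul, Units.val_mul, Units.conj_pow, x.2, mul_one, Units.mul_inv]
  let φ : Function.End {x : R // ((x : GL I4 F) : M4) ^ 2 = 1} := fun x => ⟨⟨_, Good.conj_mem hy x.1.2⟩, hK x⟩
  have hφ : φ ^ 3 ^ 1 = 1 := by
    funext x
    refine Subtype.ext (Subtype.ext ?_)
    rw [pow_one, pow_succ, pow_succ, pow_one]
    change y * (y * (y * (x.1 : GL I4 F) * y⁻¹) * y⁻¹) * y⁻¹ = (x.1 : GL I4 F)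
    calc _ = y * y * y * (x.1 : GL I4 F) * (y * y * y)⁻¹ := by group
      _ = _ := by rw [← pow_three', hy3]; group
  have hmod := Equiv.Perm.card_fixedPoints_modEq hφ
  have hcardK : Nat.card {x : R // ((x : GL I4 F) : M4) ^ 2 = 1} = 12 := card_sq_one h hRf hR5 hRZ
  rw [← Nat.card_eq_fintype_card, hcardK, Fintype.card_eq_nat_card] at hmod
  have hZC : Subgroup.center R = Good.fixedPart R y :=
    Subgroup.eq_of_le_of_card_ge (h.center_le_fixedPart y) (by rw [hC, hRZ])
  have hsq : ∀ x ∈ Good.fixedPart R y, ((x : GL I4 F) : M4) ^ 2 = 1 := fun x hx => by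
    rw [← hZC] at hx
    obtain ⟨c, hc⟩ := (mem_center_iff_scalar h).1 hx
    rw [hc, _root_.smul_pow, one_pow, scalar_sq (hRf x.2) hc, one_smul]
  rw [Nat.card_congr ({ toFun := fun x => ⟨x.1.1, Good.mem_fixedPart.2 ?_⟩
                        invFun := fun x => ⟨⟨x.1, hsq x.1 x.2⟩, ?_⟩
                        left_inv := fun _ => rfl
                        right_inv := fun _ => rfl } : φ.fixedPoints ≃ ↥(Good.fixedPart R y)), hC] at hmod
  · exact absurd hmod (by decide)
  · have := congrArg (fun z : {x : R // ((x : GL I4 F) : M4) ^ 2 = 1} => ((z.1 : R) : GL I4 F)) (x.2 : φ x.1 = x.1)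
    exact mul_inv_eq_iff_eq_mul.1 this
  · exact Subtype.ext (Subtype.ext (mul_inv_eq_iff_eq_mul.2 (Good.mem_fixedPart.1 x.2)))

/-- Four anticommuting involutions. -/
theorem exists_anticommuting (h : Good R) (hRf : R ≤ Cfsg.spGL 2 F) (hR5 : Nat.card R = 2 ^ 5)
    (hRZ : Nat.card (Subgroup.center R) = 2) (hRm : Cfsg.Geo.IsOfMinusType 2 R) :
    ∃ e : Fin 4 → GL I4 F, (∀ i, e i ∈ R ∧ (e i : M4) * e i = 1) ∧
      ∀ i j, i ≠ j → (e i : M4) * e j = -((e j : M4) * e i) := by
  classical
  haveI := h.finite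
  let Q := R ⧸ Subgroup.center R
  let T : Set Q := {q | (∃ x : R, (x : Q) = q ∧ ((x : GL I4 F) : M4) ^ 2 = 1) ∧ q ≠ 1}
  have hT : 4 ≤ T.ncard := by
    by_contra hlt
    have hle : Nat.card {x : R // ((x : GL I4 F) : M4) ^ 2 = 1} ≤
        Nat.card (QuotientGroup.mk ⁻¹' (insert (1 : Q) T) : Set R) := by
      refine Nat.card_mono (Set.toFinite _) ?_
      intro x hx
      rcases eq_or_ne (x : Q) 1 with h1 | h1
      · exact Or.inl h1
      · exact Or.inr ⟨⟨x, rfl, hx⟩, h1⟩
    rw [card_sq_one h hRf hR5 hRZ, Nat.card_congr (QuotientGroup.preimageMkEquivSubgroupProdSet _ _),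
      Nat.card_prod, hRZ, Nat.card_coe_set_eq] at hle
    have := Set.ncard_insert_le (1 : Q) T
    omega
  obtain ⟨f⟩ : Nonempty (Fin 4 ↪ T) := by
    haveI : Fintype T := Fintype.ofFinite _
    exact Function.Embedding.nonempty_of_card_le (by
      rwa [Fintype.card_fin, ← Nat.card_eq_fintype_card, Nat.card_coe_set_eq])
  choose x hxq hx2 using fun i => (f i).2.1
  have hq : ∀ i, (x i : Q) ≠ 1 := fun i => by rw [hxq]; exact (f i).2.2
  refine ⟨fun i => (x i : GL I4 F), fun i => ⟨(x i).2, by rw [← pow_two, hx2]⟩, fun i j hij => ?_⟩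
  refine ((h.comm _ (x j).2 _ (x i).2).resolve_left fun hcomm => ?_)
  have hxx : ∀ k, x k * x k = 1 := fun k => Subtype.ext (Units.ext (by
    rw [Subgroup.coe_mul, Units.val_mul, ← pow_two, hx2]; rfl))
  have hab : Commute (x i) (x j) := Subtype.ext (Units.ext hcomm)
  set a := x i
  set b := x j
  have hne : (a : Q) ≠ b := by
    rw [hxq, hxq]; exact fun he => hij (f.injective (Subtype.ext he))
  let A : Subgroup R := Subgroup.closure ((Subgroup.center R : Set R) ∪ {a, b})
  have hAc : IsMulCommutative A := by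
    refine Subgroup.isMulCommutative_closure fun u hu v hv => ?_
    rcases hu with hu | hu | hu
    · exact (Subgroup.mem_center_iff.1 hu v).symm
    all_goals
      rcases hv with hv | hv | hv
      · exact Subgroup.mem_center_iff.1 hv u
      all_goals rw [hu, hv]
    · exact hab.eq
    · exact hab.eq.symm
  have hA2 : ∀ u ∈ A, u * u = 1 := by
    intro u hu
    induction hu using Subgroup.closure_induction with
    | mem u hu =>
      rcases hu with hu | hu | hu
      · obtain ⟨c, hc⟩ := (mem_center_iff_scalar h).1 hu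
        refine Subtype.ext (Units.ext ?_)
        rw [Subgroup.coe_mul, Units.val_mul, hc, Matrix.smul_mul, one_mul, smul_smul, ← pow_two,
          scalar_sq (hRf u.2) hc, one_smul]
        rfl
      · rw [hu]; exact hxx i
      · rw [hu]; exact hxx j
    | one => exact one_mul 1
    | mul u v hu hv hu2 hv2 =>
      have hc : u * v = v * u := congrArg Subtype.val (hAc.is_comm.comm (⟨u, hu⟩ : A) ⟨v, hv⟩)
      calc u * v * (u * v) = u * (v * u) * v := by group
        _ = u * (u * v) * v := by rw [hc]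
        _ = (u * u) * (v * v) := by group
        _ = 1 := by rw [hu2, hv2, one_mul]
    | inv u hu hu2 => rw [← _root_.mul_inv_rev, hu2, inv_one]
  have h8 : 2 ^ (2 + 1) ≤ Nat.card A := by
    let w : Fin 2 × Fin 2 → R := fun t => a ^ (t.1 : ℕ) * b ^ (t.2 : ℕ)
    have hw : ∀ t, w t ∈ A := fun t =>
      A.mul_mem (A.pow_mem (Subgroup.subset_closure (Or.inr (Or.inl rfl))) _)
        (A.pow_mem (Subgroup.subset_closure (Or.inr (Or.inr rfl))) _)
    let g : Subgroup.center R × (Fin 2 × Fin 2) → A := fun t =>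
      ⟨w t.2 * t.1, A.mul_mem (hw t.2) (Subgroup.subset_closure (Or.inl t.1.2))⟩
    have hab' : (a : Q) * b ≠ 1 := fun h0 => hne (by
      rw [← mul_one (a : Q), ← QuotientGroup.mk_one, ← hxx j, QuotientGroup.mk_mul, ← mul_assoc, h0, one_mul])
    have hg : Function.Injective g := by
      rintro ⟨z, t⟩ ⟨z', t'⟩ he
      have he' : w t * z = w t' * z' := congrArg Subtype.val he
      have hwq : ((w t : R) : Q) = w t' := by
        rw [← QuotientGroup.mk_mul_of_mem (w t) z.2, he', QuotientGroup.mk_mul_of_mem (w t') z'.2]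
      have ht : t = t' := by
        obtain ⟨t1, t2⟩ := t
        obtain ⟨u1, u2⟩ := t'
        fin_cases t1 <;> fin_cases t2 <;> fin_cases u1 <;> fin_cases u2 <;> simp [w, -QuotientGroup.eq_one_iff] at hwq ⊢ <;>
          first
          | exact hq i hwq
          | exact hq i hwq.symm
          | exact hq j hwq
          | exact hq j hwq.symm
          | exact hne hwq
          | exact hne hwq.symm
          | exact hab' hwq
          | exact hab' hwq.symm
      subst ht
      rw [Subtype.ext (mul_left_cancel he')]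
    have := Nat.card_le_card_of_injective g hg
    rw [Nat.card_prod, Nat.card_prod, hRZ, Nat.card_fin] at this
    simpa using this
  exact absurd (hRm A hAc hA2) (not_lt.2 h8)

section ring

variable {A : Type*} [Ring A]

/-- Moving a product of four differences. -/
theorem chain {w1 w2 w3 w4 a b c d e : A} (h4 : w4 * a = -(b * w4)) (h3 : w3 * b = -(c * w3))
    (h2 : w2 * c = -(d * w2)) (h1 : w1 * d = -(e * w1)) :
    w1 * w2 * w3 * w4 * a = e * (w1 * w2 * w3 * w4) := by
  simp only [mul_assoc]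
  rw [h4, mul_neg, mul_neg, mul_neg, ← mul_assoc w3, h3, neg_mul, mul_neg, mul_neg, neg_neg,
    mul_assoc c, ← mul_assoc w2, h2, neg_mul, mul_neg, mul_assoc d, ← mul_assoc w1, h1, neg_mul, neg_neg,
    mul_assoc e]

theorem diff_facts {a b : A} (ha : a * a = 1) (hb : b * b = 1) (hab : a * b = -(b * a)) :
    (a - b) * a = -(b * (a - b)) ∧ (a - b) * b = -(a * (a - b)) ∧ (a - b) * (a - b) = 1 + 1 := by
  refine ⟨?_, ?_, ?_⟩
  · rw [sub_mul, mul_sub, ha, hb]; abel
  · rw [sub_mul, mul_sub, ha, hb]; abel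
  · rw [sub_mul, mul_sub, mul_sub, ha, hb, hab]; abel

theorem diff_other {a b c : A} (ha : a * c = -(c * a)) (hb : b * c = -(c * b)) :
    (a - b) * c = -(c * (a - b)) := by
  rw [sub_mul, mul_sub, ha, hb]; abel

theorem product_facts {a b c d : A} (ha : a * a = 1) (hb : b * b = 1) (hc : c * c = 1) (hd : d * d = 1)
    (ba : b * a = -(a * b)) (ca : c * a = -(a * c)) (da : d * a = -(a * d)) (cb : c * b = -(b * c))
    (db : d * b = -(b * d)) (dc : d * c = -(c * d)) :
    a * b * c * d * (a * b * c * d) = 1 ∧ a * b * c * d * a = -(a * (a * b * c * d)) ∧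
      a * b * c * d * b = -(b * (a * b * c * d)) ∧ a * b * c * d * c = -(c * (a * b * c * d)) ∧
      a * b * c * d * d = -(d * (a * b * c * d)) := by
  have ha' : ∀ x, a * (a * x) = x := fun x => by rw [← mul_assoc, ha, one_mul]
  have hb' : ∀ x, b * (b * x) = x := fun x => by rw [← mul_assoc, hb, one_mul]
  have hc' : ∀ x, c * (c * x) = x := fun x => by rw [← mul_assoc, hc, one_mul]
  have ba' : ∀ x, b * (a * x) = -(a * (b * x)) := fun x => by rw [← mul_assoc, ba, neg_mul, mul_assoc]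
  have ca' : ∀ x, c * (a * x) = -(a * (c * x)) := fun x => by rw [← mul_assoc, ca, neg_mul, mul_assoc]
  have da' : ∀ x, d * (a * x) = -(a * (d * x)) := fun x => by rw [← mul_assoc, da, neg_mul, mul_assoc]
  have cb' : ∀ x, c * (b * x) = -(b * (c * x)) := fun x => by rw [← mul_assoc, cb, neg_mul, mul_assoc]
  have db' : ∀ x, d * (b * x) = -(b * (d * x)) := fun x => by rw [← mul_assoc, db, neg_mul, mul_assoc]
  have dc' : ∀ x, d * (c * x) = -(c * (d * x)) := fun x => by rw [← mul_assoc, dc, neg_mul, mul_assoc]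
  refine ⟨?_, ?_, ?_, ?_, ?_⟩ <;>
    simp [mul_assoc, ha, hb, hc, hd, ba, ca, da, cb, db, dc, ha', hb', hc', ba', ca', da', cb', db', dc']

end ring

/-- An element of order five of the normalizer inside the symplectic group. -/
theorem exists_order_five (h : Good R) (hRf : R ≤ Cfsg.spGL 2 F) (hR5 : Nat.card R = 2 ^ 5)
    (hRZ : Nat.card (Subgroup.center R) = 2) (hRm : Cfsg.Geo.IsOfMinusType 2 R) :
    ∃ y ∈ Cfsg.spGL 2 F, y ∈ Cfsg.Geo.subgroupNormalizer R ∧ y ^ 5 = 1 ∧
      ∀ c : F, (y : M4) ≠ c • 1 := by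
  classical
  haveI := h.finite
  obtain ⟨e, he, hanti⟩ := exists_anticommuting h hRf hR5 hRZ hRm
  obtain ⟨p1, p2, p3, p4, p5⟩ := product_facts (he 0).2 (he 1).2 (he 2).2 (he 3).2 (hanti 1 0 (by decide))
    (hanti 2 0 (by decide)) (hanti 3 0 (by decide)) (hanti 2 1 (by decide)) (hanti 3 1 (by decide))
    (hanti 3 2 (by decide))
  set g : GL I4 F := e 0 * e 1 * e 2 * e 3 with hgdef
  have hgR : g ∈ R := R.mul_mem (R.mul_mem (R.mul_mem (he 0).1 (he 1).1) (he 2).1) (he 3).1
  set a := (e 0 : M4)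
  set b := (e 1 : M4)
  set c := (e 2 : M4)
  set d := (e 3 : M4)
  have hgM : (g : M4) = a * b * c * d := by rw [hgdef, Units.val_mul, Units.val_mul, Units.val_mul]
  set f := a * b * c * d with hf
  have af : a * f = -(f * a) := by rw [p2, neg_neg]
  have bf : b * f = -(f * b) := by rw [p3, neg_neg]
  have cf : c * f = -(f * c) := by rw [p4, neg_neg]
  have df : d * f = -(f * d) := by rw [p5, neg_neg]
  have h2 : ((2 : F) • (1 : M4)) = 1 + 1 := two_smul F _
  have hunit : ∀ w : M4, w * w = 1 + 1 → ∃ W : GL I4 F, (W : M4) = w := fun w hw =>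
    ⟨⟨w, (2⁻¹ : F) • w, by rw [Matrix.mul_smul, hw, ← h2, smul_smul, inv_mul_cancel₀ h.two_ne, one_smul],
      by rw [Matrix.smul_mul, hw, ← h2, smul_smul, inv_mul_cancel₀ h.two_ne, one_smul]⟩, rfl⟩
  obtain ⟨f1, g1, q1⟩ := diff_facts (he 0).2 (he 1).2 (hanti 0 1 (by decide))
  obtain ⟨f2, g2, q2⟩ := diff_facts (he 1).2 (he 2).2 (hanti 1 2 (by decide))
  obtain ⟨f3, g3, q3⟩ := diff_facts (he 2).2 (he 3).2 (hanti 2 3 (by decide))
  obtain ⟨f4, g4, q4⟩ := diff_facts (he 3).2 p1 df
  obtain ⟨W1, hW1⟩ := hunit _ q1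
  obtain ⟨W2, hW2⟩ := hunit _ q2
  obtain ⟨W3, hW3⟩ := hunit _ q3
  obtain ⟨W4, hW4⟩ := hunit _ q4
  set y := W1 * W2 * W3 * W4 with hydef
  have hyM : (y : M4) = (a - b) * (b - c) * (c - d) * (d - f) := by
    rw [hydef, Units.val_mul, Units.val_mul, Units.val_mul, hW1, hW2, hW3, hW4]
  clear_value y
  have hconv : ∀ {u v : GL I4 F}, (y : M4) * (u : M4) = (v : M4) * (y : M4) → y * u = v * y :=
    fun h' => Units.ext h'
  have c0 : y * e 0 = e 1 * y := hconv (by
    rw [hyM]
    exact chain (diff_other (hanti 3 0 (by decide)) p2) (diff_other (hanti 2 0 (by decide)) (hanti 3 0 (by decide)))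
      (diff_other (hanti 1 0 (by decide)) (hanti 2 0 (by decide))) f1)
  have c1 : y * e 1 = e 2 * y := hconv (by
    rw [hyM]
    exact chain (diff_other (hanti 3 1 (by decide)) p3) (diff_other (hanti 2 1 (by decide)) (hanti 3 1 (by decide)))
      f2 (diff_other (hanti 0 2 (by decide)) (hanti 1 2 (by decide))))
  have c2 : y * e 2 = e 3 * y := hconv (by
    rw [hyM]
    exact chain (diff_other (hanti 3 2 (by decide)) p4) f3
      (diff_other (hanti 1 3 (by decide)) (hanti 2 3 (by decide)))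
      (diff_other (hanti 0 3 (by decide)) (hanti 1 3 (by decide))))
  have c3 : y * e 3 = g * y := hconv (by
    rw [hyM, hgM]
    exact chain f4 (diff_other cf df) (diff_other bf cf) (diff_other af bf))
  have c4 : y * g = e 0 * y := hconv (by
    rw [hyM, hgM]
    exact chain g4 g3 g2 g1)
  -- generation
  let P : (Fin 4 → Fin 2) → R := fun v =>
    ⟨e 0 ^ (v 0 : ℕ) * e 1 ^ (v 1 : ℕ) * e 2 ^ (v 2 : ℕ) * e 3 ^ (v 3 : ℕ),
      R.mul_mem (R.mul_mem (R.mul_mem (R.pow_mem (he 0).1 _) (R.pow_mem (he 1).1 _)) (R.pow_mem (he 2).1 _))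
        (R.pow_mem (he 3).1 _)⟩
  let N : (Fin 4 → Fin 2) → Fin 4 → ℕ := fun v i =>
    (if i = 0 then 0 else (v 0 : ℕ)) + (if i = 1 then 0 else (v 1 : ℕ)) + (if i = 2 then 0 else (v 2 : ℕ)) +
      (if i = 3 then 0 else (v 3 : ℕ))
  have hsgn : ∀ i j (k : Fin 2), (e i : M4) * (e j : M4) ^ (k : ℕ) =
      (-1 : F) ^ (if i = j then 0 else (k : ℕ)) • ((e j : M4) ^ (k : ℕ) * e i) := by
    intro i j k
    fin_cases k
    · simp
    · rcases eq_or_ne i j with rfl | hij
      · simp
      · simp [hij, hanti i j hij]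
  have hmul : ∀ {u v w : M4} {s t : F}, u * v = s • (v * u) → u * w = t • (w * u) →
      u * (v * w) = (s * t) • (v * w * u) := fun hv hw => by
    rw [← Matrix.mul_assoc, hv, Matrix.smul_mul, Matrix.mul_assoc, hw, Matrix.mul_smul, smul_smul,
      Matrix.mul_assoc]
  have hP : ∀ v i, (e i : M4) * ((P v : GL I4 F) : M4) = (-1 : F) ^ N v i • (((P v : GL I4 F) : M4) * e i) := by
    intro v i
    simp only [P, N, Units.val_mul, Units.val_pow_eq_pow_val, pow_add]
    exact hmul (hmul (hmul (hsgn i 0 _) (hsgn i 1 _)) (hsgn i 2 _)) (hsgn i 3 _)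
  have hinj : Function.Injective fun v => (P v : R ⧸ Subgroup.center R) := by
    intro v w hvw
    obtain ⟨s, hs⟩ := (mem_center_iff_scalar h).1 (QuotientGroup.eq.1 hvw)
    have hw' : ((P w : GL I4 F) : M4) = s • ((P v : GL I4 F) : M4) := by
      rw [show P w = P v * ((P v)⁻¹ * P w) by group, Subgroup.coe_mul, Units.val_mul, hs, Matrix.mul_smul,
        mul_one]
    have hN : ∀ i, N v i % 2 = N w i % 2 := fun i => by
      have h1 := hP v i
      have h2' := hP w i
      rw [hw', Matrix.mul_smul, Matrix.smul_mul, h1, smul_comm] at h2'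
      have hs0 : s ≠ 0 := fun h0 => (P w : GL I4 F).ne_zero (by rw [hw', h0, zero_smul])
      have h3 := smul_left_injective F (m := ((P v : GL I4 F) : M4) * (e i : M4)) ((P v : GL I4 F) * e i).ne_zero
        (smul_right_injective M4 hs0 (by simpa [smul_comm s] using h2' :
          s • (-1 : F) ^ N v i • (((P v : GL I4 F) : M4) * e i) =
            s • (-1 : F) ^ N w i • (((P v : GL I4 F) : M4) * e i)))
      rw [neg_one_pow_eq_pow_mod_two, neg_one_pow_eq_pow_mod_two (n := N w i)] at h3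
      rcases Nat.mod_two_eq_zero_or_one (N v i) with a1 | a1 <;>
        rcases Nat.mod_two_eq_zero_or_one (N w i) with a2 | a2 <;> rw [a1, a2] at h3 ⊢
      · exact absurd h3 (fun h3 => h.two_ne (by linear_combination h3))
      · exact absurd h3 (fun h3 => h.two_ne (by linear_combination -h3))
    clear hw' hs hvw
    revert hN
    revert v w
    decide +kernel
  have hgen : ∀ x ∈ R, x ∈ Subgroup.closure ({e 0, e 1, e 2, e 3} : Set (GL I4 F)) := by
    intro x hx
    set S := Subgroup.closure ({e 0, e 1, e 2, e 3} : Set (GL I4 F))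
    have m : ∀ i, e i ∈ S := fun i => Subgroup.subset_closure (by fin_cases i <;> simp)
    haveI : Fintype (R ⧸ Subgroup.center R) := Fintype.ofFinite _
    have hcard : Fintype.card (Fin 4 → Fin 2) = Fintype.card (R ⧸ Subgroup.center R) := by
      have := Subgroup.card_eq_card_quotient_mul_card_subgroup (Subgroup.center R)
      rw [hR5, hRZ, Nat.card_eq_fintype_card] at this
      simp only [Fintype.card_fun, Fintype.card_fin]
      omega
    obtain ⟨v, hv⟩ := ((Fintype.bijective_iff_injective_and_card _).2 ⟨hinj, hcard⟩).2 (⟨x, hx⟩ : R)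
    obtain ⟨s, hs⟩ := (mem_center_iff_scalar h).1 (QuotientGroup.eq.1 hv)
    have hxe : x = (P v : GL I4 F) * (((P v)⁻¹ * ⟨x, hx⟩ : R) : GL I4 F) := by
      rw [Subgroup.coe_mul, Subgroup.coe_inv]; group
    rw [hxe]
    refine S.mul_mem (S.mul_mem (S.mul_mem (S.mul_mem (S.pow_mem (m 0) _) (S.pow_mem (m 1) _))
      (S.pow_mem (m 2) _)) (S.pow_mem (m 3) _)) ?_
    rcases sq_eq_one_iff.1 (scalar_sq (hRf ((P v)⁻¹ * ⟨x, hx⟩ : R).2) hs) with rfl | rfl
    · rw [show (((P v)⁻¹ * ⟨x, hx⟩ : R) : GL I4 F) = 1 from Units.ext (by rw [hs, one_smul, Units.val_one])]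
      exact S.one_mem
    · rw [show (((P v)⁻¹ * ⟨x, hx⟩ : R) : GL I4 F) = e 0 * e 1 * (e 0 * e 1) from Units.ext (by
        rw [hs, Units.val_mul, Units.val_mul, neg_one_smul, Matrix.mul_assoc, ← Matrix.mul_assoc (e 1 : M4),
          hanti 1 0 (by decide), Matrix.neg_mul, Matrix.mul_neg, Matrix.mul_assoc, (he 1).2, Matrix.mul_one,
          (he 0).2])]
      exact S.mul_mem (S.mul_mem (m 0) (m 1)) (S.mul_mem (m 0) (m 1))
  have hconj : ∀ x ∈ R, y * x * y⁻¹ ∈ R := by
    intro x hx
    have hle : (Subgroup.closure ({e 0, e 1, e 2, e 3} : Set (GL I4 F))).map (MulAut.conj y).toMonoidHom ≤ R := by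
      rw [MonoidHom.map_closure, Subgroup.closure_le]
      rintro _ ⟨u, rfl | rfl | rfl | rfl, rfl⟩
      · change y * e 0 * y⁻¹ ∈ R; rw [c0, mul_inv_cancel_right]; exact (he 1).1
      · change y * e 1 * y⁻¹ ∈ R; rw [c1, mul_inv_cancel_right]; exact (he 2).1
      · change y * e 2 * y⁻¹ ∈ R; rw [c2, mul_inv_cancel_right]; exact (he 3).1
      · change y * e 3 * y⁻¹ ∈ R; rw [c3, mul_inv_cancel_right]; exact hgR
    exact hle ⟨x, hgen x hx, rfl⟩
  have hyN : y ∈ Cfsg.Geo.subgroupNormalizer R := by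
    have heq : R.map (MulAut.conj y).toMonoidHom = R :=
      Subgroup.eq_of_le_of_card_ge (by rintro _ ⟨x, hx, rfl⟩; exact hconj x hx)
        (Subgroup.card_map_of_injective (MulEquiv.injective _)).ge
    rw [Cfsg.Geo.subgroupNormalizer, Subgroup.mem_set_normalizer_iff]
    intro x
    refine ⟨fun hx => heq.le ⟨x, hx, rfl⟩, fun hx => ?_⟩
    obtain ⟨x', hx', hxx⟩ := heq.ge hx
    exact (mul_left_cancel (mul_right_cancel hxx) : x' = x) ▸ hx'
  -- the fifth power
  have cyc : ∀ {u1 u2 u3 u4 u5 : GL I4 F}, y * u1 = u2 * y → y * u2 = u3 * y → y * u3 = u4 * y →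
      y * u4 = u5 * y → y * u5 = u1 * y → Commute (y ^ 5) u1 := by
    intro u1 u2 u3 u4 u5 k1 k2 k3 k4 k5
    have s1 : SemiconjBy y u1 u2 := k1
    have s5 := (((( show SemiconjBy y u5 u1 from k5).mul_left (show SemiconjBy y u4 u5 from k4)).mul_left
      (show SemiconjBy y u3 u4 from k3)).mul_left (show SemiconjBy y u2 u3 from k2)).mul_left s1
    show y ^ 5 * u1 = u1 * y ^ 5
    rw [show y ^ 5 = y * y * y * y * y by simp only [pow_succ, pow_zero, one_mul]]
    exact s5
  obtain ⟨c', hc'⟩ := h.scalar_of_commute ((y ^ 5 : GL I4 F) : M4) fun x hx => by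
    have hmem : x ∈ Subgroup.centralizer {y ^ 5} := by
      refine (Subgroup.closure_le _).2 ?_ (hgen x hx)
      rintro u (rfl | rfl | rfl | rfl) <;> rw [SetLike.mem_coe, Subgroup.mem_centralizer_singleton_iff]
      · exact (cyc c0 c1 c2 c3 c4).eq.symm
      · exact (cyc c1 c2 c3 c4 c0).eq.symm
      · exact (cyc c2 c3 c4 c0 c1).eq.symm
      · exact (cyc c3 c4 c0 c1 c2).eq.symm
    exact (congrArg Units.val (Subgroup.mem_centralizer_singleton_iff.1 hmem)).symm
  -- the multiplier
  set J := Matrix.J (Fin 2) F with hJ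
  set B := (y : M4)ᵀ * J * (y : M4) with hB
  have hBinv : ∀ x ∈ R, (x : M4)ᵀ * B * (x : M4) = B := by
    intro x hx
    have e' : (y : M4) * (x : M4) = ((y * x * y⁻¹ : GL I4 F) : M4) * (y : M4) := by
      rw [← Units.val_mul, ← Units.val_mul, inv_mul_cancel_right]
    have hx' := transpose_mul_J (hRf (hconj x hx))
    set X' := ((y * x * y⁻¹ : GL I4 F) : M4)
    calc (x : M4)ᵀ * B * (x : M4) = ((y : M4) * (x : M4))ᵀ * J * ((y : M4) * (x : M4)) := by
          rw [hB, Matrix.transpose_mul]; simp only [Matrix.mul_assoc]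
      _ = (y : M4)ᵀ * (X'ᵀ * J * X') * (y : M4) := by
          rw [e', Matrix.transpose_mul]; simp only [Matrix.mul_assoc]
      _ = B := by rw [hx', hB]
  obtain ⟨μ, hμ⟩ := h.scalar_of_commute (J * B) fun x hx => by
    calc J * B * (x : M4) = ((x : M4) * J * (x : M4)ᵀ) * B * (x : M4) := by rw [mul_J_transpose (hRf hx)]
      _ = (x : M4) * (J * ((x : M4)ᵀ * B * (x : M4))) := by simp only [Matrix.mul_assoc]
      _ = (x : M4) * (J * B) := by rw [hBinv x hx]
  set l := -μ with hl
  have hBl : B = l • J := by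
    have := congrArg (J * ·) hμ
    rw [← Matrix.mul_assoc, J_sq, Matrix.neg_mul, one_mul, Matrix.mul_smul, mul_one] at this
    rw [hl, neg_smul, ← this, neg_neg]
  have hpowJ : ∀ k : ℕ, ((y : M4) ^ k)ᵀ * J * (y : M4) ^ k = l ^ k • J := by
    intro k
    induction k with
    | zero => simp
    | succ k ih =>
      calc ((y : M4) ^ (k + 1))ᵀ * J * (y : M4) ^ (k + 1)
          = (y : M4)ᵀ * (((y : M4) ^ k)ᵀ * J * (y : M4) ^ k) * (y : M4) := by
            rw [pow_succ, Matrix.transpose_mul]; simp only [Matrix.mul_assoc]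
        _ = l ^ k • B := by rw [ih, Matrix.mul_smul, Matrix.smul_mul, hB]
        _ = l ^ (k + 1) • J := by rw [hBl, smul_smul, pow_succ]
  have hc5 : (y : M4) ^ 5 = c' • 1 := by rw [← Units.val_pow_eq_pow_val, hc']
  have hc0 : c' ≠ 0 := fun h0 => (y ^ 5 : GL I4 F).ne_zero (by rw [hc', h0, zero_smul])
  have hl5 : l ^ 5 = c' ^ 2 := by
    have := hpowJ 5
    rw [hc5, Matrix.transpose_smul, Matrix.transpose_one, Matrix.smul_mul, one_mul, Matrix.smul_mul,
      Matrix.mul_smul, mul_one, smul_smul] at this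
    have := congrFun (congrFun this (Sum.inr 0)) (Sum.inl 0)
    simp [hJ, Matrix.J] at this
    linear_combination -this
  have hl0 : l ≠ 0 := fun h0 => hc0 (by rw [h0] at hl5; simpa using hl5.symm)
  set s := l ^ 2 / c' with hs
  have hs0 : s ≠ 0 := div_ne_zero (pow_ne_zero _ hl0) hc0
  set t := (s ^ 5 * c') * s with ht
  have ht2 : t ^ 2 * l = 1 ∧ t ^ 5 * c' = 1 := by
    have hls : l * s ^ 2 = 1 := by
      rw [hs, div_pow, ← mul_div_assoc, div_eq_one_iff_eq (pow_ne_zero _ hc0), ← hl5]; ring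
    have hsc : (s ^ 5 * c') ^ 2 = 1 := by
      rw [show (s ^ 5 * c') ^ 2 = (s ^ 2) ^ 5 * c' ^ 2 by ring, ← hl5, ← mul_pow, mul_comm, hls, one_pow]
    constructor
    · rw [ht, show (s ^ 5 * c' * s) ^ 2 * l = (s ^ 5 * c') ^ 2 * (l * s ^ 2) by ring, hsc, hls, one_mul]
    · rw [ht, show (s ^ 5 * c' * s) ^ 5 * c' = ((s ^ 5 * c') ^ 2) ^ 3 by ring, hsc, one_pow]
  have ht0 : t ≠ 0 := fun h0 => by rw [h0] at ht2; simp at ht2
  let sc : GL I4 F := Matrix.GeneralLinearGroup.mkOfDetNeZero (t • (1 : M4)) (by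
    rw [Matrix.det_smul, Matrix.det_one, mul_one]; exact pow_ne_zero _ ht0)
  have hscn : sc ∈ Cfsg.Geo.subgroupNormalizer R := by
    rw [Cfsg.Geo.subgroupNormalizer, Subgroup.mem_set_normalizer_iff]
    intro z
    rw [show sc * z = z * sc from Units.ext (by
      change (t • (1 : M4)) * (z : M4) = (z : M4) * (t • 1)
      rw [Matrix.smul_mul, Matrix.mul_smul, one_mul, mul_one]), mul_inv_cancel_right]
  have hval : ((sc * y : GL I4 F) : M4) = t • (y : M4) := by
    rw [Units.val_mul, show (sc : M4) = t • 1 from rfl, Matrix.smul_mul, one_mul]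
  refine ⟨sc * y, mem_spGL_of ?_, mul_mem hscn hyN, Units.ext ?_, fun k hk => ?_⟩
  · rw [hval, Matrix.transpose_smul, Matrix.smul_mul, Matrix.smul_mul, Matrix.mul_smul, ← hJ, ← hB, hBl,
      smul_smul, smul_smul, show t * t * l = t ^ 2 * l by ring, ht2.1, one_smul]
  · rw [Units.val_pow_eq_pow_val, hval, _root_.smul_pow, hc5, smul_smul, ht2.2, one_smul, Units.val_one]
  · rw [hval] at hk
    have hy' : (y : M4) = (t⁻¹ * k) • (1 : M4) := by
      rw [← smul_smul, ← hk, smul_smul, inv_mul_cancel₀ ht0, one_smul]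
    have h01 : e 0 = e 1 := by
      have hcm : y * e 0 = e 0 * y := Units.ext (by
        rw [Units.val_mul, Units.val_mul, hy', Matrix.smul_mul, Matrix.mul_smul, one_mul, mul_one])
      exact mul_right_cancel (hcm.symm.trans c0)
    have h1 := hanti 0 1 (by decide)
    rw [h01, (he 1).2] at h1
    have := congrFun (congrFun h1 (Sum.inl 0)) (Sum.inl 0)
    simp at this
    exact h.two_ne (by linear_combination this)

end CfsgLib.MinusSymp
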