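import Mathlib
import Cfsg.Prelude.Def_GeometricClasses
import Cfsg.Agent.Lib.Aschbacher.Forms
import Cfsg.Agent.Lib.Conj.Unitary
import Cfsg.Agent.Lib.Forms.Classify
import Cfsg.Agent.Lib.Classical.Herm.Std
import Cfsg.Agent.Lib.Linear.Card

/-!
# Hermitian forms in matrix language and orders of their groups
-/

set_option autoImplicit false

namespace CfsgLib.LinFix.HermModel

open Matrix Cfsg.Geo CfsgLib.Asch
open scoped MatrixGroups

variable {F : Type*} [Field F] {n q : ℕ}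

theorem mem_sl_iff {x : GL (Fin n) F} :
    x ∈ Cfsg.Geo.specialLinear (Fin n) F ↔ (x : Matrix (Fin n) (Fin n) F).det = 1 := by
  rw [Cfsg.Geo.specialLinear, MonoidHom.mem_ker, Units.ext_iff]
  rfl

/-- Membership in the similarity group of a form given by its Gram matrix. -/
theorem mem_similarity_iff {σ : F →+* F} {G : Matrix (Fin n) (Fin n) F} {g : GL (Fin n) F} :
    g ∈ similarityGroup (sform σ G) ↔
      ∃ c : Fˣ, (g : Matrix (Fin n) (Fin n) F)ᵀ * G * (g : Matrix (Fin n) (Fin n) F).map σ = (c : F) • G := by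
  refine ⟨fun ⟨c, hc⟩ => ⟨c, sform_injective (σ := σ) ?_⟩, fun ⟨c, hc⟩ => mem_similarity_sform hc⟩
  funext u v
  rw [← sform_mulVec, hc, sform_smul_matrix]

theorem hermForm_eq_sform {φ : F →+* F} (hφ : ∀ x, φ x = x ^ q) :
    Cfsg.hermForm n F q = sform φ (1 : Matrix (Fin n) (Fin n) F) := by
  funext u v
  simp [sform, Cfsg.hermForm, dotProduct, hφ]

theorem mem_GU_iff {φ : F →+* F} (hφ : ∀ x, φ x = x ^ q) {g : GL (Fin n) F} :
    g ∈ Cfsg.GU n F q ↔ (g : Matrix (Fin n) (Fin n) F)ᵀ * (g : Matrix (Fin n) (Fin n) F).map φ = 1 := by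
  change (∀ u v, Cfsg.hermForm n F q _ _ = Cfsg.hermForm n F q u v) ↔ _
  simp only [hermForm_eq_sform hφ, sform_mulVec, Matrix.mul_one]
  exact ⟨fun h => sform_injective (σ := φ) (funext fun u => funext (h u)), fun h u v => congrArg (fun A => sform φ A u v) h⟩

/-- The Gram matrix of a unitary form. -/
theorem exists_gram [Fintype F] (hF : Fintype.card F = q ^ 2) {f : (Fin n → F) → (Fin n → F) → F}
    (hf : Cfsg.Geo.IsUnitaryFormPow q f) {φ : F →+* F} (hφ : ∀ x, φ x = x ^ q) :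
    ∃ G : Matrix (Fin n) (Fin n) F, f = sform φ G ∧ G.det ≠ 0 ∧ Gᵀ = G.map φ := by
  have hφ2 : ∀ x, φ (φ x) = x := fun x => by rw [hφ, hφ, ← pow_mul, ← pow_two, ← hF, FiniteField.pow_card]
  have heq : f = sform φ (gramMatrix f) := by
    refine eq_sform φ f hf.add_left hf.smul_left (fun v x y => ?_) (fun c v x => ?_)
    · rw [hf.herm v (x + y), hf.add_left, ← hφ, map_add, hφ, hφ, ← hf.herm, ← hf.herm]
    · rw [hf.herm v (c • x), hf.smul_left, mul_pow, ← hf.herm, hφ]
  refine ⟨gramMatrix f, heq, ?_, ?_⟩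
  · refine ((Matrix.isUnit_iff_isUnit_det _).1 (isUnit_of_nondegenerate
      (σ := φ) (fun x => ⟨φ x, hφ2 x⟩) ?_)).ne_zero
    rw [← heq]; exact hf.nondegenerate
  · ext i j
    simp only [Matrix.transpose_apply, Matrix.map_apply, gramMatrix, hφ]
    exact hf.herm _ _

/-- Every hermitian matrix is congruent to the identity. -/
theorem exists_orthonormal [Fintype F] {φ : F →+* F} (hφ2 : ∀ x, φ (φ x) = x) (hw : ∃ w, φ w ≠ w)
    {G : Matrix (Fin n) (Fin n) F} (hG : G.det ≠ 0) (hH : Gᵀ = G.map φ) :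
    ∃ P : GL (Fin n) F,
      (P : Matrix (Fin n) (Fin n) F)ᵀ * G * (P : Matrix (Fin n) (Fin n) F).map φ = 1 := by
  classical
  have hherm : ∀ u v, φ (sform φ G u v) = sform φ G v u := fun u v => by
    have hGij : ∀ i j, φ (G i j) = G j i := fun i j => by
      have := congrFun (congrFun hH i) j
      simpa using this.symm
    simp only [sform, dotProduct, Matrix.mulVec, Finset.mul_sum, map_sum, map_mul, hφ2, hGij]
    rw [Finset.sum_comm]
    exact Finset.sum_congr rfl fun i _ => Finset.sum_congr rfl fun j _ => by ring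
  let B : (Fin n → F) →ₛₗ[φ] (Fin n → F) →ₗ[F] F :=
    LinearMap.mk₂'ₛₗ φ (RingHom.id F) (fun x y => sform φ G y x)
      (fun x x' y => sform_add_right φ G y x x') (fun c x y => sform_smul_right φ G c y x)
      (fun x y y' => sform_add_left φ G y y' x) (fun c x y => sform_smul_left φ G c y x)
  have hS : B.IsSymm := ⟨fun x y => hherm y x⟩
  have hne : φ ≠ RingHom.id F := fun h => by
    obtain ⟨w, hw⟩ := hw
    exact hw (by rw [h]; rfl)
  have hnd : ∀ x ∈ (⊤ : Submodule F (Fin n → F)), (∀ y ∈ (⊤ : Submodule F (Fin n → F)), B x y = 0) → x = 0 := by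
    intro x _ hx
    by_contra hx0
    obtain ⟨u, hu⟩ := (sform_nondegenerate (σ := φ)
      ((Matrix.isUnit_iff_isUnit_det G).2 hG.isUnit) x hx0).1
    exact hu (hx u Submodule.mem_top)
  obtain ⟨b, hspan, hb⟩ := CfsgLib.Forms.exists_orthonormal_family B hne hφ2 hS n ⊤
    (by rw [finrank_top, Module.finrank_fin_fun]) hnd
  let M : Matrix (Fin n) (Fin n) F := (Matrix.of b)ᵀ
  have hM : IsUnit M := by
    rw [Matrix.isUnit_transpose]
    exact Matrix.linearIndependent_rows_iff_isUnit.1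
      (linearIndependent_of_top_le_span_of_card_eq_finrank hspan.ge (by simp))
  refine ⟨hM.unit, ?_⟩
  rw [hM.unit_spec]
  ext i j
  rw [← sform_single φ (Mᵀ * G * M.map φ), ← sform_mulVec, Matrix.mulVec_single_one,
    Matrix.mulVec_single_one, Matrix.one_apply]
  have h := hb j i
  change sform φ G (b i) (b j) = _ at h
  rw [show (if i = j then (1 : F) else 0) = (if j = i then 1 else 0) by simp [eq_comm]]
  exact h

/-- A product identity for the order of the general linear group. -/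
theorem prod_sub_pow (Q N : ℕ) : ∏ i : Fin N, (Q ^ N - Q ^ (i : ℕ)) =
    Q ^ (∑ i ∈ Finset.range N, i) * ∏ i ∈ Finset.range N, (Q ^ (i + 1) - 1) := by
  rw [Fin.prod_univ_eq_prod_range (fun i => Q ^ N - Q ^ i) N, ← Finset.prod_pow_eq_pow_sum,
    ← Finset.prod_range_reflect (fun i => Q ^ (i + 1) - 1) N, ← Finset.prod_mul_distrib]
  refine Finset.prod_congr rfl fun i hi => ?_
  rw [Finset.mem_range] at hi
  rw [Nat.mul_sub, mul_one, ← pow_add]
  congr 2
  omega

/-- The order of the special linear group. -/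
theorem card_sl_mul [Fintype F] (hn : 1 ≤ n) :
    (Fintype.card F - 1) * Nat.card ↥(Cfsg.Geo.specialLinear (Fin n) F) =
      Fintype.card F ^ (∑ i ∈ Finset.range n, i) *
        ∏ i ∈ Finset.range n, (Fintype.card F ^ (i + 1) - 1) := by
  rw [show Nat.card ↥(Cfsg.Geo.specialLinear (Fin n) F) = _ from CfsgLib.Linear.card_ker_det,
    CfsgLib.Linear.card_SL_mul n hn, prod_sub_pow]

/-- The order of the unitary group. -/
theorem card_GU [Fintype F] (hF : Fintype.card F = q ^ 2) (n : ℕ) :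
    Nat.card ↥(Cfsg.GU n F q) = q ^ (n * (n - 1) / 2) *
      ∏ i ∈ Finset.range n, (if Even i then q ^ (i + 1) + 1 else q ^ (i + 1) - 1) := by
  rw [Nat.card_congr (CfsgLib.Classical.Herm.guEquiv hF n).toEquiv, CfsgLib.Classical.Herm.card_unit hF]

/-- The unitary matrices of determinant one. -/
theorem card_su_mul [Fintype F] (hF : Fintype.card F = q ^ 2) (hn : 1 ≤ n) :
    (q + 1) * Nat.card ↥(Cfsg.GU n F q ⊓ Cfsg.Geo.specialLinear (Fin n) F) = Nat.card ↥(Cfsg.GU n F q) := by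
  rw [Nat.card_congr (CfsgLib.Classical.Herm.guEquiv hF n).toEquiv,
    ← CfsgLib.Classical.Herm.card_unit_eq_mul_su hF hn]
  congr 1
  refine (Nat.card_congr (Equiv.ofBijective
    (fun s : Cfsg.SU n F q => (⟨Matrix.SpecialLinearGroup.toGL s.1, s.2, mem_sl_iff.2 s.1.2⟩ :
      ↥(Cfsg.GU n F q ⊓ Cfsg.Geo.specialLinear (Fin n) F))) ⟨?_, ?_⟩)).symm
  · intro a b h
    exact Subtype.ext (Matrix.SpecialLinearGroup.toGL_injective (congrArg Subtype.val h))
  · rintro ⟨g, hg, hd⟩
    have e : Matrix.SpecialLinearGroup.toGL (⟨g.1, mem_sl_iff.1 hd⟩ : SpecialLinearGroup (Fin n) F) = g :=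
      Units.ext rfl
    exact ⟨⟨⟨g.1, mem_sl_iff.1 hd⟩, by
      change Matrix.SpecialLinearGroup.toGL (⟨g.1, mem_sl_iff.1 hd⟩ : SpecialLinearGroup (Fin n) F) ∈ Cfsg.GU n F q
      rw [e]; exact hg⟩, Subtype.ext e⟩

/-- Factors of `q^(2j) - 1`. -/
theorem factor_sq (q i : ℕ) : (q ^ 2) ^ (i + 1) - 1 =
    (if Even i then q ^ (i + 1) - 1 else q ^ (i + 1) + 1) *
      (if Even i then q ^ (i + 1) + 1 else q ^ (i + 1) - 1) := by
  have hsq : (q ^ 2) ^ (i + 1) - 1 = (q ^ (i + 1) + 1) * (q ^ (i + 1) - 1) := by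
    rw [← pow_mul, mul_comm 2, pow_mul]
    simpa using Nat.sq_sub_sq (q ^ (i + 1)) 1
  split_ifs
  · rw [hsq, mul_comm]
  · exact hsq

end CfsgLib.LinFix.HermModel
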