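import Mathlib
import Cfsg.Prelude.Def_GeometricClasses
import Cfsg.Agent.Lib.ClassicalMax.Symp
import Cfsg.Agent.Lib.ClassicalMax.SympTools
import Cfsg.Agent.Lib.Linear.SympCard
import Cfsg.Agent.Lib.Linear.Card
import Cfsg.Agent.Lib.LinFix.Count
import Cfsg.Agent.Lib.LinFix.Field

/-!
# Symplectic forms: standard coordinates, and the primes dividing the index of their similarity groups
-/

set_option autoImplicit false
open scoped MatrixGroups

namespace CfsgLib.LinFix

open Matrix Cfsg.Geo CfsgLib.ClassicalMax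

variable {F V : Type*} [Field F] [AddCommGroup V] [Module F V]

/-- A non-degenerate alternating form has standard coordinates. -/
theorem exists_sympEquiv [FiniteDimensional F V] (B : V →ₗ[F] V →ₗ[F] F) (halt : ∀ v, B v v = 0)
    (hnd : ∀ v, (∀ w, B v w = 0) → v = 0) :
    ∃ (d : ℕ) (e : V ≃ₗ[F] (Fin d ⊕ Fin d → F)), ∀ x y, B x y = Cfsg.sympForm d F (e x) (e y) := by
  have key : ∀ (k : ℕ) (V : Submodule F V), Module.finrank F V = k →
      (∀ v ∈ V, (∀ w ∈ V, B v w = 0) → v = 0) →
      ∃ (d : ℕ) (e : V ≃ₗ[F] (Fin d ⊕ Fin d → F)),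
        ∀ x y : V, B x y = Cfsg.sympForm d F (e x) (e y) := by
    intro k
    induction k using Nat.strong_induction_on with
    | _ k ih =>
    intro U hk hU
    rcases eq_or_ne U ⊥ with rfl | hne
    · refine ⟨0, LinearEquiv.ofFinrankEq _ _ (by simp), fun x y => ?_⟩
      rw [sympForm_eq]
      simp [show (x : V) = 0 from (Submodule.mem_bot F).1 x.2]
    obtain ⟨v, hv, hv0⟩ := Submodule.exists_mem_ne_zero_of_ne_bot hne
    obtain ⟨w₀, hw₀, hvw₀⟩ : ∃ w ∈ U, B v w ≠ 0 := by
      by_contra h
      push Not at h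
      exact hv0 (hU v hv h)
    set w := (B v w₀)⁻¹ • w₀ with hwdef
    have hw : w ∈ U := U.smul_mem _ hw₀
    have hvw : B v w = 1 := by simp [hwdef, inv_mul_cancel₀ hvw₀]
    have hskew : ∀ a b, B a b = - B b a := fun a b => by
      have h := halt (a + b)
      simp only [map_add, LinearMap.add_apply, halt, zero_add, add_zero] at h
      exact eq_neg_of_add_eq_zero_right h
    have hwv : B w v = -1 := by rw [hskew, hvw]
    let W : Submodule F V := U ⊓ (LinearMap.ker (B v) ⊓ LinearMap.ker (B w))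
    have hlt : W < U := lt_of_le_of_ne inf_le_left fun he => by
      have h : w ∈ W := he.symm ▸ hw
      have h' : B v w = 0 := h.2.1
      exact one_ne_zero (hvw.symm.trans h')
    have hproj : ∀ x ∈ U, x + (B w x) • v - (B v x) • w ∈ W := fun x hx => by
      refine ⟨U.sub_mem (U.add_mem hx (U.smul_mem _ hv)) (U.smul_mem _ hw), ?_, ?_⟩
      · simp [halt, hvw]
      · simp [halt, hwv]
    obtain ⟨d, e, he⟩ := ih _ (hk ▸ Submodule.finrank_lt_finrank_of_lt hlt) W rfl fun a ha h => by
      refine hU a ha.1 fun x hx => ?_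
      have h1 := h _ (hproj x hx)
      have h2 : B a v = 0 := by rw [hskew, show B v a = 0 from ha.2.1, neg_zero]
      have h3 : B a w = 0 := by rw [hskew, show B w a = 0 from ha.2.2, neg_zero]
      simpa [h2, h3] using h1
    let P : U →ₗ[F] W :=
      { toFun := fun x => ⟨_, hproj x x.2⟩
        map_add' := fun x y => Subtype.ext (by
          simp only [Submodule.coe_add, map_add, add_smul]; abel)
        map_smul' := fun c x => Subtype.ext (by simp [mul_smul, smul_add, smul_sub]) }
    let L : U →ₗ[F] (Fin (d + 1) ⊕ Fin (d + 1) → F) :=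
      { toFun := fun x => Sum.elim (Fin.cons (B w x) (e (P x) ∘ Sum.inl))
          (Fin.cons (B v x) (e (P x) ∘ Sum.inr))
        map_add' := fun x y => by
          funext j
          rcases j with j | j <;> refine Fin.cases ?_ (fun i => ?_) j <;> simp
        map_smul' := fun c x => by
          funext j
          rcases j with j | j <;> refine Fin.cases ?_ (fun i => ?_) j <;> simp }
    have hL : ∀ x y : U, B x y = Cfsg.sympForm (d + 1) F (L x) (L y) := by
      intro x y
      have hB : B (x : V) y = B (P x : V) (P y : V) +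
          (B v x * B w y - B w x * B v y) := by
        simp [P, halt, hvw, hwv, hskew (x : V) v, hskew (x : V) w]
        ring
      rw [hB, he, sympForm_eq, sympForm_eq, Fin.sum_univ_succ]
      simp [L]
      ring
    have hinj : Function.Injective L := by
      rw [injective_iff_map_eq_zero]
      intro x hx
      apply Subtype.ext
      refine hU x x.2 fun y hy => ?_
      rw [hL x ⟨y, hy⟩, hx, sympForm_eq]
      simp
    have hsurj : Function.Surjective L := by
      intro z
      let a := e.symm (Sum.elim (fun i => z (.inl i.succ)) (fun i => z (.inr i.succ)))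
      have ha1 : B v (a : V) = 0 := a.2.2.1
      have ha2 : B w (a : V) = 0 := a.2.2.2
      refine ⟨⟨(a : V) + z (.inr 0) • w - z (.inl 0) • v, U.sub_mem (U.add_mem a.2.1 (U.smul_mem _ hw))
        (U.smul_mem _ hv)⟩, ?_⟩
      have hP : P ⟨(a : V) + z (.inr 0) • w - z (.inl 0) • v, U.sub_mem (U.add_mem a.2.1 (U.smul_mem _ hw))
          (U.smul_mem _ hv)⟩ = a := by
        apply Subtype.ext
        simp [P, ha1, ha2, halt, hvw, hwv]
      funext j
      rcases j with j | j <;> refine Fin.cases ?_ (fun i => ?_) j <;>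
        simp [L, hP, ha1, ha2, halt, hvw, hwv, a]
    exact ⟨d + 1, LinearEquiv.ofBijective L ⟨hinj, hsurj⟩, hL⟩
  obtain ⟨d, e, he⟩ := key _ ⊤ rfl fun v _ h => hnd v fun w => h w Submodule.mem_top
  exact ⟨d, Submodule.topEquiv.symm.trans e, fun x y => he ⟨x, trivial⟩ ⟨y, trivial⟩⟩

variable {ι : Type} [Fintype ι] [DecidableEq ι] [Fintype F]

/-- The order of the isometry group of a symplectic form. -/
theorem card_isoOf {f : (ι → F) → (ι → F) → F} (hf : IsSymplecticForm f) :
    ∃ d, Fintype.card ι = 2 * d ∧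
      Nat.card (isoOf f) = Fintype.card F ^ (d ^ 2) *
        ∏ i ∈ Finset.range d, (Fintype.card F ^ (2 * (i + 1)) - 1) := by
  obtain ⟨d, e, he⟩ := exists_sympEquiv (bilinOf hf.bilinear) hf.alternating
    fun v h => eq_zero_of_form_left hf.nondegenerate h
  have hd : Fintype.card ι = 2 * d := by
    rw [two_mul, ← Fintype.card_fin d, ← Fintype.card_sum, ← Module.finrank_pi F,
      ← Module.finrank_pi (ι := Fin d ⊕ Fin d) F, e.finrank_eq]
  refine ⟨d, hd, ?_⟩
  rw [← CfsgLib.Linear.Symp.card_symplectic]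
  let C : Matrix ι ι F ≃ₐ[F] Matrix (Fin d ⊕ Fin d) (Fin d ⊕ Fin d) F :=
    Matrix.toLinAlgEquiv'.trans ((e.conjAlgEquiv F).trans Matrix.toLinAlgEquiv'.symm)
  have hC : ∀ A v, C A *ᵥ e v = e (A *ᵥ v) := fun A v => by
    rw [← Matrix.toLinAlgEquiv'_apply]
    simp [C]
  refine Nat.card_congr
    { toFun := fun g => ⟨C (g.1 : Matrix ι ι F), CfsgLib.Linear.Symp.mem_of_form_mulVec fun x y => by
        obtain ⟨x, rfl⟩ := e.surjective x
        obtain ⟨y, rfl⟩ := e.surjective y
        rw [hC, hC, ← he, ← he]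
        exact g.2 x y⟩
      invFun := fun A => ⟨Matrix.GeneralLinearGroup.mk'' (C.symm A.1)
        ((Matrix.isUnit_iff_isUnit_det _).1 ((((Matrix.isUnit_iff_isUnit_det _).2
          (SymplecticGroup.symplectic_det A.2))).map C.symm)), fun x y => by
        change f (C.symm A.1 *ᵥ x) (C.symm A.1 *ᵥ y) = f x y
        rw [← bilinOf_apply hf.bilinear, ← bilinOf_apply hf.bilinear x y, he, he, ← hC, ← hC,
          C.apply_symm_apply]
        exact CfsgLib.Linear.Symp.form_mulVec A.2 _ _⟩
      left_inv := fun g => Subtype.ext (Units.ext (C.symm_apply_apply _))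
      right_inv := fun A => Subtype.ext (C.apply_symm_apply _) }

theorem fallProd_eq (q : ℕ) : ∀ d, ∏ j ∈ Finset.range (2 * d), (q ^ (j + 1) - 1) =
    (∏ i ∈ Finset.range d, (q ^ (2 * i + 1) - 1)) * ∏ i ∈ Finset.range d, (q ^ (2 * (i + 1)) - 1)
  | 0 => by simp
  | d + 1 => by
    rw [show 2 * (d + 1) = 2 * d + 1 + 1 by ring, Finset.prod_range_succ, Finset.prod_range_succ,
      fallProd_eq q d, Finset.prod_range_succ, Finset.prod_range_succ,
      show 2 * d + 1 + 1 = 2 * (d + 1) by ring]
    ring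

/-- A prime other than the characteristic dividing the index of a similarity group divides some
`q ^ j - 1` with `j` odd. -/
theorem odd_order_of_dvd_index {p : ℕ} [Fact p.Prime] [CharP F p] {q : ℕ} (hq : Fintype.card F = q)
    {n : ℕ} (hn : 0 < n) {f : (Fin n → F) → (Fin n → F) → F} (hf : IsSymplecticForm f) {r : ℕ}
    [Fact r.Prime] (hrp : r ≠ p)
    (h : r ∣ ((similarityGroup f).comap (SpecialLinearGroup.toGL : SL(n, F) →* GL (Fin n) F)).index) :
    Odd (orderOf (q : ZMod r)) ∧ orderOf (q : ZMod r) < n := by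
  classical
  subst hq
  set q := Fintype.card F with hq
  obtain ⟨d, hd, hcard⟩ := card_isoOf hf
  rw [Fintype.card_fin] at hd
  subst hd
  have hiso : isoOf f ≤ specialLinear (Fin (2 * d)) F :=
    isoOf_le_of_sTv hf fun v c => sTv_mem_sl v c
  set S := (isoOf f).comap (SpecialLinearGroup.toGL : SL(2 * d, F) →* GL (Fin (2 * d)) F) with hS
  have hle : S ≤ (similarityGroup f).comap
      (SpecialLinearGroup.toGL : SL(2 * d, F) →* GL (Fin (2 * d)) F) := fun x hx =>
    ⟨1, fun u v => by rw [Units.val_one, one_mul]; exact hx u v⟩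
  have h1 : r ∣ S.index := h.trans (Subgroup.index_dvd_of_le hle)
  have hScard : Nat.card S = Nat.card (isoOf f) := by
    refine Nat.card_congr (Equiv.ofBijective
      (fun x => ⟨SpecialLinearGroup.toGL x.1, x.2⟩) ⟨fun x y hxy => ?_, fun g => ?_⟩)
    · apply Subtype.ext
      apply Subtype.ext
      exact congrArg (fun g : isoOf f => ((g.1 : GL (Fin (2 * d)) F) : Matrix (Fin (2 * d)) (Fin (2 * d)) F)) hxy
    · obtain ⟨A, hA⟩ : ∃ A : SL(2 * d, F), SpecialLinearGroup.toGL A = g.1 :=
        ⟨⟨g.1, congrArg Units.val (hiso g.2)⟩, Units.ext rfl⟩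
      exact ⟨⟨A, show SpecialLinearGroup.toGL A ∈ isoOf f from hA.symm ▸ g.2⟩, Subtype.ext hA⟩
  set A := ∏ i ∈ Finset.range d, (q ^ (2 * i + 1) - 1) with hA
  set B := ∏ i ∈ Finset.range d, (q ^ (2 * (i + 1)) - 1) with hB
  have hB0 : B ≠ 0 := Finset.prod_ne_zero_iff.2 fun i _ => by
    have := Nat.one_lt_pow (n := 2 * (i + 1)) (by omega) (show 1 < q from Fintype.one_lt_card)
    omega
  have h2 : (q - 1) * Nat.card SL(2 * d, F) =
      (∏ j ∈ Finset.range (2 * d), q ^ j) * (A * B) := by
    rw [CfsgLib.Linear.card_SL_mul _ (by omega), Fin.prod_univ_eq_prod_range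
      (fun j => Fintype.card F ^ (2 * d) - Fintype.card F ^ j), prod_sub_eq le_rfl, ← fallProd_eq q d]
    congr 1
    rw [fallProd, ← Finset.prod_range_reflect (fun j => q ^ (j + 1) - 1)]
    refine Finset.prod_congr rfl fun j hj => ?_
    rw [Finset.mem_range] at hj
    rw [show 2 * d - 1 - j + 1 = 2 * d - j by omega]
  rw [← S.card_mul_index, hScard, hcard] at h2
  have h3 : (q - 1) * q ^ d ^ 2 * S.index = (∏ j ∈ Finset.range (2 * d), q ^ j) * A :=
    Nat.eq_of_mul_eq_mul_right (Nat.pos_of_ne_zero hB0) (by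
      calc (q - 1) * q ^ d ^ 2 * S.index * B = (q - 1) * (q ^ d ^ 2 * B * S.index) := by ring
        _ = _ := by rw [h2]; ring)
  have hr := (Fact.out : r.Prime)
  have hrq : ¬ r ∣ q := fun hd => by
    obtain ⟨k, -, hk⟩ := FiniteField.card F p
    rw [hq, hk] at hd
    exact hrp ((Nat.prime_dvd_prime_iff_eq hr Fact.out).1 (hr.dvd_of_dvd_pow hd))
  rcases hr.dvd_mul.1 ((h1.mul_left _).trans h3.dvd) with h4 | h4
  · obtain ⟨j, -, hj⟩ := hr.prime.exists_mem_finset_dvd h4
    exact absurd (hr.dvd_of_dvd_pow hj) hrq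
  · obtain ⟨j, hj, hj'⟩ := hr.prime.exists_mem_finset_dvd h4
    have hdvd := (dvd_pow_sub_one_iff Fintype.card_pos _).1 hj'
    rw [Finset.mem_range] at hj
    exact ⟨Odd.of_dvd_nat ⟨j, rfl⟩ hdvd, (Nat.le_of_dvd (by omega) hdvd).trans_lt (by omega)⟩

end CfsgLib.LinFix
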