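import Mathlib
import Cfsg.Agent.Lib.LinFix.Field

/-!
A single irreducible block given by a root of unity in an extension field.
-/

set_option autoImplicit false

namespace CfsgLib.LinFix.BlockField

open Polynomial

variable {F V W : Type*} [Field F] [AddCommGroup V] [Module F V] [AddCommGroup W] [Module F W]

/-- Polynomials in intertwined maps are intertwined. -/
theorem aeval_intertwine (φ : V →ₗ[F] W) {T : Module.End F V} {S : Module.End F W}
    (h : ∀ v, φ (T v) = S (φ v)) (P : F[X]) : ∀ v, φ (aeval T P v) = aeval S P (φ v) := by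
  induction P using Polynomial.induction_on with
  | C a => intro v; simp [Module.algebraMap_end_apply]
  | add P Q hP hQ => intro v; simp [hP, hQ]
  | monomial k a ih =>
    intro v
    rw [pow_succ, ← mul_assoc]
    simp only [map_mul (aeval T) (C a * X ^ k) X, map_mul (aeval S) (C a * X ^ k) X, aeval_X,
      Module.End.mul_apply]
    rw [ih, h]

theorem aeval_mulLeft {L : Type*} [CommRing L] [Algebra F L] (α : L) (P : F[X]) (x : L) :
    aeval (Algebra.lmul F L α) P x = aeval α P * x := by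
  rw [aeval_algHom_apply]; rfl

/-- A map commuting with `T` is a multiplication on a block. -/
theorem exists_mul_of_commute {L : Type*} [Field L] [Algebra F L] {α : L}
    (hgen : ∀ x : L, ∃ P : F[X], aeval α P = x) {g : F[X]} (hg : aeval α g = 0)
    {T D : Module.End F V} (hTD : Commute T D)
    (ι : L →ₗ[F] V) (hι : ∀ a, ι (α * a) = T (ι a))
    (hker : ∀ v, aeval T g v = 0 → ∃ c, v = ι c) :
    ∃ c : L, ∀ a, D (ι a) = ι (c * a) := by
  have hint : ∀ (P : F[X]) (a : L), ι (aeval α P * a) = aeval T P (ι a) := fun P a => by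
    rw [← aeval_intertwine ι (S := T) (T := Algebra.lmul F L α) (fun a => hι a), aeval_mulLeft]
  have hcomm : ∀ (P : F[X]) (v : V), aeval T P (D v) = D (aeval T P v) := fun P v => by
    have h : aeval T P * D = D * aeval T P := by
      induction P using Polynomial.induction_on with
      | C a => rw [aeval_C]; exact Algebra.commutes a D
      | add P Q hP hQ => rw [map_add, add_mul, mul_add, hP, hQ]
      | monomial k a ih =>
        rw [pow_succ, ← mul_assoc, map_mul, aeval_X, mul_assoc, hTD.eq, ← mul_assoc, ih, mul_assoc]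
    exact LinearMap.congr_fun h v
  obtain ⟨c, hc⟩ := hker (D (ι 1)) (by rw [hcomm, ← hint, hg, zero_mul, map_zero, map_zero])
  refine ⟨c, fun a => ?_⟩
  obtain ⟨P, rfl⟩ := hgen a
  have h := hint P 1
  rw [mul_one] at h
  rw [h, ← hcomm, hc, ← hint, mul_comm]

/-- A map commuting with `T` whose square is scalar is a multiplication on a block. -/
theorem exists_mul_on_block {L : Type*} [Field L] [Algebra F L] {α : L}
    (hgen : ∀ x : L, ∃ P : F[X], aeval α P = x) {g : F[X]} (hg : aeval α g = 0)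
    {T D : Module.End F V} (hTD : Commute T D) {ε : F} (hD : ∀ v, D (D v) = ε • v)
    (ι : L →ₗ[F] V) (hinj : Function.Injective ι) (hι : ∀ a, ι (α * a) = T (ι a))
    (hker : ∀ v, aeval T g v = 0 → ∃ c, v = ι c) :
    ∃ c : L, c * c = algebraMap F L ε ∧ ∀ a, D (ι a) = ι (c * a) := by
  obtain ⟨c, hmul⟩ := exists_mul_of_commute hgen hg hTD ι hι hker
  refine ⟨c, hinj ?_, hmul⟩
  have h : D (ι 1) = ι c := by rw [hmul, mul_one]
  rw [Algebra.algebraMap_eq_smul_one, map_smul, ← hmul, ← h, hD]

variable [Fintype F] {r : ℕ} [hr : Fact r.Prime] {L : Type*} [Field L] [Algebra F L] [Finite L]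

theorem frobenius_pow_apply (j : ℕ) (x : L) :
    (FiniteField.frobeniusAlgHom F L ^ j) x = x ^ Fintype.card F ^ j := by
  rw [AlgHom.coe_pow, FiniteField.coe_frobeniusAlgHom, pow_iterate]

theorem pow_card_pow_finrank (x : L) : x ^ Fintype.card F ^ Module.finrank F L = x := by
  have h := DFunLike.congr_fun (pow_orderOf_eq_one (FiniteField.frobeniusAlgHom F L)) x
  rwa [FiniteField.orderOf_frobeniusAlgHom, frobenius_pow_apply, AlgHom.one_apply] at h

/-- A square root of a non-square is negated by odd powers of Frobenius. -/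
theorem sqrt_pow_card {ε : F} (hε : ¬ IsSquare ε) {c : L} (hc : c * c = algebraMap F L ε) :
    ∀ k, c ^ Fintype.card F ^ k = (-1) ^ k * c := by
  classical
  have hF : ringChar F ≠ 2 := fun h => hε (FiniteField.isSquare_of_char_two h ε)
  have hε0 : ε ≠ 0 := fun h => hε (h ▸ ⟨0, (mul_zero 0).symm⟩)
  have he : ε ^ (Fintype.card F / 2) = -1 :=
    (FiniteField.pow_dichotomy hF hε0).resolve_left fun h => hε ((FiniteField.isSquare_iff hF hε0).mpr h)
  have h1 : c ^ Fintype.card F = -c := by
    have hodd := Nat.two_mul_div_two_add_one_of_odd (Nat.odd_iff.mpr (FiniteField.odd_card_of_char_ne_two hF))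
    conv_lhs => rw [← hodd]
    rw [pow_succ, pow_mul, pow_two, hc, ← map_pow, he, map_neg, map_one, neg_one_mul]
  intro k
  induction k with
  | zero => simp
  | succ k ih =>
    rw [pow_succ, pow_mul, ih, mul_pow, h1, ← pow_mul]
    have hodd : Odd (Fintype.card F) := Nat.odd_iff.mpr (FiniteField.odd_card_of_char_ne_two hF)
    rw [show ((-1 : L) ^ (k * Fintype.card F)) = (-1) ^ k by rw [mul_comm, pow_mul, hodd.neg_one_pow],
      pow_succ]
    ring

omit [Finite L] in
/-- In odd degree the inverse of a root of unity is no conjugate of it. -/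
theorem aeval_inv_ne_zero [FiniteDimensional F L] (hr2 : r ≠ 2) {α : L} (hα : α ^ r = 1) (hα1 : α ≠ 1)
    (hgen : ∀ x : L, ∃ P : F[X], aeval α P = x) {g : F[X]} (hg : Irreducible g) (hgα : aeval α g = 0)
    (hi : Module.finrank F L = orderOf (Fintype.card F : ZMod r))
    (hodd : Odd (Module.finrank F L)) : aeval α⁻¹ g ≠ 0 := by
  haveI : Finite L := Module.finite_of_finite F
  intro h
  haveI : Fact (Irreducible g) := ⟨hg⟩
  let ψ : AdjoinRoot g →ₐ[F] L := AdjoinRoot.liftAlgHom g (Algebra.ofId F L) α hgα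
  have hψ : Function.Bijective ψ := ⟨ψ.toRingHom.injective, fun x => by
    obtain ⟨P, hP⟩ := hgen x
    refine ⟨AdjoinRoot.mk g P, ?_⟩
    rw [← hP, ← AdjoinRoot.aeval_eq (f := g) P, ← Polynomial.aeval_algHom_apply ψ (AdjoinRoot.root g) P,
      show ψ (AdjoinRoot.root g) = α from AdjoinRoot.liftAlgHom_root _ _ _ _]⟩
  let σ : L →ₐ[F] L := (AdjoinRoot.liftAlgHom g (Algebra.ofId F L) α⁻¹ h).comp
    (AlgEquiv.ofBijective ψ hψ).symm.toAlgHom
  have hσ : σ α = α⁻¹ := by
    show AdjoinRoot.liftAlgHom g (Algebra.ofId F L) α⁻¹ h ((AlgEquiv.ofBijective ψ hψ).symm α) = α⁻¹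
    have hroot : ψ (AdjoinRoot.root g) = α := AdjoinRoot.liftAlgHom_root _ _ _ _
    rw [show (AlgEquiv.ofBijective ψ hψ).symm α = AdjoinRoot.root g from
      (AlgEquiv.symm_apply_eq _).mpr hroot.symm]
    exact AdjoinRoot.liftAlgHom_root _ _ _ _
  obtain ⟨j, hj⟩ := (FiniteField.bijective_frobeniusAlgHom_pow F L).2 σ
  have hj1 : α ^ Fintype.card F ^ (j : ℕ) = α⁻¹ := by
    rw [← hσ, ← hj, frobenius_pow_apply]
  have hα0 : α ≠ 0 := fun h0 => by rw [h0, zero_pow hr.out.ne_zero] at hα; exact zero_ne_one hα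
  have hord : orderOf α = r := orderOf_eq_prime hα hα1
  have hq : 1 ≤ Fintype.card F := Fintype.card_pos
  have hfix : ∀ k, α ^ Fintype.card F ^ k = α ↔ orderOf (Fintype.card F : ZMod r) ∣ k := fun k => by
    have hk : 1 ≤ Fintype.card F ^ k := Nat.one_le_pow _ _ hq
    rw [← dvd_pow_sub_one_iff hq, ← hord, orderOf_dvd_iff_pow_eq_one]
    constructor <;> intro e
    · apply mul_right_cancel₀ hα0
      rw [← pow_succ, Nat.sub_add_cancel hk, e, one_mul]
    · rw [← Nat.sub_add_cancel hk, pow_succ, e, one_mul]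
  have h2 : α ^ Fintype.card F ^ (2 * (j : ℕ)) = α := by
    rw [two_mul, pow_add, pow_mul, hj1, inv_pow, hj1, inv_inv]
  rw [hi] at hodd
  have hdvd := (Nat.Coprime.dvd_of_dvd_mul_left (Nat.coprime_two_right.mpr hodd) ((hfix _).mp h2))
  have h3 : α⁻¹ = α := hj1.symm.trans ((hfix _).mpr hdvd)
  have h4 : α ^ 2 = 1 := by
    rw [pow_two]; nth_rewrite 1 [← h3]; exact inv_mul_cancel₀ hα0
  exact hr2 ((Nat.prime_dvd_prime_iff_eq hr.out Nat.prime_two).1 (hord ▸ orderOf_dvd_of_pow_eq_one h4))

end CfsgLib.LinFix.BlockField
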