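import Mathlib
import Cfsg.Prelude.Def_GeometricClasses
import Cfsg.Agent.Lib.SympGeom.Basic
import Cfsg.Agent.Lib.LinFix.SympIndex
import Cfsg.Agent.Lib.LinFix.UnitaryIndex

/-!
Self-adjoint field subalgebras of the symplectic space: the symplectic group over the field and the
primes dividing its index.
-/

set_option autoImplicit false

namespace CfsgLib.LinFix.FieldForm

open Module Matrix Cfsg Cfsg.Geo

variable {F : Type*} [Field F] [Fintype F] {d k : ℕ}
  {K : Subalgebra F (Matrix (Fin d ⊕ Fin d) (Fin d ⊕ Fin d) F)}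

theorem isField (hd : 0 < d) (hK : IsFieldSubalgebra k K) : IsField K :=
  { exists_pair_ne := ⟨0, 1, fun h => by
      haveI : Nonempty (Fin d ⊕ Fin d) := ⟨Sum.inl ⟨0, hd⟩⟩
      exact zero_ne_one (congrArg Subtype.val h)⟩
    mul_comm := fun a b => Subtype.ext (hK.comm a.1 a.2 b.1 b.2)
    mul_inv_cancel := fun {a} ha => by
      obtain ⟨y, hy, hxy⟩ := hK.inv a.1 a.2 (fun h => ha (Subtype.ext h))
      exact ⟨⟨y, hy⟩, Subtype.ext hxy⟩ }

/-- The symplectic group over the field, inside the centraliser of the field. -/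
theorem exists_field_subgroup (hd : 0 < d) (hk : 0 < k) (hK : IsFieldSubalgebra k K)
    (hKf : IsSelfAdjointFor (sympForm d F) K)
    (hKalt : ∀ a ∈ K, ∀ v : Fin d ⊕ Fin d → F, sympForm d F (a *ᵥ v) v = 0) :
    ∃ m, d = k * m ∧ ∃ U : Subgroup (GL (Fin d ⊕ Fin d) F), U ≤ spGL d F ∧ U ≤ subalgebraNormalizer K ∧
      Nat.card U = (Fintype.card F ^ k) ^ (m ^ 2) *
        ∏ i ∈ Finset.range m, ((Fintype.card F ^ k) ^ (2 * (i + 1)) - 1) := by
  classical
  letI : Field K := (isField hd hK).toField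
  haveI : Finite K := Module.finite_of_finite F
  letI : Fintype K := Fintype.ofFinite K
  have hcardK : Fintype.card K = Fintype.card F ^ k := by
    rw [Module.card_eq_pow_finrank (K := F) (V := K), hK.finrank_eq]
  have hsmul : ∀ (a : K) (v : Fin d ⊕ Fin d → F),
      a • v = (a : Matrix (Fin d ⊕ Fin d) (Fin d ⊕ Fin d) F) *ᵥ v := fun a v => rfl
  haveI : Module.Finite K (Fin d ⊕ Fin d → F) := Module.Finite.of_restrictScalars_finite F K _
  let f := CfsgLib.SympGeom.sympBilin d F
  have hf : ∀ u v, f u v = sympForm d F u v := fun u v => CfsgLib.SympGeom.sympBilin_apply u v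
  have hnd := traceForm_nondegenerate F K
  let T := (Algebra.traceForm F K).toDual hnd
  let toV : (Fin d ⊕ Fin d → F) → K →ₗ[F] (Fin d ⊕ Fin d → F) := fun u =>
    { toFun := fun a => a • u
      map_add' := fun a b => add_smul a b u
      map_smul' := fun c a => smul_assoc c a u }
  let g₀ : (Fin d ⊕ Fin d → F) → (Fin d ⊕ Fin d → F) → K := fun u v => T.symm ((f.flip v).comp (toV u))
  have hg : ∀ u v a, Algebra.trace F K (g₀ u v * a) = sympForm d F (a • u) v := fun u v a => by
    rw [← Algebra.traceForm_apply, ← hf]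
    exact LinearMap.BilinForm.apply_toDual_symm_apply _ a
  have huniq : ∀ x y : K, (∀ a, Algebra.trace F K (x * a) = Algebra.trace F K (y * a)) → x = y := fun x y h =>
    sub_eq_zero.1 (hnd.1 _ fun a => by rw [Algebra.traceForm_apply, sub_mul, map_sub, h, sub_self])
  let B : (Fin d ⊕ Fin d → F) →ₗ[K] (Fin d ⊕ Fin d → F) →ₗ[K] K := LinearMap.mk₂ K g₀
    (fun u u' v => huniq _ _ fun a => by
      rw [hg, add_mul, map_add, hg, hg, smul_add, CfsgLib.Linear.Symp.form_add_left])
    (fun b u v => huniq _ _ fun a => by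
      rw [hg, smul_eq_mul, mul_comm b, mul_assoc, hg, smul_smul, mul_comm a b])
    (fun u v v' => huniq _ _ fun a => by
      rw [hg, add_mul, map_add, hg, hg, CfsgLib.Linear.Symp.form_add_right])
    (fun b u v => huniq _ _ fun a => by
      rw [hg, smul_eq_mul, mul_comm b, mul_assoc, hg, hsmul b v, ← hKf b.1 b.2, ← hsmul, smul_smul])
  have hBalt : ∀ v, B v v = 0 := fun v => huniq _ _ fun a => by
    rw [zero_mul, map_zero]
    show Algebra.trace F K (g₀ v v * a) = 0
    rw [hg, hsmul, hKalt a.1 a.2]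
  have hBnd : ∀ u, (∀ v, B u v = 0) → u = 0 := fun u h =>
    CfsgLib.SympGeom.sympBilin_nondeg.1 u fun v => by
      have h' := hg u v 1
      rw [show g₀ u v = 0 from h v, zero_mul, map_zero, one_smul] at h'
      exact (hf u v).trans h'.symm
  obtain ⟨m, e, he⟩ := exists_sympEquiv B hBalt hBnd
  have hdim : d = k * m := by
    have h1 := Module.finrank_mul_finrank F K (Fin d ⊕ Fin d → F)
    rw [hK.finrank_eq, e.finrank_eq, CfsgLib.SympGeom.finrank_space, CfsgLib.SympGeom.finrank_space] at h1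
    have : k * (2 * m) = 2 * (k * m) := by ring
    omega
  let φU : GL (Fin m ⊕ Fin m) K →* GL (Fin d ⊕ Fin d) F :=
    MonoidHom.toHomUnits
      { toFun := fun S => LinearMap.toMatrix' (((e.symm.toLinearMap).comp
          ((Matrix.toLin' (S : Matrix (Fin m ⊕ Fin m) (Fin m ⊕ Fin m) K)).comp e.toLinearMap)).restrictScalars F)
        map_one' := by
          have h : (((e.symm.toLinearMap).comp ((Matrix.toLin' ((1 : GL (Fin m ⊕ Fin m) K) :
              Matrix (Fin m ⊕ Fin m) (Fin m ⊕ Fin m) K)).comp e.toLinearMap)).restrictScalars F) = LinearMap.id := by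
            refine LinearMap.ext fun v => ?_
            simp
          rw [h, LinearMap.toMatrix'_id]
        map_mul' := fun S S' => by
          rw [← LinearMap.toMatrix'_comp]
          congr 1
          refine LinearMap.ext fun v => ?_
          simp [Matrix.mulVec_mulVec] }
  have hφU : ∀ S v, (φU S : Matrix (Fin d ⊕ Fin d) (Fin d ⊕ Fin d) F) *ᵥ v =
      e.symm ((S : Matrix (Fin m ⊕ Fin m) (Fin m ⊕ Fin m) K) *ᵥ e v) := fun S v => by
    show LinearMap.toMatrix' _ *ᵥ v = _
    rw [LinearMap.toMatrix'_mulVec]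
    simp
  refine ⟨m, hdim, (spGL m K).map φU, ?_, ?_, ?_⟩
  · rintro _ ⟨S, hS, rfl⟩
    intro u v
    show sympForm d F ((φU S : Matrix (Fin d ⊕ Fin d) (Fin d ⊕ Fin d) F) *ᵥ u)
      ((φU S : Matrix (Fin d ⊕ Fin d) (Fin d ⊕ Fin d) F) *ᵥ v) = sympForm d F u v
    have hval : ∀ u v, sympForm d F u v = Algebra.trace F K (sympForm m K (e u) (e v)) := fun u v => by
      rw [← he]
      show _ = Algebra.trace F K (g₀ u v)
      rw [← mul_one (g₀ u v), hg, one_smul]
    rw [hval, hval u v, hφU, hφU, e.apply_symm_apply, e.apply_symm_apply]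
    exact congrArg _ (hS (e u) (e v))
  · rintro _ ⟨S, -, rfl⟩
    have hcomm : ∀ a ∈ K, (φU S : Matrix (Fin d ⊕ Fin d) (Fin d ⊕ Fin d) F) * a =
        a * (φU S : Matrix (Fin d ⊕ Fin d) (Fin d ⊕ Fin d) F) := fun a ha => by
      refine Matrix.toLin'.injective (LinearMap.ext fun v => ?_)
      simp only [Matrix.toLin'_apply, ← mulVec_mulVec, hφU]
      show e.symm (_ *ᵥ e ((⟨a, ha⟩ : K) • v)) = (⟨a, ha⟩ : K) • e.symm (_ *ᵥ e v)
      rw [map_smul, Matrix.mulVec_smul, map_smul]
    intro a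
    constructor
    · intro ha
      rw [hcomm a ha, mul_assoc, ← Units.val_mul, mul_inv_cancel, Units.val_one, mul_one]
      exact ha
    · intro ha
      have h := hcomm _ ha
      rw [mul_assoc _ ((φU S)⁻¹).1, ← Units.val_mul, inv_mul_cancel, Units.val_one, mul_one] at h
      rwa [(φU S).isUnit.mul_right_injective h] at ha
  · have hinj : Function.Injective φU := fun S S' h => by
      refine Units.ext (Matrix.ext_iff_mulVec.2 fun w => ?_)
      have h' := congrArg (fun A : GL (Fin d ⊕ Fin d) F =>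
        (A : Matrix (Fin d ⊕ Fin d) (Fin d ⊕ Fin d) F) *ᵥ e.symm w) h
      simp only [hφU, e.apply_symm_apply] at h'
      exact e.symm.injective h'
    rw [Subgroup.card_map_of_injective hinj, UnitaryIndex.card_spGL', hcardK]

/-- A prime other than the characteristic dividing the index divides some `q ^ (2 j) - 1` with `k ∤ j`. -/
theorem order_of_dvd {r p : ℕ} [hr : Fact r.Prime] [Fact p.Prime] [CharP F p] (hr2 : r ≠ 2) (hrp : r ≠ p)
    (hk : 0 < k) {m : ℕ} (hdm : d = k * m) {U N : Subgroup (GL (Fin d ⊕ Fin d) F)} (hU : U ≤ spGL d F)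
    (hUN : U ≤ N) (hcard : Nat.card U = (Fintype.card F ^ k) ^ (m ^ 2) *
        ∏ i ∈ Finset.range m, ((Fintype.card F ^ k) ^ (2 * (i + 1)) - 1))
    (hΩ : r ∣ N.relIndex (spGL d F)) :
    0 < orderOf (Fintype.card F : ZMod r) ∧
      ((Odd (orderOf (Fintype.card F : ZMod r)) ∧ orderOf (Fintype.card F : ZMod r) ≤ d ∧
          ¬ k ∣ orderOf (Fintype.card F : ZMod r)) ∨
        ∃ h, 0 < h ∧ h ≤ d ∧ ¬ k ∣ h ∧ orderOf (Fintype.card F : ZMod r) = 2 * h) := by
  classical
  set q := Fintype.card F with hq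
  set i := orderOf (q : ZMod r) with hi
  refine ⟨orderOf_pos_of_ne hrp, ?_⟩
  have h1 : r ∣ U.relIndex (spGL d F) := hΩ.trans (Subgroup.relIndex_dvd_of_le_left _ hUN)
  have h2 : U.relIndex (spGL d F) * Nat.card U = Nat.card (spGL d F) := by
    rw [← Nat.card_congr (Subgroup.subgroupOfEquivOfLe hU).toEquiv]
    exact Subgroup.index_mul_card _
  have hq1 : 1 < q := Fintype.one_lt_card
  have himg : (Finset.range d).filter (fun j => k ∣ j + 1) = (Finset.range m).image (fun t => k * (t + 1) - 1) := by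
    ext j
    simp only [Finset.mem_filter, Finset.mem_range, Finset.mem_image]
    constructor
    · rintro ⟨hj, c, hc⟩
      rcases c with - | c
      · simp at hc
      · refine ⟨c, ?_, by omega⟩
        by_contra hcm
        have := Nat.mul_le_mul_left k (show m + 1 ≤ c + 1 by omega)
        rw [Nat.mul_succ k m] at this
        omega
    · rintro ⟨t, ht, rfl⟩
      have := Nat.mul_le_mul_left k (show t + 1 ≤ m by omega)
      have : 0 < k * (t + 1) := Nat.mul_pos hk (by omega)
      exact ⟨by omega, ⟨t + 1, by omega⟩⟩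
  have hprod : ∏ j ∈ Finset.range d, (q ^ (2 * (j + 1)) - 1) =
      (∏ t ∈ Finset.range m, ((q ^ k) ^ (2 * (t + 1)) - 1)) *
        ∏ j ∈ (Finset.range d).filter (fun j => ¬ k ∣ j + 1), (q ^ (2 * (j + 1)) - 1) := by
    rw [← Finset.prod_filter_mul_prod_filter_not (Finset.range d) (fun j => k ∣ j + 1), himg, Finset.prod_image]
    · congr 1
      refine Finset.prod_congr rfl fun t _ => ?_
      have : 0 < k * (t + 1) := Nat.mul_pos hk (by omega)
      rw [← pow_mul, Nat.sub_add_cancel (by omega : 1 ≤ k * (t + 1))]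
      congr 2
      ring
    · intro a _ b _ hab
      have h1 : 0 < k * (a + 1) := Nat.mul_pos hk (by omega)
      have h2 : 0 < k * (b + 1) := Nat.mul_pos hk (by omega)
      simp only at hab
      have h3 := Nat.eq_of_mul_eq_mul_left hk (show k * (a + 1) = k * (b + 1) by omega)
      omega
  rw [hcard, UnitaryIndex.card_spGL', ← hq, hprod] at h2
  have hpos : 0 < ∏ t ∈ Finset.range m, ((q ^ k) ^ (2 * (t + 1)) - 1) := Finset.prod_pos fun t _ => by
    have := Nat.one_lt_pow (n := 2 * (t + 1)) (by omega) (Nat.one_lt_pow hk.ne' hq1)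
    omega
  have h3 : U.relIndex (spGL d F) * (q ^ k) ^ m ^ 2 =
      q ^ d ^ 2 * ∏ j ∈ (Finset.range d).filter (fun j => ¬ k ∣ j + 1), (q ^ (2 * (j + 1)) - 1) :=
    Nat.eq_of_mul_eq_mul_right hpos (by linear_combination h2)
  have h4 := h3 ▸ h1.mul_right ((q ^ k) ^ m ^ 2)
  have hrq : ¬ r ∣ q := fun hd => by
    obtain ⟨c, -, hc⟩ := FiniteField.card F p
    rw [hq, hc] at hd
    exact hrp ((Nat.prime_dvd_prime_iff_eq hr.out Fact.out).1 (hr.out.dvd_of_dvd_pow hd))
  rcases hr.out.dvd_mul.1 h4 with h5 | h5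
  · exact absurd (hr.out.dvd_of_dvd_pow h5) hrq
  obtain ⟨j, hj, hj'⟩ := hr.out.prime.exists_mem_finset_dvd h5
  rw [Finset.mem_filter, Finset.mem_range] at hj
  have hdvd : i ∣ 2 * (j + 1) := (dvd_pow_sub_one_iff (r := r) hq1.le _).1 hj'
  rcases Nat.even_or_odd i with hie | hio
  · obtain ⟨h, hh⟩ := hie
    have hh2 : h ∣ j + 1 := Nat.dvd_of_mul_dvd_mul_left two_pos (by rwa [two_mul h, ← hh])
    exact Or.inr ⟨h, Nat.pos_of_ne_zero fun h0 => by subst h0; simp at hh2,
      (Nat.le_of_dvd (by omega) hh2).trans (by omega), fun hd => hj.2 (hd.trans hh2), by omega⟩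
  · have hdvd' := (Nat.coprime_two_right.mpr hio).dvd_of_dvd_mul_left hdvd
    exact Or.inl ⟨hio, (Nat.le_of_dvd (by omega) hdvd').trans (by omega), fun hd => hj.2 (hd.trans hdvd')⟩

end CfsgLib.LinFix.FieldForm
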