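import Mathlib
import Cfsg.Prelude.Def_GeometricClasses
import Cfsg.Agent.Lib.LinFix.Field

/-!
Field subalgebras of prime degree: generators and elements of their normalisers.
-/

set_option autoImplicit false

namespace CfsgLib.LinFix.FieldSub

open Module Matrix Polynomial Cfsg.Geo

variable {F : Type*} [Field F] [Fintype F] {ι : Type} [Fintype ι] [DecidableEq ι] {k : ℕ}
  {K : Subalgebra F (Matrix ι ι F)}

theorem isField [Nonempty ι] (hK : IsFieldSubalgebra k K) : IsField K :=
  { exists_pair_ne := ⟨0, 1, fun h => zero_ne_one (congrArg Subtype.val h)⟩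
    mul_comm := fun a b => Subtype.ext (hK.comm a.1 a.2 b.1 b.2)
    mul_inv_cancel := fun {a} ha => by
      obtain ⟨y, hy, hxy⟩ := hK.inv a.1 a.2 (fun h => ha (Subtype.ext h))
      exact ⟨⟨y, hy⟩, Subtype.ext hxy⟩ }

/-- A field of prime degree has a generator. -/
theorem exists_generator [Nonempty ι] (hk : k.Prime) (hK : IsFieldSubalgebra k K) :
    ∃ a ∈ K, ∃ μ : F[X], Irreducible μ ∧ μ.natDegree = k ∧ aeval a μ = 0 ∧
      ∀ b ∈ K, ∃ P : F[X], aeval a P = b := by
  classical
  letI : Field K := (isField hK).toField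
  haveI : Module.Finite F K := Module.Finite.of_finite
  have hfin : finrank F K = k := hK.finrank_eq
  obtain ⟨a, ha⟩ : ∃ a : K, a ∉ Set.range (algebraMap F K) := by
    by_contra hc
    push Not at hc
    have h1 : LinearMap.range (Algebra.linearMap F K) = ⊤ := LinearMap.range_eq_top.2 hc
    have h2 := LinearMap.finrank_range_le (Algebra.linearMap F K)
    rw [h1, finrank_top, hfin, finrank_self] at h2
    have := hk.two_le
    omega
  have hint : IsIntegral F a := IsIntegral.of_finite F a
  have hdeg : (minpoly F a).natDegree = k := by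
    have h1 := minpoly.degree_dvd hint
    rw [hfin] at h1
    exact ((Nat.dvd_prime hk).1 h1).resolve_left fun h => ha (minpoly.natDegree_eq_one_iff.1 h)
  have hval : ∀ P : F[X], aeval a.1 P = (aeval a P : K).1 := fun P => aeval_algHom_apply K.val a P
  refine ⟨a.1, a.2, minpoly F a, minpoly.irreducible hint, hdeg, by rw [hval, minpoly.aeval]; rfl, fun b hb => ?_⟩
  have htop : Algebra.adjoin F ({a} : Set K) = ⊤ := by
    have h := (IntermediateField.adjoin_simple_toSubalgebra_of_isAlgebraic (F := F) hint.isAlgebraic)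
    have h2 : IntermediateField.adjoin F ({a} : Set K) = ⊤ := by
      refine IntermediateField.eq_of_le_of_finrank_eq le_top ?_
      rw [IntermediateField.adjoin.finrank hint, hdeg, IntermediateField.finrank_top', hfin]
    rw [← h, h2, IntermediateField.top_toSubalgebra]
  have hb' : (⟨b, hb⟩ : K) ∈ Algebra.adjoin F ({a} : Set K) := htop ▸ trivial
  rw [Algebra.adjoin_singleton_eq_range_aeval] at hb'
  obtain ⟨P, hP⟩ := hb'
  exact ⟨P, by rw [hval, show aeval a P = ⟨b, hb⟩ from hP]⟩

/-- An element normalising a field of prime degree without centralising it has large rank. -/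
theorem rank_of_semilinear (hK : IsFieldSubalgebra k K) {a : Matrix ι ι F} (ha : a ∈ K) {y : GL ι F}
    (hy : y ∈ subalgebraNormalizer K) (hne : (y : Matrix ι ι F) * a ≠ a * y) :
    Fintype.card ι ≤ 2 * finrank F (LinearMap.range (Matrix.toLin' (y : Matrix ι ι F) - 1)) := by
  classical
  set b := (y : Matrix ι ι F) * a * ((y⁻¹ : GL ι F) : Matrix ι ι F)
  have hb : b ∈ K := (hy a).1 ha
  have hby : b * y = (y : Matrix ι ι F) * a := by
    simp only [b, mul_assoc, ← Units.val_mul, inv_mul_cancel, Units.val_one, mul_one]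
  obtain ⟨c, -, hc⟩ := hK.inv (a - b) (K.sub_mem ha hb) (sub_ne_zero.2 fun h => hne (by rw [← hby, ← h]))
  set N := Matrix.toLin' (y : Matrix ι ι F) - 1 with hN
  have hkey : ∀ w, b *ᵥ N w - N (a *ᵥ w) = (a - b) *ᵥ w := fun w => by
    simp only [hN, LinearMap.sub_apply, Matrix.toLin'_apply, Module.End.one_apply, mulVec_sub, mulVec_mulVec,
      hby, sub_mulVec]
    abel
  have htop : (LinearMap.range N).map (Matrix.toLin' b) ⊔ LinearMap.range N = ⊤ := eq_top_iff.2 fun v _ => by
    rw [← one_mulVec v, ← hc, ← mulVec_mulVec, ← hkey, sub_eq_add_neg]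
    refine Submodule.add_mem_sup ⟨_, ⟨c *ᵥ v, rfl⟩, ?_⟩ (Submodule.neg_mem _ ⟨_, rfl⟩)
    rw [Matrix.toLin'_apply]
  have h1 := Submodule.finrank_add_le_finrank_add_finrank ((LinearMap.range N).map (Matrix.toLin' b))
    (LinearMap.range N)
  rw [htop, finrank_top, Module.finrank_fintype_fun_eq_card] at h1
  have h2 := Submodule.finrank_map_le (Matrix.toLin' b) (LinearMap.range N)
  omega

/-- An element of prime order normalising a field of prime degree without centralising it has order
that degree. -/
theorem eq_of_semilinear [Nonempty ι] (hk : k.Prime) (hK : IsFieldSubalgebra k K) {a : Matrix ι ι F}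
    (ha : a ∈ K) {y : GL ι F} (hy : y ∈ subalgebraNormalizer K)
    (hne : (y : Matrix ι ι F) * a ≠ a * y) {r : ℕ} (hr : r.Prime) (hyr : y ^ r = 1) : r = k := by
  classical
  letI : Field K := (isField hK).toField
  haveI : Module.Finite F K := Module.Finite.of_finite
  haveI : Finite K := Module.finite_of_finite F
  let φ : subalgebraNormalizer K →* (K →ₐ[F] K) :=
    { toFun := fun g =>
        AlgHom.codRestrict
          ({ toFun := fun x : K => (g.1 : Matrix ι ι F) * x.1 * ((g.1⁻¹ : GL ι F) : Matrix ι ι F)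
             map_one' := by simp
             map_mul' := fun x x' => by
               simp only [Subalgebra.coe_mul, mul_assoc]
               rw [← mul_assoc ((g.1⁻¹ : GL ι F) : Matrix ι ι F) (g.1 : Matrix ι ι F), ← Units.val_mul,
                 inv_mul_cancel, Units.val_one, one_mul]
             map_zero' := by simp
             map_add' := fun x x' => by simp [mul_add, add_mul]
             commutes' := fun c => by
               show (g.1 : Matrix ι ι F) * algebraMap F (Matrix ι ι F) c * _ = _
               rw [← Algebra.commutes, mul_assoc, ← Units.val_mul, mul_inv_cancel, Units.val_one, mul_one] } :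
            K →ₐ[F] Matrix ι ι F) K fun x => (g.2 x.1).1 x.2
      map_one' := AlgHom.ext fun x => Subtype.ext (by
        show ((1 : GL ι F) : Matrix ι ι F) * x.1 * ((1⁻¹ : GL ι F) : Matrix ι ι F) = x.1
        simp)
      map_mul' := fun g g' => AlgHom.ext fun x => Subtype.ext (by
        show ((g.1 * g'.1 : GL ι F) : Matrix ι ι F) * x.1 * (((g.1 * g'.1)⁻¹ : GL ι F) : Matrix ι ι F) =
          (g.1 : Matrix ι ι F) * ((g'.1 : Matrix ι ι F) * x.1 * ((g'.1⁻¹ : GL ι F) : Matrix ι ι F)) *
            ((g.1⁻¹ : GL ι F) : Matrix ι ι F)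
        simp [mul_assoc]) }
  set σ := φ ⟨y, hy⟩
  have hσr : σ ^ r = 1 := by
    rw [← map_pow, show (⟨y, hy⟩ : subalgebraNormalizer K) ^ r = 1 from Subtype.ext hyr, map_one]
  have hσ1 : σ ≠ 1 := fun h => hne (by
    have h' : (y : Matrix ι ι F) * a * ((y⁻¹ : GL ι F) : Matrix ι ι F) = a :=
      congrArg Subtype.val (DFunLike.congr_fun h (⟨a, ha⟩ : K))
    conv_rhs => rw [← h']
    simp only [mul_assoc, ← Units.val_mul, inv_mul_cancel, Units.val_one, mul_one])
  have hord : orderOf σ = r := haveI := Fact.mk hr; orderOf_eq_prime hσr hσ1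
  obtain ⟨n, hn⟩ := (FiniteField.bijective_frobeniusAlgHom_pow F K).2 σ
  simp only at hn
  have hdvd : orderOf (FiniteField.frobeniusAlgHom F K ^ (n : ℕ)) ∣ finrank F K := by
    refine orderOf_dvd_of_pow_eq_one ?_
    have h1 : FiniteField.frobeniusAlgHom F K ^ finrank F K = 1 := by
      conv_lhs => arg 2; rw [← FiniteField.orderOf_frobeniusAlgHom F K]
      exact pow_orderOf_eq_one _
    rw [← pow_mul, mul_comm, pow_mul, h1, one_pow]
  rw [hn, hord, hK.finrank_eq] at hdvd
  exact (Nat.prime_dvd_prime_iff_eq hr hk).1 hdvd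

end CfsgLib.LinFix.FieldSub
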