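import Mathlib
import Cfsg.Prelude.Def_GeometricClasses
import Cfsg.Agent.Lib.Spectrum.LinearElements
import Cfsg.Agent.Lib.Semisimple.GL

/-!
# The extraspecial group of order 27 and exponent 3 in dimension three
-/

set_option autoImplicit false
open scoped MatrixGroups

namespace CfsgLib.Heis

open Matrix Polynomial

variable {F : Type*} [Field F]

/-- The diagonal generator. -/
def hA (ω : F) : Matrix (Fin 3) (Fin 3) F := Matrix.diagonal ![1, ω, ω ^ 2]

/-- The cyclic generator. -/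
def hB (F : Type*) [Field F] : Matrix (Fin 3) (Fin 3) F := !![0, 0, 1; 1, 0, 0; 0, 1, 0]

/-- The involution of the normalizer. -/
def hW (F : Type*) [Field F] : Matrix (Fin 3) (Fin 3) F := !![-1, 0, 0; 0, 0, -1; 0, -1, 0]

/-- The standard presentation of such a group. -/
structure Standard (R : Subgroup (GL (Fin 3) F)) (ω : F) (Q A B Z : GL (Fin 3) F) : Prop where
  cube : ω ^ 3 = 1
  ne_one : ω ≠ 1
  gen : Subgroup.closure {A, B} = R
  finite : Finite R
  hA_eq : (A : Matrix (Fin 3) (Fin 3) F) =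
    (Q : Matrix (Fin 3) (Fin 3) F) * hA ω * ((Q⁻¹ : GL (Fin 3) F) : Matrix (Fin 3) (Fin 3) F)
  hB_eq : (B : Matrix (Fin 3) (Fin 3) F) =
    (Q : Matrix (Fin 3) (Fin 3) F) * hB F * ((Q⁻¹ : GL (Fin 3) F) : Matrix (Fin 3) (Fin 3) F)
  hZ_mem : Z ∈ R
  hZ_eq : (Z : Matrix (Fin 3) (Fin 3) F) = ω • 1

theorem commute_of_scalar {g h : GL (Fin 3) F} {c : F}
    (hg : (g : Matrix (Fin 3) (Fin 3) F) = c • 1) : g * h = h * g := by
  apply Units.ext
  rw [Units.val_mul, Units.val_mul, hg, Matrix.smul_mul, Matrix.mul_smul, one_mul, mul_one]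

/-- Existence of the standard presentation. -/
theorem exists_standard (R : Subgroup (GL (Fin 3) F)) (hR : Nat.card R = 27)
    (hRe : Monoid.exponent R = 3) (hRna : ¬ IsMulCommutative R) {ω₀ : F} (hω3 : ω₀ ^ 3 = 1)
    (hω1 : ω₀ ≠ 1) :
    ∃ (ω : F) (Q A B Z : GL (Fin 3) F), Standard R ω Q A B Z := by
  classical
  haveI : Fact (Nat.Prime 3) := ⟨Nat.prime_three⟩
  haveI hfin : Finite R := Nat.finite_of_card_ne_zero (by omega)
  have hp : IsPGroup 3 R := IsPGroup.of_card (n := 3) (by rw [hR]; norm_num)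
  have hpow : ∀ g : GL (Fin 3) F, g ∈ R → g ^ 3 = 1 := fun g hg => by
    have := Monoid.pow_exponent_eq_one (⟨g, hg⟩ : R)
    rw [hRe] at this
    exact congrArg Subtype.val this
  obtain ⟨a, b, hab⟩ : ∃ a b : R, a * b ≠ b * a := by
    by_contra h; push Not at h; exact hRna (IsMulCommutative.of_comm h)
  set z : R := a * b * a⁻¹ * b⁻¹ with hz
  have hz1 : z ≠ 1 := fun h => hab (by
    calc a * b = (a * b * a⁻¹ * b⁻¹) * (b * a) := by group
      _ = b * a := by rw [← hz, h, one_mul])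
  have hcen : z ∈ Subgroup.center R := by
    have hdiv : Nat.card (Subgroup.center R) ∣ 3 ^ 3 := by
      rw [show 3 ^ 3 = Nat.card R from hR.symm]; exact Subgroup.card_subgroup_dvd_card _
    obtain ⟨k, hk, hkc⟩ := (Nat.dvd_prime_pow Nat.prime_three).1 hdiv
    haveI : Nontrivial R := ⟨⟨z, 1, hz1⟩⟩
    haveI := hp.center_nontrivial
    have hk0 : k ≠ 0 := fun h => by
      rw [h, pow_zero] at hkc
      exact absurd hkc (Finite.one_lt_card (α := Subgroup.center R)).ne'
    have hq := Subgroup.card_eq_card_quotient_mul_card_subgroup (Subgroup.center R)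
    rw [hR, hkc] at hq
    have hcomm : IsMulCommutative (R ⧸ Subgroup.center R) := by
      obtain rfl | rfl | rfl : k = 1 ∨ k = 2 ∨ k = 3 := by omega
      · exact IsPGroup.isMulCommutative_of_card_eq_prime_sq (p := 3) (by omega)
      · haveI : IsCyclic (R ⧸ Subgroup.center R) := isCyclic_of_prime_card (p := 3) (by omega)
        exact IsCyclic.commutative
      · exact IsMulCommutative.of_comm fun x y => by
          haveI : Subsingleton (R ⧸ Subgroup.center R) := (Nat.card_eq_one_iff_unique.1 (by omega)).1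
          exact Subsingleton.elim _ _
    rw [← QuotientGroup.eq_one_iff, hz]
    simp only [QuotientGroup.mk_mul, QuotientGroup.mk_inv]
    rw [hcomm.is_comm.comm (a : R ⧸ Subgroup.center R) (b : R ⧸ Subgroup.center R)]
    group
  set MA := ((a : GL (Fin 3) F) : Matrix (Fin 3) (Fin 3) F) with hMA
  set MB := ((b : GL (Fin 3) F) : Matrix (Fin 3) (Fin 3) F) with hMB
  set MZ := ((z : GL (Fin 3) F) : Matrix (Fin 3) (Fin 3) F) with hMZ
  have hcube : ∀ g : R, ((g : GL (Fin 3) F) : Matrix (Fin 3) (Fin 3) F) ^ 3 = 1 := fun g => by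
    rw [← Units.val_pow_eq_pow_val, hpow _ g.2, Units.val_one]
  have hab' : MA * MB = MZ * (MB * MA) := by
    have : a * b = z * (b * a) := by rw [hz]; group
    simpa using congrArg (fun g : R => ((g : GL (Fin 3) F) : Matrix (Fin 3) (Fin 3) F)) this
  have hzc : ∀ g : R, MZ * ((g : GL (Fin 3) F) : Matrix (Fin 3) (Fin 3) F) =
      ((g : GL (Fin 3) F) : Matrix (Fin 3) (Fin 3) F) * MZ := fun g => by
    have := (Subgroup.mem_center_iff.1 hcen g).symm
    simpa using congrArg (fun g : R => ((g : GL (Fin 3) F) : Matrix (Fin 3) (Fin 3) F)) this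
  -- an eigenvalue of a cube root of one among the cube roots of one
  have key : ∀ v : Fin 3 → F, v ≠ 0 → ∀ M : Matrix (Fin 3) (Fin 3) F, M ^ 3 = 1 →
      ∀ P : (Fin 3 → F) → Prop, P v → (∀ t : F, ∀ w, P w → P (M *ᵥ w - t • w)) →
      ∃ t : F, t ^ 3 = 1 ∧ ∃ w, w ≠ 0 ∧ P w ∧ M *ᵥ w = t • w := by
    intro v hv M hM P hP hPs
    by_cases h1 : M *ᵥ v = v
    · exact ⟨1, one_pow 3, v, hv, hP, by rw [one_smul, h1]⟩
    set u := M *ᵥ v - (1 : F) • v with hu
    have hu0 : u ≠ 0 := by rwa [hu, one_smul, sub_ne_zero]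
    by_cases h2 : M *ᵥ u = ω₀ • u
    · exact ⟨ω₀, hω3, u, hu0, hPs 1 v hP, h2⟩
    refine ⟨ω₀ ^ 2, by rw [← pow_mul, pow_mul', hω3, one_pow], M *ᵥ u - ω₀ • u,
      sub_ne_zero.2 h2, hPs ω₀ u (hPs 1 v hP), ?_⟩
    have e : 1 + ω₀ + ω₀ ^ 2 = 0 :=
      (mul_eq_zero.1 (show (ω₀ - 1) * (1 + ω₀ + ω₀ ^ 2) = 0 by linear_combination hω3)).resolve_left
        (sub_ne_zero.2 hω1)
    have h3 : M *ᵥ (M *ᵥ (M *ᵥ v)) = v := by
      rw [Matrix.mulVec_mulVec, Matrix.mulVec_mulVec, ← pow_three', hM, Matrix.one_mulVec]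
    simp only [hu, Matrix.mulVec_sub, Matrix.mulVec_smul, h3]
    funext i
    simp only [Pi.sub_apply, Pi.smul_apply, smul_eq_mul]
    linear_combination (-(M *ᵥ (M *ᵥ v)) i + ω₀ * (M *ᵥ v) i) * e - v i * hω3
  -- an eigenvalue of `z` different from one
  obtain ⟨v₀, hv₀⟩ : ∃ v, MZ *ᵥ v ≠ v := by
    by_contra h; push Not at h
    apply hz1
    apply Subtype.ext
    apply Units.ext
    refine Matrix.ext_of_mulVec_single fun i => ?_
    exact (h _).trans (Matrix.one_mulVec _).symm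
  obtain ⟨μ, hμ3, w₀, hw₀, hw₀P, hw₀μ⟩ := key (MZ *ᵥ v₀ - (1 : F) • v₀)
    (by rwa [one_smul, sub_ne_zero]) MZ (hcube z) (fun w => ∃ u, w = MZ *ᵥ u - (1 : F) • u)
    ⟨v₀, rfl⟩ (fun t w => by
      rintro ⟨u, rfl⟩
      exact ⟨MZ *ᵥ u - t • u, by simp [Matrix.mulVec_sub, Matrix.mulVec_smul]; module⟩)
  have hμ1 : μ ≠ 1 := by
    rintro rfl
    obtain ⟨u, rfl⟩ := hw₀P
    rw [one_smul] at hw₀μ hw₀
    simp only [Matrix.mulVec_sub, one_smul] at hw₀μ hw₀
    have h3 : MZ *ᵥ (MZ *ᵥ (MZ *ᵥ u)) = u := by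
      rw [Matrix.mulVec_mulVec, Matrix.mulVec_mulVec, ← pow_three', hcube z, Matrix.one_mulVec]
    have e2 := congrArg (fun y => MZ *ᵥ y) hw₀μ
    simp only [Matrix.mulVec_sub, h3] at e2
    refine hw₀ (funext fun i => ?_)
    have h30 : (3 : F) ≠ 0 := fun h => by
      refine hω1 (sub_eq_zero.1 (pow_eq_zero_iff (n := 3) (by norm_num) |>.1 ?_))
      linear_combination hω3 + (-ω₀ ^ 2 + ω₀) * h
    have a1 := congrFun hw₀μ i
    have a2 := congrFun e2 i
    simp only [Pi.sub_apply] at a1 a2 ⊢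
    exact (mul_eq_zero.1 (show (3 : F) * ((MZ *ᵥ u) i - u i) = 0 by
      linear_combination -2 * a1 - a2)).resolve_left h30
  -- an eigenvector of `a` in that eigenspace
  obtain ⟨t, ht3, v, hv, hvz, hva⟩ := key w₀ hw₀ MA (hcube a) (fun w => MZ *ᵥ w = μ • w) hw₀μ
    (fun t w hw => by
      simp only [Matrix.mulVec_sub, Matrix.mulVec_smul, Matrix.mulVec_mulVec, hMA, hzc a]
      rw [← Matrix.mulVec_mulVec, hw, Matrix.mulVec_smul, smul_sub, smul_comm μ t])
  have hμ0 : μ ≠ 0 := fun h => by rw [h, zero_pow (by norm_num)] at hμ3; exact zero_ne_one hμ3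
  have ht0 : t ≠ 0 := fun h => by rw [h, zero_pow (by norm_num)] at ht3; exact zero_ne_one ht3
  let u : Fin 3 → (Fin 3 → F) := ![v, MB *ᵥ v, MB *ᵥ (MB *ᵥ v)]
  have hzu : ∀ i, MZ *ᵥ u i = μ • u i := by
    have h1 : MZ *ᵥ (MB *ᵥ v) = μ • (MB *ᵥ v) := by
      rw [Matrix.mulVec_mulVec, hMB, hzc b, ← Matrix.mulVec_mulVec, hvz, Matrix.mulVec_smul]
    intro i
    fin_cases i
    · exact hvz
    · exact h1
    · change MZ *ᵥ (MB *ᵥ (MB *ᵥ v)) = μ • (MB *ᵥ (MB *ᵥ v))
      rw [Matrix.mulVec_mulVec, hMB, hzc b, ← Matrix.mulVec_mulVec, ← hMB, h1, Matrix.mulVec_smul]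
  have hau : ∀ i, MA *ᵥ u i = (t * μ ^ (i : ℕ)) • u i := by
    have hstep : ∀ (c : F) (w : Fin 3 → F), MZ *ᵥ (MB *ᵥ w) = μ • (MB *ᵥ w) → MA *ᵥ w = c • w →
        MA *ᵥ (MB *ᵥ w) = (c * μ) • (MB *ᵥ w) := by
      intro c w h1 h2
      rw [Matrix.mulVec_mulVec, hab', ← Matrix.mulVec_mulVec, ← Matrix.mulVec_mulVec, h2,
        Matrix.mulVec_smul, Matrix.mulVec_smul, h1, smul_smul]
    intro i
    fin_cases i
    · simpa [u] using hva
    · simpa [u] using hstep t v (hzu 1) hva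
    · have := hstep _ _ (hzu 2) (hstep t v (hzu 1) hva)
      simpa [u, pow_two, mul_assoc] using this
  have hu0 : ∀ i, u i ≠ 0 := by
    have hinj : ∀ w : Fin 3 → F, MB *ᵥ w = 0 → w = 0 := fun w hw => by
      have h3 : MB *ᵥ (MB *ᵥ (MB *ᵥ w)) = w := by
        rw [Matrix.mulVec_mulVec, Matrix.mulVec_mulVec, ← pow_three', hcube b, Matrix.one_mulVec]
      rw [← h3, hw, Matrix.mulVec_zero, Matrix.mulVec_zero]
    intro i
    fin_cases i
    · exact hv
    · exact fun h => hv (hinj _ h)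
    · exact fun h => hv (hinj _ (hinj _ h))
  have hdist : Function.Injective (fun i : Fin 3 => t * μ ^ (i : ℕ)) := by
    intro i j h
    exact Fin.ext ((IsPrimitiveRoot.iff_orderOf.2 (orderOf_eq_prime hμ3 hμ1)).pow_inj i.2 j.2
      (mul_left_cancel₀ ht0 h))
  have hli : LinearIndependent F u := Module.End.eigenvectors_linearIndependent' (Matrix.toLin' MA)
    _ hdist u fun i => ⟨Module.End.mem_eigenspace_iff.2 (by rw [Matrix.toLin'_apply, hau i]), hu0 i⟩
  let Qm : Matrix (Fin 3) (Fin 3) F := (Matrix.of u)ᵀ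
  have hQdet : Qm.det ≠ 0 := by
    rw [Matrix.det_transpose]
    exact ((Matrix.isUnit_iff_isUnit_det _).1
      (Matrix.linearIndependent_rows_iff_isUnit.1 hli)).ne_zero
  let Q := Matrix.GeneralLinearGroup.mkOfDetNeZero Qm hQdet
  have hQcol : ∀ j i, Qm i j = u j i := fun _ _ => rfl
  have hcol : ∀ (M N : Matrix (Fin 3) (Fin 3) F),
      (∀ j, M *ᵥ u j = Qm *ᵥ fun i => N i j) → M * Qm = Qm * N := by
    intro M N h
    ext i j
    exact congrFun (h j) i
  have hMZ : MZ = μ • 1 := by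
    have := hcol MZ (μ • 1) fun j => by
      rw [hzu j]
      funext i
      simp [Matrix.mulVec, dotProduct, hQcol, Matrix.one_apply, mul_comm]
    rw [Matrix.mul_smul, Matrix.mul_one, ← Matrix.one_mul Qm, ← Matrix.mul_assoc,
      ← Matrix.smul_mul, Matrix.mul_one] at this
    exact (Matrix.isUnit_iff_isUnit_det Qm).2 (isUnit_iff_ne_zero.2 hQdet) |>.mul_right_cancel this
  obtain ⟨k, hk⟩ : ∃ k : ℕ, μ ^ k * t = 1 := by
    have hprim : IsPrimitiveRoot μ 3 := IsPrimitiveRoot.iff_orderOf.2 (orderOf_eq_prime hμ3 hμ1)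
    obtain ⟨k, -, hk⟩ := hprim.eq_pow_of_pow_eq_one
      (show (t⁻¹) ^ 3 = 1 by rw [inv_pow, ht3, inv_one])
    exact ⟨k, by rw [hk, inv_mul_cancel₀ ht0]⟩
  refine ⟨μ, Q, ((z ^ k * a : R) : GL (Fin 3) F), b, z, hμ3, hμ1, ?_, hfin, ?_, ?_, z.2, hMZ⟩
  · apply Subgroup.eq_of_le_of_card_ge
    · rw [Subgroup.closure_le]
      rintro g (rfl | rfl)
      · exact (z ^ k * a).2
      · exact b.2
    · set S := Subgroup.closure {((z ^ k * a : R) : GL (Fin 3) F), (b : GL (Fin 3) F)}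
      have hle : S ≤ R := by
        rw [Subgroup.closure_le]
        rintro g (rfl | rfl)
        · exact (z ^ k * a).2
        · exact b.2
      obtain ⟨i, hi, hic⟩ := (Nat.dvd_prime_pow Nat.prime_three).1
        (show Nat.card S ∣ 3 ^ 3 by rw [show 3 ^ 3 = Nat.card R from hR.symm]; exact Subgroup.card_dvd_of_le hle)
      rw [hR, hic]
      have hmem : ∀ g, g ∈ ({((z ^ k * a : R) : GL (Fin 3) F), (b : GL (Fin 3) F)} : Set _) → g ∈ S :=
        fun g hg => Subgroup.subset_closure hg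
      rcases (by omega : i ≤ 2 ∨ i = 3) with hi2 | rfl
      · exfalso
        haveI : Finite S := Nat.finite_of_card_ne_zero (by rw [hic]; positivity)
        have hc : IsMulCommutative S := by
          obtain rfl | rfl | rfl : i = 0 ∨ i = 1 ∨ i = 2 := by omega
          · haveI : Subsingleton S := (Nat.card_eq_one_iff_unique.1 (by simpa using hic)).1
            exact IsMulCommutative.of_comm fun x y => Subsingleton.elim _ _
          · haveI : IsCyclic S := isCyclic_of_prime_card (p := 3) (by simpa using hic)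
            exact IsCyclic.commutative
          · exact IsPGroup.isMulCommutative_of_card_eq_prime_sq (p := 3) hic
        have := congrArg Subtype.val (hc.is_comm.comm ⟨_, hmem _ (Set.mem_insert _ _)⟩
          ⟨_, hmem _ (Set.mem_insert_of_mem _ rfl)⟩)
        have e : z ^ k * a * b = b * (z ^ k * a) := Subtype.ext this
        rw [mul_assoc, ← mul_assoc b, Subgroup.mem_center_iff.1 (Subgroup.pow_mem _ hcen k) b,
          mul_assoc] at e
        exact hab (mul_left_cancel e)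
      · rfl
  · have h : MZ ^ k * MA * Qm = Qm * hA μ := hcol _ _ fun j => by
      rw [hMZ, _root_.smul_pow, one_pow, Matrix.smul_mul, Matrix.one_mul, Matrix.smul_mulVec, hau j,
        smul_smul, ← mul_assoc, hk, one_mul]
      funext i
      simp [Matrix.mulVec, hA, dotProduct, hQcol, Matrix.diagonal_apply]
      fin_cases j <;> simp [mul_comm]
    calc _ = MZ ^ k * MA := by simp [MA, MZ]
      _ = MZ ^ k * MA * Qm * ((Q⁻¹ : GL (Fin 3) F) : Matrix (Fin 3) (Fin 3) F) := by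
        rw [Matrix.mul_assoc _ Qm, show Qm = (Q : Matrix (Fin 3) (Fin 3) F) from rfl, Units.mul_inv,
          Matrix.mul_one]
      _ = _ := by rw [h]; rfl
  · have h : MB * Qm = Qm * hB F := hcol _ _ fun j => by
      have h3 : MB *ᵥ (MB *ᵥ (MB *ᵥ v)) = v := by
        rw [Matrix.mulVec_mulVec, Matrix.mulVec_mulVec, ← pow_three', hcube b, Matrix.one_mulVec]
      have hrhs : (Qm *ᵥ fun i => hB F i j) = u (j + 1) := by
        funext i
        fin_cases j <;> simp [Matrix.mulVec, hB, dotProduct, Fin.sum_univ_three, hQcol]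
      rw [hrhs]
      fin_cases j
      · rfl
      · rfl
      · exact h3
    calc _ = MB * Qm * ((Q⁻¹ : GL (Fin 3) F) : Matrix (Fin 3) (Fin 3) F) := by
          rw [Matrix.mul_assoc, show Qm = (Q : Matrix (Fin 3) (Fin 3) F) from rfl, Units.mul_inv,
            Matrix.mul_one]
      _ = _ := by rw [h]; rfl

namespace Standard

variable {R : Subgroup (GL (Fin 3) F)} {ω : F} {Q A B Z : GL (Fin 3) F}

theorem A_mem (h : Standard R ω Q A B Z) : A ∈ R := by
  rw [← h.gen]; exact Subgroup.subset_closure (Set.mem_insert _ _)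

theorem B_mem (h : Standard R ω Q A B Z) : B ∈ R := by
  rw [← h.gen]; exact Subgroup.subset_closure (Set.mem_insert_of_mem _ rfl)

/-- Criterion for normalizing. -/
theorem mem_normalizer (h : Standard R ω Q A B Z) {y : GL (Fin 3) F} (hA : y * A * y⁻¹ ∈ R)
    (hB : y * B * y⁻¹ ∈ R) : y ∈ Cfsg.Geo.subgroupNormalizer R := by
  haveI := h.finite
  have hle : R.map (MulAut.conj y).toMonoidHom ≤ R := by
    conv_lhs => rw [← h.gen]
    rw [MonoidHom.map_closure, Subgroup.closure_le]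
    rintro _ ⟨g, rfl | rfl, rfl⟩
    · exact hA
    · exact hB
  have heq : R.map (MulAut.conj y).toMonoidHom = R :=
    Subgroup.eq_of_le_of_card_ge hle (Subgroup.card_map_of_injective (MulEquiv.injective _)).ge
  rw [Cfsg.Geo.subgroupNormalizer, Subgroup.mem_set_normalizer_iff]
  intro g
  refine ⟨fun hg => heq.le ⟨g, hg, rfl⟩, fun hg => ?_⟩
  obtain ⟨g', hg', hgg⟩ := heq.ge hg
  exact (mul_left_cancel (mul_right_cancel hgg) : g' = g) ▸ hg'

/-- Transport of a matrix identity. -/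
theorem conj_eq (h : Standard R ω Q A B Z) {y g g' : GL (Fin 3) F}
    {Y G G' : Matrix (Fin 3) (Fin 3) F}
    (hy : (y : Matrix (Fin 3) (Fin 3) F) =
      (Q : Matrix (Fin 3) (Fin 3) F) * Y * ((Q⁻¹ : GL (Fin 3) F) : Matrix (Fin 3) (Fin 3) F))
    (hg : (g : Matrix (Fin 3) (Fin 3) F) =
      (Q : Matrix (Fin 3) (Fin 3) F) * G * ((Q⁻¹ : GL (Fin 3) F) : Matrix (Fin 3) (Fin 3) F))
    (hg' : (g' : Matrix (Fin 3) (Fin 3) F) =
      (Q : Matrix (Fin 3) (Fin 3) F) * G' * ((Q⁻¹ : GL (Fin 3) F) : Matrix (Fin 3) (Fin 3) F))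
    (he : Y * G = G' * Y) : y * g * y⁻¹ = g' := by
  have := h.cube
  rw [mul_inv_eq_iff_eq_mul]
  apply Units.ext
  have e : ∀ X X' : Matrix (Fin 3) (Fin 3) F,
      ((Q : Matrix (Fin 3) (Fin 3) F) * X * ((Q⁻¹ : GL (Fin 3) F) : Matrix (Fin 3) (Fin 3) F)) *
      ((Q : Matrix (Fin 3) (Fin 3) F) * X' * ((Q⁻¹ : GL (Fin 3) F) : Matrix (Fin 3) (Fin 3) F)) =
      (Q : Matrix (Fin 3) (Fin 3) F) * (X * X') * ((Q⁻¹ : GL (Fin 3) F) : Matrix (Fin 3) (Fin 3) F) := by
    intro X X'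
    simp [Matrix.mul_assoc]
  rw [Units.val_mul, Units.val_mul, hy, hg, hg', e, e, he]

/-- Every diagonal matrix with equal cubes normalizes. -/
theorem diag_normalizes (h : Standard R ω Q A B Z) {y : GL (Fin 3) F} {d : Fin 3 → F} {c : F}
    (hc : c ≠ 0) (hd : ∀ i, d i ^ 3 = c)
    (hy : (y : Matrix (Fin 3) (Fin 3) F) = (Q : Matrix (Fin 3) (Fin 3) F) * Matrix.diagonal d *
      ((Q⁻¹ : GL (Fin 3) F) : Matrix (Fin 3) (Fin 3) F)) :
    y ∈ Cfsg.Geo.subgroupNormalizer R := by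
  have hd0 : ∀ i, d i ≠ 0 := fun i h0 => hc (by rw [← hd i, h0, zero_pow (by norm_num)])
  have hprim : IsPrimitiveRoot ω 3 := IsPrimitiveRoot.iff_orderOf.2 (orderOf_eq_prime h.cube h.ne_one)
  obtain ⟨s, -, hs⟩ := hprim.eq_pow_of_pow_eq_one (show (d 0 / d 2) ^ 3 = 1 by
    rw [div_pow, hd, hd, div_self hc])
  obtain ⟨k, -, hk⟩ := hprim.eq_pow_of_pow_eq_one (show ((d 1 / d 0) / (d 0 / d 2)) ^ 3 = 1 by
    rw [div_pow, div_pow, div_pow, hd, hd, hd, div_self hc, div_one])
  refine h.mem_normalizer ?_ ?_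
  · rw [h.conj_eq (g' := A) (G' := CfsgLib.Heis.hA ω) hy h.hA_eq h.hA_eq ?_]
    · exact h.A_mem
    · rw [CfsgLib.Heis.hA, Matrix.diagonal_mul_diagonal, Matrix.diagonal_mul_diagonal]
      congr 1; funext i; ring
  · rw [h.conj_eq (g' := Z ^ s * A ^ k * B)
      (G' := ω ^ s • (CfsgLib.Heis.hA ω ^ k * CfsgLib.Heis.hB F)) hy h.hB_eq ?_ ?_]
    · exact R.mul_mem (R.mul_mem (R.pow_mem h.hZ_mem s) (R.pow_mem h.A_mem k)) h.B_mem
    · rw [Units.val_mul, Units.val_mul, Units.val_pow_eq_pow_val, Units.val_pow_eq_pow_val, h.hZ_eq,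
        h.hA_eq, h.hB_eq, Units.conj_pow, _root_.smul_pow, one_pow]
      simp [Matrix.mul_assoc, Matrix.smul_mul, Matrix.mul_smul]
    · rw [CfsgLib.Heis.hA, Matrix.diagonal_pow]
      ext i j
      fin_cases i <;> fin_cases j <;>
        simp [CfsgLib.Heis.hB, Matrix.mul_apply, Fin.sum_univ_three, Matrix.diagonal_apply,
          ← pow_mul, hs, hk] <;>
        field_simp [hd0 0, hd0 1, hd0 2]
      rw [show ω ^ (2 * k) = (ω ^ k) ^ 2 by rw [← pow_mul, mul_comm], hk]
      field_simp [hd0 0, hd0 1, hd0 2]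
      rw [hd, hd]

/-- The standard involution normalizes. -/
theorem involution_normalizes (h : Standard R ω Q A B Z) {y : GL (Fin 3) F}
    (hy : (y : Matrix (Fin 3) (Fin 3) F) = (Q : Matrix (Fin 3) (Fin 3) F) * hW F *
      ((Q⁻¹ : GL (Fin 3) F) : Matrix (Fin 3) (Fin 3) F)) :
    y ∈ Cfsg.Geo.subgroupNormalizer R := by
  refine h.mem_normalizer ?_ ?_
  · rw [h.conj_eq (g' := A ^ 2) (G' := CfsgLib.Heis.hA ω ^ 2) hy h.hA_eq ?_ ?_]
    · exact R.pow_mem h.A_mem 2
    · rw [Units.val_pow_eq_pow_val, h.hA_eq, Units.conj_pow]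
    · rw [CfsgLib.Heis.hA, Matrix.diagonal_pow]
      ext i j
      fin_cases i <;> fin_cases j <;>
        simp [hW, Matrix.mul_apply, Fin.sum_univ_three, Matrix.diagonal_apply]
      linear_combination (-ω) * h.cube
  · rw [h.conj_eq (g' := B ^ 2) (G' := CfsgLib.Heis.hB F ^ 2) hy h.hB_eq ?_ ?_]
    · exact R.pow_mem h.B_mem 2
    · rw [Units.val_pow_eq_pow_val, h.hB_eq, Units.conj_pow]
    · rw [pow_two]
      ext i j
      fin_cases i <;> fin_cases j <;>
        simp [hW, CfsgLib.Heis.hB, Matrix.mul_apply, Fin.sum_univ_three]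

/-- Only scalars centralise. -/
theorem scalar_of_commute (h : Standard R ω Q A B Z) {y : GL (Fin 3) F}
    (hA : y * A = A * y) (hB : y * B = B * y) :
    ∃ t : F, (y : Matrix (Fin 3) (Fin 3) F) = t • 1 := by
  set Y := ((Q⁻¹ * y * Q : GL (Fin 3) F) : Matrix (Fin 3) (Fin 3) F) with hY
  have e : ∀ (g : GL (Fin 3) F) (G : Matrix (Fin 3) (Fin 3) F), (g : Matrix (Fin 3) (Fin 3) F) =
      (Q : Matrix (Fin 3) (Fin 3) F) * G * ((Q⁻¹ : GL (Fin 3) F) : Matrix (Fin 3) (Fin 3) F) →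
      y * g = g * y → Y * G = G * Y := by
    intro g G hG hc
    have hG' : G = ((Q⁻¹ * g * Q : GL (Fin 3) F) : Matrix (Fin 3) (Fin 3) F) := by
      rw [Units.val_mul, Units.val_mul, hG]
      simp [Matrix.mul_assoc]
    rw [hY, hG', ← Units.val_mul, ← Units.val_mul]
    congr 1
    calc Q⁻¹ * y * Q * (Q⁻¹ * g * Q) = Q⁻¹ * (y * g) * Q := by group
      _ = Q⁻¹ * (g * y) * Q := by rw [hc]
      _ = _ := by group
  have h1 := e A _ h.hA_eq hA
  have h2 := e B _ h.hB_eq hB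
  have hω0 : ω ≠ 0 := fun h0 => by
    have := h.cube; rw [h0, zero_pow (by norm_num)] at this; exact zero_ne_one this
  have hne : ∀ i j : Fin 3, i ≠ j → (![1, ω, ω ^ 2] i) ≠ ![1, ω, ω ^ 2] j := by
    have hpow : ∀ i : Fin 3, ![1, ω, ω ^ 2] i = ω ^ (i : ℕ) := by intro i; fin_cases i <;> simp
    intro i j hij he
    rw [hpow, hpow] at he
    exact hij (Fin.ext ((IsPrimitiveRoot.iff_orderOf.2 (orderOf_eq_prime h.cube h.ne_one)).pow_inj
      i.2 j.2 he))
  have hoff : ∀ i j, i ≠ j → Y i j = 0 := fun i j hij => by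
    have := congrFun (congrFun h1 i) j
    rw [CfsgLib.Heis.hA, Matrix.mul_diagonal, Matrix.diagonal_mul] at this
    by_contra hne0
    exact hne i j hij (mul_left_cancel₀ hne0 (by rw [this, mul_comm])).symm
  have hd1 : Y 1 1 = Y 0 0 := by
    have := congrFun (congrFun h2 1) 0
    simpa [Matrix.mul_apply, Fin.sum_univ_three, CfsgLib.Heis.hB] using this
  have hd2 : Y 2 2 = Y 0 0 := by
    have := congrFun (congrFun h2 2) 1
    simp [Matrix.mul_apply, Fin.sum_univ_three, CfsgLib.Heis.hB] at this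
    rw [this, hd1]
  have hYs : Y = Y 0 0 • (1 : Matrix (Fin 3) (Fin 3) F) := by
    ext i j
    rcases eq_or_ne i j with rfl | hij
    · fin_cases i <;> simp [hd1, hd2]
    · simp [hij, hoff i j hij]
  refine ⟨Y 0 0, ?_⟩
  calc (y : Matrix (Fin 3) (Fin 3) F) = (Q : Matrix (Fin 3) (Fin 3) F) * Y *
        ((Q⁻¹ : GL (Fin 3) F) : Matrix (Fin 3) (Fin 3) F) := by
        simp [hY, Matrix.mul_assoc]
    _ = _ := by rw [hYs]; simp

/-- An element of prime order at least five normalizing the group is scalar. -/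
theorem scalar_of_order (h : Standard R ω Q A B Z) (hR : Nat.card R = 27) {r : ℕ} [hr : Fact r.Prime]
    (hr2 : r ≠ 2) (hr3 : r ≠ 3) {y : GL (Fin 3) F} (hyr : y ^ r = 1)
    (hy : y ∈ Cfsg.Geo.subgroupNormalizer R) : ∃ t : F, (y : Matrix (Fin 3) (Fin 3) F) = t • 1 := by
  classical
  haveI := h.finite
  haveI : Fintype R := Fintype.ofFinite _
  rw [Cfsg.Geo.subgroupNormalizer, Subgroup.mem_set_normalizer_iff] at hy
  let f : Function.End R := fun g => ⟨y * g * y⁻¹, (hy _).1 g.2⟩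
  have hf : ∀ k : ℕ, ∀ g : R, (((f ^ k) g : R) : GL (Fin 3) F) = y ^ k * g * (y ^ k)⁻¹ := by
    intro k
    induction k with
    | zero => intro g; simp; rfl
    | succ k ih =>
      intro g
      rw [pow_succ']
      change (y * _ * y⁻¹) = _
      rw [ih g, pow_succ']
      group
  have hfr : f ^ r ^ 1 = 1 := by
    funext g
    apply Subtype.ext
    rw [pow_one, hf, hyr]
    simp
    rfl
  have hmod := Equiv.Perm.card_fixedPoints_modEq hfr
  let C : Subgroup R := (Subgroup.centralizer {y}).subgroupOf R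
  have hC : ∀ g : R, g ∈ C ↔ g ∈ f.fixedPoints := fun g => by
    simp only [C, Subgroup.mem_subgroupOf, Subgroup.mem_centralizer_singleton_iff,
      Function.mem_fixedPoints, Function.IsFixedPt, f, Subtype.ext_iff, mul_inv_eq_iff_eq_mul]
    exact eq_comm
  rw [← Nat.card_eq_fintype_card, ← Nat.card_eq_fintype_card, hR,
    ← Nat.card_congr (Equiv.subtypeEquivRight hC)] at hmod
  have hdiv : Nat.card C ∣ 3 ^ 3 := by
    rw [show 3 ^ 3 = Nat.card R from hR.symm]; exact Subgroup.card_subgroup_dvd_card _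
  obtain ⟨k, hk, hkc⟩ := (Nat.dvd_prime_pow Nat.prime_three).1 hdiv
  have hZ1 : Z ≠ 1 := fun h1 => h.ne_one (by
    have := h.hZ_eq; rw [h1, Units.val_one] at this
    simpa using (congrFun (congrFun this 0) 0).symm)
  have hk0 : k ≠ 0 := fun h0 => by
    rw [h0, pow_zero, Subgroup.card_eq_one, Subgroup.eq_bot_iff_forall] at hkc
    refine hZ1 (congrArg Subtype.val (hkc ⟨Z, h.hZ_mem⟩ ?_))
    rw [Subgroup.mem_subgroupOf, Subgroup.mem_centralizer_singleton_iff]
    exact CfsgLib.Heis.commute_of_scalar h.hZ_eq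
  rw [hkc] at hmod
  have hd := (Nat.modEq_iff_dvd' (by
    calc 3 ^ k ≤ 3 ^ 3 := Nat.pow_le_pow_right (by norm_num) hk
      _ = 27 := by norm_num)).1 hmod.symm
  obtain rfl | rfl | rfl : k = 1 ∨ k = 2 ∨ k = 3 := by omega
  · exfalso
    rcases (hr.out.dvd_mul.1 (show r ∣ 2 ^ 3 * 3 from hd)) with h' | h'
    · exact hr2 ((Nat.prime_dvd_prime_iff_eq hr.out Nat.prime_two).1 (hr.out.dvd_of_dvd_pow h'))
    · exact hr3 ((Nat.prime_dvd_prime_iff_eq hr.out Nat.prime_three).1 h')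
  · exfalso
    rcases (hr.out.dvd_mul.1 (show r ∣ 2 * 3 ^ 2 from hd)) with h' | h'
    · exact hr2 ((Nat.prime_dvd_prime_iff_eq hr.out Nat.prime_two).1 h')
    · exact hr3 ((Nat.prime_dvd_prime_iff_eq hr.out Nat.prime_three).1 (hr.out.dvd_of_dvd_pow h'))
  · have htop : C = ⊤ := Subgroup.eq_top_of_card_eq _ (by rw [hkc, hR]; norm_num)
    have hall : ∀ g ∈ R, y * g = g * y := fun g hg => by
      have : (⟨g, hg⟩ : R) ∈ C := htop ▸ Subgroup.mem_top _
      rw [Subgroup.mem_subgroupOf, Subgroup.mem_centralizer_singleton_iff] at this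
      exact this.symm
    exact h.scalar_of_commute (hall A h.A_mem) (hall B h.B_mem)

end Standard

/-- A matrix with scalar power all whose possible eigenvalues are rational has split polynomial. -/
theorem exists_charpoly_roots {n k : ℕ} {c : F} (hs : (X ^ k - C c : F[X]).Splits)
    (hk : k ≠ 0) {M : Matrix (Fin n) (Fin n) F} (hM : M ^ k = c • 1) :
    ∃ d : Fin n → F, (∀ i, d i ^ k = c) ∧ M.charpoly = ∏ i, (X - C (d i)) := by
  classical
  have hne : (X ^ k - C c : F[X]) ≠ 0 := (monic_X_pow_sub_C c hk).ne_zero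
  have hdvd : M.charpoly ∣ (X ^ k - C c) ^ n :=
    (CfsgLib.Spectrum.charpoly_dvd_minpoly_pow M).trans (pow_dvd_pow_of_dvd (minpoly.dvd F M (by
      simp [hM, Algebra.algebraMap_eq_smul_one])) n)
  have hsp : M.charpoly.Splits := Polynomial.Splits.of_dvd (hs.pow n) (pow_ne_zero _ hne) hdvd
  have hcard : M.charpoly.roots.toList.length = n := by
    rw [Multiset.length_toList, ← hsp.natDegree_eq_card_roots, M.charpoly_natDegree_eq_dim,
      Fintype.card_fin]
  refine ⟨fun i => M.charpoly.roots.toList[(Fin.cast hcard.symm i : ℕ)], fun i => ?_, ?_⟩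
  · have hmem : M.charpoly.roots.toList[(Fin.cast hcard.symm i : ℕ)] ∈ M.charpoly.roots :=
      Multiset.mem_toList.1 (List.getElem_mem _)
    have h := ((mem_roots M.charpoly_monic.ne_zero).1 hmem).dvd hdvd
    rw [IsRoot, eval_pow, pow_eq_zero_iff', eval_sub, eval_pow, eval_X, eval_C, sub_eq_zero] at h
    exact h.1
  · conv_lhs => rw [hsp.eq_prod_roots_of_monic M.charpoly_monic, ← M.charpoly.roots.coe_toList]
    rw [Multiset.map_coe, Multiset.prod_coe, ← (List.ofFn_getElem : List.ofFn (fun i : Fin (M.charpoly.roots.toList.map (fun a => X - C a)).length => (M.charpoly.roots.toList.map (fun a => X - C a))[(i : ℕ)]) = _),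
      List.prod_ofFn]
    refine Fintype.prod_equiv (finCongr (by rw [List.length_map, hcard])) _ _ fun i => ?_
    simp

end CfsgLib.Heis
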