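import Cfsg.Agent.S5957

/-!
Maps with scalar square as direct sums of planes with a common determinant.
-/

set_option autoImplicit false

namespace CfsgLib.LinFix.InvolPlanes

open Module

variable {F V : Type*} [Field F] [AddCommGroup V] [Module F V] [FiniteDimensional F V]

/-- A basis grouped in invariant planes on which `T` has determinant `δ`. -/
def HasPlanes (T : V →ₗ[F] V) (δ : F) : Prop :=
  ∃ (ι : Type) (_ : Fintype ι) (b : Basis (ι × Fin 2) F V) (A B C D : ι → F),
    ∀ i, T (b (i, 0)) = A i • b (i, 0) + B i • b (i, 1) ∧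
      T (b (i, 1)) = C i • b (i, 0) + D i • b (i, 1) ∧ A i * D i - B i * C i = δ

theorem pow_two_exists (w : F) (n : ℕ) : w ^ (2 * n) = (w * w) ^ n := by rw [pow_mul, pow_two]

/-- The two eigenspaces of a map with square `w²` in odd characteristic. -/
theorem exists_eigenbasis (T : V →ₗ[F] V) {w : F} (hw0 : w ≠ 0) (h2 : (2 : F) ≠ 0)
    (hT : ∀ v, T (T v) = (w * w) • v) :
    ∃ (a a' : ℕ) (b : Basis (Fin a ⊕ Fin a') F V),
      (∀ i, T (b (.inl i)) = w • b (.inl i)) ∧ ∀ i, T (b (.inr i)) = (-w) • b (.inr i) := by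
  let A := LinearMap.ker (T - w • LinearMap.id)
  let B := LinearMap.ker (T + w • LinearMap.id)
  have hA : ∀ y ∈ A, T y = w • y := fun y hy => by simpa [A, sub_eq_zero] using hy
  have hB : ∀ y ∈ B, T y = (-w) • y := fun y hy => by
    rw [neg_smul]; exact eq_neg_of_add_eq_zero_left (by simpa [B] using hy)
  have h2w : (2 : F) * w ≠ 0 := mul_ne_zero h2 hw0
  have hcompl : IsCompl A B := by
    constructor
    · rw [Submodule.disjoint_def]
      intro y hy hy'
      have h := (hA y hy).symm.trans (hB y hy')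
      have h' : ((2 : F) * w) • y = 0 := by linear_combination (norm := module) h
      exact (smul_eq_zero.1 h').resolve_left h2w
    · rw [codisjoint_iff, eq_top_iff]
      intro y _
      refine Submodule.mem_sup.2 ⟨((2 : F) * w)⁻¹ • (w • y + T y), ?_, ((2 : F) * w)⁻¹ • (w • y - T y), ?_, ?_⟩
      · simp only [A, LinearMap.mem_ker, LinearMap.sub_apply, LinearMap.smul_apply, LinearMap.id_apply,
          map_smul, map_add, hT]
        module
      · simp only [B, LinearMap.mem_ker, LinearMap.add_apply, LinearMap.smul_apply, LinearMap.id_apply,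
          map_smul, map_sub, hT]
        module
      · rw [← smul_add, show w • y + T y + (w • y - T y) = ((2 : F) * w) • y by module, smul_smul,
          inv_mul_cancel₀ h2w, one_smul]
  refine ⟨_, _, ((finBasis F A).prod (finBasis F B)).map (A.prodEquivOfIsCompl B hcompl),
    fun i => ?_, fun i => ?_⟩
  · exact hA _ (by simp)
  · exact hB _ (by simp)

theorem hasPlanes_of_singles {T : V →ₗ[F] V} {δ : F} {k l : ℕ}
    (b : Basis ((Fin k × Fin 2) ⊕ Fin (2 * l)) F V) (z : F)
    (hb0 : ∀ i, T (b (.inl (i, 0))) = b (.inl (i, 1)))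
    (hb1 : ∀ i, T (b (.inl (i, 1))) = z • b (.inl (i, 0)))
    (hz : k = 0 ∨ δ = -z)
    (c : Fin (2 * l) → F) (hc : ∀ j, T (b (.inr j)) = c j • b (.inr j))
    (hcc : ∀ (j : Fin l), c ⟨2 * j, by omega⟩ * c ⟨2 * j + 1, by omega⟩ = δ) :
    HasPlanes T δ := by
  let f : (Fin k ⊕ Fin l) × Fin 2 → (Fin k × Fin 2) ⊕ Fin (2 * l) := fun x =>
    x.1.elim (fun i : Fin k => .inl (i, x.2)) (fun j : Fin l => .inr ⟨2 * (j : ℕ) + (x.2 : ℕ), by omega⟩)
  have hf : Function.Bijective f := by
    refine (Fintype.bijective_iff_injective_and_card f).mpr ⟨?_, by simp; ring⟩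
    rintro ⟨i | j, a⟩ ⟨i' | j', a'⟩ h
    · simpa [f] using h
    · simp [f] at h
    · simp [f] at h
    · simp only [f, Sum.elim_inr, Sum.inr.injEq, Fin.mk.injEq] at h
      exact Prod.ext (congrArg Sum.inr (Fin.ext (by omega))) (Fin.ext (show (a : ℕ) = (a' : ℕ) by omega))
  let e := Equiv.ofBijective f hf
  refine ⟨Fin k ⊕ Fin l, inferInstance, b.reindex e.symm,
    Sum.elim (fun _ => 0) (fun j => c ⟨2 * j, by omega⟩), Sum.elim (fun _ => 1) (fun _ => 0),
    Sum.elim (fun _ => z) (fun _ => 0), Sum.elim (fun _ => 0) (fun j => c ⟨2 * j + 1, by omega⟩), ?_⟩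
  rintro (i | j) <;> simp only [Module.Basis.reindex_apply, Equiv.symm_symm, Sum.elim_inl, Sum.elim_inr, e,
    Equiv.ofBijective_apply, f]
  · refine ⟨by simp [hb0], by simp [hb1], ?_⟩
    rcases hz with hz | hz
    · subst hz; exact i.elim0
    · rw [hz]; ring
  · refine ⟨?_, ?_, by rw [← hcc]; ring⟩
    · simp [hc]
    · simp [hc]

/-- A map with scalar square and determinant one splits into planes with a common determinant, unless
some `(-1)`-eigenspace has odd dimension. -/
theorem hasPlanes_of_sq (T : V →ₗ[F] V) {z : F} (hz : z ≠ 0) (hT : ∀ v, T (T v) = z • v)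
    (hdet : LinearMap.det T = 1) {d : ℕ} (hV : finrank F V = 2 * d)
    (hcrit : (2 : F) = 0 ∨ ∀ w : F, w ^ (2 * d) ≠ -1) : ∃ δ, HasPlanes T δ := by
  classical
  by_cases hsq : (2 : F) ≠ 0 ∧ ∃ w, w * w = z
  · obtain ⟨h2, w, rfl⟩ := hsq
    have hw0 : w ≠ 0 := fun h => hz (by rw [h, zero_mul])
    obtain ⟨a, a', b, hba, hbb⟩ := exists_eigenbasis T hw0 h2 hT
    have hn : a + a' = 2 * d := by
      have := finrank_eq_card_basis b
      simp at this; omega
    have hd : LinearMap.det T = w ^ a * (-w) ^ a' := by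
      rw [← LinearMap.det_toMatrix b]
      have : LinearMap.toMatrix b b T = Matrix.diagonal (Sum.elim (fun _ : Fin a => w) fun _ : Fin a' => -w) := by
        ext i j
        rw [LinearMap.toMatrix_apply]
        rcases j with j | j
        · by_cases h : i = Sum.inl j
          · subst h; simp [hba]
          · rw [Matrix.diagonal_apply_ne _ h, hba, map_smul, b.repr_self, Finsupp.smul_single,
              Finsupp.single_eq_of_ne h]
        · by_cases h : i = Sum.inr j
          · subst h; simp [hbb]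
          · rw [Matrix.diagonal_apply_ne _ h, hbb, map_smul, b.repr_self, Finsupp.smul_single,
              Finsupp.single_eq_of_ne h]
      rw [this, Matrix.det_diagonal, Fintype.prod_sum_type]
      simp
    have hev : Even a' := by
      by_contra hodd
      rw [Nat.not_even_iff_odd] at hodd
      rw [hodd.neg_pow, mul_neg, ← pow_add, hn] at hd
      rcases hcrit with h | h
      · exact h2 h
      · exact h w (by rw [hdet] at hd; linear_combination hd)
    obtain ⟨l', hl'⟩ := hev
    obtain ⟨l, hl⟩ : ∃ l, a = 2 * l := ⟨d - l', by omega⟩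
    obtain rfl : a' = 2 * l' := by omega
    subst hl
    let e : (Fin 0 × Fin 2) ⊕ Fin (2 * (l + l')) ≃ Fin (2 * l) ⊕ Fin (2 * l') :=
      (Equiv.emptySum _ _).trans ((finCongr (by ring)).trans finSumFinEquiv.symm)
    refine ⟨w * w, hasPlanes_of_singles (b.reindex e.symm) 0 (fun i => i.elim0) (fun i => i.elim0) (Or.inl rfl)
      (fun j => Sum.elim (fun _ => w) (fun _ => -w) (e (.inr j))) (fun j => ?_) fun j => ?_⟩
    · rw [Module.Basis.reindex_apply, Equiv.symm_symm]
      rcases e (.inr j) with i | i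
      · exact hba i
      · exact hbb i
    · by_cases hj : (j : ℕ) < l
      · have h1 : e (.inr ⟨2 * j, by omega⟩) = .inl ⟨2 * j, by omega⟩ := by
          simp [e, Equiv.symm_apply_eq, Fin.ext_iff]
        have h2' : e (.inr ⟨2 * j + 1, by omega⟩) = .inl ⟨2 * j + 1, by omega⟩ := by
          simp [e, Equiv.symm_apply_eq, Fin.ext_iff]
        rw [h1, h2']; rfl
      · have h1 : e (.inr ⟨2 * j, by omega⟩) = .inr ⟨2 * j - 2 * l, by omega⟩ := by
          simp [e, Equiv.symm_apply_eq, Fin.ext_iff]; omega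
        have h2' : e (.inr ⟨2 * j + 1, by omega⟩) = .inr ⟨2 * j + 1 - 2 * l, by omega⟩ := by
          simp [e, Equiv.symm_apply_eq, Fin.ext_iff]; omega
        rw [h1, h2']; exact neg_mul_neg w w
  · obtain ⟨k, l, b, hb0, hb1, hb2⟩ := Cfsg.Agent.S5957.exists_monomial_basis T z hz hT
      (fun w hw h => hz (by rw [← hw, h, zero_mul]))
    have hn : 2 * k + l = 2 * d := by
      have := finrank_eq_card_basis b
      simp at this; omega
    choose c hc0 hc using hb2
    have hcz : ∀ j, c j * c j = z := fun j => by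
      have h := hT (b (.inr j))
      rw [hc, map_smul, hc, smul_smul] at h
      exact smul_left_injective F (b.ne_zero _) h
    obtain rfl | ⟨h2, w, hw⟩ : l = 0 ∨ ((2 : F) = 0 ∧ ∃ w, w * w = z) := by
      rcases Nat.eq_zero_or_pos l with h | h
      · exact Or.inl h
      · exact Or.inr ⟨by by_contra h2; exact hsq ⟨h2, _, hcz ⟨0, h⟩⟩, _, hcz ⟨0, h⟩⟩
    · exact ⟨-z, hasPlanes_of_singles (l := 0) b z hb0 hb1 (Or.inr rfl) (fun j => j.elim0)
        (fun j => j.elim0) fun j => j.elim0⟩
    · obtain ⟨l', rfl⟩ : ∃ l', l = 2 * l' := ⟨d - k, by omega⟩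
      refine ⟨-z, hasPlanes_of_singles b z hb0 hb1 (Or.inr rfl) c hc fun j => ?_⟩
      haveI : CharP F 2 := CharTwo.of_one_ne_zero_of_two_eq_zero one_ne_zero h2
      have heq : ∀ j, c j = w := fun j => CharTwo.sq_injective (by
        show c j ^ 2 = w ^ 2
        rw [pow_two, pow_two, hcz, hw])
      rw [heq, heq, hw, CharTwo.neg_eq]

end CfsgLib.LinFix.InvolPlanes
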