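import Mathlib
import Cfsg.Agent.Lib.LinFix.Jordan

/-!
# Nilpotent maps with equal rank sequences are similar
-/

set_option autoImplicit false

namespace CfsgLib.LinFix

variable {F V V' : Type*} [Field F] [AddCommGroup V] [Module F V] [AddCommGroup V'] [Module F V']
  [FiniteDimensional F V] [FiniteDimensional F V']

/-- Two nilpotent maps with the same ranks of powers have matching adapted bases. -/
theorem exists_matched_bases {N : Module.End F V} {N' : Module.End F V'} (hN : IsNilpotent N)
    (hN' : IsNilpotent N') :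
    ∀ (W : Submodule F V) (W' : Submodule F V'), Inv N W → Inv N' W' →
      (∀ j, Module.finrank F ↥(W.map (N ^ j)) = Module.finrank F ↥(W'.map (N' ^ j))) →
      ∃ (ι : Type) (_ : Fintype ι) (b : ι → V) (b' : ι → V') (σ : ι → Option ι),
        LinearIndependent F b ∧ Submodule.span F (Set.range b) = W ∧
        LinearIndependent F b' ∧ Submodule.span F (Set.range b') = W' ∧
        (∀ i, N (b i) = (σ i).elim 0 b) ∧ ∀ i, N' (b' i) = (σ i).elim 0 b' := by
  intro W
  induction hd : Module.finrank F W using Nat.strong_induction_on generalizing W with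
  | _ d ih =>
  intro W' hW hW' hr
  have h0 := hr 0
  rw [pow_zero, pow_zero, Module.End.one_eq_id, Module.End.one_eq_id, Submodule.map_id,
    Submodule.map_id] at h0
  rcases eq_or_ne W ⊥ with rfl | hne
  · rw [finrank_bot, eq_comm, Submodule.finrank_eq_zero] at h0
    subst h0
    exact ⟨Empty, inferInstance, Empty.elim, Empty.elim, Empty.elim, linearIndependent_empty_type,
      by simp, linearIndependent_empty_type, by simp, fun i => i.elim, fun i => i.elim⟩
  have hne' : W' ≠ ⊥ := fun h => hne (by
    rw [h, finrank_bot] at h0; exact Submodule.finrank_eq_zero.1 h0)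
  obtain ⟨k, v, Z, A, hk, hZ, hA, hdis, hsup, hZr, hkill, hli, hspan⟩ :=
    exists_cyclic_compl_vec hN hW hne
  obtain ⟨k', v', Z', A', hk', hZ', hA', hdis', hsup', hZr', hkill', hli', hspan'⟩ :=
    exists_cyclic_compl_vec hN' hW' hne'
  have hkk : k = k' := by
    have hz : Module.finrank F ↥(W.map (N ^ k)) = 0 := by
      rw [show W.map (N ^ k) = ⊥ from eq_bot_iff.2 (Submodule.map_le_iff_le_comap.2 fun w hw =>
        (Submodule.mem_bot F).2 (hkill w hw)), finrank_bot]
    have hz' : Module.finrank F ↥(W'.map (N' ^ k')) = 0 := by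
      rw [show W'.map (N' ^ k') = ⊥ from eq_bot_iff.2 (Submodule.map_le_iff_le_comap.2 fun w hw =>
        (Submodule.mem_bot F).2 (hkill' w hw)), finrank_bot]
    apply le_antisymm
    · by_contra hlt
      have h1 : Module.finrank F ↥(W.map (N ^ k')) = 0 := by rw [hr, hz']
      rw [← hsup, finrank_map_pow_sup hZ hA hdis, hZr] at h1
      omega
    · by_contra hlt
      have h1 : Module.finrank F ↥(W'.map (N' ^ k)) = 0 := by rw [← hr, hz]
      rw [← hsup', finrank_map_pow_sup hZ' hA' hdis', hZr'] at h1
      omega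
  subst hkk
  have hrA : ∀ j, Module.finrank F ↥(A.map (N ^ j)) = Module.finrank F ↥(A'.map (N' ^ j)) := by
    intro j
    have h := hr j
    rw [← hsup, ← hsup', finrank_map_pow_sup hZ hA hdis, finrank_map_pow_sup hZ' hA' hdis', hZr,
      hZr'] at h
    omega
  have hlt : Module.finrank F A < d := by
    have h1 := finrank_sup_of_disjoint hdis
    have h2 := hZr 0
    rw [pow_zero, Module.End.one_eq_id, Submodule.map_id] at h2
    rw [hsup, hd, h2] at h1
    omega
  obtain ⟨ι, _, b, b', σ, hb, hbs, hb', hbs', hN1, hN2⟩ := ih _ hlt A rfl A' hA hA' hrA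
  let τ : Fin k ⊕ ι → Option (Fin k ⊕ ι) :=
    Sum.elim (fun i => if h : (i : ℕ) + 1 < k then some (Sum.inl ⟨i + 1, h⟩) else none)
      (fun i => (σ i).map Sum.inr)
  refine ⟨Fin k ⊕ ι, inferInstance, Sum.elim (fun i => (N ^ (i : ℕ)) v) b,
    Sum.elim (fun i => (N' ^ (i : ℕ)) v') b', τ, hli.sum_type hb (by rw [hspan, hbs]; exact hdis),
    ?_, hli'.sum_type hb' (by rw [hspan', hbs']; exact hdis'), ?_, ?_, ?_⟩
  · rw [Set.Sum.elim_range, Submodule.span_union, hspan, hbs, hsup]
  · rw [Set.Sum.elim_range, Submodule.span_union, hspan', hbs', hsup']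
  · rintro (i | i)
    · simp only [τ, Sum.elim_inl]
      rw [← Module.End.mul_apply, ← pow_succ']
      split_ifs with h
      · rfl
      · have hv : v ∈ W := hsup ▸ Submodule.mem_sup_left (hspan ▸ Submodule.subset_span ⟨⟨0, hk⟩, by simp⟩)
        rw [show (i : ℕ) + 1 = k by omega, hkill v hv]
        rfl
    · simp only [τ, Sum.elim_inr, hN1]
      cases σ i <;> rfl
  · rintro (i | i)
    · simp only [τ, Sum.elim_inl]
      rw [← Module.End.mul_apply, ← pow_succ']
      split_ifs with h
      · rfl
      · have hv : v' ∈ W' := hsup' ▸ Submodule.mem_sup_left (hspan' ▸ Submodule.subset_span ⟨⟨0, hk⟩, by simp⟩)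
        rw [show (i : ℕ) + 1 = k by omega, hkill' v' hv]
        rfl
    · simp only [τ, Sum.elim_inr, hN2]
      cases σ i <;> rfl

/-- Nilpotent maps with the same ranks of powers are similar. -/
theorem exists_equiv_of_ranks {N : Module.End F V} {N' : Module.End F V'} (hN : IsNilpotent N)
    (hN' : IsNilpotent N') (hr : ∀ j, Module.finrank F (LinearMap.range (N ^ j)) =
      Module.finrank F (LinearMap.range (N' ^ j))) :
    ∃ e : V ≃ₗ[F] V', ∀ x, e (N x) = N' (e x) := by
  obtain ⟨ι, _, b, b', σ, hb, hbs, hb', hbs', h1, h2⟩ := exists_matched_bases hN hN' ⊤ ⊤ (inv_top N)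
    (inv_top N') (fun j => by rw [Submodule.map_top, Submodule.map_top]; exact hr j)
  let B := Module.Basis.mk hb hbs.ge
  let B' := Module.Basis.mk hb' hbs'.ge
  let e := B.equiv B' (Equiv.refl ι)
  have he : ∀ i, e (b i) = b' i := fun i => by
    have := B.equiv_apply i B' (Equiv.refl ι)
    simpa [B, B', e] using this
  refine ⟨e, LinearMap.congr_fun (f := (e : V →ₗ[F] V').comp N) (g := N'.comp (e : V →ₗ[F] V')) ?_⟩
  refine B.ext fun i => ?_
  simp only [B, Module.Basis.coe_mk, LinearMap.comp_apply, LinearEquiv.coe_coe, h1, he, h2]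
  cases σ i with
  | none => simp
  | some j => simp [he]

end CfsgLib.LinFix
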