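import Mathlib

/-!
When `-1` is an `n`-th power in a finite field.
-/

set_option autoImplicit false

namespace CfsgLib.LinFix.NegRoot

variable {F : Type*} [Field F] [Fintype F]

theorem padic_sub_one_of_char_two (h2 : (2 : F) = 0) : padicValNat 2 (Fintype.card F - 1) = 0 := by
  haveI : CharP F 2 := CharTwo.of_one_ne_zero_of_two_eq_zero one_ne_zero h2
  obtain ⟨k, -, hk⟩ := FiniteField.card F 2
  have h1 : 1 ≤ 2 ^ (k : ℕ) := Nat.one_le_two_pow
  have hev : 2 ∣ 2 ^ (k : ℕ) := dvd_pow_self 2 k.ne_zero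
  rw [hk, padicValNat.eq_zero_of_not_dvd (by omega)]

/-- `-1 = w ^ n` is solvable iff the two-part of `n` is less than that of `q - 1` (odd characteristic). -/
theorem exists_pow_eq_neg_one_iff (h2 : (2 : F) ≠ 0) {n : ℕ} (hn : n ≠ 0) :
    (∃ w : F, w ^ n = -1) ↔ padicValNat 2 n < padicValNat 2 (Fintype.card F - 1) := by
  classical
  haveI : Fact (Nat.Prime 2) := ⟨Nat.prime_two⟩
  have hq1 : Fintype.card F - 1 ≠ 0 := by have := Fintype.one_lt_card (α := F); omega
  set m := padicValNat 2 n with hm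
  obtain ⟨n', hn'⟩ : 2 ^ m ∣ n := pow_padicValNat_dvd
  have hodd : Odd n' := by
    rw [← Nat.not_even_iff_odd]
    rintro ⟨j, hj⟩
    exact pow_succ_padicValNat_not_dvd (p := 2) hn ⟨j, by
      rw [← hm, pow_succ, mul_assoc, two_mul, ← hj]; exact hn'⟩
  have hne : (-1 : F) ≠ 1 := fun h => h2 (by linear_combination -h)
  constructor
  · rintro ⟨w, hw⟩
    have hw0 : w ≠ 0 := fun h => by
      rw [h, zero_pow hn] at hw
      exact one_ne_zero (by linear_combination hw : (1 : F) = 0)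
    have h1 : (w ^ n') ^ 2 ^ m = -1 := by rw [← pow_mul, mul_comm, ← hn', hw]
    have hord : orderOf (w ^ n') = 2 ^ (m + 1) :=
      orderOf_eq_prime_pow (by rw [h1]; exact hne) (by rw [pow_succ 2, pow_mul, h1, neg_one_sq])
    have hdvd : 2 ^ (m + 1) ∣ Fintype.card F - 1 :=
      hord ▸ orderOf_dvd_of_pow_eq_one (FiniteField.pow_card_sub_one_eq_one _ (pow_ne_zero _ hw0))
    exact (padicValNat_dvd_iff_le hq1).mp hdvd
  · intro hlt
    obtain ⟨g, hg⟩ := IsCyclic.exists_ofOrder_eq_natCard (α := Fˣ)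
    obtain ⟨c, hc⟩ : 2 ^ (m + 1) ∣ Fintype.card F - 1 := (padicValNat_dvd_iff_le hq1).mpr hlt
    rw [Nat.card_eq_fintype_card, Fintype.card_units, hc] at hg
    have hc0 : c ≠ 0 := fun h => hq1 (by rw [hc, h, mul_zero])
    have hord : orderOf (g ^ c) = 2 ^ (m + 1) := by
      rw [orderOf_pow' g hc0, hg, Nat.gcd_mul_left_left, Nat.mul_div_cancel _ (Nat.pos_of_ne_zero hc0)]
    refine ⟨((g ^ c : Fˣ) : F), ?_⟩
    have h2' : (((g ^ c : Fˣ) : F) ^ 2 ^ m) ^ 2 = 1 := by
      rw [← Units.val_pow_eq_pow_val, ← Units.val_pow_eq_pow_val, ← pow_mul (g ^ c), ← pow_succ 2,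
        ← hord, pow_orderOf_eq_one, Units.val_one]
    have h1 : ((g ^ c : Fˣ) : F) ^ 2 ^ m = -1 := by
      refine (sq_eq_one_iff.mp h2').resolve_left fun h => ?_
      have h' : (g ^ c) ^ 2 ^ m = 1 := Units.ext (by rw [Units.val_pow_eq_pow_val]; exact h)
      have := Nat.le_of_dvd (pow_pos two_pos m) (hord ▸ orderOf_dvd_of_pow_eq_one h')
      rw [pow_succ] at this
      have := pow_pos (two_pos : (0 : ℕ) < 2) m
      omega
    rw [hn', pow_mul, h1, hodd.neg_one_pow]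

end CfsgLib.LinFix.NegRoot
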