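import Mathlib
import Cfsg.Agent.Lib.FormsDisc.Basic

/-!
Self-adjoint square roots of a non-square on a symmetric bilinear space: normal form and classification
by the discriminant.
-/

set_option autoImplicit false

namespace CfsgLib.LinFix.OrthRoot

open Module QuadraticAlgebra

variable {F V V' : Type*} [Field F] [AddCommGroup V] [Module F V] [AddCommGroup V'] [Module F V']

/-- A self-adjoint square root of the scalar `ε`. -/
structure IsRoot (B : LinearMap.BilinForm F V) (ε : F) (D : V →ₗ[F] V) : Prop where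
  sym : ∀ u v, B u v = B v u
  nd : ∀ u, (∀ v, B u v = 0) → u = 0
  sq : ∀ v, D (D v) = ε • v
  adj : ∀ u v, B (D u) v = B u (D v)

variable {ε : F} {B : LinearMap.BilinForm F V} {D : V →ₗ[F] V}

theorem isField_fact (hε : ¬ IsSquare ε) : Fact (∀ r : F, r ^ 2 ≠ ε + 0 * r) :=
  ⟨fun r h => hε ⟨r, by linear_combination -h⟩⟩

/-- The action of the extension. -/
def act (D : V →ₗ[F] V) (α : QuadraticAlgebra F ε 0) (u : V) : V := α.re • u + α.im • D u

/-- The form over the extension. -/
def form (B : LinearMap.BilinForm F V) (D : V →ₗ[F] V) (ε : F) (u v : V) : QuadraticAlgebra F ε 0 :=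
  ⟨B u (D v), B u v⟩

theorem IsRoot.form_comm (h : IsRoot B ε D) (u v : V) : form B D ε u v = form B D ε v u :=
  QuadraticAlgebra.ext (show B u (D v) = B v (D u) by rw [← h.adj, h.sym]) (h.sym u v)

theorem form_add_left (u u' v : V) : form B D ε (u + u') v = form B D ε u v + form B D ε u' v :=
  QuadraticAlgebra.ext (by simp [form]) (by simp [form])

theorem IsRoot.form_act_left (h : IsRoot B ε D) (α : QuadraticAlgebra F ε 0) (u v : V) :
    form B D ε (act D α u) v = α * form B D ε u v := by
  ext
  · simp [form, act, h.adj, h.sq]; ring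
  · simp [form, act, h.adj]

theorem IsRoot.form_add_right (h : IsRoot B ε D) (u v v' : V) :
    form B D ε u (v + v') = form B D ε u v + form B D ε u v' := by
  rw [h.form_comm, form_add_left, h.form_comm v u, h.form_comm v' u]

theorem IsRoot.form_act_right (h : IsRoot B ε D) (α : QuadraticAlgebra F ε 0) (u v : V) :
    form B D ε u (act D α v) = α * form B D ε u v := by
  rw [h.form_comm, h.form_act_left, h.form_comm v u]

/-- A square with the norm of a non-square is impossible. -/
theorem isSquare_of_norm [Fintype F] (hε : ¬ IsSquare ε) {γ : QuadraticAlgebra F ε 0}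
    (h : IsSquare (QuadraticAlgebra.norm γ)) : IsSquare γ := by
  classical
  have h2 : (2 : F) ≠ 0 := fun h => by
    haveI : CharP F 2 := CharTwo.of_one_ne_zero_of_two_eq_zero one_ne_zero h
    exact hε (FiniteField.isSquare_of_char_two (ringChar.eq F 2) ε)
  have hε0 : ε ≠ 0 := fun h => hε (h ▸ ⟨0, (mul_zero 0).symm⟩)
  obtain ⟨a, b⟩ := γ
  obtain ⟨n, hn⟩ := h
  rw [QuadraticAlgebra.norm_def] at hn
  simp only at hn
  rcases eq_or_ne b 0 with rfl | hb
  · rcases eq_or_ne a 0 with rfl | ha
    · exact ⟨0, by ext <;> simp⟩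
    · by_cases hsq : IsSquare a
      · obtain ⟨c, rfl⟩ := hsq
        exact ⟨⟨c, 0⟩, by ext <;> simp⟩
      · obtain ⟨c, hc⟩ : IsSquare (a * ε) := (CfsgLib.FormsDisc.isSquare_mul_iff_of_odd h2 ha hε0).2 (by simp [hsq, hε])
        refine ⟨⟨0, c / ε⟩, ?_⟩
        ext
        · simp; field_simp; linear_combination hc
        · simp
  · have hprod : (a + n) / 2 * ((a - n) / 2) = ε * (b / 2 * (b / 2)) := by
      field_simp; linear_combination hn
    have hb2 : b / 2 ≠ 0 := div_ne_zero hb h2
    obtain ⟨m, hm0, x, hx⟩ : ∃ m : F, (m * m = n * n) ∧ IsSquare ((a + m) / 2) := by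
      by_cases hsq : IsSquare ((a + n) / 2)
      · exact ⟨n, rfl, hsq⟩
      · refine ⟨-n, by ring, ?_⟩
        by_contra hsq'
        rw [← sub_eq_add_neg] at hsq'
        have h0 : (a + n) / 2 * ((a - n) / 2) ≠ 0 := hprod ▸ mul_ne_zero hε0 (mul_ne_zero hb2 hb2)
        have := (CfsgLib.FormsDisc.isSquare_mul_iff_of_odd h2 (left_ne_zero_of_mul h0) (right_ne_zero_of_mul h0)).2
          (iff_of_false hsq hsq')
        rw [hprod, ← pow_two, CfsgLib.FormsDisc.isSquare_mul_sq_iff hb2] at this
        exact hε this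
    have hx0 : x ≠ 0 := fun h => hb (by
      have e : (a + m) = 0 := by rw [h, mul_zero, div_eq_zero_iff] at hx; exact hx.resolve_right h2
      have : ε * (b * b) = 0 := by linear_combination hm0 - hn + (a - m) * e
      exact mul_self_eq_zero.1 ((mul_eq_zero.1 this).resolve_left hε0))
    refine ⟨⟨x, b / (2 * x)⟩, ?_⟩
    field_simp at hx
    ext
    · simp; field_simp; linear_combination -hm0 + hn + (m + 2 * x ^ 2 - a) * hx
    · simp; field_simp; ring

variable [FiniteDimensional F V] [Fintype F]

/-- A normal family spanning an invariant subspace. -/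
structure Normal (B : LinearMap.BilinForm F V) (D : V →ₗ[F] V) (W : Submodule F V) {n : ℕ}
    (γ : QuadraticAlgebra F ε 0) (w : Fin (n + 1) → V) : Prop where
  span_eq : Submodule.span F (Set.range fun x : Fin 2 × Fin (n + 1) => ![w x.2, D (w x.2)] x.1) = W
  orth : ∀ i j, i ≠ j → form B D ε (w i) (w j) = 0
  val : ∀ i, form B D ε (w i) (w i) = if i = Fin.last n then γ else 1

/-- An invariant subspace has a normal family. -/
theorem IsRoot.exists_normal (h : IsRoot B ε D) (hε : ¬ IsSquare ε) :
    ∀ W : Submodule F V, W ≠ ⊥ → (∀ u ∈ W, D u ∈ W) → (∀ u ∈ W, (∀ v ∈ W, B u v = 0) → u = 0) →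
      ∃ (n : ℕ) (γ : QuadraticAlgebra F ε 0) (w : Fin (n + 1) → V), γ ≠ 0 ∧ Normal B D W γ w := by
  classical
  haveI := isField_fact hε
  haveI : Finite (QuadraticAlgebra F ε 0) := Finite.of_equiv _ (QuadraticAlgebra.equivProd ε 0).symm
  letI : Fintype (QuadraticAlgebra F ε 0) := Fintype.ofFinite _
  have h2 : (2 : F) ≠ 0 := fun h => by
    haveI : CharP F 2 := CharTwo.of_one_ne_zero_of_two_eq_zero one_ne_zero h
    exact hε (FiniteField.isSquare_of_char_two (ringChar.eq F 2) ε)
  intro W
  induction hd : finrank F W using Nat.strong_induction_on generalizing W with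
  | _ d ih =>
    intro h0 hDW hnd
    have hact : ∀ (α : QuadraticAlgebra F ε 0) u, u ∈ W → act D α u ∈ W := fun α u hu =>
      W.add_mem (W.smul_mem _ hu) (W.smul_mem _ (hDW u hu))
    have hex : ∀ (U : Submodule F V), U ≠ ⊥ → (∀ u ∈ U, (∀ v ∈ U, B u v = 0) → u = 0) →
        ∃ v ∈ U, form B D ε v v ≠ 0 := by
      intro U hU hUnd
      by_contra hc
      push Not at hc
      obtain ⟨u, hu, hu0⟩ := Submodule.exists_mem_ne_zero_of_ne_bot hU
      refine hu0 (hUnd u hu fun v hv => ?_)
      have e : ∀ w ∈ U, B w w = 0 := fun w hw => congrArg QuadraticAlgebra.im (hc w hw)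
      have h1 := e (u + v) (U.add_mem hu hv)
      simp only [map_add, LinearMap.add_apply, e u hu, e v hv, h.sym v u] at h1
      exact (mul_eq_zero.1 (show (2 : F) * B u v = 0 by linear_combination h1)).resolve_left h2
    let comp : V → Submodule F V := fun z => W ⊓ LinearMap.ker (B z) ⊓ LinearMap.ker (B (D z))
    have hcm : ∀ z x, x ∈ comp z ↔ x ∈ W ∧ form B D ε z x = 0 := fun z x => by
      simp [comp, form, QuadraticAlgebra.ext_iff, and_assoc, h.adj, and_comm]
    have hsplit : ∀ z ∈ W, form B D ε z z ≠ 0 → ∀ x ∈ W, ∃ α, x - act D α z ∈ comp z := fun z hz hz0 x hx => by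
      refine ⟨form B D ε z x / form B D ε z z, (hcm _ _).2 ⟨W.sub_mem hx (hact _ _ hz), ?_⟩⟩
      have e := h.form_add_right z (x - act D (form B D ε z x / form B D ε z z) z)
        (act D (form B D ε z x / form B D ε z z) z)
      rw [sub_add_cancel, h.form_act_right, div_mul_cancel₀ _ hz0] at e
      simpa using e
    have hDc : ∀ z, ∀ x ∈ comp z, D x ∈ comp z := fun z x hx => by
      obtain ⟨hx1, hx2⟩ := (hcm z x).1 hx
      refine (hcm z _).2 ⟨hDW x hx1, ?_⟩
      have e : D x = act D (⟨0, 1⟩ : QuadraticAlgebra F ε 0) x := by simp [act]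
      rw [e, h.form_act_right, hx2, mul_zero]
    have hndc : ∀ z ∈ W, form B D ε z z ≠ 0 → ∀ u ∈ comp z, (∀ v ∈ comp z, B u v = 0) → u = 0 := by
      intro z hz hz0 u hu hu'
      obtain ⟨hu1, hu2⟩ := (hcm z u).1 hu
      refine hnd u hu1 fun x hx => ?_
      obtain ⟨α, hα⟩ := hsplit z hz hz0 x hx
      have e : form B D ε u (act D α z) = 0 := by rw [h.form_act_right, h.form_comm, hu2, mul_zero]
      have h1 := hu' _ hα
      rw [map_sub, show B u (act D α z) = 0 from congrArg QuadraticAlgebra.im e, sub_zero] at h1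
      exact h1
    obtain ⟨u, hu, hu0⟩ := hex W h0 hnd
    by_cases hone : comp u = ⊥
    · refine ⟨0, form B D ε u u, fun _ => u, hu0, le_antisymm (Submodule.span_le.2 ?_) fun x hx => ?_,
        fun i j hij => absurd (Fin.fin_one_eq_zero i |>.trans (Fin.fin_one_eq_zero j).symm) hij, fun i => by
          rw [if_pos (Fin.ext (by simp))]⟩
      · rintro _ ⟨⟨i, j⟩, rfl⟩
        fin_cases i
        · exact hu
        · exact hDW u hu
      · obtain ⟨α, hα⟩ := hsplit u hu hu0 x hx
        rw [hone, Submodule.mem_bot, sub_eq_zero] at hα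
        rw [hα]
        exact add_mem (Submodule.smul_mem _ _ (Submodule.subset_span ⟨(0, 0), rfl⟩))
          (Submodule.smul_mem _ _ (Submodule.subset_span ⟨(1, 0), rfl⟩))
    · obtain ⟨u', hu'c, hu'0⟩ := hex _ hone (hndc u hu hu0)
      obtain ⟨hu', horth⟩ := (hcm u u').1 hu'c
      set a := form B D ε u u with ha
      set a' := form B D ε u' u' with ha'
      obtain ⟨α, β, hαβ⟩ : ∃ α β : QuadraticAlgebra F ε 0, α * α * a + β * β * a' = 1 := by
        have hK : ringChar (QuadraticAlgebra F ε 0) ≠ 2 := fun hc => h2 (by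
          have h' : (2 : QuadraticAlgebra F ε 0) = 0 := by
            haveI := ringChar.of_eq hc
            exact CharTwo.two_eq_zero
          simpa using congrArg QuadraticAlgebra.re h')
        obtain ⟨c, d', hcd⟩ := FiniteField.exists_root_sum_quadratic
          (f := Polynomial.C a * Polynomial.X ^ 2 - Polynomial.C 1) (g := Polynomial.C a' * Polynomial.X ^ 2)
          (by
            rw [Polynomial.degree_sub_C (by rw [Polynomial.degree_C_mul_X_pow 2 hu0]; norm_num),
              Polynomial.degree_C_mul_X_pow 2 hu0]; rfl)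
          (Polynomial.degree_C_mul_X_pow 2 hu'0) (FiniteField.odd_card_of_char_ne_two hK)
        simp at hcd
        exact ⟨c, d', by linear_combination hcd⟩
      set z := act D α u + act D β u'
      have horth' : form B D ε u' u = 0 := by rw [h.form_comm, horth]
      have hz : z ∈ W := W.add_mem (hact _ _ hu) (hact _ _ hu')
      have hz1 : form B D ε z z = 1 := by
        simp only [z, form_add_left, h.form_add_right, h.form_act_left, h.form_act_right, ← ha, ← ha', horth,
          horth', mul_zero, add_zero, zero_add]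
        linear_combination hαβ
      have hz0 : form B D ε z z ≠ 0 := hz1 ▸ one_ne_zero
      set z' := act D (β * a') u + act D (-(α * a)) u'
      have hz' : z' ∈ comp z := by
        refine (hcm _ _).2 ⟨W.add_mem (hact _ _ hu) (hact _ _ hu'), ?_⟩
        simp only [z, z', form_add_left, h.form_add_right, h.form_act_left, h.form_act_right, ← ha, ← ha', horth,
          horth', mul_zero, add_zero, zero_add]
        ring
      have hne : comp z ≠ ⊥ := fun hb => by
        rw [hb, Submodule.mem_bot] at hz'
        have e1 := congrArg (fun x => form B D ε x u) hz'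
        have e2 := congrArg (fun x => form B D ε x u') hz'
        simp only [z', form_add_left, h.form_act_left, ← ha, ← ha', horth, horth', mul_zero, add_zero,
          zero_add] at e1 e2
        have e0 : ∀ x : V, form B D ε 0 x = 0 := fun x => by ext <;> simp [form]
        rw [e0] at e1 e2
        obtain hβ := (mul_eq_zero.1 e1).resolve_right hu0
        obtain hα := (mul_eq_zero.1 e2).resolve_right hu'0
        rw [(mul_eq_zero.1 hβ).resolve_right hu'0,
          (mul_eq_zero.1 (neg_eq_zero.1 hα)).resolve_right hu0] at hαβ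
        simp at hαβ
      have hlt : finrank F (comp z) < d := by
        rw [← hd]
        refine Submodule.finrank_lt_finrank_of_lt (lt_of_le_of_ne (inf_le_left.trans inf_le_left) fun hh => ?_)
        exact hz0 ((hcm z z).1 (hh ▸ hz)).2
      obtain ⟨n, γ, w, hγ, hw⟩ := ih _ hlt (comp z) rfl hne (hDc z) (hndc z hz hz0)
      have hwm : ∀ i, w i ∈ comp z := fun i => hw.span_eq ▸ Submodule.subset_span ⟨(0, i), rfl⟩
      refine ⟨n + 1, γ, Fin.cons z w, hγ, le_antisymm (Submodule.span_le.2 ?_) fun x hx => ?_,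
        fun i j hij => ?_, fun i => ?_⟩
      · rintro _ ⟨⟨i, j⟩, rfl⟩
        refine Fin.cases ?_ (fun j => ?_) j
        · fin_cases i
          · exact hz
          · exact hDW z hz
        · fin_cases i
          · exact ((hcm _ _).1 (hwm j)).1
          · exact hDW _ ((hcm _ _).1 (hwm j)).1
      · obtain ⟨c, hc⟩ := hsplit z hz hz0 x hx
        have hx' : x = (x - act D c z) + act D c z := by abel
        rw [hx']
        refine add_mem ?_ (add_mem (Submodule.smul_mem _ _ (Submodule.subset_span ⟨(0, 0), rfl⟩))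
          (Submodule.smul_mem _ _ (Submodule.subset_span ⟨(1, 0), rfl⟩)))
        refine Submodule.span_mono ?_ (hw.span_eq.symm ▸ hc)
        rintro _ ⟨⟨i, j⟩, rfl⟩
        exact ⟨(i, j.succ), by simp⟩
      · refine Fin.cases ?_ (fun i => ?_) i j hij <;> intro j hij
        all_goals revert hij; refine Fin.cases ?_ (fun j => ?_) j <;> intro hij
        · exact absurd rfl hij
        · simpa using ((hcm _ _).1 (hwm j)).2
        · rw [h.form_comm]; simpa using ((hcm _ _).1 (hwm i)).2
        · simpa using hw.orth i j (by simpa using hij)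
      · refine Fin.cases ?_ (fun i => ?_) i
        · simp only [Fin.cons_zero]
          rw [hz1, if_neg (by simp [Fin.ext_iff])]
        · simp only [Fin.cons_succ, hw.val, ← Fin.succ_last, Fin.succ_inj]

/-- The space has a normal basis. -/
theorem IsRoot.exists_basis (h : IsRoot B ε D) (hε : ¬ IsSquare ε) [Nontrivial V] :
    ∃ (n : ℕ) (γ : QuadraticAlgebra F ε 0) (β : Basis (Fin 2 × Fin (n + 1)) F V), γ ≠ 0 ∧
      (∀ i, D (β (0, i)) = β (1, i)) ∧
      LinearMap.BilinForm.toMatrix β B = Matrix.blockDiagonal fun i =>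
        if i = Fin.last n then !![γ.im, γ.re; γ.re, ε * γ.im] else !![0, 1; 1, 0] := by
  classical
  haveI := isField_fact hε
  obtain ⟨n, γ, w, hγ, hw⟩ := h.exists_normal hε ⊤ top_ne_bot (fun _ _ => trivial)
    (fun u _ hu => h.nd u fun v => hu v trivial)
  let b : Fin 2 × Fin (n + 1) → V := fun x => ![w x.2, D (w x.2)] x.1
  have hli : LinearIndependent F b := by
    rw [Fintype.linearIndependent_iff]
    intro g hg
    let α : Fin (n + 1) → QuadraticAlgebra F ε 0 := fun i => ⟨g (0, i), g (1, i)⟩
    have hsum : ∑ i, act D (α i) (w i) = 0 := by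
      rw [Fintype.sum_prod_type, Fin.sum_univ_two, ← Finset.sum_add_distrib] at hg
      simpa [α, act, b] using hg
    have hadd : ∀ (s : Finset (Fin (n + 1))) (v : V),
        form B D ε (∑ i ∈ s, act D (α i) (w i)) v = ∑ i ∈ s, form B D ε (act D (α i) (w i)) v := by
      intro s v
      induction s using Finset.induction with
      | empty => ext <;> simp [form]
      | insert i s hi ih => rw [Finset.sum_insert hi, Finset.sum_insert hi, form_add_left, ih]
    have hα : ∀ j, α j = 0 := fun j => by
      have e := hadd Finset.univ (w j)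
      rw [hsum, Finset.sum_eq_single j (fun i _ hi => by rw [h.form_act_left, hw.orth i j hi, mul_zero])
        (by simp), h.form_act_left, hw.val, show form B D ε 0 (w j) = 0 by ext <;> simp [form]] at e
      refine (mul_eq_zero.1 e.symm).resolve_right ?_
      split_ifs <;> [exact hγ; exact one_ne_zero]
    rintro ⟨i, j⟩
    fin_cases i
    · exact congrArg QuadraticAlgebra.re (hα j)
    · exact congrArg QuadraticAlgebra.im (hα j)
  refine ⟨n, γ, Basis.mk hli hw.span_eq.ge, hγ, fun i => by simp [b], ?_⟩
  ext ⟨a, i⟩ ⟨c, j⟩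
  rw [LinearMap.BilinForm.toMatrix_apply, Basis.mk_apply, Basis.mk_apply]
  rcases eq_or_ne i j with rfl | hij
  · rw [Matrix.blockDiagonal_apply_eq]
    have hre : B (w i) (D (w i)) = (form B D ε (w i) (w i)).re := rfl
    have him : B (w i) (w i) = (form B D ε (w i) (w i)).im := rfl
    rw [hw.val] at hre him
    fin_cases a <;> fin_cases c <;> simp [b, h.adj, h.sq, hre, him] <;> split_ifs <;> simp
  · rw [Matrix.blockDiagonal_apply_ne _ _ _ hij]
    have hre : B (w i) (D (w j)) = 0 := congrArg QuadraticAlgebra.re (hw.orth i j hij)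
    have him : B (w i) (w j) = 0 := congrArg QuadraticAlgebra.im (hw.orth i j hij)
    fin_cases a <;> fin_cases c <;> simp [b, h.adj, h.sq, hre, him]

omit [Fintype F] [FiniteDimensional F V] in
/-- Gram determinants in two bases differ by a square. -/
theorem det_toMatrix_basis {ι κ : Type*} [Fintype ι] [DecidableEq ι] [Fintype κ] [DecidableEq κ]
    (B : LinearMap.BilinForm F V) (b : Basis ι F V) (c : Basis κ F V) :
    ∃ t : F, t ≠ 0 ∧ (LinearMap.BilinForm.toMatrix c B).det = (LinearMap.BilinForm.toMatrix b B).det * t ^ 2 := by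
  let e := c.indexEquiv b
  set c' := c.reindex e
  refine ⟨(b.toMatrix c').det, ?_, ?_⟩
  · intro h0
    have := congrArg Matrix.det (b.toMatrix_mul_toMatrix_flip c')
    rw [Matrix.det_mul, h0, zero_mul, Matrix.det_one] at this
    exact zero_ne_one this
  · have h : LinearMap.BilinForm.toMatrix c B = (LinearMap.BilinForm.toMatrix c' B).submatrix e e := by
      ext i j; simp [c']
    rw [h, Matrix.det_submatrix_equiv_self, ← LinearMap.BilinForm.toMatrix_mul_basis_toMatrix b c' B,
      Matrix.det_mul, Matrix.det_mul, Matrix.det_transpose]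
    ring

/-- The discriminant. -/
noncomputable def disc [FiniteDimensional F V] (B : LinearMap.BilinForm F V) : F :=
  (LinearMap.BilinForm.toMatrix (Module.finBasis F V) B).det

/-- Roots on spaces of the same dimension and discriminant class are isometric. -/
theorem IsRoot.exists_isometry [FiniteDimensional F V'] (hε : ¬ IsSquare ε) (h : IsRoot B ε D)
    {B' : LinearMap.BilinForm F V'} {D' : V' →ₗ[F] V'} (h' : IsRoot B' ε D') [Nontrivial V]
    (hdim : finrank F V = finrank F V') (hdisc : IsSquare (disc B * disc B')) :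
    ∃ g : V ≃ₗ[F] V', (∀ u v, B' (g u) (g v) = B u v) ∧ ∀ v, g (D v) = D' (g v) := by
  classical
  haveI := isField_fact hε
  haveI : Nontrivial V' := Module.nontrivial_of_finrank_pos (R := F) (hdim ▸ Module.finrank_pos)
  have h2 : (2 : F) ≠ 0 := fun h => by
    haveI : CharP F 2 := CharTwo.of_one_ne_zero_of_two_eq_zero one_ne_zero h
    exact hε (FiniteField.isSquare_of_char_two (ringChar.eq F 2) ε)
  obtain ⟨n, γ, β, hγ, hβD, hβ⟩ := h.exists_basis hε
  obtain ⟨n', γ', β', hγ', hβD', hβ'⟩ := h'.exists_basis hε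
  obtain rfl : n' = n := by
    have := finrank_eq_card_basis β
    have := finrank_eq_card_basis β'
    simp at *
    omega
  have hblock : ∀ γ : QuadraticAlgebra F ε 0,
      (Matrix.blockDiagonal fun i : Fin (n' + 1) =>
        if i = Fin.last n' then !![γ.im, γ.re; γ.re, ε * γ.im] else !![(0 : F), 1; 1, 0]).det =
        (-1) ^ (n' + 1) * QuadraticAlgebra.norm γ := fun γ => by
    rw [Matrix.det_blockDiagonal, Fin.prod_univ_castSucc, if_pos rfl]
    have : ∀ i : Fin n', (i.castSucc = Fin.last n') = False := fun i => eq_false (Fin.castSucc_lt_last i).ne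
    simp [this, Matrix.det_fin_two, QuadraticAlgebra.norm_def, pow_succ]
    ring
  obtain ⟨t, ht, e⟩ := det_toMatrix_basis B (Module.finBasis F V) β
  obtain ⟨t', ht', e'⟩ := det_toMatrix_basis B' (Module.finBasis F V') β'
  rw [hβ, hblock] at e
  rw [hβ', hblock] at e'
  have hsq : IsSquare (QuadraticAlgebra.norm (γ * γ')) := by
    obtain ⟨s, hs⟩ := hdisc
    rw [disc, disc] at hs
    refine ⟨s * (t * t'), ?_⟩
    rw [map_mul]
    have hone : ((-1 : F) ^ (n' + 1)) * (-1) ^ (n' + 1) = 1 := by rw [← mul_pow]; simp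
    linear_combination t ^ 2 * t' ^ 2 * hs +
      ((-1) ^ (n' + 1) * QuadraticAlgebra.norm γ') * e +
      ((LinearMap.BilinForm.toMatrix (Module.finBasis F V) B).det * t ^ 2) * e' -
      (QuadraticAlgebra.norm γ * QuadraticAlgebra.norm γ') * hone
  obtain ⟨δ, hδ⟩ := isSquare_of_norm hε hsq
  -- rescale the last vector
  set η := δ / γ' with hη
  have hηγ : η * (η * γ') = γ := by rw [hη]; field_simp; linear_combination -hδ
  have hη0 : η ≠ 0 := fun h0 => hγ (by rw [← hηγ, h0, zero_mul])
  let u : Fin (n' + 1) → V' := fun i => if i = Fin.last n' then act D' η (β' (0, i)) else β' (0, i)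
  let φ : V →ₗ[F] V' := β.constr F fun x => ![u x.2, D' (u x.2)] x.1
  have hφ : ∀ x, φ (β x) = ![u x.2, D' (u x.2)] x.1 := fun x => β.constr_basis F _ x
  have hentry : ∀ i j, form B D ε (β (0, i)) (β (0, j)) =
      if i = j then (if i = Fin.last n' then γ else 1) else 0 := fun i j => by
    have e1 := congrFun (congrFun hβ (0, i)) (1, j)
    have e2 := congrFun (congrFun hβ (0, i)) (0, j)
    rw [LinearMap.BilinForm.toMatrix_apply] at e1 e2
    ext <;> simp [form, hβD, e1, e2, Matrix.blockDiagonal_apply] <;> split_ifs <;> simp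
  have hentry' : ∀ i j, form B' D' ε (β' (0, i)) (β' (0, j)) =
      if i = j then (if i = Fin.last n' then γ' else 1) else 0 := fun i j => by
    have e1 := congrFun (congrFun hβ' (0, i)) (1, j)
    have e2 := congrFun (congrFun hβ' (0, i)) (0, j)
    rw [LinearMap.BilinForm.toMatrix_apply] at e1 e2
    ext <;> simp [form, hβD', e1, e2, Matrix.blockDiagonal_apply] <;> split_ifs <;> simp
  have hu : ∀ i j, form B' D' ε (u i) (u j) = form B D ε (β (0, i)) (β (0, j)) := fun i j => by
    rw [hentry]
    simp only [u]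
    split_ifs <;> simp_all [h'.form_act_left, h'.form_act_right, hentry']
  have hcomm : ∀ v, φ (D v) = D' (φ v) := by
    refine LinearMap.congr_fun (f := φ ∘ₗ D) (g := D' ∘ₗ φ) (β.ext ?_)
    rintro ⟨a, i⟩
    fin_cases a
    · simp only [Fin.zero_eta, LinearMap.comp_apply, hβD, hφ]; simp
    · simp only [Fin.mk_one, LinearMap.comp_apply, hφ]
      rw [← hβD, h.sq, map_smul, hφ]
      simp [h'.sq]
  have hiso : ∀ x y, B' (φ x) (φ y) = B x y := by
    refine LinearMap.congr_fun₂ (f := B'.compl₁₂ φ φ) (g := B) (LinearMap.ext_basis β β ?_)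
    rintro ⟨a, i⟩ ⟨c, j⟩
    have e1 : B' (u i) (D' (u j)) = B (β (0, i)) (D (β (0, j))) := congrArg QuadraticAlgebra.re (hu i j)
    have e2 : B' (u i) (u j) = B (β (0, i)) (β (0, j)) := congrArg QuadraticAlgebra.im (hu i j)
    rw [LinearMap.compl₁₂_apply, hφ, hφ]
    fin_cases a <;> fin_cases c <;> simp [← hβD, h.adj, h.sq, h'.adj, h'.sq, e1, e2]
  have hinj : Function.Injective φ := (injective_iff_map_eq_zero φ).2 fun x hx => h.nd x fun y => by
    rw [← hiso, hx, map_zero, LinearMap.zero_apply]
  exact ⟨φ.linearEquivOfInjective hinj hdim, fun x y => hiso x y, fun v => hcomm v⟩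

end CfsgLib.LinFix.OrthRoot
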