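import Mathlib
import Cfsg.Agent.Lib.LinFix.OrthRoot

/-!
A self-adjoint root adapted to an orthogonal involution of the projective group.
-/

set_option autoImplicit false

namespace CfsgLib.LinFix.OrthCompat

open Module

variable {F V : Type*} [Field F] [AddCommGroup V] [Module F V]

/-- The reflection in `v`, as a linear map. -/
noncomputable def rho (Q : QuadraticForm F V) (v : V) : V →ₗ[F] V :=
  LinearMap.id - ((Q v)⁻¹ • (QuadraticMap.polarBilin Q v)).smulRight v

variable {Q : QuadraticForm F V}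

theorem rho_apply (v x : V) : rho Q v x = x - ((Q v)⁻¹ * QuadraticMap.polar Q v x) • v := by
  simp [rho]

theorem rho_self {v : V} (hv : Q v ≠ 0) : rho Q v v = - v := by
  rw [rho_apply, QuadraticMap.polar_self, two_nsmul, ← two_mul, mul_comm 2, ← mul_assoc, inv_mul_cancel₀ hv, one_mul,
    two_smul]
  abel

theorem rho_orth {v x : V} (h : QuadraticMap.polarBilin Q v x = 0) : rho Q v x = x := by
  rw [rho_apply, show QuadraticMap.polar Q v x = 0 from h, mul_zero, zero_smul, sub_zero]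

variable [FiniteDimensional F V]

/-- An orthogonal family of pairs, each related by `R`. -/
structure Pairs (Q : QuadraticForm F V) (W : Submodule F V) (R : V → V → Prop) {m : ℕ} (u u' : Fin m → V) :
    Prop where
  span_eq : Submodule.span F (Set.range fun x : Fin 2 × Fin m => ![u x.2, u' x.2] x.1) = W
  orth : ∀ i j, i ≠ j → ∀ c c', QuadraticMap.polarBilin Q (![u i, u' i] c) (![u j, u' j] c') = 0
  pair : ∀ i, QuadraticMap.polarBilin Q (u i) (u' i) = 0
  ne : ∀ i, Q (u i) ≠ 0 ∧ Q (u' i) ≠ 0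
  rel : ∀ i, R (u i) (u' i)

/-- Splitting off an anisotropic vector. -/
theorem split (h2 : (2 : F) ≠ 0) {W : Submodule F V} (hnd : ∀ x ∈ W, (∀ y ∈ W, QuadraticMap.polarBilin Q x y = 0) → x = 0)
    {u : V} (hu : u ∈ W) (hQ : Q u ≠ 0) :
    (∀ x ∈ W ⊓ LinearMap.ker (QuadraticMap.polarBilin Q u),
      (∀ y ∈ W ⊓ LinearMap.ker (QuadraticMap.polarBilin Q u), QuadraticMap.polarBilin Q x y = 0) → x = 0) ∧
    finrank F ↥(W ⊓ LinearMap.ker (QuadraticMap.polarBilin Q u)) + 1 = finrank F W ∧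
    ∀ x ∈ W, ∃ c : F, x - c • u ∈ W ⊓ LinearMap.ker (QuadraticMap.polarBilin Q u) := by
  set B := QuadraticMap.polarBilin Q
  have huu : B u u ≠ 0 := by
    show QuadraticMap.polar Q u u ≠ 0
    rw [QuadraticMap.polar_self, two_nsmul, ← two_mul]
    exact mul_ne_zero h2 hQ
  have hdec : ∀ x ∈ W, ∃ c : F, x - c • u ∈ W ⊓ LinearMap.ker (B u) := fun x hx =>
    ⟨B u x / B u u, W.sub_mem hx (W.smul_mem _ hu), by simp [huu]⟩
  refine ⟨fun x hx h => ?_, ?_, hdec⟩
  · refine hnd x hx.1 fun y hy => ?_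
    obtain ⟨c, hc⟩ := hdec y hy
    have h' := h _ hc
    have hxu : B x u = 0 := by
      have := LinearMap.mem_ker.1 hx.2
      show QuadraticMap.polar Q x u = 0
      rw [QuadraticMap.polar_comm]; exact this
    simpa [hxu] using h'
  · have hsup : (W ⊓ LinearMap.ker (B u)) ⊔ (F ∙ u) = W := le_antisymm
      (sup_le inf_le_left ((Submodule.span_singleton_le_iff_mem _ _).2 hu)) fun x hx => by
        obtain ⟨c, hc⟩ := hdec x hx
        rw [← sub_add_cancel x (c • u)]
        exact Submodule.add_mem_sup hc (Submodule.smul_mem _ _ (Submodule.mem_span_singleton_self u))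
    have hinf : (W ⊓ LinearMap.ker (B u)) ⊓ (F ∙ u) = ⊥ := by
      rw [eq_bot_iff]
      rintro x ⟨⟨-, hx⟩, hx'⟩
      obtain ⟨c, rfl⟩ := Submodule.mem_span_singleton.1 hx'
      have h' := LinearMap.mem_ker.1 hx
      rw [map_smul, smul_eq_mul] at h'
      rw [(mul_eq_zero.1 h').resolve_right huu, zero_smul]
      exact Submodule.zero_mem _
    have h1 := Submodule.finrank_sup_add_finrank_inf_eq (W ⊓ LinearMap.ker (B u)) (F ∙ u)
    rw [hsup, hinf, finrank_bot, finrank_span_singleton (fun h => hQ (by rw [h, QuadraticMap.map_zero]))] at h1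
    omega

/-- A non-degenerate subspace contains an anisotropic vector. -/
theorem exists_anisotropic (h2 : (2 : F) ≠ 0) {W : Submodule F V}
    (hnd : ∀ x ∈ W, (∀ y ∈ W, QuadraticMap.polarBilin Q x y = 0) → x = 0) (hpos : 0 < finrank F W) :
    ∃ u ∈ W, Q u ≠ 0 := by
  by_contra hc
  push Not at hc
  have : W = ⊥ := (Submodule.eq_bot_iff _).2 fun x hx => hnd x hx fun y hy => by
    show QuadraticMap.polar Q x y = 0
    rw [QuadraticMap.polar, hc x hx, hc y hy, hc _ (W.add_mem hx hy), sub_zero, sub_zero]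
  rw [this, finrank_bot] at hpos
  omega

variable [Fintype F]

/-- A non-degenerate subspace of dimension two or more represents every value. -/
theorem exists_value (h2 : (2 : F) ≠ 0) {W : Submodule F V}
    (hnd : ∀ x ∈ W, (∀ y ∈ W, QuadraticMap.polarBilin Q x y = 0) → x = 0) (hdim : 2 ≤ finrank F W) (c : F) :
    ∃ x ∈ W, Q x = c := by
  obtain ⟨u, hu, hQu⟩ := exists_anisotropic h2 hnd (by omega)
  obtain ⟨hnd', hfin, -⟩ := split h2 hnd hu hQu
  obtain ⟨v, hv, hQv⟩ := exists_anisotropic h2 hnd' (by omega)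
  obtain ⟨s, t, hst⟩ := FiniteField.exists_root_sum_quadratic
    (f := Polynomial.C (Q u) * Polynomial.X ^ 2 - Polynomial.C c) (g := Polynomial.C (Q v) * Polynomial.X ^ 2)
    (by
      rw [Polynomial.degree_sub_C (by rw [Polynomial.degree_C_mul_X_pow 2 hQu]; norm_num),
        Polynomial.degree_C_mul_X_pow 2 hQu]; rfl)
    (Polynomial.degree_C_mul_X_pow 2 hQv)
    (FiniteField.odd_card_of_char_ne_two fun h => h2 (by
      have := CharP.cast_eq_zero F (ringChar F)
      rw [h] at this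
      exact_mod_cast this))
  simp at hst
  refine ⟨s • u + t • v, W.add_mem (W.smul_mem _ hu) (W.smul_mem _ hv.1), ?_⟩
  rw [QuadraticMap.map_add Q, QuadraticMap.map_smul, QuadraticMap.map_smul, QuadraticMap.polar_smul_left,
    QuadraticMap.polar_smul_right, show QuadraticMap.polar Q u v = 0 from hv.2]
  simp only [smul_eq_mul]
  linear_combination hst

omit [Fintype F] in
/-- The inductive construction of a family of pairs. -/
theorem exists_pairs (h2 : (2 : F) ≠ 0) {T : V →ₗ[F] V} {z : F} (hT : ∀ v, T (T v) = z • v)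
    (hiso : ∀ x y, QuadraticMap.polarBilin Q (T x) (T y) = QuadraticMap.polarBilin Q x y)
    (R : V → V → Prop) (hR : ∀ u u', R u u' → T u ∈ Submodule.span F {u, u'} ∧ T u' ∈ Submodule.span F {u, u'})
    (W₀ : Submodule F V)
    (hstep : ∀ W ≤ W₀, (∀ x ∈ W, T x ∈ W) →
      (∀ x ∈ W, (∀ y ∈ W, QuadraticMap.polarBilin Q x y = 0) → x = 0) → 2 ≤ finrank F W → ∀ c : F, c ≠ 0 →
      ∃ u u', u ∈ W ∧ u' ∈ W ∧ Q u ≠ 0 ∧ Q u' = c ∧ QuadraticMap.polarBilin Q u u' = 0 ∧ R u u') :
    ∀ W ≤ W₀, (∀ x ∈ W, T x ∈ W) → (∀ x ∈ W, (∀ y ∈ W, QuadraticMap.polarBilin Q x y = 0) → x = 0) →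
      Even (finrank F W) → ∀ c : ℕ → F, (∀ i, c i ≠ 0) →
      ∃ (m : ℕ) (u u' : Fin m → V), finrank F W = 2 * m ∧ Pairs Q W R u u' ∧ ∀ i : Fin m, Q (u' i) = c i := by
  intro W
  induction hd : finrank F W using Nat.strong_induction_on generalizing W with
  | _ d ih =>
    intro hW0 hTW hnd heven c hc
    by_cases h0 : d = 0
    · subst h0
      refine ⟨0, Fin.elim0, Fin.elim0, rfl, ⟨?_, fun i => i.elim0, fun i => i.elim0, fun i => i.elim0,
        fun i => i.elim0⟩, fun i => i.elim0⟩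
      rw [Submodule.finrank_eq_zero.1 hd, Submodule.span_eq_bot]
      rintro _ ⟨⟨i, j⟩, rfl⟩
      exact j.elim0
    have hge : 2 ≤ d := by
      obtain ⟨k, hk⟩ := heven
      omega
    obtain ⟨e, e', he, he', hQe, hQe', hee, hree⟩ := hstep W hW0 hTW hnd (by omega) (c 0) (hc 0)
    have hQe0 : Q e' ≠ 0 := hQe' ▸ hc 0
    obtain ⟨hnd1, hf1, hdec1⟩ := split h2 hnd he hQe
    have he'1 : e' ∈ W ⊓ LinearMap.ker (QuadraticMap.polarBilin Q e) := ⟨he', hee⟩
    obtain ⟨hnd2, hf2, hdec2⟩ := split h2 hnd1 he'1 hQe0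
    set W' := W ⊓ LinearMap.ker (QuadraticMap.polarBilin Q e) ⊓ LinearMap.ker (QuadraticMap.polarBilin Q e')
    have hperp : ∀ y ∈ Submodule.span F ({e, e'} : Set V), ∀ x ∈ W', QuadraticMap.polarBilin Q y x = 0 := by
      intro y hy x hx
      induction hy using Submodule.span_induction with
      | mem y hy =>
        rcases hy with rfl | rfl
        · exact hx.1.2
        · exact hx.2
      | zero => simp
      | add a b _ _ ha hb => simp [ha, hb]
      | smul k a _ ha => simp [ha]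
    have hadj : ∀ y x, QuadraticMap.polarBilin Q y (T x) = z * QuadraticMap.polarBilin Q (T y) x := fun y x => by
      rw [← hiso y (T x), hT, map_smul, smul_eq_mul]
    have hTW' : ∀ x ∈ W', T x ∈ W' := fun x hx =>
      ⟨⟨hTW x hx.1.1, by
        show QuadraticMap.polarBilin Q e (T x) = 0
        rw [hadj, hperp _ (hR e e' hree).1 x hx, mul_zero]⟩, by
        show QuadraticMap.polarBilin Q e' (T x) = 0
        rw [hadj, hperp _ (hR e e' hree).2 x hx, mul_zero]⟩
    obtain ⟨m, u, u', hm, hp, hval⟩ := ih _ (show finrank F W' < d by omega) W' rfl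
      (inf_le_left.trans (inf_le_left.trans hW0)) hTW' hnd2 (by
        obtain ⟨k, hk⟩ := heven
        exact ⟨k - 1, by omega⟩) (fun i => c (i + 1)) fun i => hc _
    have hmem : ∀ (x : Fin 2 × Fin m), ![u x.2, u' x.2] x.1 ∈ W' := fun x =>
      hp.span_eq ▸ Submodule.subset_span ⟨x, rfl⟩
    refine ⟨m + 1, Fin.cons e u, Fin.cons e' u', by omega, ⟨?_, ?_, ?_, ?_, ?_⟩, fun i => ?_⟩
    · refine le_antisymm (Submodule.span_le.2 ?_) fun x hx => ?_
      · rintro _ ⟨⟨a, j⟩, rfl⟩
        refine Fin.cases ?_ (fun j => ?_) j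
        · fin_cases a
          · exact he
          · exact he'
        · simpa using (hmem (a, j)).1.1
      · obtain ⟨s, hs⟩ := hdec1 x hx
        obtain ⟨t, ht⟩ := hdec2 _ hs
        have hx' : x = (x - s • e - t • e') + (s • e + t • e') := by abel
        rw [hx']
        refine add_mem ?_ (add_mem (Submodule.smul_mem _ _ (Submodule.subset_span ⟨(0, 0), rfl⟩))
          (Submodule.smul_mem _ _ (Submodule.subset_span ⟨(1, 0), rfl⟩)))
        refine Submodule.span_mono ?_ (hp.span_eq.symm ▸ ht)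
        rintro _ ⟨⟨a, j⟩, rfl⟩
        exact ⟨(a, j.succ), by simp⟩
    · have hnew : ∀ (a : Fin 2) (j : Fin m) (a' : Fin 2),
          QuadraticMap.polarBilin Q (![e, e'] a) (![u j, u' j] a') = 0 := fun a j a' => by
        have := hmem (a', j)
        fin_cases a
        · exact this.1.2
        · exact this.2
      intro i j
      refine Fin.cases ?_ (fun i => ?_) i <;> refine Fin.cases ?_ (fun j => ?_) j <;> intro hij a a'
      · exact absurd rfl hij
      · simpa using hnew a j a'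
      · simp only [Fin.cons_zero, Fin.cons_succ]
        show QuadraticMap.polar Q _ _ = 0
        rw [QuadraticMap.polar_comm]
        exact hnew a' i a
      · simpa using hp.orth i j (fun h => hij (by rw [h])) a a'
    · refine Fin.cases ?_ (fun i => ?_)
      · simpa using hee
      · simpa using hp.pair i
    · refine Fin.cases ?_ (fun i => ?_)
      · exact ⟨by simpa using hQe, by simpa using hQe0⟩
      · simpa using hp.ne i
    · refine Fin.cases ?_ (fun i => ?_)
      · simpa using hree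
      · simpa using hp.rel i
    · refine Fin.cases ?_ (fun i => ?_) i
      · simpa using hQe'
      · simpa using hval i

/-- A root on a family of pairs covering the space, commuting up to sign with every sign change of `T`. -/
theorem exists_root {ε : F} (h2 : (2 : F) ≠ 0) (hnd : ∀ x, (∀ y, QuadraticMap.polarBilin Q x y = 0) → x = 0)
    {κ : Type*} [Fintype κ] [DecidableEq κ] (u u' : κ → V)
    (hspan : Submodule.span F (Set.range fun x : κ × Fin 2 => ![u x.1, u' x.1] x.2) = ⊤)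
    (horth : ∀ i j, i ≠ j → ∀ c c', QuadraticMap.polarBilin Q (![u i, u' i] c) (![u j, u' j] c') = 0)
    (hpair : ∀ i, QuadraticMap.polarBilin Q (u i) (u' i) = 0) (hne : ∀ i, Q (u i) ≠ 0 ∧ Q (u' i) ≠ 0) :
    ∃ D : V →ₗ[F] V, OrthRoot.IsRoot (QuadraticMap.polarBilin Q) ε D ∧ ∀ T : V →ₗ[F] V,
      ((∀ i, ∃ σ : F, T (u i) = σ • u i ∧ T (u' i) = σ • u' i) → ∀ v, T (D v) = D (T v)) ∧
      ((∀ i, ∃ σ : F, T (u i) = σ • u' i ∧ T (u' i) = -σ • u i) → (∀ i, Q (u i) = Q (u' i)) →
        ∀ v, T (D v) = -D (T v)) := by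
  classical
  set B := QuadraticMap.polarBilin Q
  have hself : ∀ x, B x x = 2 * Q x := fun x => by
    show QuadraticMap.polar Q x x = _
    rw [QuadraticMap.polar_self, two_nsmul, ← two_mul]
  have hsym : ∀ x y, B x y = B y x := fun x y => QuadraticMap.polar_comm Q x y
  let b : κ × Fin 2 → V := fun x => ![u x.1, u' x.1] x.2
  have hgram : ∀ x y, x ≠ y → B (b x) (b y) = 0 := by
    rintro ⟨i, c⟩ ⟨j, c'⟩ hxy
    rcases eq_or_ne i j with rfl | hij
    · fin_cases c <;> fin_cases c' <;> first | exact absurd rfl hxy | simp [b, hpair, hsym (u' i) (u i)]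
    · exact horth i j hij c c'
  have hdiag : ∀ x, B (b x) (b x) ≠ 0 := by
    rintro ⟨i, c⟩
    rw [hself]
    fin_cases c
    · exact mul_ne_zero h2 (hne i).1
    · exact mul_ne_zero h2 (hne i).2
  have hli : LinearIndependent F b := by
    rw [Fintype.linearIndependent_iff]
    intro g hg x
    have h0 := congrArg (fun v => B v (b x)) hg
    simp only [map_sum, map_smul, LinearMap.sum_apply, LinearMap.smul_apply, smul_eq_mul, map_zero,
      LinearMap.zero_apply] at h0
    rw [Finset.sum_eq_single x (fun y _ hy => by rw [hgram y x hy, mul_zero]) (by simp)] at h0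
    exact (mul_eq_zero.1 h0).resolve_right (hdiag x)
  let β : Basis (κ × Fin 2) F V := Basis.mk hli hspan.ge
  have hβ : ∀ x, β x = b x := fun x => by simp [β]
  have hsol : ∀ a c : F, a ≠ 0 → c ≠ 0 → ∃ P R : F, P * P + R * R * (a * c) = ε := fun a c ha hc => by
    obtain ⟨s, t, hst⟩ := FiniteField.exists_root_sum_quadratic
      (f := Polynomial.X ^ 2 - Polynomial.C ε) (g := Polynomial.C (a * c) * Polynomial.X ^ 2)
      (Polynomial.degree_X_pow_sub_C (by norm_num : 0 < 2) ε) (Polynomial.degree_C_mul_X_pow 2 (mul_ne_zero ha hc))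
      (FiniteField.odd_card_of_char_ne_two fun h => h2 (by
        have := CharP.cast_eq_zero F (ringChar F)
        rw [h] at this
        exact_mod_cast this))
    simp at hst
    exact ⟨s, t, by linear_combination hst⟩
  choose P R hPR using fun i => hsol (Q (u i)) (Q (u' i)) (hne i).1 (hne i).2
  let D : V →ₗ[F] V := β.constr F fun x => if x.2 = 0 then P x.1 • u x.1 + (R x.1 * Q (u x.1)) • u' x.1
    else (R x.1 * Q (u' x.1)) • u x.1 + (- P x.1) • u' x.1
  have hD0 : ∀ i, D (u i) = P i • u i + (R i * Q (u i)) • u' i := fun i => by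
    have : β (i, 0) = u i := by simp [hβ, b]
    rw [← this]; exact (β.constr_basis F _ _).trans (by simp [this])
  have hD1 : ∀ i, D (u' i) = (R i * Q (u' i)) • u i + (- P i) • u' i := fun i => by
    have : β (i, 1) = u' i := by simp [hβ, b]
    rw [← this]; exact (β.constr_basis F _ _).trans (by simp [this])
  refine ⟨D, ⟨hsym, hnd, fun v => ?_, ?_⟩, fun T => ⟨fun hT => ?_, fun hT hQ => ?_⟩⟩
  · refine LinearMap.congr_fun (f := D ∘ₗ D) (g := ε • LinearMap.id) (β.ext ?_) v
    rintro ⟨i, c⟩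
    fin_cases c <;> simp only [Fin.zero_eta, Fin.mk_one, LinearMap.comp_apply, LinearMap.smul_apply,
      LinearMap.id_apply, hβ, b, Matrix.cons_val_zero, Matrix.cons_val_one, Matrix.cons_val_fin_one, hD0, hD1,
      map_add, map_smul]
    · linear_combination (norm := module) (congrArg (fun t : F => t • u i) (hPR i))
    · linear_combination (norm := module) (congrArg (fun t : F => t • u' i) (hPR i))
  · refine LinearMap.congr_fun₂ (f := B.compl₁₂ D LinearMap.id) (g := B.compl₁₂ LinearMap.id D)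
      (LinearMap.ext_basis β β ?_)
    rintro ⟨i, c⟩ ⟨j, c'⟩
    simp only [LinearMap.compl₁₂_apply, LinearMap.id_apply, hβ]
    rcases eq_or_ne i j with rfl | hij
    · fin_cases c <;> fin_cases c' <;>
        simp [b, hD0, hD1, hpair, hsym (u' i) (u i), hself] <;> ring
    · have h00 := horth i j hij 0 0
      have h01 := horth i j hij 0 1
      have h10 := horth i j hij 1 0
      have h11 := horth i j hij 1 1
      simp at h00 h01 h10 h11
      fin_cases c <;> fin_cases c' <;> simp [b, hD0, hD1, h00, h01, h10, h11]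
  · refine LinearMap.congr_fun (f := T ∘ₗ D) (g := D ∘ₗ T) (β.ext ?_)
    rintro ⟨i, c⟩
    obtain ⟨σ, h0, h1⟩ := hT i
    fin_cases c <;> simp [hβ, b, hD0, hD1, h0, h1, smul_smul, mul_comm]
  · refine LinearMap.congr_fun (f := T ∘ₗ D) (g := -(D ∘ₗ T)) (β.ext ?_)
    rintro ⟨i, c⟩
    obtain ⟨σ, h0, h1⟩ := hT i
    fin_cases c <;> simp only [Fin.zero_eta, Fin.mk_one, LinearMap.comp_apply, LinearMap.neg_apply, hβ, b,
      Matrix.cons_val_zero, Matrix.cons_val_one, Matrix.cons_val_fin_one, hD0, hD1, map_add, map_smul, h0, h1, hQ i]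
      <;> module

omit [Fintype F] in
/-- The determinant of an involution is the sign of the dimension of its negative space. -/
theorem even_finrank_neg (h2 : (2 : F) ≠ 0) {T : V →ₗ[F] V} (hT : ∀ v, T (T v) = v) (hdet : LinearMap.det T = 1) :
    Even (finrank F (LinearMap.ker (T + LinearMap.id))) := by
  set Vp := LinearMap.ker (T - LinearMap.id) with hVp
  set Vm := LinearMap.ker (T + LinearMap.id) with hVm
  have hc : IsCompl Vp Vm := by
    constructor
    · rw [disjoint_iff, eq_bot_iff]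
      rintro x ⟨h1, h1'⟩
      simp [Vp, Vm, sub_eq_zero] at h1 h1'
      rw [h1, ← two_smul F] at h1'
      exact (smul_eq_zero.1 h1').resolve_left h2
    · rw [codisjoint_iff, eq_top_iff]
      intro x _
      have hx : x = (2 : F)⁻¹ • (x + T x) + (2 : F)⁻¹ • (x - T x) := by
        rw [← smul_add, show x + T x + (x - T x) = (2 : F) • x by rw [two_smul]; abel, smul_smul,
          inv_mul_cancel₀ h2, one_smul]
      rw [hx]
      exact Submodule.add_mem_sup (Submodule.smul_mem _ _ (by simp [Vp, hT, sub_eq_zero]; abel))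
        (Submodule.smul_mem _ _ (by simp [Vm, hT]))
  let e := Submodule.prodEquivOfIsCompl Vp Vm hc
  have hconj : T = (e : (Vp × Vm) →ₗ[F] V) ∘ₗ (LinearMap.prodMap LinearMap.id (-LinearMap.id)) ∘ₗ (e.symm : V →ₗ[F] Vp × Vm) := by
    refine LinearMap.ext fun v => ?_
    obtain ⟨⟨⟨a, ha⟩, ⟨b, hb⟩⟩, rfl⟩ := e.surjective v
    have ha' : T a = a := sub_eq_zero.1 (by simpa [Vp] using ha)
    have hb' : T b = -b := eq_neg_of_add_eq_zero_left (by simpa [Vm] using hb)
    rw [LinearMap.comp_apply, LinearMap.comp_apply, LinearEquiv.coe_coe, LinearEquiv.coe_coe,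
      LinearEquiv.symm_apply_apply]
    simp [e, ha', hb']
  rw [hconj, LinearMap.det_conj, LinearMap.det_prodMap, LinearMap.det_id, one_mul,
    show (-LinearMap.id : Vm →ₗ[F] Vm) = (-1 : F) • LinearMap.id from (neg_one_smul F _).symm, LinearMap.det_smul, LinearMap.det_id,
    mul_one] at hdet
  by_contra hodd
  rw [Nat.not_even_iff_odd] at hodd
  rw [hodd.neg_one_pow] at hdet
  exact h2 (by linear_combination -hdet)

/-- A root and two reflecting vectors of different classes, adapted to a projective involution. -/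
theorem exists_compat {ε ν : F} (h2 : (2 : F) ≠ 0) (hν : ν ≠ 0) {d : ℕ} (hd : 2 ≤ d) (hdim : finrank F V = 2 * d)
    (hnd : ∀ x, (∀ y, QuadraticMap.polarBilin Q x y = 0) → x = 0) {T : V →ₗ[F] V} {z : F}
    (hT : ∀ v, T (T v) = z • v) (hiso : ∀ x, Q (T x) = Q x) (hdet : LinearMap.det T = 1)
    (hns : ∀ c : F, ∃ v, T v ≠ c • v) :
    ∃ (D : V →ₗ[F] V) (a b : V) (s : F), (s = 1 ∨ s = -1) ∧ OrthRoot.IsRoot (QuadraticMap.polarBilin Q) ε D ∧
      Q a = 1 ∧ Q b = ν ∧ rho Q a ∘ₗ rho Q b = rho Q b ∘ₗ rho Q a ∧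
      ∀ h : V →ₗ[F] V, (h = LinearMap.id ∨ h = rho Q a ∨ h = rho Q b ∨ h = rho Q a ∘ₗ rho Q b) →
        ∀ v, h (T (h (D v))) = s • D (h (T (h v))) := by
  classical
  set B := QuadraticMap.polarBilin Q
  have hsym : ∀ x y, B x y = B y x := fun x y => QuadraticMap.polar_comm Q x y
  have hBT : ∀ x y, B (T x) (T y) = B x y := fun x y => by
    show QuadraticMap.polar Q (T x) (T y) = QuadraticMap.polar Q x y
    simp only [QuadraticMap.polar, ← map_add, hiso]
  haveI : Nontrivial V := Module.nontrivial_of_finrank_pos (R := F) (by omega)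
  have hzz : z * z = 1 := by
    obtain ⟨x, hx⟩ := exists_ne (0 : V)
    obtain ⟨y, hy⟩ := not_forall.1 fun h => hx (hnd x h)
    have h := hBT (T x) (T y)
    rw [hT, hT, hBT] at h
    simp only [map_smul, LinearMap.smul_apply, smul_eq_mul] at h
    exact mul_right_cancel₀ hy (by linear_combination h)
  -- it is enough to give the pairs
  suffices h : ∃ (κ : Type) (_ : Fintype κ) (_ : DecidableEq κ) (u u' : κ → V) (i₀ i₁ : κ), i₀ ≠ i₁ ∧
      Submodule.span F (Set.range fun x : κ × Fin 2 => ![u x.1, u' x.1] x.2) = ⊤ ∧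
      (∀ i j, i ≠ j → ∀ c c', B (![u i, u' i] c) (![u j, u' j] c') = 0) ∧
      (∀ i, B (u i) (u' i) = 0) ∧ (∀ i, Q (u i) ≠ 0 ∧ Q (u' i) ≠ 0) ∧ Q (u' i₀) = 1 ∧ Q (u' i₁) = ν ∧
      ((∀ i, ∃ σ : F, T (u i) = σ • u i ∧ T (u' i) = σ • u' i) ∨
        ((∀ i, T (u i) = u' i ∧ T (u' i) = - u i) ∧ ∀ i, Q (u i) = Q (u' i))) by
    obtain ⟨κ, _, _, u, u', i₀, i₁, h01, hspan, horth, hpair, hne, ha, hb, hcase⟩ := h
    obtain ⟨D, hD, hcomm⟩ := exists_root (ε := ε) h2 hnd u u' hspan horth hpair hne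
    have hau : ∀ i, B (u' i₀) (u i) = 0 ∧ B (u' i₁) (u i) = 0 := fun i => by
      constructor <;>
      · rw [hsym]
        rcases eq_or_ne i i₀ with rfl | h0
        · first | exact hpair _ | exact horth _ _ h01 0 1
        · first
            | exact horth _ _ h0 0 1
            | (rcases eq_or_ne i i₁ with rfl | h1
               · exact hpair _
               · exact horth _ _ h1 0 1)
    have hfix : ∀ (j : κ) (i : κ), i ≠ j → rho Q (u' j) (u' i) = u' i := fun j i hij =>
      rho_orth (horth j i hij.symm 1 1)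
    refine ⟨D, u' i₀, u' i₁, ?_⟩
    have hcommρ : rho Q (u' i₀) ∘ₗ rho Q (u' i₁) = rho Q (u' i₁) ∘ₗ rho Q (u' i₀) := by
      refine LinearMap.ext fun x => ?_
      have h' : QuadraticMap.polar Q (u' i₀) (u' i₁) = 0 := horth _ _ h01 1 1
      have h'' : QuadraticMap.polar Q (u' i₁) (u' i₀) = 0 := horth _ _ h01.symm 1 1
      simp only [LinearMap.comp_apply, rho_apply, QuadraticMap.polar_sub_right, QuadraticMap.polar_smul_right,
        h', h'', smul_zero, sub_zero]
      module
    have hsign : ∀ h : V →ₗ[F] V, (h = LinearMap.id ∨ h = rho Q (u' i₀) ∨ h = rho Q (u' i₁) ∨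
        h = rho Q (u' i₀) ∘ₗ rho Q (u' i₁)) →
        ∀ i, h (u i) = u i ∧ ∃ e : F, e * e = 1 ∧ h (u' i) = e • u' i := by
      intro h hh i
      have f0 := rho_orth (hau i).1
      have f1 := rho_orth (hau i).2
      have g : ∀ j, ∃ e : F, e * e = 1 ∧ rho Q (u' j) (u' i) = e • u' i := fun j => by
        rcases eq_or_ne i j with rfl | hij
        · exact ⟨-1, by ring, by rw [rho_self (hne _).2, neg_one_smul]⟩
        · exact ⟨1, one_mul 1, by rw [hfix j i hij, one_smul]⟩
      obtain ⟨e0, s0, he0⟩ := g i₀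
      obtain ⟨e1, s1, he1⟩ := g i₁
      rcases hh with rfl | rfl | rfl | rfl
      · exact ⟨rfl, 1, one_mul 1, (one_smul F _).symm⟩
      · exact ⟨f0, e0, s0, he0⟩
      · exact ⟨f1, e1, s1, he1⟩
      · exact ⟨by rw [LinearMap.comp_apply, f1, f0], e1 * e0, by linear_combination e1 * e1 * s0 + s1, by
          rw [LinearMap.comp_apply, he1, map_smul, he0, smul_smul]⟩
    rcases hcase with hs | ⟨hs, hQ⟩
    · refine ⟨1, Or.inl rfl, hD, ha, hb, hcommρ, fun h hh v => ?_⟩
      rw [one_smul]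
      refine (hcomm (h ∘ₗ T ∘ₗ h)).1 (fun i => ?_) v
      obtain ⟨σ, hu, hu'⟩ := hs i
      obtain ⟨hfu, e, he, hfu'⟩ := hsign h hh i
      refine ⟨σ, by simp [hfu, hu], ?_⟩
      simp only [LinearMap.comp_apply, hfu', map_smul, hu', smul_smul]
      congr 1
      linear_combination σ * he
    · refine ⟨-1, Or.inr rfl, hD, ha, hb, hcommρ, fun h hh v => ?_⟩
      rw [neg_one_smul]
      refine (hcomm (h ∘ₗ T ∘ₗ h)).2 (fun i => ?_) hQ v
      obtain ⟨hfu, e, he, hfu'⟩ := hsign h hh i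
      refine ⟨e, by simp [hfu, (hs i).1, hfu'], ?_⟩
      simp [hfu, hfu', (hs i).2]
  rcases mul_self_eq_one_iff.1 hzz with rfl | rfl
  · -- an involution
    have hT' : ∀ v, T (T v) = v := fun v => by rw [hT, one_smul]
    set Vp := LinearMap.ker (T - LinearMap.id)
    set Vm := LinearMap.ker (T + LinearMap.id)
    have hp : ∀ x, x ∈ Vp ↔ T x = x := fun x => by simp [Vp, sub_eq_zero]
    have hm : ∀ x, x ∈ Vm ↔ T x = -x := fun x => by simp [Vm, eq_neg_iff_add_eq_zero]
    have horth : ∀ x ∈ Vp, ∀ y ∈ Vm, B x y = 0 := fun x hx y hy => by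
      have h := hBT x y
      rw [(hp x).1 hx, (hm y).1 hy, map_neg] at h
      exact (mul_eq_zero.1 (show (2 : F) * B x y = 0 by linear_combination -h)).resolve_left h2
    have hsum : ∀ x, ∃ p ∈ Vp, ∃ q ∈ Vm, p + q = x := fun x =>
      ⟨(2 : F)⁻¹ • (x + T x), (hp _).2 (by simp [hT', add_comm]), (2 : F)⁻¹ • (x - T x), (hm _).2 (by simp [hT', ← smul_neg]),
        by rw [← smul_add, show x + T x + (x - T x) = (2 : F) • x by rw [two_smul]; abel, smul_smul,
          inv_mul_cancel₀ h2, one_smul]⟩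
    have hnp : ∀ x ∈ Vp, (∀ y ∈ Vp, B x y = 0) → x = 0 := fun x hx h => hnd x fun y => by
      obtain ⟨p, hp', q, hq, rfl⟩ := hsum y
      rw [map_add, h p hp', horth x hx q hq, add_zero]
    have hnm : ∀ x ∈ Vm, (∀ y ∈ Vm, B x y = 0) → x = 0 := fun x hx h => hnd x fun y => by
      obtain ⟨p, hp', q, hq, rfl⟩ := hsum y
      rw [map_add, h q hq, hsym x p, horth p hp' x hx, add_zero]
    have hdsum : finrank F Vp + finrank F Vm = 2 * d := by
      rw [← hdim, ← Submodule.finrank_add_eq_of_isCompl (U := Vp) (W := Vm)]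
      constructor
      · rw [disjoint_iff, eq_bot_iff]
        rintro x ⟨h1, h1'⟩
        refine hnd x fun y => ?_
        obtain ⟨p, hp', q, hq, rfl⟩ := hsum y
        rw [map_add, horth x h1 q hq, hsym x p, horth p hp' x h1', add_zero]
      · rw [codisjoint_iff, eq_top_iff]
        intro x _
        obtain ⟨p, hp', q, hq, rfl⟩ := hsum x
        exact Submodule.add_mem_sup hp' hq
    have hev : Even (finrank F Vm) := even_finrank_neg h2 hT' hdet
    have hevp : Even (finrank F Vp) := by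
      obtain ⟨k, hk⟩ := hev
      exact ⟨d - k, by omega⟩
    let R : F → V → V → Prop := fun σ u u' => T u = σ • u ∧ T u' = σ • u'
    have hpairs : ∀ (σ : F) (W₀ : Submodule F V), (∀ x ∈ W₀, T x = σ • x) →
        (∀ x ∈ W₀, (∀ y ∈ W₀, B x y = 0) → x = 0) → Even (finrank F W₀) → ∀ c : F, c ≠ 0 →
        ∃ (m : ℕ) (u u' : Fin m → V), finrank F W₀ = 2 * m ∧ Pairs Q W₀ (R σ) u u' ∧
          ∀ i : Fin m, Q (u' i) = c := by
      intro σ W₀ hσ hW hev c hc
      refine exists_pairs h2 hT hBT (R σ) (fun u u' hr => ⟨?_, ?_⟩) W₀ ?_ W₀ le_rfl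
        (fun x hx => by rw [hσ x hx]; exact W₀.smul_mem _ hx) hW hev (fun _ => c) fun _ => hc
      · rw [hr.1]; exact Submodule.smul_mem _ _ (Submodule.subset_span (by simp))
      · rw [hr.2]; exact Submodule.smul_mem _ _ (Submodule.subset_span (by simp))
      · intro W hW0 _ hnW hdW c hc
        obtain ⟨u', hu', hQu'⟩ := exists_value h2 hnW hdW c
        obtain ⟨hn1, hf1, -⟩ := split h2 hnW hu' (hQu' ▸ hc)
        obtain ⟨u, hu, hQu⟩ := exists_anisotropic h2 hn1 (by omega)
        exact ⟨u, u', hu.1, hu', hQu, hQu', by rw [hsym]; exact hu.2, hσ u (hW0 hu.1), hσ u' (hW0 hu')⟩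
    obtain ⟨m₁, u₁, u₁', hm₁, hP₁, hv₁⟩ := hpairs 1 Vp (fun x hx => by rw [(hp x).1 hx, one_smul]) hnp hevp 1 one_ne_zero
    obtain ⟨m₂, u₂, u₂', hm₂, hP₂, hv₂⟩ := hpairs (-1) Vm (fun x hx => by rw [(hm x).1 hx, neg_one_smul]) hnm hev ν hν
    have hpos₁ : 0 < m₁ := by
      by_contra h0
      obtain ⟨v, hv⟩ := hns (-1)
      refine hv ?_
      obtain ⟨p, hp', q, hq, rfl⟩ := hsum v
      have : p = 0 := by
        have hbot : Vp = ⊥ := Submodule.finrank_eq_zero.1 (by omega)
        rw [hbot, Submodule.mem_bot] at hp'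
        exact hp'
      rw [this, zero_add, (hm q).1 hq, neg_one_smul]
    have hpos₂ : 0 < m₂ := by
      by_contra h0
      obtain ⟨v, hv⟩ := hns 1
      refine hv ?_
      obtain ⟨p, hp', q, hq, rfl⟩ := hsum v
      have : q = 0 := by
        have hbot : Vm = ⊥ := Submodule.finrank_eq_zero.1 (by omega)
        rw [hbot, Submodule.mem_bot] at hq
        exact hq
      rw [this, add_zero, (hp p).1 hp', one_smul]
    have hm1 : ∀ (i : Fin m₁) (c : Fin 2), ![u₁ i, u₁' i] c ∈ Vp := fun i c =>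
      hP₁.span_eq ▸ Submodule.subset_span ⟨(c, i), rfl⟩
    have hm2 : ∀ (i : Fin m₂) (c : Fin 2), ![u₂ i, u₂' i] c ∈ Vm := fun i c =>
      hP₂.span_eq ▸ Submodule.subset_span ⟨(c, i), rfl⟩
    refine ⟨Fin m₁ ⊕ Fin m₂, inferInstance, inferInstance, Sum.elim u₁ u₂, Sum.elim u₁' u₂', Sum.inl ⟨0, hpos₁⟩,
      Sum.inr ⟨0, hpos₂⟩, Sum.inl_ne_inr, ?_, ?_, ?_, ?_, hv₁ _, hv₂ _, Or.inl ?_⟩
    · rw [eq_top_iff]
      intro x _
      obtain ⟨p, hp', q, hq, rfl⟩ := hsum x
      refine add_mem (Submodule.span_mono ?_ (hP₁.span_eq.symm ▸ hp')) (Submodule.span_mono ?_ (hP₂.span_eq.symm ▸ hq))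
      · rintro _ ⟨⟨c, i⟩, rfl⟩; exact ⟨(Sum.inl i, c), rfl⟩
      · rintro _ ⟨⟨c, i⟩, rfl⟩; exact ⟨(Sum.inr i, c), rfl⟩
    · rintro (i | i) (j | j) hij c c'
      · exact hP₁.orth i j (fun h => hij (by rw [h])) c c'
      · exact horth _ (hm1 i c) _ (hm2 j c')
      · rw [hsym]; exact horth _ (hm1 j c') _ (hm2 i c)
      · exact hP₂.orth i j (fun h => hij (by rw [h])) c c'
    · rintro (i | i)
      exacts [hP₁.pair i, hP₂.pair i]
    · rintro (i | i)
      exacts [hP₁.ne i, hP₂.ne i]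
    · rintro (i | i)
      exacts [⟨1, hP₁.rel i⟩, ⟨-1, hP₂.rel i⟩]
  · -- a complex structure
    have hskew : ∀ x, B x (T x) = 0 := fun x => by
      have h := hBT x (T x)
      rw [hT, neg_one_smul, map_neg, hsym] at h
      exact (mul_eq_zero.1 (show (2 : F) * B x (T x) = 0 by linear_combination -h)).resolve_left h2
    let R : V → V → Prop := fun u u' => T u = u' ∧ T u' = -u ∧ Q u = Q u'
    have hR : ∀ u u', R u u' → T u ∈ Submodule.span F {u, u'} ∧ T u' ∈ Submodule.span F {u, u'} := fun u u' hr =>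
      ⟨by rw [hr.1]; exact Submodule.subset_span (by simp),
        by rw [hr.2.1]; exact Submodule.neg_mem _ (Submodule.subset_span (by simp))⟩
    obtain ⟨m, u, u', hm, hP, hval⟩ := exists_pairs h2 hT hBT R hR ⊤
      (fun W _ hTW hnW hdW c hc => by
        obtain ⟨u, hu, hQu⟩ := exists_value h2 hnW hdW c
        exact ⟨u, T u, hu, hTW u hu, hQu ▸ hc, by rw [hiso, hQu], hskew u, rfl, by rw [hT, neg_one_smul],
          (hiso u).symm⟩)
      ⊤ le_rfl (fun _ _ => trivial) (fun x _ h => hnd x fun y => h y trivial)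
      (by rw [finrank_top, hdim]; exact even_two_mul d) (fun i => if i = 0 then 1 else ν)
      (fun i => by split_ifs <;> [exact one_ne_zero; exact hν])
    · rw [finrank_top, hdim] at hm
      refine ⟨Fin m, inferInstance, inferInstance, u, u', ⟨0, by omega⟩, ⟨1, by omega⟩, by simp, ?_, hP.orth,
        hP.pair, hP.ne, by rw [hval]; rfl, by rw [hval]; rfl, Or.inr ⟨fun i => ⟨(hP.rel i).1, (hP.rel i).2.1⟩,
          fun i => (hP.rel i).2.2⟩⟩
      rw [← hP.span_eq]
      congr 1
      ext x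
      constructor
      · rintro ⟨⟨i, c⟩, rfl⟩; exact ⟨(c, i), rfl⟩
      · rintro ⟨⟨c, i⟩, rfl⟩; exact ⟨(i, c), rfl⟩

end CfsgLib.LinFix.OrthCompat
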