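import Mathlib
import Cfsg.Prelude.Def_GeometricClasses
import Cfsg.Agent.Lib.Orth.Spinor
import Cfsg.Agent.Lib.FormsDisc.Basic

/-!
The cosets of the commutator subgroup in an orthogonal group, reached by two orthogonal reflections.
-/

set_option autoImplicit false

namespace CfsgLib.LinFix.OrthCoset

open Matrix Cfsg CfsgLib.OrthSpinor
open QuadraticMap (polar)

variable {ι : Type} [Fintype ι] [DecidableEq ι] {F : Type*} [Field F]
variable {Q : QuadraticForm F (ι → F)}

/-- Elements of `Ω` have determinant one. -/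
theorem det_of_mem (g : ↥(isometryGroup F ⇑Q)) (hg : g ∈ Omega F ⇑Q) :
    (((g : GL ι F)) : Matrix ι ι F).det = 1 := by
  have h : detHom g = 1 := MonoidHom.mem_ker.1 (Abelianization.commutator_subset_ker detHom hg)
  rw [← detHom_coe, h, Units.val_one]

variable [Fintype F] (h2 : (2 : F) ≠ 0) (hQ : (QuadraticMap.polarBilin Q).Nondegenerate)

include h2

omit [Fintype F] in
theorem refl_same_class {v a : ι → F} (hv : Q v ≠ 0) (ha : Q a ≠ 0) (h : IsSquare (Q a * Q v)) :
    Abelianization.of (reflection hv) = Abelianization.of (reflection ha) := by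
  obtain ⟨s, hs⟩ := h
  have hs0 : s ≠ 0 := fun h0 => mul_ne_zero ha hv (by rw [hs, h0, mul_zero])
  have ht : s / Q v ≠ 0 := div_ne_zero hs0 hv
  have hw : Q ((s / Q v) • v) ≠ 0 := by simp [OrthSpinor.map_smul', ht, hv]
  have hval : Q ((s / Q v) • v) = Q a := by rw [OrthSpinor.map_smul']; field_simp; linear_combination -hs
  obtain ⟨g, hg⟩ := reflection_conjugate h2 hw ha hval
  rw [← hg, reflection_smul hv ht, map_mul, map_mul, map_inv, mul_comm (Abelianization.of g),
    mul_inv_cancel_right]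

omit [Fintype F] h2 in
theorem refl_sq {v : ι → F} (hv : Q v ≠ 0) :
    Abelianization.of (reflection hv) * Abelianization.of (reflection hv) = 1 := by
  rw [← map_mul, reflection_mul_self, map_one]

include hQ

/-- Every coset of `Ω` contains a product of two given reflections of different classes. -/
theorem exists_mul_mem {a b : ι → F} (ha : Q a = 1) {ν : F} (hν : ¬ IsSquare ν) (hb : Q b = ν)
    (g : ↥(isometryGroup F ⇑Q)) :
    ∃ h : ↥(isometryGroup F ⇑Q), h * g ∈ Omega F ⇑Q ∧
      (h = 1 ∨ h = reflection (Q := Q) (v := a) (ha ▸ one_ne_zero) ∨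
        h = reflection (Q := Q) (v := b) (hb ▸ fun h0 => hν (h0 ▸ ⟨0, (mul_zero 0).symm⟩)) ∨
        h = reflection (Q := Q) (v := a) (ha ▸ one_ne_zero) *
          reflection (Q := Q) (v := b) (hb ▸ fun h0 => hν (h0 ▸ ⟨0, (mul_zero 0).symm⟩))) := by
  classical
  have ha0 : Q a ≠ 0 := ha ▸ one_ne_zero
  have hb0 : Q b ≠ 0 := hb ▸ fun h0 => hν (h0 ▸ ⟨0, (mul_zero 0).symm⟩)
  set ra := reflection ha0
  set rb := reflection hb0
  set A := Abelianization.of ra
  set B := Abelianization.of rb
  have key : ∀ g : ↥(isometryGroup F ⇑Q), ∃ i j : ℕ, Abelianization.of g = A ^ i * B ^ j := by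
    intro g
    have hmem : g ∈ Subgroup.closure (reflections (Q := Q)) := (closure_reflections h2 hQ).symm ▸ trivial
    induction hmem using Subgroup.closure_induction with
    | mem x hx =>
      obtain ⟨v, hv, rfl⟩ := hx
      by_cases hsq : IsSquare (Q v)
      · exact ⟨1, 0, by rw [pow_one, pow_zero, mul_one, refl_same_class h2 hv ha0 (by rwa [ha, one_mul])]⟩
      · refine ⟨0, 1, ?_⟩
        rw [pow_one, pow_zero, one_mul, refl_same_class h2 hv hb0
          ((CfsgLib.FormsDisc.isSquare_mul_iff_of_odd h2 hb0 hv).2 (by simp [hb, hν, hsq]))]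
    | one => exact ⟨0, 0, by simp⟩
    | mul x y _ _ hx hy =>
      obtain ⟨i, j, e⟩ := hx
      obtain ⟨i', j', e'⟩ := hy
      exact ⟨i + i', j + j', by rw [map_mul, e, e', pow_add, pow_add, mul_mul_mul_comm]⟩
    | inv x _ hx =>
      obtain ⟨i, j, e⟩ := hx
      refine ⟨i, j, ?_⟩
      rw [map_inv, e, inv_eq_iff_mul_eq_one, mul_mul_mul_comm, ← mul_pow, ← mul_pow, refl_sq ha0, refl_sq hb0,
        one_pow, one_pow, one_mul]
  obtain ⟨i, j, e⟩ := key g
  have hA2 : A * A = 1 := refl_sq ha0
  have hB2 : B * B = 1 := refl_sq hb0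
  have hred : ∀ (X : Abelianization ↥(isometryGroup F ⇑Q)) (n : ℕ), X * X = 1 → X ^ n = X ^ (n % 2) :=
    fun X n hX => by
      conv_lhs => rw [← Nat.div_add_mod n 2, pow_add, pow_mul, pow_two, hX, one_pow, one_mul]
  rw [hred A i hA2, hred B j hB2] at e
  have hker : ∀ x : ↥(isometryGroup F ⇑Q), Abelianization.of x = 1 → x ∈ Omega F ⇑Q := fun x hx => by
    show x ∈ commutator _; rw [← Abelianization.ker_of]; exact hx
  rcases Nat.mod_two_eq_zero_or_one i with hi | hi <;> rcases Nat.mod_two_eq_zero_or_one j with hj | hj <;>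
    rw [hi, hj] at e <;> simp only [pow_zero, pow_one, one_mul, mul_one] at e
  · exact ⟨1, hker _ (by rw [one_mul, e]), Or.inl rfl⟩
  · exact ⟨rb, hker _ (by rw [map_mul, e]; exact hB2), Or.inr (Or.inr (Or.inl rfl))⟩
  · exact ⟨ra, hker _ (by rw [map_mul, e]; exact hA2), Or.inr (Or.inl rfl)⟩
  · exact ⟨ra * rb, hker _ (by rw [map_mul, map_mul, e, mul_mul_mul_comm, hA2, hB2, one_mul]),
      Or.inr (Or.inr (Or.inr rfl))⟩

omit [Fintype F] in
/-- An isometry of odd order lies in `Ω`. -/
theorem mem_of_odd_pow {g : ↥(isometryGroup F ⇑Q)} {r : ℕ} (hr : Odd r) (hg : g ^ r = 1) : g ∈ Omega F ⇑Q := by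
  have hsq : ∀ g : ↥(isometryGroup F ⇑Q), Abelianization.of g * Abelianization.of g = 1 := by
    intro g
    have hmem : g ∈ Subgroup.closure (reflections (Q := Q)) := (closure_reflections h2 hQ).symm ▸ trivial
    induction hmem using Subgroup.closure_induction with
    | mem x hx => obtain ⟨v, hv, rfl⟩ := hx; exact refl_sq hv
    | one => simp
    | mul x y _ _ hx hy => rw [map_mul, mul_mul_mul_comm, hx, hy, one_mul]
    | inv x _ hx => rw [map_inv, ← mul_inv, hx, inv_one]
  show g ∈ commutator _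
  rw [← Abelianization.ker_of, MonoidHom.mem_ker]
  obtain ⟨m, rfl⟩ := hr
  have h := congrArg Abelianization.of hg
  rwa [map_pow, map_one, pow_succ, pow_mul, pow_two, hsq, one_pow, one_mul] at h

end CfsgLib.LinFix.OrthCoset
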