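import Mathlib
import Cfsg.Agent.Lib.LinFix.OrthInvModel

/-!
# Elements of odd order prime to the characteristic fixing an odd-dimensional non-degenerate subspace
-/

set_option autoImplicit false

namespace CfsgLib.OrthInv

open Module QuadraticMap
open CfsgLib.Classical.Quad (NDPolar)
open CfsgLib.RootCount (IsPlus)
open CfsgLib.LinFix (Inv)

variable {F : Type*} [Field F] [Fintype F] {V : Type*} [AddCommGroup V] [Module F V] [FiniteDimensional F V]
  {Q : QuadraticForm F V}

omit [Fintype F] [FiniteDimensional F V] in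
theorem Iso.symm {W W' : Submodule F V} (h : Iso Q W W') : Iso Q W' W := by
  obtain ⟨e, he⟩ := h
  exact ⟨e.symm, fun w => by rw [← he (e.symm w), LinearEquiv.apply_symm_apply]⟩

omit [Fintype F] in
theorem Iso.finrank_eq {W W' : Submodule F V} (h : Iso Q W W') : finrank F W = finrank F W' := by
  obtain ⟨e, -⟩ := h
  exact e.finrank_eq

omit [Fintype F] in
/-- Isometries of orthogonal summands combine. -/
theorem Iso.sup {A A' B B' : Submodule F V} (hA : Iso Q A A') (hB : Iso Q B B') (hd : Disjoint A B)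
    (hd' : Disjoint A' B') (ho : ∀ a ∈ A, ∀ b ∈ B, polar Q a b = 0)
    (ho' : ∀ a ∈ A', ∀ b ∈ B', polar Q a b = 0) : Iso Q (A ⊔ B) (A' ⊔ B') := by
  obtain ⟨eA, hA⟩ := hA
  obtain ⟨eB, hB⟩ := hB
  have key : ∀ (X Y : Submodule F V), Disjoint X Y →
      ∃ φ : (X × Y) ≃ₗ[F] ↥(X ⊔ Y), ∀ p, ((φ p : ↥(X ⊔ Y)) : V) = (p.1 : V) + (p.2 : V) := by
    intro X Y hXY
    let f : (X × Y) →ₗ[F] ↥(X ⊔ Y) :=
      (Submodule.inclusion le_sup_left).coprod (Submodule.inclusion le_sup_right)
    refine ⟨LinearEquiv.ofBijective f ⟨?_, ?_⟩, fun p => rfl⟩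
    · refine (injective_iff_map_eq_zero _).2 fun p hp => ?_
      have h0 : (p.1 : V) + (p.2 : V) = 0 := congrArg Subtype.val hp
      have h1 : (p.1 : V) = 0 := (Submodule.disjoint_def.1 hXY) _ p.1.2 (by
        rw [eq_neg_of_add_eq_zero_left h0]; exact Y.neg_mem p.2.2)
      rw [h1, zero_add] at h0
      exact Prod.ext (Subtype.ext h1) (Subtype.ext h0)
    · rintro ⟨v, hv⟩
      obtain ⟨x, hx, y, hy, rfl⟩ := Submodule.mem_sup.1 hv
      exact ⟨(⟨x, hx⟩, ⟨y, hy⟩), Subtype.ext rfl⟩
  obtain ⟨φ, hφ⟩ := key A B hd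
  obtain ⟨φ', hφ'⟩ := key A' B' hd'
  refine ⟨φ.symm.trans ((eA.prodCongr eB).trans φ'), fun w => ?_⟩
  obtain ⟨⟨a, b⟩, rfl⟩ := φ.surjective w
  simp only [LinearEquiv.trans_apply, LinearEquiv.symm_apply_apply, LinearEquiv.prodCongr_apply, hφ, hφ']
  rw [QuadraticMap.map_add (⇑Q), QuadraticMap.map_add (⇑Q), hA, hB, ho _ a.2 _ b.2,
    ho' _ (eA a).2 _ (eB b).2]

/-- An odd-dimensional space contains every smaller even-dimensional space. -/
theorem exists_iso_even_sub (h2 : (2 : F) ≠ 0) {A W₀ : Submodule F V} (hA : Nd Q A) (hW₀ : Nd Q W₀) {a k : ℕ}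
    (hAdim : finrank F A = 2 * a) (hWdim : finrank F W₀ = 2 * k + 1) (hak : a ≤ k) :
    ∃ A' ≤ W₀, Iso Q A A' := by
  classical
  obtain ⟨dd, hd0, E, hE⟩ := CfsgLib.RootCount.classify_odd h2 (Q.comp W₀.subtype) (ndPolar_comp hW₀) hWdim
  have hν' : ∃ ν : F, ¬ IsSquare ν :=
    FiniteField.exists_nonsquare (fun h => h2 (by
      haveI := ringChar.eq_iff.1 h
      exact CharTwo.two_eq_zero))
  obtain ⟨ν, hν⟩ := hν'
  have hac : CfsgLib.RootCount.Aniso 0 (-ν) := by
    intro z₁ z₂ h
    by_cases hz : z₂ = 0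
    · subst hz
      exact ⟨pow_eq_zero_iff two_ne_zero |>.1 (by linear_combination h), rfl⟩
    · exact absurd ⟨z₁ / z₂, by field_simp; linear_combination -h⟩ hν
  have hQ' : NDPolar (dd⁻¹ • Q.comp A.subtype) := fun x hx => ndPolar_comp hA x fun y => by
    have h := hx y
    rw [QuadraticMap.coeFn_smul, QuadraticMap.polar_smul, smul_eq_mul] at h
    exact (mul_eq_zero.1 h).resolve_left (inv_ne_zero hd0)
  suffices key : ∃ G : A →ₗ[F] (Unit ⊕ (Fin k ⊕ Fin k) → F), Function.Injective G ∧
      ∀ x : A, dd * CfsgLib.OrthCrit.oddForm k F (G x) = Q (x : V) by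
    obtain ⟨G, hG, hGQ⟩ := key
    let J : A →ₗ[F] V := W₀.subtype.comp (E.toLinearMap.comp G)
    have hJ : Function.Injective J := W₀.subtype_injective.comp (E.injective.comp hG)
    refine ⟨LinearMap.range J, by rintro _ ⟨x, rfl⟩; exact Submodule.coe_mem _,
      LinearEquiv.ofInjective J hJ, fun x => ?_⟩
    exact (hE (G x)).trans (hGQ x)
  have hscale : ∀ x : A, Q (x : V) = dd * (dd⁻¹ • Q.comp A.subtype) x := fun x => by
    simp [hd0]
  rcases CfsgLib.RootCount.classify_even (dd⁻¹ • Q.comp A.subtype) hQ' hAdim hac with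
    ⟨-, G, hG⟩ | ⟨-, a', rfl, G, hG⟩
  · let g : (Fin a ⊕ Fin a → F) →ₗ[F] (Unit ⊕ (Fin k ⊕ Fin k) → F) :=
      ∑ j : Fin a, ((LinearMap.proj (Sum.inl j)).smulRight (Pi.single (Sum.inr (Sum.inl (Fin.castLE hak j))) 1) +
        (LinearMap.proj (Sum.inr j)).smulRight (Pi.single (Sum.inr (Sum.inr (Fin.castLE hak j))) 1))
    have hx : ∀ v l, g v (Sum.inr (Sum.inl l)) = ∑ j, if l = Fin.castLE hak j then v (Sum.inl j) else 0 := fun v l => by
      simp [g, Pi.single_apply, Finset.sum_apply]
    have hy : ∀ v l, g v (Sum.inr (Sum.inr l)) = ∑ j, if l = Fin.castLE hak j then v (Sum.inr j) else 0 := fun v l => by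
      simp [g, Pi.single_apply, Finset.sum_apply]
    have h0 : ∀ v, g v (Sum.inl ()) = 0 := fun v => by simp [g, Pi.single_apply, Finset.sum_apply]
    have hinj : Function.Injective g := (injective_iff_map_eq_zero _).2 fun v hv => by
      funext x
      rcases x with j | j
      · simpa [hv] using (hx v (Fin.castLE hak j)).symm
      · simpa [hv] using (hy v (Fin.castLE hak j)).symm
    refine ⟨g.comp G.symm.toLinearMap, hinj.comp G.symm.injective, fun x => ?_⟩
    obtain ⟨v, rfl⟩ := G.surjective x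
    rw [hscale, hG, LinearMap.comp_apply, LinearEquiv.coe_coe, LinearEquiv.symm_apply_apply]
    change dd * Cfsg.quadFormOdd k F (g v) = dd * Cfsg.quadFormPlus a F v
    simp only [Cfsg.quadFormPlus, Cfsg.quadFormOdd, h0]
    have hterm : ∀ l, g v (Sum.inr (Sum.inl l)) * g v (Sum.inr (Sum.inr l)) =
        ∑ j, if l = Fin.castLE hak j then v (Sum.inl j) * v (Sum.inr j) else 0 := fun l => by
      rw [hx, hy]
      by_cases hl : ∃ j, l = Fin.castLE hak j
      · obtain ⟨j, rfl⟩ := hl
        simp [(Fin.castLE_injective hak).eq_iff]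
      · push Not at hl
        simp [hl]
    rw [Finset.sum_congr rfl fun l _ => hterm l, Finset.sum_comm]
    simp
  · let z : Fin k := ⟨a', by omega⟩
    let emb : Fin a' → Fin k := Fin.castLE (by omega)
    have hembi : Function.Injective emb := Fin.castLE_injective _
    have hemb : ∀ j, emb j ≠ z := fun j hj => by
      have := congrArg Fin.val hj; simp [emb, z] at this; omega
    let g : ((Fin a' ⊕ Fin a') ⊕ Fin 2 → F) →ₗ[F] (Unit ⊕ (Fin k ⊕ Fin k) → F) :=
      (LinearMap.proj (Sum.inr 0)).smulRight (Pi.single (Sum.inl ()) 1) +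
      (LinearMap.proj (R := F) (φ := fun _ : (Fin a' ⊕ Fin a') ⊕ Fin 2 => F) (Sum.inr 1)).smulRight
        (Pi.single (Sum.inr (Sum.inl z)) 1 + Pi.single (Sum.inr (Sum.inr z)) (-ν)) +
      ∑ j : Fin a', ((LinearMap.proj (Sum.inl (Sum.inl j))).smulRight (Pi.single (Sum.inr (Sum.inl (emb j))) 1) +
        (LinearMap.proj (Sum.inl (Sum.inr j))).smulRight (Pi.single (Sum.inr (Sum.inr (emb j))) 1))
    have hx : ∀ v l, g v (Sum.inr (Sum.inl l)) = (if l = z then v (Sum.inr 1) else 0) +
        ∑ j, if l = emb j then v (Sum.inl (Sum.inl j)) else 0 := fun v l => by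
      simp [g, Pi.single_apply, Finset.sum_apply]
    have hy : ∀ v l, g v (Sum.inr (Sum.inr l)) = (if l = z then -ν * v (Sum.inr 1) else 0) +
        ∑ j, if l = emb j then v (Sum.inl (Sum.inr j)) else 0 := fun v l => by
      simp [g, Pi.single_apply, Finset.sum_apply, mul_comm]
    have h0 : ∀ v, g v (Sum.inl ()) = v (Sum.inr 0) := fun v => by simp [g, Pi.single_apply, Finset.sum_apply]
    have hinj : Function.Injective g := (injective_iff_map_eq_zero _).2 fun v hv => by
      funext x
      rcases x with (j | j) | j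
      · simpa [hv, hemb j, hembi.eq_iff] using (hx v (emb j)).symm
      · simpa [hv, hemb j, hembi.eq_iff] using (hy v (emb j)).symm
      · fin_cases j
        · simpa [hv] using (h0 v).symm
        · simpa [hv, fun j => (hemb j).symm] using (hx v z).symm
    refine ⟨g.comp G.symm.toLinearMap, hinj.comp G.symm.injective, fun x => ?_⟩
    obtain ⟨v, rfl⟩ := G.surjective x
    rw [hscale, hG, LinearMap.comp_apply, LinearEquiv.coe_coe, LinearEquiv.symm_apply_apply]
    change dd * Cfsg.quadFormOdd k F (g v) = dd * Cfsg.quadFormMinus a' F 0 (-ν) v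
    simp only [Cfsg.quadFormMinus, Cfsg.quadFormOdd, h0]
    have hterm : ∀ l, g v (Sum.inr (Sum.inl l)) * g v (Sum.inr (Sum.inr l)) =
        (if l = z then -ν * v (Sum.inr 1) ^ 2 else 0) +
          ∑ j, if l = emb j then v (Sum.inl (Sum.inl j)) * v (Sum.inl (Sum.inr j)) else 0 := fun l => by
      rw [hx, hy]
      by_cases hl : l = z
      · subst hl
        simp [fun j => (hemb j).symm]; ring
      · simp only [if_neg hl, zero_add]
        by_cases hl' : ∃ j, l = emb j
        · obtain ⟨j, rfl⟩ := hl'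
          simp [hembi.eq_iff]
        · push Not at hl'
          simp [hl']
    rw [Finset.sum_congr rfl fun l _ => hterm l, Finset.sum_add_distrib, Finset.sum_ite_eq', Finset.sum_comm]
    simp only [Finset.sum_ite_eq', Finset.mem_univ, if_true]
    ring

/-- Non-degenerate subspaces of dimension `m` isometric to `W₀`. -/
def Good (Q : QuadraticForm F V) (W₀ : Submodule F V) (m : ℕ) (W : Submodule F V) : Prop :=
  finrank F W = m ∧ Nd Q W ∧ Iso Q W W₀

theorem even_mod_iff' {c n : ℕ} (hc : Even c) : Even (n % c) ↔ Even n := by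
  rw [Nat.even_iff, Nat.even_iff, Nat.mod_mod_of_dvd _ hc.two_dvd]

variable {r : ℕ} [Fact r.Prime] {i : ℕ}

omit [FiniteDimensional F V] in
theorem eq_one_of_scalar {T : Module.End F V} {s : F} (hr : Odd r) (hiso : ∀ v, Q (T v) = Q v) (hT : T ^ r = 1)
    (hs : T = s • 1) (hne : ∃ v, Q v ≠ 0) : T = 1 := by
  obtain ⟨v, hv⟩ := hne
  have h1 : s * s = 1 := by
    have h := hiso v
    rw [hs, LinearMap.smul_apply, Module.End.one_apply, QuadraticMap.map_smul, smul_eq_mul] at h
    exact mul_right_cancel₀ hv (h.trans (one_mul _).symm)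
  obtain ⟨j, rfl⟩ := hr
  rw [hs, smul_pow, one_pow, pow_succ, pow_mul, pow_two, h1, one_pow, one_mul] at hT
  rw [hs, hT]

/-- The criterion for elements of odd order prime to the characteristic. -/
theorem fixes_iff_odd {p : ℕ} [Fact p.Prime] [CharP F p] (h2 : (2 : F) ≠ 0) (hrp : r ≠ p) (hr2 : r ≠ 2)
    (hi : orderOf (Fintype.card F : ZMod r) = i) (hQ : NDPolar Q) {d m : ℕ} (hdim : finrank F V = 2 * d)
    (hm : Odd m) (hmd : m < d) {W₀ : Submodule F V} (hW₀ : Nd Q W₀) (hW₀m : finrank F W₀ = m)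
    (hrΩ : r ∣ Nat.card {W : Submodule F V // Good Q W₀ m W}) :
    (∀ T : Module.End F V, (∀ v, Q (T v) = Q v) → T ^ r = 1 → T ≠ 1 → ∃ W, Good Q W₀ m W ∧ Inv T W) ↔
      ((2 * d % per i = 0 ∧ ¬(IsPlus Q ↔ (Odd i ∨ Even (2 * d / i)))) ∨
        (per i ≤ m ∧ m % per i < 2 * d % per i)) := by
  have hord := CfsgLib.LinFix.orderOf_pos_of_ne (F := F) (p := p) hrp
  rw [hi] at hord
  have hrF : (r : F) ≠ 0 := CfsgLib.LinFix.natCast_ne_zero_of_ne (p := p) hrp
  have hc := per_pos hord
  obtain ⟨mh, hmh⟩ := hm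
  have hcev : Even (per i) := per_even
  constructor
  · intro hall
    by_contra hcond
    rw [not_or] at hcond
    set k := 2 * d % per i with hk
    -- an element with the smallest possible fixed space
    obtain ⟨T, hiso, hT, hker⟩ := exists_element (p := p) hrp hr2 hi hQ hdim (N := 2 * d / per i)
      (Nat.div_mul_le_self _ _) (fun heq => by
        by_contra hne
        refine hcond.1 ⟨?_, hne⟩
        have := Nat.div_add_mod (2 * d) (per i)
        rw [mul_comm] at this
        omega)
    set C := LinearMap.ker (T - 1) with hC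
    have hCk : finrank F C = k := by
      have := Nat.div_add_mod (2 * d) (per i)
      rw [mul_comm] at this
      omega
    have hCn : Nd Q C := by
      simpa [hC] using (nd_parts hrF hT hiso (CfsgLib.LinFix.inv_top T) (nd_top hQ)).1
    have hsplit : ∀ W, Inv T W → Nd Q W → finrank F W = m →
        ∃ j, finrank F ↥(W ⊓ C) + j * per i = m ∧ (j = 0 → W ≤ C) := by
      intro W hW hWn hWm
      obtain ⟨j, hj⟩ := per_dvd hi hord hr2 hrF hiso hT (D := W ⊓ LinearMap.range (T - 1))
        (hW.inf (inv_range T)) (nd_parts hrF hT hiso hW hWn).2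
        ((disjoint_fix_range hrF hT).symm.mono_left inf_le_right)
      have h := finrank_split hrF hT hW
      refine ⟨j, by rw [mul_comm, ← hj, hC]; omega, fun hj0 => ?_⟩
      have h0 : finrank F ↥(W ⊓ LinearMap.range (T - 1)) = 0 := by rw [hj, hj0, mul_zero]
      rw [← sup_split hrF hT hW, Submodule.finrank_eq_zero.1 h0, sup_bot_eq]
      exact inf_le_right
    by_cases hsmall : m < per i ∧ m < k
    · -- the fixed subspaces lie in the fixed space
      obtain ⟨hmc, hmk⟩ := hsmall
      haveI : Finite V := Module.finite_of_finite F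
      have hP : ∀ W, Good Q W₀ m W → Good Q W₀ m (W.map T) := by
        rintro W ⟨hWm, hWn, e, he⟩
        let f := Submodule.equivMapOfInjective T (injective_of_pow (Fact.out : r.Prime).ne_zero hT) W
        have hiso' : Iso Q (W.map T) W₀ := ⟨f.symm.trans e, fun w => by
          obtain ⟨u, rfl⟩ := f.surjective w
          rw [LinearEquiv.trans_apply, LinearEquiv.symm_apply_apply, he]
          exact (hiso u).symm⟩
        exact ⟨by rw [← f.finrank_eq, hWm], hiso'.nd hW₀, hiso'⟩
      have hmod := card_modEq_fixed hT (fun W => Good Q W₀ m W) hP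
      have hiff : ∀ W, (Good Q W₀ m W ∧ W.map T = W) ↔ (W ≤ C ∧ Iso Q W W₀) := fun W => by
        constructor
        · rintro ⟨⟨hWm, hWn, hWi⟩, hWT⟩
          obtain ⟨j, hj, hjC⟩ := hsplit W (fun v hv => hWT ▸ Submodule.mem_map_of_mem hv) hWn hWm
          refine ⟨hjC ?_, hWi⟩
          rcases Nat.eq_zero_or_pos j with h | h
          · exact h
          · have := Nat.le_mul_of_pos_left (per i) h; omega
        · rintro ⟨hWC, hWi⟩
          refine ⟨⟨hWi.finrank_eq.trans hW₀m, hWi.nd hW₀, hWi⟩, ?_⟩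
          ext v
          constructor
          · rintro ⟨u, hu, rfl⟩
            rwa [sub_eq_zero.1 (hWC hu : (T - 1) u = 0)]
          · intro hv
            exact ⟨v, hv, sub_eq_zero.1 (hWC hv : (T - 1) v = 0)⟩
      rw [Nat.card_congr (Equiv.subtypeEquivRight hiff)] at hmod
      refine not_dvd_card_iso (p := p) hrp hr2 hi hCn (by rw [hCk]; exact Nat.mod_lt _ hc) ?_
        ((hmod.dvd_iff dvd_rfl).1 hrΩ)
      obtain ⟨h', hh'⟩ : Even k := (even_mod_iff' hcev).2 (even_two_mul d) 
      obtain ⟨W, hWC, -, -, hWi⟩ := exists_iso_sub h2 hCn hW₀ (h := h') (k := mh) (by omega) (by omega) (by omega)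
      exact ⟨W, hWC, hWi⟩
    · have hmk : k ≤ m % per i := by
        rcases Nat.lt_or_ge m (per i) with h | h
        · rw [Nat.mod_eq_of_lt h]; omega
        · exact not_lt.1 fun hlt => hcond.2 ⟨h, hlt⟩
      obtain ⟨W, ⟨hWm, hWn, -⟩, hW⟩ := hall T hiso hT (fun h1 => by
        rw [hC, h1, sub_self, LinearMap.ker_zero, finrank_top, hdim] at hCk
        have := Nat.mod_le m (per i)
        omega)
      obtain ⟨j, hj, -⟩ := hsplit W hW hWn hWm
      have hle := Submodule.finrank_mono (inf_le_right : W ⊓ C ≤ C)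
      have hmodm : m % per i = finrank F ↥(W ⊓ C) % per i := by rw [← hj, Nat.add_mul_mod_self_right]
      have hkc : k < per i := Nat.mod_lt _ hc
      have hkev : Even k := (even_mod_iff' hcev).2 (even_two_mul d)
      rw [Nat.mod_eq_of_lt (show finrank F ↥(W ⊓ C) < per i by omega)] at hmodm
      have hmodd : Odd (m % per i) := by
        rw [Nat.odd_iff, Nat.mod_mod_of_dvd _ hcev.two_dvd]
        omega
      obtain ⟨kk, hkk⟩ := hkev
      obtain ⟨ll, hll⟩ := hmodd
      omega
  · intro hcond T hiso hT hT1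
    set C := LinearMap.ker (T - 1) with hC
    set U := LinearMap.range (T - 1) with hU
    have hCn : Nd Q C := by
      simpa [hC] using (nd_parts hrF hT hiso (CfsgLib.LinFix.inv_top T) (nd_top hQ)).1
    have hUn : Nd Q U := by
      simpa [hU] using (nd_parts hrF hT hiso (CfsgLib.LinFix.inv_top T) (nd_top hQ)).2
    have hUdis : Disjoint U C := (disjoint_fix_range hrF hT).symm
    obtain ⟨N, hN⟩ := per_dvd hi hord hr2 hrF hiso hT (inv_range T) hUn hUdis
    have hCU : finrank F C + finrank F U = 2 * d := by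
      have := finrank_split hrF hT (W := ⊤) (CfsgLib.LinFix.inv_top T)
      rw [top_inf_eq, top_inf_eq, finrank_top, hdim] at this
      exact this
    have hCmod : finrank F C % per i = 2 * d % per i := by
      rw [← hCU, hN, Nat.add_mul_mod_self_left]
    have hCev : Even (finrank F C) := by
      have h : Even (finrank F C % per i) := hCmod ▸ (even_mod_iff' hcev).2 (even_two_mul d)
      exact (even_mod_iff' hcev).1 h
    have hkey : m % per i < finrank F C := by
      rcases hcond with ⟨hk0, hne⟩ | ⟨-, hlt⟩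
      · have hC0 : finrank F C ≠ 0 := by
          intro h0
          have hbot : C = ⊥ := Submodule.finrank_eq_zero.1 h0
          have hty := type_iff hi hord hr2 hrF hiso hT (CfsgLib.LinFix.inv_top T) (nd_top hQ)
            (by rw [← hC, hbot]; exact disjoint_bot_right)
          refine hne ?_
          rw [finrank_top, hdim] at hty
          rw [← hty]
          constructor
          · rintro ⟨X, hX, hXd⟩
            refine ⟨X.comap (⊤ : Submodule F V).subtype, fun x hx => hX x hx, ?_⟩
            rw [(Submodule.comapSubtypeEquivOfLe le_top).finrank_eq, finrank_top, hXd]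
          · rintro ⟨X, hX, hXd⟩
            refine ⟨X.map (⊤ : Submodule F V).subtype, ?_, ?_⟩
            · rintro _ ⟨x, hx, rfl⟩; exact hX x hx
            · rw [Submodule.finrank_map_subtype_eq, hXd, finrank_top]
        rw [hk0] at hCmod
        have := Nat.le_of_dvd (Nat.pos_of_ne_zero hC0) (Nat.dvd_of_mod_eq_zero hCmod)
        have := Nat.mod_lt m hc
        omega
      · have := Nat.mod_le (finrank F C) (per i)
        omega
    set j := min N (m / per i) with hj
    have hjm : j * per i ≤ m := (Nat.mul_le_mul_right _ (Nat.min_le_right _ _)).trans (Nat.div_mul_le_self _ _)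
    have hrest : m - j * per i < finrank F C := by
      rcases Nat.le_total N (m / per i) with h | h
      · rw [hj, min_eq_left h]
        have h1 : N * per i = finrank F U := by rw [hN, mul_comm]
        omega
      · rw [hj, min_eq_right h]
        have := Nat.div_add_mod m (per i)
        rw [mul_comm] at this
        omega
    obtain ⟨WU, hWUle, hWUinv, hWUn, hWUdim⟩ := exists_sub hi hord hr2 hrF hiso hT j (inv_range T) hUn hUdis
      (by rw [hN, mul_comm]; exact Nat.mul_le_mul_left _ (Nat.min_le_left _ _))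
    obtain ⟨a, ha⟩ : Even (j * per i) := hcev.mul_left j
    obtain ⟨A', hA'le, hA'⟩ := exists_iso_even_sub h2 hWUn hW₀ (a := a) (k := mh)
      (by rw [hWUdim, ha]; ring) (by omega) (by omega)
    have hA'n : Nd Q A' := hA'.symm.nd hWUn
    obtain ⟨R, hRle, -, hRn, hRdis, hRsum, hRorth⟩ := exists_compl_in (T := 1) (fun v => rfl)
      (fun v hv => hv) hA'n (fun v hv => hv) hW₀ hA'le
    obtain ⟨h', hh'⟩ := hCev
    have hA'dim : finrank F A' = j * per i := by rw [← hA'.finrank_eq, hWUdim]
    obtain ⟨WC, hWCle, -, -, hWCi⟩ := exists_iso_sub h2 hCn hRn (h := h') (k := mh - a)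
      (by omega) (by omega) (by omega)
    have hfix : ∀ v ∈ WC, T v = v := fun v hv => sub_eq_zero.1 (hWCle hv : (T - 1) v = 0)
    have hinv : Inv T (WU ⊔ WC) := by
      intro v hv
      obtain ⟨x, hx, y, hy, rfl⟩ := Submodule.mem_sup.1 hv
      rw [map_add, hfix y hy]
      exact Submodule.add_mem_sup (hWUinv x hx) hy
    have hsup : A' ⊔ R = W₀ := Submodule.eq_of_le_of_finrank_le (sup_le hA'le hRle)
      (by rw [CfsgLib.LinFix.finrank_sup_of_disjoint hRdis]; omega)
    have hI : Iso Q (WU ⊔ WC) W₀ := hsup ▸ hA'.sup hWCi (hUdis.mono hWUle hWCle) hRdis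
      (fun x hx y hy => by rw [polar_comm, polar_fix_range hiso (hWCle hy) (hWUle hx)]) hRorth
    exact ⟨WU ⊔ WC, ⟨hI.finrank_eq.trans hW₀m, hI.nd hW₀, hI⟩, hinv⟩

end CfsgLib.OrthInv
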