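import Mathlib
import Cfsg.Agent.Lib.LinFix.OrthTyped
import Cfsg.Agent.Lib.LinFix.OrthParaOdd

/-!
# Elements of odd order prime to the characteristic fixing an elliptic subspace
-/

set_option autoImplicit false
set_option maxHeartbeats 800000

namespace CfsgLib.OrthInv

open Module QuadraticMap
open CfsgLib.Classical.Quad (NDPolar)
open CfsgLib.RootCount (IsPlus)
open CfsgLib.LinFix (Inv)

variable {F : Type*} [Field F] [Fintype F] {V : Type*} [AddCommGroup V] [Module F V] [FiniteDimensional F V]
  {Q : QuadraticForm F V}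

/-- The type of a fixed-point-free space of dimension `x` for an element of odd order. -/
def sig (i x : ℕ) : Prop := Odd i ∨ Even (x / i)

theorem sig_zero (i : ℕ) : sig i 0 := Or.inr (by simp)

theorem sig_add_per {i x : ℕ} (hi : 0 < i) : sig i (x + per i) ↔ (Odd i ∨ ¬ sig i x) := by
  unfold sig per
  rcases Nat.even_or_odd i with he | ho
  · have hno : ¬ Odd i := Nat.not_odd_iff_even.2 he
    simp only [he, hno, if_true, false_or]
    rw [Nat.add_div_right x hi, Nat.even_add_one]
  · simp [ho]

theorem sig_of_odd {i x : ℕ} (h : Odd i) : sig i x := Or.inl h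

theorem type_shift {t a b c : Prop} (h : t ↔ (a ↔ b)) (h' : (t ↔ b) ↔ c) : a ↔ c := by tauto

theorem type_shift' {t a b c : Prop} (h : t ↔ (a ↔ b)) (h' : a ↔ c) : (t ↔ b) ↔ c := by tauto

theorem type_block {t a b c o : Prop} (h : t ↔ (a ↔ b)) (h' : a ↔ c) (h'' : o ∨ ¬c) (ho : o → b ∧ c) :
    t ↔ (o ∨ ¬b) := by
  by_cases o <;> tauto

theorem type_neg {a b : Prop} (h : ¬(a ↔ b)) : ¬b ↔ a := by tauto

theorem type_compl {a b : Prop} (h : a ↔ ¬b) : ¬(a ↔ b) := by tauto

variable {r : ℕ} [Fact r.Prime] {i : ℕ}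

/-- The criterion for elements of odd order prime to the characteristic and elliptic subspaces. -/
theorem ell_fixes_iff_odd {p : ℕ} [Fact p.Prime] [CharP F p] (hrp : r ≠ p) (hr2 : r ≠ 2)
    (hi : orderOf (Fintype.card F : ZMod r) = i) (hQ : NDPolar Q) {d m : ℕ} (hdim : finrank F V = 2 * d)
    (hm : Even m) (hm2 : 2 ≤ m) (hmd : m < 2 * d)
    (hrΩ : r ∣ Nat.card {W : Submodule F V // Ell Q m W}) :
    (∀ T : Module.End F V, (∀ v, Q (T v) = Q v) → T ^ r = 1 → T ≠ 1 → ∃ W, Ell Q m W ∧ Inv T W) ↔
      ((2 * d % per i = 0 ∧ ¬(IsPlus Q ↔ sig i (2 * d))) ∨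
        (per i ≤ m ∧ ((m % per i = 0 ∧ ¬ sig i m) ∨ (0 < m % per i ∧ m % per i < 2 * d % per i) ∨
          (0 < 2 * d % per i ∧ m % per i = 2 * d % per i ∧
            ¬((IsPlus Q ↔ sig i (2 * d - 2 * d % per i)) ↔ sig i (m - 2 * d % per i)))))) := by
  have hord := CfsgLib.LinFix.orderOf_pos_of_ne (F := F) (p := p) hrp
  rw [hi] at hord
  have hrF : (r : F) ≠ 0 := CfsgLib.LinFix.natCast_ne_zero_of_ne (p := p) hrp
  have hc := per_pos hord
  have hcev : Even (per i) := per_even
  -- facts about an element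
  have key : ∀ T : Module.End F V, (∀ v, Q (T v) = Q v) → T ^ r = 1 →
      Nd Q (LinearMap.ker (T - 1)) ∧ Nd Q (LinearMap.range (T - 1)) ∧
        Disjoint (LinearMap.range (T - 1)) (LinearMap.ker (T - 1)) ∧
        finrank F (LinearMap.ker (T - 1)) + finrank F (LinearMap.range (T - 1)) = 2 * d ∧
        per i ∣ finrank F (LinearMap.range (T - 1)) ∧
        (IsPlus Q ↔ (PlusOn Q (LinearMap.ker (T - 1)) ↔ sig i (finrank F (LinearMap.range (T - 1))))) ∧
        ∀ W, Inv T W → Nd Q W → Nd Q (W ⊓ LinearMap.ker (T - 1)) ∧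
          per i ∣ finrank F ↥(W ⊓ LinearMap.range (T - 1)) ∧ Even (finrank F ↥(W ⊓ LinearMap.range (T - 1))) ∧
          (Even (finrank F W) → (PlusOn Q W ↔ (PlusOn Q (W ⊓ LinearMap.ker (T - 1)) ↔
            sig i (finrank F ↥(W ⊓ LinearMap.range (T - 1)))))) := by
    intro T hiso hT
    have hW : ∀ W, Inv T W → Nd Q W → Nd Q (W ⊓ LinearMap.ker (T - 1)) ∧
          per i ∣ finrank F ↥(W ⊓ LinearMap.range (T - 1)) ∧ Even (finrank F ↥(W ⊓ LinearMap.range (T - 1))) ∧
          (Even (finrank F W) → (PlusOn Q W ↔ (PlusOn Q (W ⊓ LinearMap.ker (T - 1)) ↔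
            sig i (finrank F ↥(W ⊓ LinearMap.range (T - 1)))))) := by
      intro W hW hWn
      obtain ⟨hA, hB⟩ := nd_parts hrF hT hiso hW hWn
      have hdis := (disjoint_fix_range hrF hT).symm.mono_left (inf_le_right : W ⊓ LinearMap.range (T - 1) ≤ _)
      have hper := per_dvd hi hord hr2 hrF hiso hT (hW.inf (inv_range T)) hB hdis
      have hev : Even (finrank F ↥(W ⊓ LinearMap.range (T - 1))) := even_iff_two_dvd.2 (hcev.two_dvd.trans hper)
      refine ⟨hA, hper, hev, fun he => ?_⟩
      have hevA : Even (finrank F ↥(W ⊓ LinearMap.ker (T - 1))) := by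
        have h := finrank_split hrF hT hW
        rw [Nat.even_iff] at hev he ⊢
        omega
      have h := plusOn_sup hA hB (fun a ha b hb => polar_fix_range hiso ha.2 hb.2) hevA hev
      rw [sup_split hrF hT hW] at h
      rw [h, plusOn_iff (W ⊓ LinearMap.range (T - 1)),
        type_iff hi hord hr2 hrF hiso hT (hW.inf (inv_range T)) hB hdis]
      rfl
    obtain ⟨hC, hper, -, hty⟩ := hW ⊤ (CfsgLib.LinFix.inv_top T) (nd_top hQ)
    rw [top_inf_eq] at hC hper hty
    rw [top_inf_eq, finrank_top, hdim, plusOn_top] at hty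
    have hU := (nd_parts hrF hT hiso (CfsgLib.LinFix.inv_top T) (nd_top hQ)).2
    have hsum := finrank_split hrF hT (CfsgLib.LinFix.inv_top T)
    rw [top_inf_eq, top_inf_eq, finrank_top, hdim] at hsum
    rw [top_inf_eq] at hU
    exact ⟨hC, hU, (disjoint_fix_range hrF hT).symm, hsum, hper, hty (even_two_mul d), hW⟩
  constructor
  · intro hall
    by_contra hcond
    rw [not_or] at hcond
    obtain ⟨hc1, hc2⟩ := hcond
    replace hc1 : Nonempty (PLift _) := ⟨⟨hc1⟩⟩
    replace hc2 : Nonempty (PLift _) := ⟨⟨hc2⟩⟩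
    set k := 2 * d % per i with hk
    have hdk := Nat.div_add_mod (2 * d) (per i)
    rw [← hk, mul_comm] at hdk
    obtain ⟨T, hiso, hT, hker⟩ := exists_element (p := p) hrp hr2 hi hQ hdim (N := 2 * d / per i)
      (Nat.div_mul_le_self _ _) (fun heq => by
        by_contra hne
        exact hc1.some.down ⟨by omega, hne⟩)
    obtain ⟨hCn, -, -, hsum, -, hty, hparts⟩ := key T hiso hT
    set C := LinearMap.ker (T - 1) with hC
    have hCk : finrank F C = k := by omega
    have hkev : Even k := (even_mod_iff' hcev).2 (even_two_mul d)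
    by_cases hsmall : m < per i ∧ ∃ W ≤ C, Ell Q m W
    · obtain ⟨hmc, W₁, hW₁C, hW₁⟩ := hsmall
      haveI : Finite V := Module.finite_of_finite F
      have hP : ∀ W, Ell Q m W → Ell Q m (W.map T) := by
        rintro W ⟨hWm, hWn, hWp⟩
        let f := Submodule.equivMapOfInjective T (injective_of_pow (Fact.out : r.Prime).ne_zero hT) W
        have hiso' : Iso Q (W.map T) W := ⟨f.symm, fun w => by
          obtain ⟨u, rfl⟩ := f.surjective w
          rw [LinearEquiv.symm_apply_apply]
          exact (hiso u).symm⟩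
        exact ⟨by rw [← f.finrank_eq, hWm], hiso'.nd hWn, fun h => hWp (hiso'.plusOn_iff.1 h)⟩
      have hmod := card_modEq_fixed hT (fun W => Ell Q m W) hP
      have hiff : ∀ W, (Ell Q m W ∧ W.map T = W) ↔ (W ≤ C ∧ Iso Q W W₁) := fun W => by
        constructor
        · rintro ⟨hWe, hWT⟩
          have hWi : Inv T W := fun v hv => hWT ▸ Submodule.mem_map_of_mem hv
          obtain ⟨-, hper, -, -⟩ := hparts W hWi hWe.2.1
          refine ⟨?_, hWe.iso hm hW₁⟩
          have h0 : finrank F ↥(W ⊓ LinearMap.range (T - 1)) = 0 :=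
            Nat.eq_zero_of_dvd_of_lt hper (lt_of_le_of_lt (Submodule.finrank_mono inf_le_left) (by rw [hWe.1]; exact hmc))
          rw [← sup_split hrF hT hWi, Submodule.finrank_eq_zero.1 h0, sup_bot_eq]
          exact inf_le_right
        · rintro ⟨hWC, hWi⟩
          refine ⟨⟨hWi.finrank_eq.trans hW₁.1, hWi.nd hW₁.2.1, fun h => hW₁.2.2 (hWi.plusOn_iff.1 h)⟩, ?_⟩
          ext v
          constructor
          · rintro ⟨u, hu, rfl⟩
            rwa [sub_eq_zero.1 (hWC hu : (T - 1) u = 0)]
          · intro hv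
            exact ⟨v, hv, sub_eq_zero.1 (hWC hv : (T - 1) v = 0)⟩
      rw [Nat.card_congr (Equiv.subtypeEquivRight hiff)] at hmod
      exact not_dvd_card_iso (p := p) hrp hr2 hi hCn (by rw [hCk]; exact Nat.mod_lt _ hc)
        ⟨W₁, hW₁C, LinearEquiv.refl F _, fun w => rfl⟩ ((hmod.dvd_iff dvd_rfl).1 hrΩ)
    · have hT1 : T ≠ 1 := by
        intro h1
        have hCtop : C = ⊤ := by rw [hC, h1, sub_self, LinearMap.ker_zero]
        have hkd : k = 2 * d := by rw [← hCk, hCtop, finrank_top, hdim]
        refine hsmall ⟨?_, ?_⟩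
        · have := Nat.mod_lt (2 * d) hc; omega
        · obtain ⟨a, ha⟩ := hm
          obtain ⟨W, hWC, hWd, hWn, hWp⟩ := exists_typed hCn (h := d) (a := a) (by omega) (by omega) False
            (by omega) (by omega)
          exact ⟨W, hWC, by omega, hWn, fun h => hWp.1 h⟩
      obtain ⟨W, hWe, hWinv⟩ := hall T hiso hT hT1
      obtain ⟨hA, hper, -, htyW⟩ := hparts W hWinv hWe.2.1
      have hsp := finrank_split hrF hT hWinv
      rw [hWe.1, ← hC] at hsp
      have htyW' := htyW (hWe.1 ▸ hm)
      set w := finrank F ↥(W ⊓ C) with hw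
      have hwk : w ≤ k := hCk ▸ Submodule.finrank_mono inf_le_right
      have hkc : k < per i := Nat.mod_lt _ hc
      obtain ⟨j, hj⟩ := hper
      have hmw : m % per i = w := by
        rw [← hsp, hj, Nat.add_mul_mod_self_left, Nat.mod_eq_of_lt (by omega)]
      have hcm : per i ≤ m := by
        by_contra hlt
        refine hsmall ⟨by omega, W, ?_, hWe⟩
        have h0 : finrank F ↥(W ⊓ LinearMap.range (T - 1)) = 0 :=
          Nat.eq_zero_of_dvd_of_lt ⟨j, hj⟩ (lt_of_le_of_lt (Submodule.finrank_mono inf_le_left) (by rw [hWe.1]; omega))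
        rw [← sup_split hrF hT hWinv, Submodule.finrank_eq_zero.1 h0, sup_bot_eq]
        exact inf_le_right
      refine hc2.some.down ⟨hcm, ?_⟩
      rcases Nat.eq_zero_or_pos w with hw0 | hwpos
      · refine Or.inl ⟨by omega, fun hsig => hWe.2.2 (htyW'.2 ?_)⟩
        rw [Submodule.finrank_eq_zero.1 hw0]
        refine iff_of_true plusOn_bot ?_
        rwa [show finrank F ↥(W ⊓ LinearMap.range (T - 1)) = m by omega]
      rcases lt_or_eq_of_le hwk with hlt | heq
      · exact Or.inr (Or.inl ⟨by omega, by omega⟩)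
      refine Or.inr (Or.inr ⟨by omega, by omega, fun h => hWe.2.2 (htyW'.2 ?_)⟩)
      have hWC : W ⊓ C = C := Submodule.eq_of_le_of_finrank_le inf_le_right (by omega)
      rw [hWC, show finrank F ↥(W ⊓ LinearMap.range (T - 1)) = m - k by omega]
      rw [← hCk, show 2 * d - finrank F C = finrank F (LinearMap.range (T - 1)) by omega, hCk] at h
      exact type_shift hty h
  · intro hcond₀ T hiso hT hT1
    have hcond' : Nonempty (PLift _) := ⟨⟨hcond₀⟩⟩
    clear hcond₀
    obtain ⟨hCn, hUn, hUdis, hsum, hUper, hty, -⟩ := key T hiso hT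
    set C := LinearMap.ker (T - 1) with hC
    set U := LinearMap.range (T - 1) with hU
    obtain ⟨N, hN⟩ := hUper
    have hNc : N * per i = finrank F U := by rw [hN, mul_comm]
    have hCmod : finrank F C % per i = 2 * d % per i := by
      rw [← hsum, hN, Nat.add_mul_mod_self_left]
    have hCev : Even (finrank F C) := by
      have h : Even (finrank F C % per i) := hCmod ▸ (even_mod_iff' hcev).2 (even_two_mul d)
      exact (even_mod_iff' hcev).1 h
    have build : ∀ j, j * per i ≤ m → j ≤ N → m - j * per i ≤ finrank F C →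
        (m - j * per i = 0 → ¬ sig i (j * per i)) →
        (m - j * per i = finrank F C → ¬(PlusOn Q C ↔ sig i (j * per i))) → ∃ W, Ell Q m W ∧ Inv T W := by
      intro j hjm hjN hle h0 hfull
      obtain ⟨WU, hWUle, hWUinv, hWUn, hWUdim⟩ := exists_sub hi hord hr2 hrF hiso hT j (inv_range T) hUn hUdis
        (by rw [← hNc]; exact Nat.mul_le_mul_right _ hjN)
      have hWUty := type_iff hi hord hr2 hrF hiso hT hWUinv hWUn (hUdis.mono_left hWUle)
      rw [← plusOn_iff, hWUdim] at hWUty
      obtain ⟨h, hh⟩ := hCev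
      obtain ⟨a', ha'⟩ := hm
      obtain ⟨b', hb'⟩ := hcev.mul_left j
      obtain ⟨WC, hWCle, hWCdim, hWCn, hWCty⟩ := exists_typed hCn (h := h) (a := a' - b') (by omega) (by omega)
        (¬ sig i (j * per i)) (fun h => h0 (by omega)) (fun h => by
          exact (type_neg (hfull (by omega))))
      have ho : ∀ x ∈ WU, ∀ y ∈ WC, polar Q x y = 0 := fun x hx y hy => by
        rw [polar_comm]; exact polar_fix_range hiso (hWCle hy) (hWUle hx)
      refine ⟨WU ⊔ WC, ⟨?_, nd_sup hWUn hWCn ho, fun hp => ?_⟩, ?_⟩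
      · rw [CfsgLib.LinFix.finrank_sup_of_disjoint (disjoint_of_nd hWUn ho)]
        omega
      · rw [plusOn_sup hWUn hWCn ho (by rw [hWUdim]; exact ⟨b', hb'⟩) (by rw [hWCdim]; exact even_two_mul _),
          hWCty] at hp
        exact (iff_not_self (a := sig i (j * per i))) (hWUty.symm.trans hp)
      · intro v hv
        obtain ⟨x, hx, y, hy, rfl⟩ := Submodule.mem_sup.1 hv
        rw [map_add, sub_eq_zero.1 (hWCle hy : (T - 1) y = 0)]
        exact Submodule.add_mem_sup (hWUinv x hx) hy
    have hdm := Nat.div_add_mod m (per i)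
    rw [mul_comm] at hdm
    have hml := Nat.mod_lt m hc
    rcases Nat.lt_or_ge N (m / per i) with hbig | hsm
    · have h1 : (N + 1) * per i ≤ m := (Nat.mul_le_mul_right _ hbig).trans (Nat.div_mul_le_self _ _)
      rw [add_mul, one_mul] at h1
      exact build N (by omega) le_rfl (by omega) (by omega) (by omega)
    have hbad : finrank F C = 0 → (IsPlus Q ↔ sig i (2 * d)) := fun h0 => by
      rw [hty, Submodule.finrank_eq_zero.1 h0, show finrank F U = 2 * d by omega]
      simp [plusOn_bot]
    have hw : m - m / per i * per i = m % per i := by omega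
    rcases Nat.eq_zero_or_pos (m % per i) with hl0 | hlpos
    · have hjm : m / per i * per i = m := by omega
      by_cases hsig : sig i m
      · -- one block less
        obtain ⟨hk0, hne⟩ : 2 * d % per i = 0 ∧ ¬(IsPlus Q ↔ sig i (2 * d)) := by
          obtain ⟨⟨hcond⟩⟩ := hcond'
          rcases hcond with h | ⟨-, h | h | h⟩
          · exact h
          · exact absurd hsig h.2
          · exact absurd hl0 h.1.ne'
          · exact absurd (h.2.1 ▸ hl0) h.1.ne'
        have hC0 : finrank F C ≠ 0 := fun h => hne (hbad h)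
        rw [hk0] at hCmod
        have hCc := Nat.le_of_dvd (Nat.pos_of_ne_zero hC0) (Nat.dvd_of_mod_eq_zero hCmod)
        obtain ⟨j, hj⟩ : ∃ j, m / per i = j + 1 := ⟨m / per i - 1, by
          rcases Nat.eq_zero_or_pos (m / per i) with h | h
          · rw [h, zero_mul] at hjm; omega
          · omega⟩
        rw [hj, add_mul, one_mul] at hjm
        refine build j (by omega) (by omega) (by omega) (by omega) fun heq hiff => hne ?_
        rw [show m = j * per i + per i by omega, sig_add_per hord] at hsig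
        rw [show 2 * d = finrank F U + per i by omega, sig_add_per hord]
        exact type_block hty hiff hsig (fun ho => ⟨sig_of_odd ho, sig_of_odd ho⟩)
      · exact build (m / per i) (by omega) hsm (by omega) (fun _ => by rw [hjm]; exact hsig) (fun heq => by
          rw [hjm]
          have hC0 : finrank F C = 0 := by omega
          rw [Submodule.finrank_eq_zero.1 hC0]
          simp [plusOn_bot, hsig])
    rcases Nat.lt_or_ge (m % per i) (finrank F C) with hlt | hge
    · exact build (m / per i) (by omega) hsm (by omega) (by omega) (by omega)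
    have hCk : finrank F C = 2 * d % per i := by rw [← hCmod, Nat.mod_eq_of_lt (by omega)]
    obtain ⟨-, heq, hne⟩ : 0 < 2 * d % per i ∧ m % per i = 2 * d % per i ∧
        ¬((IsPlus Q ↔ sig i (2 * d - 2 * d % per i)) ↔ sig i (m - 2 * d % per i)) := by
      obtain ⟨⟨hcond⟩⟩ := hcond'
      rcases hcond with ⟨hk0, hne⟩ | ⟨-, h | h | h⟩
      · exact absurd (hbad (hCk.trans hk0)) hne
      · exact absurd h.1 hlpos.ne'
      · exact absurd (hCk ▸ hge) (not_le.2 h.2)
      · exact h
    refine build (m / per i) (by omega) hsm (by omega) (by omega) fun _ hiff => hne ?_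
    rw [← hCk, show 2 * d - finrank F C = finrank F U by omega,
      show m - finrank F C = m / per i * per i by omega]
    exact type_shift' hty hiff

end CfsgLib.OrthInv
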