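import Mathlib
import Cfsg.Agent.Lib.LinFix.OrthInv
import Cfsg.Agent.Lib.LinFix.OrthCoset
import Cfsg.Agent.Lib.Classical.Quad.Model
import Cfsg.Agent.Lib.Orth.Spinor

/-!
# Unipotent isometries, isometries squaring to minus one, and odd-dimensional invariant subspaces
-/

set_option autoImplicit false

namespace CfsgLib.OrthInv

open Module QuadraticMap
open CfsgLib.Classical.Quad (NDPolar)
open CfsgLib.LinFix (Inv)

variable {F : Type*} [Field F] {V : Type*} [AddCommGroup V] [Module F V] [FiniteDimensional F V]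

/-- In odd characteristic an isometry without eigenvalue `-1` moves an even number of dimensions
inside every non-degenerate invariant subspace. -/
theorem even_moved [Fintype F] (h2 : (2 : F) ≠ 0) {Q : QuadraticForm F V} {T : Module.End F V} (hiso : ∀ v, Q (T v) = Q v)
    (hminus : ∀ v, T v = -v → v = 0) {W : Submodule F V} (hW : Inv T W) (hnd : Nd Q W) :
    Even (finrank F (W.map (T - 1))) := by
  classical
  let Tw : Module.End F W := T.restrict hW
  let P : LinearMap.BilinForm F W := LinearMap.BilinForm.restrict (polarBilin Q) W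
  let C : LinearMap.BilinForm F W := P.compl₁₂ Tw LinearMap.id - P.compl₁₂ LinearMap.id Tw
  have hC : ∀ u v : W, C u v = polar Q (T u) (v : V) - polar Q (u : V) (T v) := fun u v => rfl
  have hTinj : Function.Injective Tw := (injective_iff_map_eq_zero _).2 fun x hx =>
    Subtype.ext (hnd x x.2 fun y hy => by
      rw [← polar_map_eq hiso, show T (x : V) = 0 from congrArg Subtype.val hx, polar_zero_left])
  have hrad : ∀ u : W, (∀ v, C u v = 0) ↔ (u : V) ∈ LinearMap.ker (T - 1) := by
    intro u
    rw [LinearMap.mem_ker, show (T - 1) (u : V) = T u - u from rfl, sub_eq_zero]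
    constructor
    · intro h
      have h1 : T (T (u : V)) = (u : V) := by
        refine sub_eq_zero.1 (hnd _ (W.sub_mem (hW _ (hW _ u.2)) u.2) fun y hy => ?_)
        obtain ⟨y', hy'⟩ := LinearMap.injective_iff_surjective.1 hTinj ⟨y, hy⟩
        have hy'' : T (y' : V) = y := congrArg Subtype.val hy'
        rw [← hy'', polar_sub_left, polar_map_eq hiso]
        exact (hC u y').symm.trans (h y')
      have h2' := hminus (T (u : V) - u) (by rw [map_sub, h1]; abel)
      exact sub_eq_zero.1 h2'
    · intro h v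
      rw [hC, h]
      nth_rw 2 [← h]
      rw [polar_map_eq hiso, sub_self]
  obtain ⟨U, hU⟩ := Submodule.exists_isCompl ((LinearMap.ker (T - 1)).comap W.subtype)
  have halt : ∀ u : W, C u u = 0 := fun u => by rw [hC, polar_comm (⇑Q) (T u) (u : V), sub_self]
  have hskew : ∀ u v : W, C u v = -C v u := fun u v => by
    rw [hC, hC, polar_comm (⇑Q) (T u) (v : V), polar_comm (⇑Q) (u : V) (T v)]; ring
  have hUn : ∀ x : U, (∀ y : U, C.restrict U x y = 0) → x = 0 := by
    intro x hx
    have hmem : (x : W) ∈ (LinearMap.ker (T - 1)).comap W.subtype := (hrad x).1 fun v => by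
      obtain ⟨a, ha, b, hb, rfl⟩ := Submodule.mem_sup.1 (hU.sup_eq_top ▸ Submodule.mem_top (x := v))
      have h0 : C (x : W) a = 0 := by rw [hskew, (hrad a).2 ha, neg_zero]
      have h1 : C (x : W) b = 0 := hx ⟨b, hb⟩
      rw [map_add, h0, h1, add_zero]
    exact Subtype.ext ((Submodule.disjoint_def.1 hU.disjoint) x hmem x.2)
  obtain ⟨k, bs, -⟩ := CfsgLib.RootCount.alt_basis (C.restrict U) (fun u => halt u) hUn
  have h1 := Submodule.finrank_add_eq_of_isCompl hU
  have hsub : finrank F ↥((LinearMap.ker (T - 1)).comap W.subtype) = finrank F ↥(W ⊓ LinearMap.ker (T - 1)) := by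
    rw [← Submodule.finrank_map_subtype_eq, Submodule.map_comap_subtype]
  have h2' := LinearMap.finrank_range_add_finrank_ker ((T - 1).domRestrict W)
  have hk : finrank F (LinearMap.ker ((T - 1).domRestrict W)) =
      finrank F ↥((LinearMap.ker (T - 1)).comap W.subtype) := rfl
  rw [LinearMap.range_domRestrict, hk] at h2'
  refine ⟨k, ?_⟩
  have hUk : finrank F U = k + k := by rw [finrank_eq_card_basis bs]; simp
  omega

/-- An isometry squaring to minus the identity leaves only even-dimensional non-degenerate subspaces invariant. -/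
theorem even_of_sq_neg_one [Fintype F] (h2 : (2 : F) ≠ 0) {Q : QuadraticForm F V} {T : Module.End F V}
    (hiso : ∀ v, Q (T v) = Q v) (hsq : ∀ v, T (T v) = -v) {W : Submodule F V} (hW : Inv T W) (hnd : Nd Q W) :
    Even (finrank F W) := by
  have hfix : ∀ v, T v = v → v = 0 := fun v hv => by
    have h := hsq v
    rw [hv, hv, eq_neg_iff_add_eq_zero, ← two_smul F, smul_eq_zero] at h
    exact h.resolve_left h2
  have h := even_moved h2 hiso (fun v hv => by
    have h := hsq v
    rw [hv, map_neg, hv, neg_neg, eq_neg_iff_add_eq_zero, ← two_smul F, smul_eq_zero] at h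
    exact h.resolve_left h2) hW hnd
  have hinj : Function.Injective ((T - 1).domRestrict W) := (injective_iff_map_eq_zero _).2 fun x hx =>
    Subtype.ext (hfix x (sub_eq_zero.1 hx))
  have h1 := LinearMap.finrank_range_of_inj hinj
  rw [LinearMap.range_domRestrict] at h1
  rwa [h1] at h

section unipotent

variable {Q : QuadraticForm F V} {T : Module.End F V}

theorem map_step (N : Module.End F V) (W : Submodule F V) :
    finrank F (W.map N) + finrank F ↥(W ⊓ LinearMap.ker N) = finrank F W := by
  have h := LinearMap.finrank_range_add_finrank_ker (N.domRestrict W)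
  have hk : finrank F (LinearMap.ker (N.domRestrict W)) = finrank F ↥((LinearMap.ker N).comap W.subtype) := rfl
  rw [LinearMap.range_domRestrict, hk, ← Submodule.finrank_map_subtype_eq, Submodule.map_comap_subtype] at h
  exact h

/-- Invariant odd-dimensional subspaces of an isometry with `(T - 1) ^ 2 = 0` and small excess kernel. -/
theorem odd_dim_mod_four [Fintype F] (h2 : (2 : F) ≠ 0) (hQ : NDPolar Q) (hiso : ∀ v, Q (T v) = Q v)
    (hN2 : ∀ v, (T - 1) ((T - 1) v) = 0) {k : ℕ} (hk : k ≤ 1)
    (hexc : finrank F V ≤ 2 * finrank F (LinearMap.range (T - 1)) + 2 * k)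
    {W : Submodule F V} (hW : Inv T W) (hnd : Nd Q W) (hodd : Odd (finrank F W)) :
    k = 1 ∧ finrank F W % 4 = 1 := by
  set N := T - 1 with hN
  have hminus : ∀ v, T v = -v → v = 0 := fun v hv => by
    have h := hN2 v
    simp only [hN, LinearMap.sub_apply, Module.End.one_apply, map_sub, hv, map_neg] at h
    have h4 : ((2 : F) * 2) • v = 0 := by
      rw [mul_smul, two_smul F, two_smul F]; linear_combination (norm := abel) h
    exact (smul_eq_zero.1 h4).resolve_left (mul_ne_zero h2 h2)
  obtain ⟨W', -, hW', hW'n, hdis, hsum, -⟩ := exists_compl_in hiso hW hnd (CfsgLib.LinFix.inv_top T) (nd_top hQ) le_top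
  rw [finrank_top] at hsum
  have hsup : W ⊔ W' = ⊤ := Submodule.eq_top_of_finrank_eq (by
    rw [CfsgLib.LinFix.finrank_sup_of_disjoint hdis]; exact hsum)
  have hle : ∀ X : Submodule F V, Inv T X → X.map N ≤ X ⊓ LinearMap.ker N := by
    rintro X hX _ ⟨v, hv, rfl⟩
    exact ⟨X.sub_mem (hX v hv) hv, hN2 v⟩
  have hrange : finrank F (LinearMap.range N) ≤ finrank F (W.map N) + finrank F (W'.map N) := by
    rw [LinearMap.range_eq_map, ← hsup, Submodule.map_sup]
    exact Submodule.finrank_add_le_finrank_add_finrank _ _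
  have h1 := map_step N W
  have h2' := Submodule.finrank_mono (hle W hW)
  have h3 := map_step N W'
  have h4 := Submodule.finrank_mono (hle W' hW')
  obtain ⟨a, ha⟩ := even_moved h2 hiso hminus hW hnd
  obtain ⟨b, hb⟩ := hodd
  rw [← hN] at ha
  omega

/-- Invariant odd-dimensional subspaces of an isometry with two Jordan blocks of size three and no fixed
vectors outside the moved space. -/
theorem odd_dim_mod_four_three [Fintype F] (h2 : (2 : F) ≠ 0) (hQ : NDPolar Q) (hiso : ∀ v, Q (T v) = Q v)
    (hN3 : ∀ v, (T - 1) ((T - 1) ((T - 1) v)) = 0)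
    (hker : LinearMap.ker (T - 1) ≤ LinearMap.range (T - 1))
    (hrk : finrank F (LinearMap.range ((T - 1) * (T - 1))) ≤ 2)
    {W : Submodule F V} (hW : Inv T W) (hnd : Nd Q W) (hodd : Odd (finrank F W)) :
    finrank F W % 4 = 3 := by
  set N := T - 1 with hN
  have hminus : ∀ v, T v = -v → v = 0 := fun v hv => by
    have h := hN3 v
    simp only [hN, LinearMap.sub_apply, Module.End.one_apply, map_sub, hv, map_neg] at h
    have h8 : ((2 : F) * 2 * 2) • v = 0 := by
      rw [mul_smul, mul_smul, two_smul F, two_smul F, two_smul F]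
      linear_combination (norm := abel) (-1 : ℤ) • h
    exact (smul_eq_zero.1 h8).resolve_left (mul_ne_zero (mul_ne_zero h2 h2) h2)
  obtain ⟨W', -, hW', hW'n, hdis, hsum, -⟩ := exists_compl_in hiso hW hnd (CfsgLib.LinFix.inv_top T) (nd_top hQ) le_top
  rw [finrank_top] at hsum
  have hsup : W ⊔ W' = ⊤ := Submodule.eq_top_of_finrank_eq (by
    rw [CfsgLib.LinFix.finrank_sup_of_disjoint hdis]; exact hsum)
  have hNinv : ∀ X : Submodule F V, Inv T X → ∀ v ∈ X, N v ∈ X := fun X hX v hv => X.sub_mem (hX v hv) hv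
  have hfix : W ⊓ LinearMap.ker N = W.map N ⊓ LinearMap.ker N := by
    refine le_antisymm ?_ (inf_le_inf_right _ (by rintro _ ⟨v, hv, rfl⟩; exact hNinv W hW v hv))
    rintro v ⟨hv, hv'⟩
    obtain ⟨u, rfl⟩ := hker hv'
    obtain ⟨a, ha, b, hb, rfl⟩ := Submodule.mem_sup.1 (hsup ▸ Submodule.mem_top (x := u))
    have hb0 : N b = 0 := (Submodule.disjoint_def.1 hdis) _ (by
      have : N b = N (a + b) - N a := by rw [map_add]; abel
      rw [this]; exact W.sub_mem hv (hNinv W hW a ha)) (hNinv W' hW' b hb)
    exact ⟨⟨a, ha, by rw [map_add, hb0, add_zero]⟩, hv'⟩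
  have h1 := map_step N W
  have h3 := map_step N (W.map N)
  rw [hfix] at h1
  have hb2 : finrank F ((W.map N).map N) ≤ 2 := by
    refine (Submodule.finrank_mono ?_).trans hrk
    rintro _ ⟨_, ⟨v, -, rfl⟩, rfl⟩
    exact ⟨v, rfl⟩
  obtain ⟨a, ha⟩ := even_moved h2 hiso hminus hW hnd
  obtain ⟨b, hb⟩ := hodd
  rw [← hN] at ha
  omega

end unipotent

/-- A unipotent map of degree at most the characteristic has order dividing it. -/
theorem pow_char_eq_one {p : ℕ} [hp : Fact p.Prime] [CharP F p] (hp2 : p ≠ 2) {T : Module.End F V}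
    (hN3 : ∀ v, (T - 1) ((T - 1) ((T - 1) v)) = 0) : T ^ p = 1 := by
  have hp3 : 3 ≤ p := by have := hp.out.two_le; omega
  rcases subsingleton_or_nontrivial (Module.End F V) with hs | hs
  · exact Subsingleton.elim _ _
  haveI : CharP (Module.End F V) p := charP_of_injective_algebraMap (algebraMap F (Module.End F V)).injective p
  have h3 : (T - 1) ^ 3 = 0 := LinearMap.ext fun v => by
    simp only [pow_succ', pow_zero, mul_one, Module.End.mul_apply]
    exact hN3 v
  have h := sub_pow_char_of_commute (p := p) (Commute.one_right T)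
  rw [one_pow, pow_eq_zero_of_le hp3 h3, eq_comm, sub_eq_zero] at h
  exact h

section spinor

open Matrix Cfsg CfsgLib.OrthSpinor

variable {ι : Type} [Fintype ι] [DecidableEq ι] {Q : QuadraticForm F (ι → F)}

/-- Squares of isometries lie in `Ω`. -/
theorem sq_mem_Omega [Fintype F] (h2 : (2 : F) ≠ 0) (hQ : (QuadraticMap.polarBilin Q).Nondegenerate)
    (g : ↥(isometryGroup F ⇑Q)) : g * g ∈ Omega F ⇑Q := by
  have hsq : ∀ g : ↥(isometryGroup F ⇑Q), Abelianization.of g * Abelianization.of g = 1 := by
    intro g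
    have hmem : g ∈ Subgroup.closure (reflections (Q := Q)) := (closure_reflections h2 hQ).symm ▸ trivial
    induction hmem using Subgroup.closure_induction with
    | mem x hx => obtain ⟨v, hv, rfl⟩ := hx; exact CfsgLib.LinFix.OrthCoset.refl_sq hv
    | one => simp
    | mul x y _ _ hx hy => rw [map_mul, mul_mul_mul_comm, hx, hy, one_mul]
    | inv x _ hx => rw [map_inv, ← mul_inv, hx, inv_one]
  show g * g ∈ commutator _
  rw [← Abelianization.ker_of, MonoidHom.mem_ker, map_mul, hsq]

/-- An element of `Ω` squaring to minus one forces the number of vectors of norm one to be divisible by eight. -/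
theorem eight_dvd_level [Fintype F] (h2 : (2 : F) ≠ 0) {g : ↥(isometryGroup F ⇑Q)} (hg : g ∈ Omega F ⇑Q)
    (hsq : ∀ v, act Q g (act Q g v) = -v) : 8 ∣ Nat.card {v : ι → F // Q v = 1} := by
  classical
  set σ := normPerm (Q := Q) 1 g with hσ
  have hv : ∀ x, ((σ x : {v : ι → F // Q v = 1}) : ι → F) = act Q g x := fun x => rfl
  have hσ2 : ∀ x, σ (σ x) ≠ x := by
    intro x h
    have h1 := congrArg Subtype.val h
    rw [hv, hv, hsq, neg_eq_iff_add_eq_zero, ← two_smul F, smul_eq_zero] at h1
    have hx := x.2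
    rw [h1.resolve_left h2, QuadraticMap.map_zero] at hx
    exact zero_ne_one hx
  have hσ4 : σ ^ 4 = 1 := by
    refine Equiv.ext fun x => Subtype.ext ?_
    rw [show σ ^ 4 = σ * σ * (σ * σ) by simp [pow_succ, mul_assoc]]
    simp only [Equiv.Perm.mul_apply, hv, hsq, neg_neg]
    rfl
  have hsign : Equiv.Perm.sign σ = 1 :=
    MonoidHom.mem_ker.1 (Abelianization.commutator_subset_ker (Equiv.Perm.sign.comp (normPerm (Q := Q) 1)) hg)
  have hall : ∀ n ∈ σ.cycleType, n = 4 := by
    intro n hn
    have hdvd : n ∣ 4 := (Equiv.Perm.dvd_of_mem_cycleType hn).trans (orderOf_dvd_of_pow_eq_one hσ4)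
    have h2n := Equiv.Perm.two_le_of_mem_cycleType hn
    have hle := Nat.le_of_dvd (by norm_num) hdvd
    rw [Equiv.Perm.cycleType_def, Multiset.mem_map] at hn
    obtain ⟨f, hf, rfl⟩ := hn
    obtain ⟨hfc, hfa⟩ := Equiv.Perm.mem_cycleFactorsFinset_iff.1 hf
    interval_cases hc : (Finset.card ∘ Equiv.Perm.support) f
    · exfalso
      obtain ⟨x, hx⟩ := hfc.nonempty_support
      have ho : orderOf f = 2 := hfc.orderOf.trans hc
      have hfx : f x ∈ f.support := Equiv.Perm.apply_mem_support.2 hx
      refine hσ2 x ?_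
      rw [← hfa x hx, ← hfa _ hfx, ← Equiv.Perm.mul_apply, ← pow_two, ← ho, pow_orderOf_eq_one, Equiv.Perm.one_apply]
    · norm_num at hdvd
    · rfl
  have hrep : σ.cycleType = Multiset.replicate σ.cycleType.card 4 := Multiset.eq_replicate_card.2 hall
  have hsum : σ.cycleType.sum = 4 * σ.cycleType.card := by
    conv_lhs => rw [hrep, Multiset.sum_replicate, smul_eq_mul, mul_comm]
  have hsupp : σ.support = Finset.univ := Finset.eq_univ_of_forall fun x => Equiv.Perm.mem_support.2 fun h =>
    hσ2 x (by rw [h, h])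
  rw [Equiv.Perm.sign_of_cycleType, hsum] at hsign
  have hev : Even σ.cycleType.card := by
    have h : Even (4 * σ.cycleType.card + σ.cycleType.card) := by
      by_contra ho
      rw [(Nat.not_even_iff_odd.1 ho).neg_one_pow] at hsign
      exact absurd hsign (by decide)
    exact (Nat.even_add.1 h).1 ⟨2 * σ.cycleType.card, by ring⟩
  obtain ⟨j, hj⟩ := hev
  rw [Nat.card_eq_fintype_card, ← Finset.card_univ, ← hsupp, ← Equiv.Perm.sum_cycleType, hsum, hj]
  exact ⟨j, by ring⟩

end spinor

end CfsgLib.OrthInv
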