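import Mathlib
import Cfsg.Agent.Lib.LinFix.OrthUnip
import Cfsg.Agent.Lib.LinFix.OrthParaOdd

/-!
# Unipotent elements fixing no odd-dimensional non-degenerate subspace of a given class
-/

set_option autoImplicit false

namespace CfsgLib.OrthInv

open Module QuadraticMap
open CfsgLib.Classical.Quad (NDPolar)
open CfsgLib.LinFix (Inv)

variable {F : Type*} [Field F] [Fintype F] {V : Type*} [AddCommGroup V] [Module F V] [FiniteDimensional F V]
  {Q : QuadraticForm F V}

/-- An even-dimensional space as hyperbolic pairs and a diagonal plane. -/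
theorem exists_model (h2 : (2 : F) ≠ 0) (hQ : NDPolar Q) {d : ℕ} (hd : 1 ≤ d) (hdim : finrank F V = 2 * d)
    (κ : Type) [Fintype κ] (hκ : Fintype.card κ + 1 = d) :
    ∃ δ : F, δ ≠ 0 ∧ ∀ ν : F, ν ≠ 0 → ∃ E : (((κ → F) × (κ → F)) × (Fin 2 → F)) ≃ₗ[F] V,
      ∀ v, Q (E v) = (∑ k, v.1.1 k * v.1.2 k) + ν * v.2 0 ^ 2 + δ * ν * v.2 1 ^ 2 := by
  classical
  obtain ⟨a₀, c₀, hac⟩ := CfsgLib.RootCount.exists_aniso (F := F)
  obtain ⟨d', rfl⟩ : ∃ d', d = d' + 1 := ⟨d - 1, by omega⟩
  -- hyperbolic pairs and some binary form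
  suffices key : ∃ a b : F, 4 * b - a ^ 2 ≠ 0 ∧ ∃ E : (((Fin d' → F) × (Fin d' → F)) × (Fin 2 → F)) ≃ₗ[F] V,
      ∀ v, Q (E v) = (∑ k, v.1.1 k * v.1.2 k) + (v.2 0 ^ 2 + a * v.2 0 * v.2 1 + b * v.2 1 ^ 2) by
    obtain ⟨a, b, hab, E, hE⟩ := key
    have h4 : (4 : F) ≠ 0 := by
      rw [show (4 : F) = 2 * 2 by norm_num]; exact mul_ne_zero h2 h2
    refine ⟨(4 * b - a ^ 2) / 4, div_ne_zero hab h4, fun ν hν => ?_⟩
    set δ := (4 * b - a ^ 2) / 4 with hδ
    obtain ⟨s, t, hst⟩ : ∃ s t : F, 1 * s ^ 2 + δ * t ^ 2 = ν :=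
      CfsgLib.OrthSpinor.binary_universal h2 one_ne_zero (div_ne_zero hab h4) ν
    rw [one_mul] at hst
    let P : (Fin 2 → F) →ₗ[F] (Fin 2 → F) :=
      { toFun := fun w => ![(s * w 0 - δ * t * w 1) - a / 2 * (t * w 0 + s * w 1), t * w 0 + s * w 1]
        map_add' := fun u v => by funext i; fin_cases i <;> simp <;> ring
        map_smul' := fun c v => by funext i; fin_cases i <;> simp <;> ring }
    have hP : Function.Injective P := (injective_iff_map_eq_zero _).2 fun w hw => by
      have h0 := congrFun hw 0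
      have h1 := congrFun hw 1
      simp [P] at h0 h1
      have h0' : s * w 0 - δ * t * w 1 = 0 := by rw [h1, mul_zero, sub_zero] at h0; exact h0
      have e0 : ν * w 0 = 0 := by linear_combination (-w 0) * hst + s * h0' + δ * t * h1
      have e1 : ν * w 1 = 0 := by linear_combination (-w 1) * hst - t * h0' + s * h1
      funext i
      fin_cases i
      · exact (mul_eq_zero.1 e0).resolve_left hν
      · exact (mul_eq_zero.1 e1).resolve_left hν
    let e : Fin d' ≃ κ := (Fintype.equivFinOfCardEq (show Fintype.card κ = d' by omega)).symm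
    let R := LinearEquiv.funCongrLeft F F e
    refine ⟨((R.prodCongr R).prodCongr (LinearEquiv.ofInjectiveEndo P hP)).trans E, fun v => ?_⟩
    rw [LinearEquiv.trans_apply, hE]
    simp only [LinearEquiv.prodCongr_apply, R, LinearEquiv.funCongrLeft_apply, LinearMap.funLeft_apply,
      LinearEquiv.coe_ofInjectiveEndo]
    rw [Equiv.sum_comp e (fun k => v.1.1 k * v.1.2 k), add_assoc (∑ k, v.1.1 k * v.1.2 k)]
    congr 1
    simp only [P, LinearMap.coe_mk, AddHom.coe_mk, Matrix.cons_val_zero, Matrix.cons_val_one,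
      Matrix.cons_val_fin_one]
    have hb : b = δ + a ^ 2 / 4 := by rw [hδ]; field_simp; ring
    rw [hb, ← hst]
    field_simp
    ring
  rcases CfsgLib.RootCount.classify_even Q hQ hdim hac with ⟨-, G, hG⟩ | ⟨-, k, hk, G, hG⟩
  · refine ⟨1, 0, by simp, ?_⟩
    let f : (((Fin d' → F) × (Fin d' → F)) × (Fin 2 → F)) →ₗ[F] (Fin (d' + 1) ⊕ Fin (d' + 1) → F) :=
      { toFun := fun v => Sum.elim (Fin.snoc v.1.1 (v.2 0)) (Fin.snoc v.1.2 (v.2 0 + v.2 1))
        map_add' := fun u v => by
          funext x; rcases x with x | x <;> refine Fin.lastCases ?_ (fun i => ?_) x <;> simp <;> ring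
        map_smul' := fun c v => by
          funext x; rcases x with x | x <;> refine Fin.lastCases ?_ (fun i => ?_) x <;> simp <;> ring }
    have hf : Function.Injective f := (injective_iff_map_eq_zero _).2 fun v hv => by
      have hl := fun i => congrFun hv (Sum.inl i)
      have hr := fun i => congrFun hv (Sum.inr i)
      simp [f] at hl hr
      have h0 : v.2 0 = 0 := by simpa using hl (Fin.last d')
      refine Prod.ext (Prod.ext (funext fun i => ?_) (funext fun i => ?_)) (funext fun i => ?_)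
      · simpa using hl i.castSucc
      · simpa using hr i.castSucc
      · fin_cases i
        · exact h0
        · simpa [h0] using hr (Fin.last d')
    refine ⟨(f.linearEquivOfInjective hf (by simp; ring)).trans G, fun v => ?_⟩
    rw [LinearEquiv.trans_apply, hG, LinearMap.linearEquivOfInjective_apply]
    change Cfsg.quadFormPlus _ F (f v) = _
    simp only [Cfsg.quadFormPlus, f, LinearMap.coe_mk, AddHom.coe_mk, Sum.elim_inl, Sum.elim_inr]
    rw [Fin.sum_univ_castSucc]
    simp only [Fin.snoc_castSucc, Fin.snoc_last]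
    ring
  · obtain rfl : k = d' := by omega
    refine ⟨a₀, c₀, CfsgLib.Classical.Quad.IsAniso.disc hac, ?_⟩
    let f : (((Fin k → F) × (Fin k → F)) × (Fin 2 → F)) ≃ₗ[F] ((Fin k ⊕ Fin k) ⊕ Fin 2 → F) :=
      { toFun := fun v => Sum.elim (Sum.elim v.1.1 v.1.2) v.2
        invFun := fun g => ((fun i => g (.inl (.inl i)), fun i => g (.inl (.inr i))), fun i => g (.inr i))
        left_inv := fun v => rfl
        right_inv := fun g => by funext x; rcases x with (x | x) | x <;> rfl
        map_add' := fun u v => by funext x; rcases x with (x | x) | x <;> rfl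
        map_smul' := fun c v => by funext x; rcases x with (x | x) | x <;> rfl }
    refine ⟨f.trans G, fun v => ?_⟩
    rw [LinearEquiv.trans_apply, hG]
    rfl

section split

variable {T : Module.End F V} (hiso : ∀ v, Q (T v) = Q v) {W W' : Submodule F V}
  (hW : Inv T W) (hW' : Inv T W') (hdis : Disjoint W W') (hsup : W ⊔ W' = ⊤)
  (horth : ∀ x ∈ W, ∀ y ∈ W', polar Q x y = 0)

omit [Fintype F] [FiniteDimensional F V] in
theorem sub_one_mem {X : Submodule F V} (hX : Inv T X) {v : V} (hv : v ∈ X) : (T - 1) v ∈ X :=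
  X.sub_mem (hX v hv) hv

include hW hW' hdis hsup

omit [Fintype F] [FiniteDimensional F V] in
/-- The fixed vectors of a summand, when the fixed space is the image plus a line. -/
theorem ker_part {e : V} (hker : LinearMap.ker (T - 1) ≤ LinearMap.range (T - 1) ⊔ F ∙ e) {eW eW' : V}
    (heW : eW ∈ W) (heW' : eW' ∈ W') (he : eW + eW' = e) :
    W ⊓ LinearMap.ker (T - 1) ≤ W.map (T - 1) ⊔ F ∙ eW := by
  rintro v ⟨hv, hv'⟩
  obtain ⟨_, ⟨u, rfl⟩, _, ht, hsum⟩ := Submodule.mem_sup.1 (hker hv')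
  obtain ⟨t, rfl⟩ := Submodule.mem_span_singleton.1 ht
  obtain ⟨a, ha, b, hb, rfl⟩ := Submodule.mem_sup.1 (hsup ▸ Submodule.mem_top (x := u))
  have h0 : (T - 1) b + t • eW' = 0 := (Submodule.disjoint_def.1 hdis) _ (by
    have : (T - 1) b + t • eW' = v - ((T - 1) a + t • eW) := by
      rw [← hsum, ← he, map_add, smul_add]; abel
    rw [this]
    exact W.sub_mem hv (W.add_mem (sub_one_mem hW ha) (W.smul_mem t heW)))
    (W'.add_mem (sub_one_mem hW' hb) (W'.smul_mem t heW'))
  refine Submodule.mem_sup.2 ⟨(T - 1) a, Submodule.mem_map_of_mem ha, t • eW,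
    Submodule.smul_mem _ _ (Submodule.mem_span_singleton_self eW), ?_⟩
  rw [← hsum, ← he, map_add, smul_add]
  linear_combination (norm := abel) (-1 : ℤ) • h0

include hiso horth

/-- The summand annihilated by the square, with a fixed vector of the same norm. -/
theorem split_one (h2 : (2 : F) ≠ 0) (hWn : Nd Q W) (hW'n : Nd Q W')
    (hN3 : ∀ v, (T - 1) ((T - 1) ((T - 1) v)) = 0) {e : V} (he0 : (T - 1) e = 0)
    (hker : LinearMap.ker (T - 1) ≤ LinearMap.range (T - 1) ⊔ F ∙ e)
    (hrk : finrank F (LinearMap.range ((T - 1) * (T - 1))) ≤ 1) (hodd : Odd (finrank F W))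
    (hodd' : Odd (finrank F W')) (h4 : (finrank F W + finrank F W') % 4 = 0)
    (hz : ∀ v ∈ W, (T - 1) ((T - 1) v) = 0) :
    ∃ a u, finrank F W = 2 * a + 1 ∧ finrank F W % 4 = 1 ∧ finrank F (W.map (T - 1)) = a ∧ u ∈ W ∧
      u ∉ W.map (T - 1) ∧ (T - 1) u = 0 ∧ Q u = Q e ∧
      W ⊓ LinearMap.ker (T - 1) = W.map (T - 1) ⊔ F ∙ u := by
  set N := T - 1 with hN
  obtain ⟨eW, heW, eW', heW', he⟩ := Submodule.mem_sup.1 (hsup ▸ Submodule.mem_top (x := e))
  have hfix : N eW = 0 ∧ N eW' = 0 := by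
    have h : N eW + N eW' = 0 := by rw [← map_add, he, he0]
    have h1 : N eW = 0 := (Submodule.disjoint_def.1 hdis) _ (sub_one_mem hW heW) (by
      rw [eq_neg_of_add_eq_zero_left h]; exact W'.neg_mem (sub_one_mem hW' heW'))
    exact ⟨h1, by rwa [h1, zero_add] at h⟩
  have hminus : ∀ v, T v = -v → v = 0 := fun v hv => by
    have h := hN3 v
    simp only [hN, LinearMap.sub_apply, Module.End.one_apply, map_sub, hv, map_neg] at h
    have h8 : ((2 : F) * 2 * 2) • v = 0 := by
      rw [mul_smul, mul_smul, two_smul F, two_smul F, two_smul F]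
      linear_combination (norm := abel) (-1 : ℤ) • h
    exact (smul_eq_zero.1 h8).resolve_left (mul_ne_zero (mul_ne_zero h2 h2) h2)
  obtain ⟨a, ha⟩ := even_moved h2 hiso hminus hW hWn
  obtain ⟨b, hb⟩ := even_moved h2 hiso hminus hW' hW'n
  rw [← hN] at ha hb
  have h1 := map_step N W
  have h1' := map_step N W'
  have hk1 : W ⊓ LinearMap.ker N ≤ W.map N ⊔ F ∙ eW := ker_part hW hW' hdis hsup hker heW heW' he
  have hk1' : W' ⊓ LinearMap.ker N ≤ W'.map N ⊔ F ∙ eW' :=
    ker_part hW' hW hdis.symm (by rw [sup_comm, hsup]) hker heW' heW (by rw [add_comm, he])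
  have hle : W.map N ⊔ F ∙ eW ≤ W ⊓ LinearMap.ker N := by
    refine sup_le ?_ ((Submodule.span_singleton_le_iff_mem _ _).2 ⟨heW, hfix.1⟩)
    rintro _ ⟨v, hv, rfl⟩
    exact ⟨sub_one_mem hW hv, hz v hv⟩
  have hge := Submodule.finrank_mono (le_sup_left.trans hle)
  have hline : ∀ (X : Submodule F V) (v : V), finrank F ↥(X ⊔ F ∙ v) ≤ finrank F X + 1 := fun X v => by
    refine (Submodule.finrank_add_le_finrank_add_finrank _ _).trans (Nat.add_le_add_left ?_ _)
    exact (finrank_span_le_card ({v} : Set V)).trans (by simp)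
  have hle1 := (Submodule.finrank_mono hk1).trans (hline _ _)
  obtain ⟨j, hj⟩ := hodd
  have hu : eW ∉ W.map N := fun h => by
    have h' := Submodule.finrank_mono hk1
    rw [sup_eq_left.2 ((Submodule.span_singleton_le_iff_mem _ _).2 h)] at h'
    omega
  -- the square is non-zero on the other summand
  have hle' : W'.map N ⊓ LinearMap.ker N ≤ W' ⊓ LinearMap.ker N :=
    inf_le_inf_right _ (by rintro _ ⟨v, hv, rfl⟩; exact sub_one_mem hW' hv)
  have h3 := map_step N (W'.map N)
  have hsq : finrank F ((W'.map N).map N) ≤ 1 := by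
    refine (Submodule.finrank_mono ?_).trans hrk
    rintro _ ⟨_, ⟨v, -, rfl⟩, rfl⟩
    exact ⟨v, rfl⟩
  have hle2 := Submodule.finrank_mono hle'
  have hle3 := (Submodule.finrank_mono hk1').trans (hline _ _)
  obtain ⟨j', hj'⟩ := hodd'
  have heq : W' ⊓ LinearMap.ker N = W'.map N ⊓ LinearMap.ker N := by
    refine (Submodule.eq_of_le_of_finrank_le hle' ?_).symm
    by_contra hlt
    have hz' : finrank F ((W'.map N).map N) = 0 → False := fun h0 => by
      have hsub : W'.map N ⊓ LinearMap.ker N = W'.map N := by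
        refine Submodule.eq_of_le_of_finrank_eq inf_le_left ?_
        omega
      omega
    have h3' : finrank F ↥(W'.map N ⊔ F ∙ eW') = finrank F (W'.map N) + 1 ∨
        finrank F ↥(W'.map N ⊔ F ∙ eW') ≤ finrank F (W'.map N) := by
      have := hline (W'.map N) eW'
      omega
    -- the fixed vectors of the other summand which are images
    have hsub2 : W' ⊓ LinearMap.ker N ≤ (W'.map N ⊓ LinearMap.ker N) ⊔ F ∙ eW' := by
      intro v hv
      obtain ⟨x, hx, y, hy, rfl⟩ := Submodule.mem_sup.1 (hk1' hv)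
      obtain ⟨t, rfl⟩ := Submodule.mem_span_singleton.1 hy
      refine Submodule.add_mem_sup ⟨hx, ?_⟩ hy
      have h : N (x + t • eW') = 0 := hv.2
      show N x = 0
      rwa [map_add, map_smul, hfix.2, smul_zero, add_zero] at h
    have := (Submodule.finrank_mono hsub2).trans (hline _ _)
    omega
  have he' : polar Q eW' eW' = 0 := by
    have hmem : eW' ∈ W'.map N ⊓ LinearMap.ker N := heq ▸ ⟨heW', hfix.2⟩
    obtain ⟨⟨v, -, hv⟩, -⟩ := hmem
    exact polar_fix_range hiso (T := T) hfix.2 ⟨v, hv⟩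
  have hQ' : Q eW' = 0 := by
    rw [CfsgLib.Classical.Quad.polar_self'] at he'
    exact (mul_eq_zero.1 he').resolve_left h2
  refine ⟨a + a, eW, by omega, by omega, ha, heW, hu, hfix.1, ?_, le_antisymm hk1 hle⟩
  rw [← he, QuadraticMap.map_add (⇑Q), hQ', horth _ heW _ heW', add_zero, add_zero]

end split

/-- Vectors of norm one in a space annihilated by the square, with fixed space an isotropic space plus a line. -/
theorem card_level_one {T : Module.End F V} (hiso : ∀ v, Q (T v) = Q v) {X : Submodule F V} (hX : Inv T X)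
    (hXn : Nd Q X) (hz : ∀ v ∈ X, (T - 1) ((T - 1) v) = 0) (h2 : (2 : F) ≠ 0) {a : ℕ}
    (hdim : finrank F X = 2 * a + 1) (hL : finrank F (X.map (T - 1)) = a) {u : V} (hu : u ∈ X)
    (hu' : u ∉ X.map (T - 1)) (hfu : (T - 1) u = 0)
    (hK : X ⊓ LinearMap.ker (T - 1) = X.map (T - 1) ⊔ F ∙ u) :
    Fintype.card F * Nat.card {v : X // Q (v : V) = 1} + Fintype.card F ^ (a + 1) =
      Fintype.card F ^ (2 * a + 1) + Fintype.card F ^ (a + 1) * Nat.card {t : F // t * t * Q u = 1} := by
  classical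
  haveI : Finite V := Module.finite_of_finite F
  set q := Fintype.card F with hq
  set L := X.map (T - 1) with hLdef
  have hLX : L ≤ X := by rintro _ ⟨v, hv, rfl⟩; exact sub_one_mem hX hv
  have hLfix : ∀ l ∈ L, (T - 1) l = 0 := by rintro _ ⟨v, hv, rfl⟩; exact hz v hv
  have horthL : ∀ v, (T - 1) v = 0 → ∀ l ∈ L, polar Q v l = 0 := by
    rintro v hv _ ⟨w, -, rfl⟩
    exact polar_fix_range hiso hv ⟨w, rfl⟩
  have hQL : ∀ l ∈ L, Q l = 0 := fun l hl => by
    have h := horthL l (hLfix l hl) l hl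
    rw [CfsgLib.Classical.Quad.polar_self'] at h
    exact (mul_eq_zero.1 h).resolve_left h2
  -- vectors moved by the map pair non-trivially with the image
  have hperp : ∀ v ∈ X, (∀ l ∈ L, polar Q v l = 0) → (T - 1) v = 0 := by
    intro v hv h
    refine hXn _ (sub_one_mem hX hv) fun y hy => ?_
    obtain ⟨y', hy'⟩ : ∃ y' : X, T (y' : V) = y := by
      have hinj : Function.Injective (T.restrict hX) := (injective_iff_map_eq_zero _).2 fun x hx =>
        Subtype.ext (hXn x x.2 fun z hz => by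
          rw [← polar_map_eq hiso, show T (x : V) = 0 from congrArg Subtype.val hx, polar_zero_left])
      obtain ⟨y', hy'⟩ := LinearMap.injective_iff_surjective.1 hinj ⟨y, hy⟩
      exact ⟨y', congrArg Subtype.val hy'⟩
    have h' := h ((T - 1) y') ⟨y', y'.2, rfl⟩
    rw [LinearMap.sub_apply, Module.End.one_apply, polar_sub_right] at h'
    rw [LinearMap.sub_apply, Module.End.one_apply, polar_sub_left, ← hy', polar_map_eq hiso]
    linear_combination -h'
  let K := {v : X // (T - 1) (v : V) = 0}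
  let M := {v : X // (T - 1) (v : V) ≠ 0}
  -- moved vectors are equidistributed
  have hM : q * Nat.card {v : M // Q ((v.1 : X) : V) = 1} = Nat.card M := by
    haveI := Fintype.ofFinite M
    have hshift : ∀ (x : M) (l : L), (T - 1) (((x.1 : X) : V) + l) ≠ 0 := fun x l => by
      rw [map_add, hLfix _ l.2, add_zero]; exact x.2
    let e : {p : M × L // Q (((p.1.1 : X) : V) + p.2) = 1} ≃ {v : M // Q ((v.1 : X) : V) = 1} × L :=
      { toFun := fun p => (⟨⟨⟨((p.1.1.1 : X) : V) + p.1.2, X.add_mem p.1.1.1.2 (hLX p.1.2.2)⟩,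
          hshift p.1.1 p.1.2⟩, p.2⟩, p.1.2)
        invFun := fun p => ⟨(⟨⟨((p.1.1.1 : X) : V) + (-p.2 : L), X.add_mem p.1.1.1.2 (hLX (-p.2 : L).2)⟩,
          hshift p.1.1 (-p.2)⟩, p.2), by
            show Q ((((p.1.1.1 : X) : V) + ((-p.2 : L) : V)) + (p.2 : V)) = 1
            rw [Submodule.coe_neg, neg_add_cancel_right]; exact p.1.2⟩
        left_inv := fun p => by
          refine Subtype.ext (Prod.ext (Subtype.ext (Subtype.ext ?_)) rfl)
          show (((p.1.1.1 : X) : V) + (p.1.2 : V)) + ((-p.1.2 : L) : V) = _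
          rw [Submodule.coe_neg, add_neg_cancel_right]
        right_inv := fun p => by
          refine Prod.ext (Subtype.ext (Subtype.ext (Subtype.ext ?_))) rfl
          show (((p.1.1.1 : X) : V) + ((-p.2 : L) : V)) + (p.2 : V) = _
          rw [Submodule.coe_neg, neg_add_cancel_right] }
    have hfibre : ∀ x : M, q * Nat.card {l : L // Q (((x.1 : X) : V) + l) = 1} = Nat.card L := by
      intro x
      let ψ : L →ₗ[F] F := (polarBilin Q ((x.1 : X) : V)).comp L.subtype
      obtain ⟨l₁, hl₁⟩ : ∃ l : L, ψ l = 1 := by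
        have hne : ∃ l : L, ψ l ≠ 0 := by
          by_contra hc
          push Not at hc
          exact x.2 (hperp _ x.1.2 fun l hl => hc ⟨l, hl⟩)
        obtain ⟨l, hl⟩ := hne
        exact ⟨(ψ l)⁻¹ • l, by rw [map_smul, smul_eq_mul, inv_mul_cancel₀ hl]⟩
      have hval : ∀ l : L, Q (((x.1 : X) : V) + l) = Q ((x.1 : X) : V) + ψ l := fun l => by
        rw [QuadraticMap.map_add (⇑Q), hQL _ l.2, add_zero]; rfl
      let e' : L ≃ F × {l : L // Q (((x.1 : X) : V) + l) = 1} :=
        { toFun := fun l => (ψ l, ⟨l + (1 - Q ((x.1 : X) : V) - ψ l) • l₁, by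
            rw [hval, map_add, map_smul, hl₁, smul_eq_mul]; ring⟩)
          invFun := fun p => p.2.1 + (p.1 - (1 - Q ((x.1 : X) : V))) • l₁
          left_inv := fun l => by
            simp only
            rw [add_assoc, ← add_smul]
            simp
          right_inv := fun p => by
            have h := p.2.2
            rw [hval] at h
            have hψ : ψ (p.2.1 + (p.1 - (1 - Q ((x.1 : X) : V))) • l₁) = p.1 := by
              rw [map_add, map_smul, hl₁, smul_eq_mul]; linear_combination h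
            refine Prod.ext hψ (Subtype.ext ?_)
            simp only [hψ]
            rw [add_assoc, ← add_smul]
            simp }
      rw [Nat.card_congr e', Nat.card_prod, hq, Nat.card_eq_fintype_card (α := F)]
    have h1 : Nat.card {p : M × L // Q (((p.1.1 : X) : V) + p.2) = 1} =
        ∑ x : M, Nat.card {l : L // Q (((x.1 : X) : V) + l) = 1} := by
      rw [Nat.card_congr (Equiv.subtypeProdEquivSigmaSubtype fun (x : M) (l : L) =>
        Q (((x.1 : X) : V) + l) = 1), Nat.card_sigma]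
    have h3 := (Nat.card_congr e).symm.trans h1
    rw [Nat.card_prod] at h3
    have hLpos : 0 < Nat.card L := Nat.card_pos
    refine Nat.eq_of_mul_eq_mul_right hLpos ?_
    rw [mul_assoc, h3, Finset.mul_sum, Finset.sum_congr rfl fun x _ => hfibre x, Finset.sum_const,
      Finset.card_univ, smul_eq_mul, Nat.card_eq_fintype_card (α := M)]
  -- fixed vectors
  have hu0 : u ≠ 0 := fun h => hu' (h ▸ zero_mem _)
  let φ : L × F → K := fun p => ⟨⟨(p.1 : V) + p.2 • u, X.add_mem (hLX p.1.2) (X.smul_mem _ hu)⟩, by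
    show (T - 1) ((p.1 : V) + p.2 • u) = 0
    rw [map_add, map_smul, hfu, hLfix _ p.1.2, smul_zero, add_zero]⟩
  have hφ : Function.Bijective φ := by
    constructor
    · rintro ⟨l, t⟩ ⟨l', t'⟩ h
      have h' : (l : V) + t • u = (l' : V) + t' • u := congrArg (fun z : K => ((z.1 : X) : V)) h
      have ht : t = t' := by
        by_contra hne
        refine hu' ?_
        have hmem : (t - t') • u ∈ L := by
          have : (t - t') • u = (l' : V) - l := by
            rw [sub_smul]; linear_combination (norm := abel) h'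
          rw [this]; exact L.sub_mem l'.2 l.2
        exact (Submodule.smul_mem_iff _ (sub_ne_zero.2 hne)).1 hmem
      subst ht
      exact Prod.ext (Subtype.ext (add_right_cancel h')) rfl
    · rintro ⟨⟨v, hv⟩, hv'⟩
      have hmem : v ∈ X ⊓ LinearMap.ker (T - 1) := ⟨hv, hv'⟩
      rw [hK] at hmem
      obtain ⟨l, hl, y, hy, hsum⟩ := Submodule.mem_sup.1 hmem
      obtain ⟨t, rfl⟩ := Submodule.mem_span_singleton.1 hy
      exact ⟨(⟨l, hl⟩, t), Subtype.ext (Subtype.ext hsum)⟩
  have hKl : Nat.card {v : K // Q ((v.1 : X) : V) = 1} = q ^ a * Nat.card {t : F // t * t * Q u = 1} := by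
    have hQφ : ∀ p : L × F, Q (((φ p).1 : X) : V) = p.2 * p.2 * Q u := fun p => by
      show Q ((p.1 : V) + p.2 • u) = _
      rw [QuadraticMap.map_add (⇑Q), hQL _ p.1.2, QuadraticMap.map_smul, polar_smul_right,
        polar_comm, horthL u hfu _ p.1.2, smul_eq_mul, smul_eq_mul, mul_zero, zero_add, add_zero]
    rw [← Nat.card_congr ((Equiv.ofBijective φ hφ).subtypeEquiv (p := fun p => p.2 * p.2 * Q u = 1)
      (fun p => by rw [Equiv.ofBijective_apply, hQφ]))]
    let e2 : {p : L × F // p.2 * p.2 * Q u = 1} ≃ L × {t : F // t * t * Q u = 1} :=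
      { toFun := fun p => (p.1.1, ⟨p.1.2, p.2⟩)
        invFun := fun p => ⟨(p.1, p.2.1), p.2.2⟩
        left_inv := fun p => rfl
        right_inv := fun p => rfl }
    rw [Nat.card_congr e2, Nat.card_prod, Module.natCard_eq_pow_finrank (K := F) (V := L), hL,
      Nat.card_eq_fintype_card]
  have hKcard : Nat.card K = q ^ (a + 1) := by
    rw [← Nat.card_eq_of_bijective φ hφ, Nat.card_prod, Module.natCard_eq_pow_finrank (K := F) (V := L), hL,
      Nat.card_eq_fintype_card, pow_succ]
  have hsum1 : Nat.card K + Nat.card M = Nat.card X := by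
    rw [← Nat.card_sum]; exact Nat.card_congr (Equiv.sumCompl _)
  have hsum2 : Nat.card {v : K // Q ((v.1 : X) : V) = 1} + Nat.card {v : M // Q ((v.1 : X) : V) = 1} =
      Nat.card {v : X // Q (v : V) = 1} := by
    rw [← Nat.card_sum]
    exact Nat.card_congr ((Equiv.subtypeSum (p := fun s : K ⊕ M =>
      Q (((Equiv.sumCompl (fun v : X => (T - 1) (v : V) = 0)) s : X) : V) = 1)).symm.trans
      ((Equiv.sumCompl _).subtypeEquiv fun s => Iff.rfl))
  have hXcard : Nat.card X = q ^ (2 * a + 1) := by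
    rw [Module.natCard_eq_pow_finrank (K := F) (V := X), hdim, Nat.card_eq_fintype_card]
  rw [← hXcard, ← hsum1, hKcard, ← hsum2, mul_add, hKl, hM, pow_succ]
  ring

/-- Unipotent map on hyperbolic pairs and two blocks. -/
def unipN (s : ℕ) {t : ℕ} (ht : t ≤ 2) (lam : Fin 2 → F) :
    Module.End F ((((Fin s ⊕ Fin s) ⊕ Fin t → F) × ((Fin s ⊕ Fin s) ⊕ Fin t → F)) × (Fin 2 → F)) where
  toFun v := ((0, Sum.elim (Sum.elim (fun j => v.1.1 (.inl (.inr j))) (fun j => -v.1.1 (.inl (.inl j))))
      (fun l => -(2 * lam (Fin.rev (Fin.castLE ht l)) * v.2 (Fin.rev (Fin.castLE ht l))) -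
        lam (Fin.rev (Fin.castLE ht l)) * v.1.1 (.inr l))),
    fun i => ∑ l : Fin t, if Fin.rev (Fin.castLE ht l) = i then v.1.1 (.inr l) else 0)
  map_add' u v := by
    refine Prod.ext (Prod.ext (by simp) (funext fun x => ?_)) (funext fun i => ?_)
    · rcases x with (x | x) | x <;> simp <;> ring
    · simp [← Finset.sum_add_distrib, ← ite_add_zero]
  map_smul' c v := by
    refine Prod.ext (Prod.ext (by simp) (funext fun x => ?_)) (funext fun i => ?_)
    · rcases x with (x | x) | x <;> simp <;> ring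
    · simp [Finset.mul_sum]

/-- In odd characteristic some element of order `p` fixes no member of a class. -/
theorem exists_unipotent {p : ℕ} [Fact p.Prime] [CharP F p] (h2 : (2 : F) ≠ 0) (hp2 : p ≠ 2) (hQ : NDPolar Q)
    {d m : ℕ} (hd : 3 ≤ d) (hdim : finrank F V = 2 * d) (hm : Odd m) {W₀ : Submodule F V} (hW₀ : Nd Q W₀)
    (hW₀m : finrank F W₀ = m) :
    ∃ T : Module.End F V, (∀ v, Q (T v) = Q v) ∧ T ^ p = 1 ∧ T ≠ 1 ∧
      ∀ W, Good Q W₀ m W → ¬ Inv T W := by
  classical
  haveI : Finite V := Module.finite_of_finite F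
  -- the number of blocks
  obtain ⟨t, s, ht, hκ, hcase⟩ : ∃ t s : ℕ, t ≤ 2 ∧ s + s + t + 1 = d ∧
      (t = 0 ∧ m % 4 = 3 ∧ 1 ≤ s ∨ t = 1 ∨ t = 2 ∧ m % 4 = 1) := by
    obtain ⟨j, hj⟩ := hm
    rcases Nat.even_or_odd' d with ⟨e, rfl | rfl⟩
    · exact ⟨1, e - 1, by omega, by omega, Or.inr (Or.inl rfl)⟩
    · rcases (by omega : m % 4 = 1 ∨ m % 4 = 3) with h | h
      · exact ⟨2, e - 1, by omega, by omega, Or.inr (Or.inr ⟨rfl, h⟩)⟩
      · exact ⟨0, e, by omega, by omega, Or.inl ⟨rfl, h, by omega⟩⟩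
  obtain ⟨δ, hδ, hmodel⟩ := exists_model h2 hQ (d := d) (by omega) hdim ((Fin s ⊕ Fin s) ⊕ Fin t)
    (by simp; omega)
  obtain ⟨R, -, -, hRn, hRd, hRs, hRo⟩ := exists_compl_in (T := 1) (fun v => rfl) (fun v hv => hv) hW₀
    (fun v hv => hv) (nd_top hQ) le_top
  rw [finrank_top, hdim] at hRs
  set ref : Submodule F V := if m % 4 = 1 then W₀ else R with href
  set a₀ := (finrank F ref - 1) / 2 with ha₀
  -- choose the norm of the fixed line
  obtain ⟨ν, hν0, hν⟩ : ∃ ν : F, ν ≠ 0 ∧ Fintype.card F * Nat.card {v : ref // Q (v : V) = 1} +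
      Fintype.card F ^ (a₀ + 1) ≠ Fintype.card F ^ (2 * a₀ + 1) +
        Fintype.card F ^ (a₀ + 1) * Nat.card {x : F // x * x * ν = 1} := by
    obtain ⟨ν, hν0, hns⟩ := CfsgLib.OrthSpinor.exists_nonsquare' (F := F) h2
    by_cases h : Fintype.card F * Nat.card {v : ref // Q (v : V) = 1} + Fintype.card F ^ (a₀ + 1) =
        Fintype.card F ^ (2 * a₀ + 1) + Fintype.card F ^ (a₀ + 1) * Nat.card {x : F // x * x * ν = 1}
    · refine ⟨1, one_ne_zero, fun h' => ?_⟩
      have h0 : IsEmpty {x : F // x * x * ν = 1} := ⟨fun x => hns ⟨x.1⁻¹, by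
        have hx : x.1 ≠ 0 := fun h0 => by have := x.2; simp [h0] at this
        field_simp
        linear_combination x.2⟩⟩
      rw [@Nat.card_of_isEmpty _ h0, mul_zero] at h
      have hpos : 0 < Nat.card {x : F // x * x * (1 : F) = 1} :=
        Nat.card_pos_iff.2 ⟨⟨⟨1, by simp⟩⟩, inferInstance⟩
      have : 0 < Fintype.card F ^ (a₀ + 1) * Nat.card {x : F // x * x * (1 : F) = 1} :=
        mul_pos (pow_pos Fintype.card_pos _) hpos
      omega
    · exact ⟨ν, hν0, h⟩
  obtain ⟨E, hE⟩ := hmodel ν hν0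
  let lam : Fin 2 → F := ![ν, δ * ν]
  have hlam : ∀ i, lam i ≠ 0 := fun i => by fin_cases i <;> simp [lam, hν0, hδ]
  let ρ : Fin t → Fin 2 := fun l => Fin.rev (Fin.castLE ht l)
  have hρ : Function.Injective ρ := fun a b h => Fin.castLE_injective ht (Fin.rev_injective h)
  let N := unipN (F := F) s ht lam
  have hN1 : ∀ v, (N v).1.1 = 0 := fun v => rfl
  have hNy : ∀ v l, (N v).1.2 (.inr l) = -(2 * lam (ρ l) * v.2 (ρ l)) - lam (ρ l) * v.1.1 (.inr l) := fun v l => rfl
  have hNw : ∀ v i, (N v).2 i = ∑ l, if ρ l = i then v.1.1 (.inr l) else 0 := fun v i => rfl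
  have hNw' : ∀ v l, (N v).2 (ρ l) = v.1.1 (.inr l) := fun v l => by
    rw [hNw, Finset.sum_eq_single l (fun b _ hb => if_neg (hρ.ne hb)) (by simp), if_pos rfl]
  have hNw0 : ∀ v, v.1.1 = 0 → (N v).2 = 0 := fun v h => funext fun i => by simp [hNw, h]
  let T : Module.End F V := E.conj (1 + N)
  have hTE : ∀ v, T (E v) = E (v + N v) := fun v => by
    simp [T, LinearEquiv.conj_apply]
  have hT1E : ∀ v, (T - 1) (E v) = E (N v) := fun v => by
    rw [LinearMap.sub_apply, Module.End.one_apply, hTE, map_add]; abel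
  have hiso : ∀ v, Q (T v) = Q v := by
    intro v
    obtain ⟨v, rfl⟩ := E.surjective v
    rw [hTE, hE, hE]
    have hw : ν * (v + N v).2 0 ^ 2 + δ * ν * (v + N v).2 1 ^ 2 = ∑ i, lam i * (v + N v).2 i ^ 2 := by
      simp [lam, Fin.sum_univ_two]
    have hw' : ν * v.2 0 ^ 2 + δ * ν * v.2 1 ^ 2 = ∑ i, lam i * v.2 i ^ 2 := by
      simp [lam, Fin.sum_univ_two]
    rw [add_assoc, hw, add_assoc, hw']
    have hsplit : ∑ i, lam i * (v + N v).2 i ^ 2 = ∑ i, lam i * v.2 i ^ 2 +
        ∑ l, (2 * lam (ρ l) * v.2 (ρ l) * v.1.1 (.inr l) + lam (ρ l) * v.1.1 (.inr l) ^ 2) := by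
      have hterm : ∀ i, lam i * (v + N v).2 i ^ 2 = lam i * v.2 i ^ 2 +
          ∑ l, if ρ l = i then 2 * lam i * v.2 i * v.1.1 (.inr l) + lam i * v.1.1 (.inr l) ^ 2 else 0 := by
        intro i
        rw [Prod.snd_add, Pi.add_apply, hNw]
        by_cases hi : ∃ l, ρ l = i
        · obtain ⟨l, rfl⟩ := hi
          rw [Finset.sum_eq_single l (fun b _ hb => if_neg (hρ.ne hb)) (by simp),
            Finset.sum_eq_single l (fun b _ hb => if_neg (hρ.ne hb)) (by simp), if_pos rfl, if_pos rfl]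
          ring
        · push Not at hi
          simp [hi]
      rw [Finset.sum_congr rfl fun i _ => hterm i, Finset.sum_add_distrib, Finset.sum_comm]
      simp
    rw [hsplit]
    simp only [Fintype.sum_sum_type, Prod.fst_add, Prod.snd_add, Pi.add_apply, hN1, Pi.zero_apply, add_zero, hNy]
    simp only [N, unipN, LinearMap.coe_mk, AddHom.coe_mk, Sum.elim_inl, Sum.elim_inr, mul_add, mul_sub,
      mul_neg, Finset.sum_add_distrib, Finset.sum_sub_distrib, Finset.sum_neg_distrib]
    simp only [mul_comm, mul_left_comm, pow_two]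
    ring
  have hN2 : ∀ v, (N (N v)).1.1 = 0 ∧ (N (N v)).2 = 0 ∧ ∀ x, (N (N v)).1.2 (.inl x) = 0 := fun v => by
    refine ⟨rfl, hNw0 _ rfl, fun x => ?_⟩
    rcases x with x | x <;> simp [N, unipN]
  have hN3 : ∀ v, (T - 1) ((T - 1) ((T - 1) v)) = 0 := fun v => by
    obtain ⟨v, rfl⟩ := E.surjective v
    rw [hT1E, hT1E, hT1E]
    refine E.map_eq_zero_iff.2 (Prod.ext (Prod.ext rfl (funext fun x => ?_)) (hNw0 _ rfl))
    rcases x with x | l
    · exact (hN2 (N v)).2.2 x
    · rw [hNy, (hN2 v).2.1, (hN2 v).1]; simp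
  have hkerE : ∀ v, (T - 1) (E v) = 0 → v.1.1 = 0 ∧ ∀ l, v.2 (ρ l) = 0 := by
    intro v hv
    rw [hT1E, E.map_eq_zero_iff] at hv
    have hx : ∀ l, v.1.1 (.inr l) = 0 := fun l => by rw [← hNw', hv]; rfl
    refine ⟨funext fun x => ?_, fun l => ?_⟩
    · rcases x with (j | j) | l
      · have := congrFun (congrArg (fun z => z.1.2) hv) (.inl (.inr j))
        simpa [N, unipN] using this
      · have := congrFun (congrArg (fun z => z.1.2) hv) (.inl (.inl j))
        simpa [N, unipN] using this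
      · exact hx l
    · have h := congrFun (congrArg (fun z => z.1.2) hv) (.inr l)
      simp only [hNy, hx l, mul_zero, sub_zero, Prod.fst_zero, Prod.snd_zero, Pi.zero_apply, neg_eq_zero] at h
      exact (mul_eq_zero.1 h).resolve_left (mul_ne_zero h2 (hlam _))
  have hrange : ∀ v : (((Fin s ⊕ Fin s) ⊕ Fin t → F) × ((Fin s ⊕ Fin s) ⊕ Fin t → F)) × (Fin 2 → F),
      v.1.1 = 0 → (∀ i, (∀ l, ρ l ≠ i) → v.2 i = 0) → E v ∈ LinearMap.range (T - 1) := by
    intro v hv0 hw
    let u : (((Fin s ⊕ Fin s) ⊕ Fin t → F) × ((Fin s ⊕ Fin s) ⊕ Fin t → F)) × (Fin 2 → F) :=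
      ((Sum.elim (Sum.elim (fun j => -v.1.2 (.inl (.inr j))) (fun j => v.1.2 (.inl (.inl j))))
        (fun l => v.2 (ρ l)), 0),
       fun i => ∑ l, if ρ l = i then -(v.1.2 (.inr l) + lam (ρ l) * v.2 (ρ l)) / (2 * lam (ρ l)) else 0)
    refine ⟨E u, ?_⟩
    rw [hT1E]
    congr 1
    refine Prod.ext (Prod.ext hv0.symm (funext fun x => ?_)) (funext fun i => ?_)
    · rcases x with (j | j) | l
      · simp [N, unipN, u]
      · simp [N, unipN, u]
      · rw [hNy]
        have hu : u.2 (ρ l) = -(v.1.2 (.inr l) + lam (ρ l) * v.2 (ρ l)) / (2 * lam (ρ l)) := by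
          simp only [u]
          rw [Finset.sum_eq_single l (fun b _ hb => if_neg (hρ.ne hb)) (by simp), if_pos rfl]
        rw [hu, show u.1.1 (.inr l) = v.2 (ρ l) from rfl]
        have := hlam (ρ l)
        field_simp
        ring
    · by_cases hi : ∃ l, ρ l = i
      · obtain ⟨l, rfl⟩ := hi
        rw [hNw']; rfl
      · push Not at hi
        rw [hNw, hw i hi]
        simp [hi]
  have hsqrk : finrank F (LinearMap.range ((T - 1) * (T - 1))) ≤ t := by
    let ext₀ : (Fin t → F) →ₗ[F] ((Fin s ⊕ Fin s) ⊕ Fin t → F) :=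
      { toFun := fun c => Sum.elim 0 c
        map_add' := fun a b => by funext x; rcases x with x | x <;> simp
        map_smul' := fun a b => by funext x; rcases x with x | x <;> simp }
    let J : (Fin t → F) →ₗ[F] V := E.toLinearMap.comp ((LinearMap.inl F _ _).comp ((LinearMap.inr F _ _).comp ext₀))
    refine (Submodule.finrank_mono ?_).trans ((LinearMap.finrank_range_le J).trans (by simp))
    rintro _ ⟨v, rfl⟩
    obtain ⟨v, rfl⟩ := E.surjective v
    refine ⟨fun l => (N (N v)).1.2 (.inr l), ?_⟩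
    rw [Module.End.mul_apply, hT1E, hT1E]
    refine congrArg E (Prod.ext (Prod.ext (hN2 v).1.symm (funext fun x => ?_)) (hN2 v).2.1.symm)
    rcases x with x | l
    · exact ((hN2 v).2.2 x).symm
    · rfl
  refine ⟨T, hiso, pow_char_eq_one hp2 hN3, ?_, ?_⟩
  · intro h1
    have hz : ∀ v, E (N v) = 0 := fun v => by rw [← hT1E, h1, sub_self]; rfl
    rcases hcase with ⟨-, -, hs⟩ | hc | ⟨hc, -⟩
    · have h := congrFun (congrArg (fun z => z.1.2) (E.map_eq_zero_iff.1 (hz ((fun _ => 1, 0), 0))))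
        (.inl (.inl ⟨0, hs⟩))
      simp [N, unipN] at h
    all_goals
      have h := hNw' ((fun _ => 1, 0), 0) ⟨0, by omega⟩
      rw [E.map_eq_zero_iff.1 (hz _)] at h
      simp at h
  intro W hW hWinv
  obtain ⟨hWm, hWn, hWi⟩ := hW
  rcases hcase with ⟨rfl, hm4, -⟩ | rfl | ⟨rfl, hm4⟩
  · -- pairs only
    have hN2' : ∀ v, (T - 1) ((T - 1) v) = 0 := fun v => by
      have h := LinearMap.mem_range_self ((T - 1) * (T - 1)) v
      rwa [Submodule.finrank_eq_zero.1 (Nat.le_zero.1 hsqrk), Submodule.mem_bot] at h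
    have hrk : 2 * s ≤ finrank F (LinearMap.range (T - 1)) := by
      let J : (((Fin s ⊕ Fin s) ⊕ Fin 0) → F) →ₗ[F] V :=
        E.toLinearMap.comp ((LinearMap.inl F _ _).comp (LinearMap.inr F _ _))
      have hJ : Function.Injective J := E.injective.comp (LinearMap.inl_injective.comp LinearMap.inr_injective)
      have h := LinearMap.finrank_range_of_inj hJ
      simp at h
      rw [two_mul, ← h]
      refine Submodule.finrank_mono ?_
      rintro _ ⟨y, rfl⟩
      exact hrange _ rfl (fun i _ => rfl)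
    have := odd_dim_mod_four h2 hQ hiso hN2' (k := 1) le_rfl (by rw [hdim]; omega) hWinv hWn (hWm.symm ▸ hm)
    omega
  · -- one block and a line
    let e : V := E ((0, 0), Pi.single 0 1)
    have hQe : Q e = ν := by simp [e, hE]
    have hρ0 : ρ 0 = 1 := rfl
    have he0 : (T - 1) e = 0 := by
      rw [hT1E, E.map_eq_zero_iff]
      refine Prod.ext (Prod.ext rfl (funext fun x => ?_)) (hNw0 _ rfl)
      rcases x with (x | x) | l
      · simp [N, unipN]
      · simp [N, unipN]
      · rw [hNy, Fin.fin_one_eq_zero l, hρ0]; simp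
    have hker : LinearMap.ker (T - 1) ≤ LinearMap.range (T - 1) ⊔ F ∙ e := by
      intro v hv
      obtain ⟨v, rfl⟩ := E.surjective v
      obtain ⟨hx, hw⟩ := hkerE v hv
      have hsplit : E v = E (v - v.2 0 • ((0, 0), Pi.single 0 1)) + v.2 0 • e := by
        rw [map_sub, map_smul]; exact (sub_add_cancel _ _).symm
      rw [hsplit]
      refine Submodule.add_mem_sup (hrange _ (by simp [hx]) fun i hi => ?_)
        (Submodule.smul_mem _ _ (Submodule.mem_span_singleton_self e))
      fin_cases i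
      · simp
      · exact absurd hρ0 (hi 0)
    obtain ⟨W', -, hW', hW'n, hdis, hsum, horth⟩ :=
      exists_compl_in hiso hWinv hWn (CfsgLib.LinFix.inv_top T) (nd_top hQ) le_top
    rw [finrank_top, hdim] at hsum
    have hsup : W ⊔ W' = ⊤ := Submodule.eq_top_of_finrank_eq (by
      rw [CfsgLib.LinFix.finrank_sup_of_disjoint hdis, hdim, hsum])
    have hodd : Odd (finrank F W) := hWm.symm ▸ hm
    have hodd' : Odd (finrank F W') := by
      obtain ⟨j, hj⟩ := hodd
      rw [Nat.odd_iff]; omega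
    have hrk1 : finrank F (LinearMap.range ((T - 1) * (T - 1))) ≤ 1 := hsqrk
    -- one of the summands is annihilated by the square
    have hz : (∀ v ∈ W, (T - 1) ((T - 1) v) = 0) ∨ (∀ v ∈ W', (T - 1) ((T - 1) v) = 0) := by
      by_contra hc
      rw [not_or] at hc
      push Not at hc
      obtain ⟨⟨x, hx, hx'⟩, ⟨y, hy, hy'⟩⟩ := hc
      set Z := LinearMap.range ((T - 1) * (T - 1))
      have hxZ : (T - 1) ((T - 1) x) ∈ Z := ⟨x, rfl⟩
      have hyZ : (T - 1) ((T - 1) y) ∈ Z := ⟨y, rfl⟩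
      obtain ⟨c, hc⟩ := exists_smul_eq_of_finrank_eq_one
        (le_antisymm hrk1 (Submodule.one_le_finrank_iff.2 fun h => hx' ((Submodule.mem_bot F).1 (h ▸ hxZ))))
        (x := (⟨_, hxZ⟩ : Z)) (fun h => hx' (congrArg Subtype.val h)) ⟨_, hyZ⟩
      have hc' : c • (T - 1) ((T - 1) x) = (T - 1) ((T - 1) y) := congrArg Subtype.val hc
      exact hy' ((Submodule.disjoint_def.1 hdis) _ (hc' ▸ W.smul_mem c (sub_one_mem hWinv (sub_one_mem hWinv hx)))
        (sub_one_mem hW' (sub_one_mem hW' hy)))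
    have hbad : ∀ {X Y : Submodule F V}, Inv T X → Inv T Y → Nd Q X → Nd Q Y → Disjoint X Y → X ⊔ Y = ⊤ →
        (∀ x ∈ X, ∀ y ∈ Y, polar Q x y = 0) → Odd (finrank F X) → Odd (finrank F Y) →
        finrank F X + finrank F Y = 2 * d → (∀ v ∈ X, (T - 1) ((T - 1) v) = 0) → Iso Q X ref → False := by
      intro X Y hX hY hXn hYn hXY hXYt hXYo hXo hYo hXYs hXz hXi
      obtain ⟨a, u, hdimX, -, hLa, hu, hu', hfu, hQu, hK⟩ := split_one hiso hX hY hXY hXYt hXYo h2 hXn hYn hN3
        he0 hker hrk1 hXo hYo (by omega) hXz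
      have hc := card_level_one hiso hX hXn hXz h2 hdimX hLa hu hu' hfu hK
      obtain ⟨ψ, hψ⟩ := hXi
      have hcard : Nat.card {v : X // Q (v : V) = 1} = Nat.card {v : ref // Q (v : V) = 1} :=
        Nat.card_congr (ψ.toEquiv.subtypeEquiv fun v => by rw [LinearEquiv.coe_toEquiv, hψ])
      have haa : a = a₀ := by rw [ha₀, ← ψ.finrank_eq, hdimX]; omega
      rw [hQu, hQe, hcard, haa] at hc
      exact hν hc
    have hiso_ref : ∀ {X Y : Submodule F V}, Inv T X → Inv T Y → Nd Q X → Nd Q Y → Disjoint X Y → X ⊔ Y = ⊤ →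
        (∀ x ∈ X, ∀ y ∈ Y, polar Q x y = 0) → Odd (finrank F X) → Odd (finrank F Y) →
        finrank F X + finrank F Y = 2 * d → (∀ v ∈ X, (T - 1) ((T - 1) v) = 0) → finrank F X % 4 = 1 := by
      intro X Y hX hY hXn hYn hXY hXYt hXYo hXo hYo hXYs hXz
      obtain ⟨a, u, -, h4, -⟩ := split_one hiso hX hY hXY hXYt hXYo h2 hXn hYn hN3
        he0 hker hrk1 hXo hYo (by omega) hXz
      exact h4
    -- complements of isometric subspaces are isometric
    have hcompl : Iso Q W' R := by
      obtain ⟨e₁, he₁⟩ := hWi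
      obtain ⟨fe, hfe⟩ := LinearMap.exists_extend (W₀.subtype.comp e₁.toLinearMap)
      have hfe' : ∀ x (hx : x ∈ W), fe x = (e₁ ⟨x, hx⟩ : V) := fun x hx => LinearMap.congr_fun hfe ⟨x, hx⟩
      obtain ⟨g, hg, hgW⟩ := CfsgLib.Forms.witt_quadratic Q (CfsgLib.Orth.ndPolar_iff.1 hQ) W fe
        (fun x hx => by rw [hfe' x hx]; exact he₁ _)
        (fun x hx h => by
          rw [hfe' x hx] at h
          exact congrArg Subtype.val (e₁.map_eq_zero_iff.1 (Subtype.ext h)))
      have hmem : ∀ y ∈ W', g y ∈ R := by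
        intro y hy
        have htop : W₀ ⊔ R = ⊤ := Submodule.eq_top_of_finrank_eq (by
          rw [CfsgLib.LinFix.finrank_sup_of_disjoint hRd, hdim, hRs])
        obtain ⟨a, ha, b, hb, hab⟩ := Submodule.mem_sup.1 (htop ▸ Submodule.mem_top (x := g y))
        have ha0 : a = 0 := hW₀ a ha fun z hz => by
          obtain ⟨w, hw⟩ := e₁.surjective ⟨z, hz⟩
          have hgz : g (w : V) = z := by rw [hgW _ w.2, hfe' _ w.2]; exact congrArg Subtype.val hw
          have h1 : polar Q (g y) z = 0 := by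
            rw [← hgz]
            simp only [polar, ← map_add, hg]
            exact (polar_comm (⇑Q) y (w : V)).trans (horth _ w.2 _ hy)
          rw [← hab, polar_add_left] at h1
          rwa [polar_comm (⇑Q) b z, hRo z hz b hb, add_zero] at h1
        rwa [← hab, ha0, zero_add]
      let f₀ : W' →ₗ[F] R := (g.toLinearMap.comp W'.subtype).codRestrict R fun y => hmem y y.2
      have hf₀ : Function.Injective f₀ := fun a b h =>
        Subtype.ext (g.injective (congrArg Subtype.val h :))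
      exact ⟨f₀.linearEquivOfInjective hf₀ (by omega), fun w => hg _⟩
    obtain ⟨j, hj⟩ := hm
    rcases hz with hz | hz
    · have h4 := hiso_ref hWinv hW' hWn hW'n hdis hsup horth hodd hodd' hsum hz
      refine hbad hWinv hW' hWn hW'n hdis hsup horth hodd hodd' hsum hz ?_
      rw [href, if_pos (by omega)]; exact hWi
    · have h4 := hiso_ref hW' hWinv hW'n hWn hdis.symm (by rw [sup_comm, hsup])
        (fun x hx y hy => by rw [polar_comm]; exact horth y hy x hx) hodd' hodd (by omega) hz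
      refine hbad hW' hWinv hW'n hWn hdis.symm (by rw [sup_comm, hsup])
        (fun x hx y hy => by rw [polar_comm]; exact horth y hy x hx) hodd' hodd (by omega) hz ?_
      rw [href, if_neg (by omega)]; exact hcompl
  · -- two blocks
    have hker : LinearMap.ker (T - 1) ≤ LinearMap.range (T - 1) := by
      intro v hv
      obtain ⟨v, rfl⟩ := E.surjective v
      refine hrange v (hkerE v hv).1 fun i hi => absurd ?_ (hi (Fin.rev i))
      simp [ρ]
    have := odd_dim_mod_four_three h2 hQ hiso hN3 hker hsqrk hWinv hWn (hWm.symm ▸ hm)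
    omega

end CfsgLib.OrthInv
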