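import Mathlib
import Cfsg.Prelude.Def_GeometricClasses
import Cfsg.Agent.Lib.LinFix.OrthParaUnip
import Cfsg.Agent.Lib.LinFix.OrthCompat
import Cfsg.Agent.Lib.RootCount.Orth

/-!
# Elements of prime order of an orthogonal group fixing an odd-dimensional non-degenerate subspace
-/

set_option autoImplicit false

namespace CfsgLib.OrthInv

open Module QuadraticMap Matrix Cfsg CfsgLib.OrthSpinor
open CfsgLib.Classical.Quad (NDPolar)
open CfsgLib.RootCount (IsPlus)
open CfsgLib.LinFix (Inv)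

variable {F : Type*} [Field F] {ι : Type} [Fintype ι] [DecidableEq ι] {Q : QuadraticForm F (ι → F)}

theorem toLin_apply (g : ↥(isometryGroup F ⇑Q)) (v : ι → F) :
    Matrix.toLin' ((g : GL ι F) : Matrix ι ι F) v = act Q g v := Matrix.toLin'_apply _ _

theorem toLin_pow (g : ↥(isometryGroup F ⇑Q)) (n : ℕ) (v : ι → F) :
    (Matrix.toLin' ((g : GL ι F) : Matrix ι ι F) ^ n) v = act Q (g ^ n) v := by
  induction n generalizing v with
  | zero => simp
  | succ n ih => rw [pow_succ, pow_succ, Module.End.mul_apply, ih, toLin_apply, ← act_mul]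

theorem toLin_pow_eq (g : ↥(isometryGroup F ⇑Q)) (n : ℕ) :
    Matrix.toLin' ((g : GL ι F) : Matrix ι ι F) ^ n = Matrix.toLin' ((((g ^ n : ↥(isometryGroup F ⇑Q)) : GL ι F)) : Matrix ι ι F) :=
  LinearMap.ext fun v => by rw [toLin_pow, toLin_apply]

/-- An endomorphism of finite order preserving the form, as an isometry. -/
theorem exists_isometry {T : Module.End F (ι → F)} (hiso : ∀ v, Q (T v) = Q v) {n : ℕ} (hn : 0 < n)
    (hT : T ^ n = 1) : ∃ g : ↥(isometryGroup F ⇑Q), (∀ v, act Q g v = T v) ∧ g ^ n = 1 := by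
  obtain ⟨j, rfl⟩ : ∃ j, n = j + 1 := ⟨n - 1, by omega⟩
  let g := mkIsometry Q (LinearMap.toMatrix' T) (LinearMap.toMatrix' (T ^ j))
    (by rw [← LinearMap.toMatrix'_mul, ← pow_succ', hT, LinearMap.toMatrix'_one])
    (by rw [← LinearMap.toMatrix'_mul, ← pow_succ, hT, LinearMap.toMatrix'_one])
    (fun x => by rw [LinearMap.toMatrix'_mulVec]; exact hiso x)
  have hg : ∀ v, act Q g v = T v := fun v => LinearMap.toMatrix'_mulVec _ _
  refine ⟨g, hg, ext_act (Q := Q) fun v => ?_⟩
  rw [← toLin_pow, act_one]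
  have h : Matrix.toLin' ((g : GL ι F) : Matrix ι ι F) = T := LinearMap.ext fun w => by rw [toLin_apply, hg]
  rw [h, hT, Module.End.one_apply]

theorem good_iff {W₀ W : Submodule F (ι → F)} {m : ℕ} :
    Good Q W₀ m W ↔ Module.finrank F ↥W = m ∧ Cfsg.Geo.IsNondegenerateOn (QuadraticMap.polar ⇑Q) W ∧
      Cfsg.Geo.AreIsometricFor (⇑Q) W W₀ := by
  refine and_congr_right fun _ => and_congr ⟨fun h w hw hw0 => ?_, fun h x hx hx' => ?_⟩ Iff.rfl
  · by_contra hc
    refine hw0 (h w hw fun y hy => ?_)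
    by_contra hy'
    exact hc ⟨⟨y, hy, by rwa [polar_comm]⟩, ⟨y, hy, hy'⟩⟩
  · by_contra hx0
    obtain ⟨-, y, hy, hy'⟩ := h x hx hx0
    exact hy' (hx' y hy)

theorem nd_of_isNondegenerateOn {W : Submodule F (ι → F)}
    (h : Cfsg.Geo.IsNondegenerateOn (QuadraticMap.polar ⇑Q) W) : Nd Q W := fun x hx hx' => by
  by_contra hx0
  obtain ⟨-, y, hy, hy'⟩ := h x hx hx0
  exact hy' (hx' y hy)

variable [Fintype F]

/-- An element of `Ω` whose square is the identity fixes a member of every class. -/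
theorem fixes_involution (h2 : (2 : F) ≠ 0) (hQ : NDPolar Q) {g : ↥(isometryGroup F ⇑Q)} (hg : g ∈ Omega F ⇑Q)
    (hsq : ∀ v, act Q g (act Q g v) = v) {d m : ℕ} (hdim : finrank F (ι → F) = 2 * d) (hm : Odd m) (hmd : m < d)
    {W₀ : Submodule F (ι → F)} (hW₀ : Nd Q W₀) (hW₀m : finrank F W₀ = m) :
    ∃ W, Good Q W₀ m W ∧ Inv (Matrix.toLin' ((g : GL ι F) : Matrix ι ι F)) W := by
  set T : Module.End F (ι → F) := Matrix.toLin' ((g : GL ι F) : Matrix ι ι F) with hTdef
  have hT : ∀ v, T v = act Q g v := toLin_apply g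
  have hT2 : T ^ 2 = 1 := LinearMap.ext fun v => by rw [pow_two, Module.End.mul_apply, hT, hT, hsq]; rfl
  have hiso : ∀ v, Q (T v) = Q v := fun v => by rw [hT, Q_act]
  have hr2 : ((2 : ℕ) : F) ≠ 0 := by exact_mod_cast h2
  obtain ⟨hC, hU⟩ := nd_parts hr2 hT2 hiso (CfsgLib.LinFix.inv_top T) (nd_top hQ)
  rw [top_inf_eq] at hC hU
  have hsum := finrank_split hr2 hT2 (CfsgLib.LinFix.inv_top T)
  rw [top_inf_eq, top_inf_eq, finrank_top, hdim] at hsum
  have hrange : LinearMap.range (T - 1) = LinearMap.ker (T + LinearMap.id) := by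
    ext v
    rw [LinearMap.mem_ker, LinearMap.add_apply, LinearMap.id_apply]
    constructor
    · rintro ⟨u, rfl⟩
      rw [LinearMap.sub_apply, Module.End.one_apply, map_sub, hT (T u), hT u, hsq]; abel
    · intro hv
      refine ⟨(-(2 : F)⁻¹) • v, ?_⟩
      rw [LinearMap.sub_apply, Module.End.one_apply, map_smul, eq_neg_of_add_eq_zero_left hv, smul_neg,
        neg_smul, neg_neg, sub_neg_eq_add, ← two_nsmul, ← Nat.cast_smul_eq_nsmul F, smul_smul,
        show ((2 : ℕ) : F) = 2 by norm_num, mul_inv_cancel₀ h2, one_smul]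
  have hev : Even (finrank F (LinearMap.range (T - 1))) := by
    rw [hrange]
    refine CfsgLib.LinFix.OrthCompat.even_finrank_neg h2 (fun v => by rw [hT, hT, hsq]) ?_
    rw [hTdef, LinearMap.det_toLin', CfsgLib.LinFix.OrthCoset.det_of_mem g hg]
  obtain ⟨a, ha⟩ := hev
  obtain ⟨b, hb⟩ := hm
  rcases Nat.lt_or_ge (d - a) a with h | h
  · obtain ⟨W, hWle, hWm, hWn, hWi⟩ := exists_iso_sub h2 hU hW₀ (h := a) (k := b) (by omega) (by omega) (by omega)
    refine ⟨W, ⟨by omega, hWn, hWi⟩, fun v hv => ?_⟩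
    have := hWle hv
    rw [hrange, LinearMap.mem_ker, LinearMap.add_apply, LinearMap.id_apply] at this
    rw [eq_neg_of_add_eq_zero_left this]
    exact W.neg_mem hv
  · obtain ⟨W, hWle, hWm, hWn, hWi⟩ := exists_iso_sub h2 hC hW₀ (h := d - a) (k := b) (by omega) (by omega) (by omega)
    refine ⟨W, ⟨by omega, hWn, hWi⟩, fun v hv => ?_⟩
    rwa [sub_eq_zero.1 (hWle hv : (T - 1) v = 0)]

/-- The criterion, up to the existence of elements squaring to minus one. -/
theorem fixes_iff {p : ℕ} [Fact p.Prime] [CharP F p] (h2 : (2 : F) ≠ 0) (hp2 : p ≠ 2) (hQ : NDPolar Q)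
    {d m : ℕ} (hd : 3 ≤ d) (hdim : finrank F (ι → F) = 2 * d) (hm : Odd m) (hmd : m < d)
    {W₀ : Submodule F (ι → F)} (hW₀ : Nd Q W₀) (hW₀m : finrank F W₀ = m) {r i : ℕ} [Fact r.Prime]
    (hi : orderOf (Fintype.card F : ZMod r) = i)
    (hrΩ : r ∣ Nat.card {W : Submodule F (ι → F) // Good Q W₀ m W}) :
    (∀ x : GL ι F, x ∈ Cfsg.Geo.omegaGL ⇑Q →
      (∃ z : F, ((x ^ r : GL ι F) : Matrix ι ι F) = z • (1 : Matrix ι ι F)) →
      (∀ z : F, (x : Matrix ι ι F) ≠ z • (1 : Matrix ι ι F)) →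
      ∃ W : Submodule F (ι → F), Good Q W₀ m W ∧ W.map (Matrix.toLin' (x : Matrix ι ι F)) ≤ W) ↔
    ((r = 2 ∧ ¬ ∃ g ∈ Omega F ⇑Q, ∀ v, act Q g (act Q g v) = -v) ∨
      (r ≠ p ∧ 2 < r ∧ ((2 * d % per i = 0 ∧ ¬(IsPlus Q ↔ (Odd i ∨ Even (2 * d / i)))) ∨
        (per i ≤ m ∧ m % per i < 2 * d % per i)))) := by
  classical
  have hr := (Fact.out : r.Prime)
  haveI : Nonempty ι := by
    rw [← Fintype.card_pos_iff]
    rw [Module.finrank_fintype_fun_eq_card] at hdim
    omega
  have hW₀ne : ∃ v, Q v ≠ 0 := by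
    by_contra hc
    push Not at hc
    obtain ⟨j⟩ := ‹Nonempty ι›
    have := hQ (Pi.single j 1) fun y => by simp [polar, hc]
    simpa using congrFun this j
  -- scalars of isometries
  have hscalar : ∀ (h : ↥(isometryGroup F ⇑Q)) (z : F), (∀ v, act Q h v = z • v) → z * z = 1 := by
    intro h z hz
    obtain ⟨v, hv⟩ := hW₀ne
    have e := Q_act Q h v
    rw [hz, QuadraticMap.map_smul, smul_eq_mul] at e
    exact mul_right_cancel₀ hv (e.trans (one_mul _).symm)
  have hminus : ∀ g : ↥(isometryGroup F ⇑Q), (∀ v, act Q g (act Q g v) = -v) →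
      ∀ W, Good Q W₀ m W → ¬ Inv (Matrix.toLin' ((g : GL ι F) : Matrix ι ι F)) W := by
    intro g hg W hW hWinv
    have := even_of_sq_neg_one h2 (T := Matrix.toLin' ((g : GL ι F) : Matrix ι ι F))
      (fun v => by rw [toLin_apply, Q_act]) (fun v => by rw [toLin_apply, toLin_apply, hg]) hWinv hW.2.1
    rw [hW.1] at this
    exact Nat.not_even_iff_odd.2 hm this
  by_cases hr2 : r = 2
  · subst hr2
    simp only [lt_irrefl, false_and, and_false, or_false, true_and]
    constructor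
    · rintro hall ⟨g, hg, hsq⟩
      obtain ⟨W, hW, hWinv⟩ := hall (g : GL ι F) ⟨g, hg, rfl⟩ ⟨-1, by
        refine Matrix.toLin'.injective (LinearMap.ext fun v => ?_)
        rw [pow_two, map_smul, Matrix.toLin'_one, Units.val_mul, Matrix.toLin'_mul, LinearMap.comp_apply,
          toLin_apply, toLin_apply, hsq, LinearMap.smul_apply, LinearMap.id_apply, neg_one_smul]⟩ (fun z hz => by
        have h : ∀ v, act Q g v = z • v := fun v => by
          rw [← toLin_apply, hz]; simp
        have h1 := hscalar g z h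
        obtain ⟨j⟩ := ‹Nonempty ι›
        have h3 := congrFun (hsq (Pi.single j 1)) j
        rw [h, h, smul_smul, h1, one_smul, Pi.neg_apply, Pi.single_eq_same, eq_neg_iff_add_eq_zero] at h3
        exact h2 (by linear_combination h3))
      exact hminus g hsq W hW (fun v hv => hWinv (Submodule.mem_map_of_mem hv))
    · rintro hno x ⟨g, hg, rfl⟩ ⟨z, hz⟩ -
      have hz' : ∀ v, act Q g (act Q g v) = z • v := fun v => by
        rw [← act_mul, ← pow_two, ← toLin_pow]
        have h : Matrix.toLin' ((g : GL ι F) : Matrix ι ι F) ^ 2 = z • (1 : Module.End F (ι → F)) := by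
          have h' := congrArg (Matrix.toLin') hz
          rw [map_smul, Matrix.toLin'_one] at h'
          rw [toLin_pow_eq, SubgroupClass.coe_pow]
          exact h'
        rw [h]; rfl
      have hzz := hscalar (g * g) z (fun v => by rw [act_mul, hz'])
      have hgmem : g ∈ Omega F ⇑Q := hg
      rcases mul_self_eq_one_iff.1 hzz with rfl | rfl
      · obtain ⟨W, hW, hWinv⟩ := fixes_involution h2 hQ hgmem (fun v => by rw [hz', one_smul]) hdim hm hmd hW₀ hW₀m
        exact ⟨W, hW, hWinv.map_le⟩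
      · exact absurd ⟨g, hgmem, fun v => by rw [hz', neg_one_smul]⟩ hno
  have hrodd : Odd r := hr.odd_of_ne_two hr2
  simp only [hr2, false_and, false_or]
  -- reduction to endomorphisms of order `r`
  have hred : (∀ x : GL ι F, x ∈ Cfsg.Geo.omegaGL ⇑Q →
      (∃ z : F, ((x ^ r : GL ι F) : Matrix ι ι F) = z • (1 : Matrix ι ι F)) →
      (∀ z : F, (x : Matrix ι ι F) ≠ z • (1 : Matrix ι ι F)) →
      ∃ W : Submodule F (ι → F), Good Q W₀ m W ∧ W.map (Matrix.toLin' (x : Matrix ι ι F)) ≤ W) ↔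
      (∀ T : Module.End F (ι → F), (∀ v, Q (T v) = Q v) → T ^ r = 1 → T ≠ 1 →
        ∃ W, Good Q W₀ m W ∧ Inv T W) := by
    constructor
    · intro hall T hiso hT hT1
      obtain ⟨g, hg, hgr⟩ := exists_isometry hiso hr.pos hT
      have hgmem : g ∈ Omega F ⇑Q :=
        CfsgLib.LinFix.OrthCoset.mem_of_odd_pow h2 (CfsgLib.Orth.ndPolar_iff.1 hQ) hrodd hgr
      have hTeq : Matrix.toLin' ((g : GL ι F) : Matrix ι ι F) = T := LinearMap.ext fun v => by rw [toLin_apply, hg]
      obtain ⟨W, hW, hWinv⟩ := hall (g : GL ι F) ⟨g, hgmem, rfl⟩ ⟨1, by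
          rw [one_smul, ← SubgroupClass.coe_pow, hgr]; rfl⟩ (fun z hz => hT1 (by
          rw [hz, map_smul, Matrix.toLin'_one] at hTeq
          exact eq_one_of_scalar hrodd hiso hT hTeq.symm hW₀ne))
      rw [hTeq] at hWinv
      exact ⟨W, hW, fun v hv => hWinv (Submodule.mem_map_of_mem hv)⟩
    · rintro hall x ⟨g, hg, rfl⟩ ⟨z, hz⟩ hns
      set A : Module.End F (ι → F) := Matrix.toLin' ((g : GL ι F) : Matrix ι ι F) with hA
      have hAr : A ^ r = z • 1 := by
        have h' := congrArg (Matrix.toLin') hz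
        rw [map_smul, Matrix.toLin'_one] at h'
        rw [hA, toLin_pow_eq, SubgroupClass.coe_pow]
        exact h'
      have hzz := hscalar (g ^ r) z (fun v => by rw [← toLin_pow, ← hA, hAr]; rfl)
      obtain ⟨W, hW, hWinv⟩ := hall (z • A) (fun v => by
          rw [LinearMap.smul_apply, QuadraticMap.map_smul, hzz, one_smul, hA, toLin_apply, Q_act])
        (by
          obtain ⟨j, hj⟩ := hrodd
          rw [smul_pow, hAr, smul_smul, ← pow_succ, hj, show 2 * j + 1 + 1 = 2 * (j + 1) by ring, pow_mul,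
            pow_two, hzz, one_pow, one_smul])
        (fun h1 => hns z (by
          refine Matrix.toLin'.injective ?_
          rw [map_smul, Matrix.toLin'_one]
          calc A = (z * z) • A := by rw [hzz, one_smul]
            _ = z • (z • A) := (smul_smul _ _ _).symm
            _ = z • 1 := by rw [h1]
            _ = _ := rfl))
      refine ⟨W, hW, ?_⟩
      rintro _ ⟨v, hv, rfl⟩
      have := W.smul_mem z (hWinv v hv)
      rw [LinearMap.smul_apply, smul_smul, hzz, one_smul] at this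
      exact this
  rw [hred]
  by_cases hrp : r = p
  · subst hrp
    simp only [ne_eq, not_true_eq_false, false_and, iff_false]
    intro hall
    obtain ⟨T, hiso, hT, hT1, hno⟩ := exists_unipotent (p := r) h2 hp2 hQ hd hdim hm hW₀ hW₀m
    obtain ⟨W, hW, hWinv⟩ := hall T hiso hT hT1
    exact hno W hW hWinv
  · have h2r : 2 < r := lt_of_le_of_ne hr.two_le (Ne.symm hr2)
    simp only [ne_eq, hrp, not_false_eq_true, h2r, true_and]
    exact fixes_iff_odd (p := p) h2 hrp hr2 hi hQ hdim hm hmd hW₀ hW₀m hrΩ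

end CfsgLib.OrthInv
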