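import Mathlib
import Cfsg.Prelude.Def_GeometricClasses
import Cfsg.Agent.Lib.Orth.Spinor
import Cfsg.Agent.Lib.LinFix.Field
import Cfsg.Agent.Lib.LinFix.BlockField
import Cfsg.Agent.Lib.LinFix.OrthRoot

/-!
Orthogonal elements of odd prime order commuting with no self-adjoint root of a non-square.
-/

set_option autoImplicit false

namespace CfsgLib.LinFix.OrthFieldElem

open Module Polynomial
open scoped Matrix

variable {F : Type*} [Field F] {ι : Type} [Fintype ι] [DecidableEq ι] {Q : QuadraticForm F (ι → F)}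

/-- No self-adjoint root of `ε` commutes with `T`. -/
def NoField (Q : QuadraticForm F (ι → F)) (ε : F) (T : (ι → F) →ₗ[F] (ι → F)) : Prop :=
  ∀ D : Module.End F (ι → F), OrthRoot.IsRoot (QuadraticMap.polarBilin Q) ε D → Commute T D → False

/-- A map preserving the form, of finite order, as an element of the isometry group. -/
theorem exists_element {T : Module.End F (ι → F)} (hiso : ∀ v, Q (T v) = Q v) {r : ℕ} (hr : 0 < r)
    (hT : T ^ r = 1) (hns : ∀ c : F, ∃ v, T v ≠ c • v) {ε : F} (hno : NoField Q ε T) :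
    ∃ x : ↥(Cfsg.isometryGroup F ⇑Q), x ^ r = 1 ∧ (∀ c : F, (((x : GL ι F)) : Matrix ι ι F) ≠ c • 1) ∧
      NoField Q ε (Matrix.toLin' ((x : GL ι F) : Matrix ι ι F)) := by
  obtain ⟨r, rfl⟩ : ∃ n, r = n + 1 := ⟨r - 1, by omega⟩
  have h1 : T * T ^ r = 1 := by rw [← pow_succ', hT]
  have h1' : T ^ r * T = 1 := by rw [← pow_succ, hT]
  let M := LinearMap.toMatrix' T
  let M' := LinearMap.toMatrix' (T ^ r)
  let x := CfsgLib.OrthSpinor.mkIsometry Q M M'
    (by rw [← LinearMap.toMatrix'_comp, ← Module.End.mul_eq_comp, h1]; exact LinearMap.toMatrix'_id)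
    (by rw [← LinearMap.toMatrix'_comp, ← Module.End.mul_eq_comp, h1']; exact LinearMap.toMatrix'_id)
    (fun v => by simpa [M] using hiso v)
  have hx : ((x : GL ι F) : Matrix ι ι F) = M := rfl
  refine ⟨x, ?_, fun c hc => ?_, ?_⟩
  · refine Subtype.ext (Units.ext ?_)
    rw [SubmonoidClass.coe_pow, Units.val_pow_eq_pow_val, hx]
    show LinearMap.toMatrix' T ^ (r + 1) = (1 : Matrix ι ι F)
    refine Matrix.toLin'.injective ?_
    rw [Matrix.toLin'_pow, Matrix.toLin'_toMatrix', hT, Matrix.toLin'_one]
    rfl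
  · obtain ⟨v, hv⟩ := hns c
    refine hv ?_
    rw [← Matrix.toLin'_toMatrix' T, show LinearMap.toMatrix' T = M from rfl, ← hx, hc]
    simp [Matrix.toLin'_apply]
  · rw [hx]
    show NoField Q ε (Matrix.toLin' (LinearMap.toMatrix' T))
    rwa [Matrix.toLin'_toMatrix']

/-- A transvection-like element from a totally singular plane. -/
theorem exists_siegel (h2 : (2 : F) ≠ 0) (hnd : (QuadraticMap.polarBilin Q).Nondegenerate) {p : ℕ} [CharP F p]
    (hp : 0 < p) {ε : F} (hε : ¬ IsSquare ε) {e w : ι → F} (he : Q e = 0) (hw : Q w = 0)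
    (hew : QuadraticMap.polarBilin Q e w = 0) (hli : LinearIndependent F ![e, w]) :
    ∃ x : ↥(Cfsg.isometryGroup F ⇑Q), x ^ p = 1 ∧ (∀ c : F, (((x : GL ι F)) : Matrix ι ι F) ≠ c • 1) ∧
      NoField Q ε (Matrix.toLin' ((x : GL ι F) : Matrix ι ι F)) := by
  set B := QuadraticMap.polarBilin Q
  have hsym : ∀ a b, B a b = B b a := fun a b => QuadraticMap.polar_comm Q a b
  have hee : B e e = 0 := by show QuadraticMap.polar Q e e = 0; rw [QuadraticMap.polar_self, he, smul_zero]
  have hww : B w w = 0 := by show QuadraticMap.polar Q w w = 0; rw [QuadraticMap.polar_self, hw, smul_zero]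
  have hind : ∀ s t : F, s • e + t • w = 0 → s = 0 ∧ t = 0 := LinearIndependent.pair_iff.1 hli
  let N : Module.End F (ι → F) := (B.flip e).smulRight w - (B.flip w).smulRight e
  have hN : ∀ v, N v = B v e • w - B v w • e := fun v => by simp [N]
  have hNN : N * N = 0 := LinearMap.ext fun v => by simp [hN, hee, hww, hew, hsym w e]
  have hT : (1 + N) ^ p = 1 := by
    have : ∀ n : ℕ, (1 + N) ^ n = 1 + (n : F) • N := fun n => by
      induction n with
      | zero => simp
      | succ n ih =>
        rw [pow_succ, ih, mul_add, add_mul, add_mul, one_mul, one_mul, mul_one, smul_mul_assoc, hNN, smul_zero,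
          Nat.cast_succ, add_smul, one_smul]
        abel
    rw [this, CharP.cast_eq_zero, zero_smul, add_zero]
  -- the functionals of `e` and `w` separate
  obtain ⟨v₀, h0e, h0w⟩ : ∃ v, B v e = 1 ∧ B v w = 0 := by
    by_contra hc
    push Not at hc
    have hker : ∀ v, B v w = 0 → B v e = 0 := fun v hv => by
      by_contra hne
      exact hc ((B v e)⁻¹ • v) (by simp [hne]) (by simp [hv])
    obtain ⟨u, hu⟩ : ∃ u, B u w ≠ 0 := by
      by_contra hc'
      push Not at hc'
      exact one_ne_zero (hind 0 1 (by rw [hnd.2 w hc']; simp)).2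
    have hz : e - (B u e / B u w) • w = 0 := hnd.2 _ fun v => by
      have h := hker (v - (B v w / B u w) • u) (by simp [hu])
      simp only [map_sub, map_smul, LinearMap.sub_apply, LinearMap.smul_apply, smul_eq_mul] at h ⊢
      field_simp at h ⊢
      linear_combination h
    exact one_ne_zero (hind 1 (-(B u e / B u w)) (by rw [one_smul, neg_smul, ← sub_eq_add_neg, hz])).1
  refine exists_element (T := 1 + N) (fun v => ?_) hp hT (fun c => ?_) (fun D hD hTD => ?_)
  · rw [LinearMap.add_apply, Module.End.one_apply, hN, sub_eq_add_neg, ← neg_smul]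
    simp only [QuadraticMap.map_add Q, QuadraticMap.map_smul, he, hw, QuadraticMap.polar_smul_left,
      QuadraticMap.polar_smul_right, QuadraticMap.polar_add_right, smul_eq_mul,
      ← QuadraticMap.polarBilin_apply_apply, map_add, map_smul, LinearMap.smul_apply]
    rw [show B w e = 0 from (hsym w e).trans hew]
    ring
  · by_contra hc
    push Not at hc
    have h := hc e
    simp [hN, hee, hew] at h
    have h' := hc v₀
    simp [hN, h0e, h0w] at h'
    have he0 : e ≠ 0 := fun h0 => one_ne_zero (hind 1 0 (by simp [h0])).1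
    obtain rfl : c = 1 := by
      by_contra hc1
      exact he0 ((smul_eq_zero.1 (show (c - 1) • e = 0 by rw [sub_smul, one_smul, ← h, sub_self])).resolve_left
        (sub_ne_zero.2 hc1))
    rw [one_smul, add_eq_left] at h'
    exact one_ne_zero (hind 0 1 (by simp [h'])).2
  · have hcomm : ∀ v, N (D v) = D (N v) := fun v => by
      have h := LinearMap.congr_fun hTD.eq v
      simpa using h
    have h0 := hcomm v₀
    rw [hN, hN, map_sub, map_smul, map_smul, h0e, h0w, one_smul, zero_smul, sub_zero] at h0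
    -- `D` on the plane
    obtain ⟨v₁, h1e, h1w⟩ : ∃ v, B v e = 0 ∧ B v w = 1 := by
      by_contra hc
      push Not at hc
      have hz : w = 0 := hnd.2 w fun v => by
        by_contra hne
        set u := v - B v e • v₀
        have hue : B u e = 0 := by simp [u, h0e]
        have huw : B u w = B v w := by simp [u, h0w]
        exact hc ((B u w)⁻¹ • u) (by simp [hue]) (by simp [huw, hne])
      exact one_ne_zero (hind 0 1 (by simp [hz])).2
    have h1 := hcomm v₁
    rw [hN, hN, map_sub, map_smul, map_smul, h1e, h1w, one_smul, zero_smul, zero_sub] at h1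
    set a := B (D v₀) e with ha
    set b := B (D v₀) w with hb
    set a' := B (D v₁) e with ha'
    set b' := B (D v₁) w with hb'
    -- self-adjointness identifies the coefficients
    have hDe : D e = b' • e - a' • w := by linear_combination (norm := module) h1
    have hDw : D w = a • w - b • e := h0.symm
    have ea : a = b' := by
      rw [ha, show B (D v₀) e = B v₀ (D e) from hD.adj _ _, hDe]
      simp [h0e, h0w]
    have eb : b = -b := by
      conv_lhs => rw [hb, show B (D v₀) w = B v₀ (D w) from hD.adj _ _, hDw]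
      simp [h0e, h0w]
    have ea' : a' = -a' := by
      conv_lhs => rw [ha', show B (D v₁) e = B v₁ (D e) from hD.adj _ _, hDe]
      simp [h1e, h1w]
    have ha0 : a' = 0 := (mul_eq_zero.1 (show (2 : F) * a' = 0 by linear_combination ea')).resolve_left h2
    have h := hD.sq e
    rw [hDe, ha0, zero_smul, sub_zero, map_smul, hDe, ha0, zero_smul, sub_zero, smul_smul] at h
    have hz : (b' * b' - ε) • e + (0 : F) • w = 0 := by rw [sub_smul, h, sub_self, zero_smul, add_zero]
    exact hε ⟨b', (sub_eq_zero.1 (hind _ _ hz).1).symm⟩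

variable [Fintype F]

/-- Extending an isometry of an embedded non-degenerate space. -/
theorem exists_extension {W : Type*} [AddCommGroup W] [Module F W] [FiniteDimensional F W]
    (QW : QuadraticForm F W) (hW : ∀ u, (∀ v, QuadraticMap.polarBilin QW u v = 0) → u = 0)
    (j : W →ₗ[F] (ι → F)) (hj : ∀ u, Q (j u) = QW u) {y : Module.End F W} (hy : ∀ u, QW (y u) = QW u)
    {r : ℕ} (hyr : y ^ r = 1) :
    ∃ T : Module.End F (ι → F), (∀ v, Q (T v) = Q v) ∧ T ^ r = 1 ∧ (∀ u, T (j u) = j (y u)) ∧
      ∃ π : (ι → F) →ₗ[F] W, (∀ u, π (j u) = u) ∧ (∀ v, π (T v) = y (π v)) ∧ ∀ v, T (v - j (π v)) = v - j (π v) := by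
  set BW : LinearMap.BilinForm F W := QuadraticMap.polarBilin QW with hBW
  have hnd : BW.Nondegenerate := ⟨hW, fun v h => hW v fun u => by
    show QuadraticMap.polar QW v u = 0
    rw [QuadraticMap.polar_comm]; exact h u⟩
  let f : (ι → F) →ₗ[F] Module.Dual F W := LinearMap.lcomp F F j ∘ₗ QuadraticMap.polarBilin Q
  let π : (ι → F) →ₗ[F] W := (BW.toDual hnd).symm.toLinearMap ∘ₗ f
  have hπ : ∀ v u, BW (π v) u = QuadraticMap.polarBilin Q v (j u) := fun v u => by
    show BW ((BW.toDual hnd).symm (f v)) u = _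
    rw [LinearMap.BilinForm.apply_toDual_symm_apply]; rfl
  have hπj : ∀ u, π (j u) = u := fun u => sub_eq_zero.1 (hW _ fun v => by
    rw [map_sub, LinearMap.sub_apply, hπ]
    show QuadraticMap.polar Q (j u) (j v) - QuadraticMap.polar QW u v = 0
    simp only [QuadraticMap.polar, ← map_add, hj, sub_self])
  let T : Module.End F (ι → F) := j ∘ₗ y ∘ₗ π + (LinearMap.id - j ∘ₗ π)
  have hTv : ∀ v, T v = j (y (π v)) + (v - j (π v)) := fun v => rfl
  have hπT : ∀ v, π (T v) = y (π v) := fun v => by
    rw [hTv, map_add, map_sub, hπj, hπj, sub_self, add_zero]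
  have hfix : ∀ v, T (v - j (π v)) = v - j (π v) := fun v => by
    rw [hTv, map_sub, hπj, sub_self, map_zero, map_zero, sub_zero, zero_add]
  have horth : ∀ v u, QuadraticMap.polar Q (j u) (v - j (π v)) = 0 := fun v u => by
    rw [QuadraticMap.polar_comm, ← QuadraticMap.polarBilin_apply_apply, map_sub, LinearMap.sub_apply, ← hπ, ← hπ,
      hπj, sub_self]
  refine ⟨T, fun v => ?_, ?_, fun u => by rw [hTv, hπj, sub_self, add_zero], π, hπj, hπT, hfix⟩
  · have hv : v = j (π v) + (v - j (π v)) := by abel
    conv_rhs => rw [hv, QuadraticMap.map_add Q, horth, hj]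
    rw [hTv, QuadraticMap.map_add Q, horth, hj, hy]
  · have hpow : ∀ (n : ℕ) v, (T ^ n) v = j ((y ^ n) (π v)) + (v - j (π v)) := fun n => by
      induction n with
      | zero => intro v; simp
      | succ n ih =>
        intro v
        rw [pow_succ', Module.End.mul_apply, ih, map_add, hfix, hTv, hπj, sub_self, add_zero, pow_succ',
          Module.End.mul_apply]
    exact LinearMap.ext fun v => by rw [hpow, hyr]; simp

variable {r p : ℕ} [hr : Fact r.Prime] [Fact p.Prime] [CharP F p]

/-- The block of a pair of totally singular subspaces. -/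
theorem exists_pair_block {i : ℕ} (hi : orderOf (Fintype.card F : ZMod r) = i) (hr2 : r ≠ 2) (hrp : r ≠ p) {ε : F} (hε : ¬ IsSquare ε)
    (hord : 0 < i) (hodd : Odd i) {e e' : Fin i → ι → F}
    (hee : ∀ a b, QuadraticMap.polarBilin Q (e a) (e b) = 0) (hee' : ∀ a b, QuadraticMap.polarBilin Q (e' a) (e' b) = 0)
    (hpair : ∀ a b, QuadraticMap.polarBilin Q (e a) (e' b) = if a = b then 1 else 0) :
    ∃ x : ↥(Cfsg.isometryGroup F ⇑Q), x ^ r = 1 ∧ (∀ c : F, (((x : GL ι F)) : Matrix ι ι F) ≠ c • 1) ∧
      NoField Q ε (Matrix.toLin' ((x : GL ι F) : Matrix ι ι F)) := by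
  classical
  have h2 : (2 : F) ≠ 0 := fun h => by
    haveI : CharP F 2 := CharTwo.of_one_ne_zero_of_two_eq_zero one_ne_zero h
    exact hε (FiniteField.isSquare_of_char_two (ringChar.eq F 2) ε)
  obtain ⟨g, hg, hgm, hgdvd, hg1⟩ := exists_irreducible_dvd_X_pow_sub_one (F := F) (r := r) hrp
  have hdeg : g.natDegree = i := (natDegree_eq_order (hi ▸ hord) hg hgdvd hg1).trans hi
  haveI : Fact (Irreducible g) := ⟨hg⟩
  haveI : Module.Finite F (AdjoinRoot g) := (AdjoinRoot.powerBasis hg.ne_zero).finite
  haveI : Finite (AdjoinRoot g) := Module.finite_of_finite F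
  let L := AdjoinRoot g
  let α : L := AdjoinRoot.root g
  have hL : finrank F L = i := hdeg ▸ finrank_quotient_span_eq_natDegree (f := g)
  have hroot : ∀ P : F[X], aeval α P = 0 ↔ g ∣ P := fun P => by
    rw [AdjoinRoot.aeval_eq, AdjoinRoot.mk_eq_zero]
  have hgα : aeval α g = 0 := (hroot g).2 dvd_rfl
  have hgen : ∀ x : L, ∃ P : F[X], aeval α P = x := fun x => by
    obtain ⟨P, hP⟩ := AdjoinRoot.mk_surjective x
    exact ⟨P, by rw [AdjoinRoot.aeval_eq, hP]⟩
  have hαr : α ^ r = 1 := by
    have := (hroot _).2 hgdvd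
    simpa [sub_eq_zero] using this
  have hα1 : α ≠ 1 := fun h => hg1 ((hroot _).1 (by simp [h]))
  have hα0 : α ≠ 0 := fun h0 => by rw [h0, zero_pow hr.out.ne_zero] at hαr; exact zero_ne_one hαr
  have hginv : aeval α⁻¹ g ≠ 0 := BlockField.aeval_inv_ne_zero hr2 hαr hα1 hgen hg hgα (hL.trans hi.symm) (hL.symm ▸ hodd)
  have hg_one : g.eval 1 ≠ 0 := fun h => by
    have h' : X - C (1 : F) ∣ g := dvd_iff_isRoot.2 h
    rw [← map_one (C : F →+* F[X])] at hg1
    exact hg1 ((irreducible_X_sub_C 1).associated_of_dvd hg h').symm.dvd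
  -- coordinates dual under the trace
  let b₁ : Basis (Fin i) F L := (Module.finBasisOfFinrankEq F L hL)
  let b₂ : Basis (Fin i) F L := (Algebra.traceForm F L).dualBasis (traceForm_nondegenerate F L) b₁
  let QW : QuadraticForm F (L × L) :=
    LinearMap.BilinMap.toQuadraticMap ((Algebra.traceForm F L).compl₁₂ (LinearMap.fst F L L) (LinearMap.snd F L L))
  have hQW : ∀ u, QW u = Algebra.trace F L (u.1 * u.2) := fun u => rfl
  have hpolar : ∀ u v, QuadraticMap.polar QW u v = Algebra.trace F L (u.1 * v.2) + Algebra.trace F L (v.1 * u.2) := by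
    intro u v
    simp only [QuadraticMap.polar, hQW, Prod.fst_add, Prod.snd_add, add_mul, mul_add, map_add]
    ring
  have hW : ∀ u, (∀ v, QuadraticMap.polarBilin QW u v = 0) → u = 0 := fun u hu => by
    refine Prod.ext ((traceForm_nondegenerate F L).1 _ fun a => ?_) ((traceForm_nondegenerate F L).2 _ fun a => ?_)
    · have := hu (0, a); simpa [hpolar, mul_comm] using this
    · have := hu (a, 0); simpa [hpolar] using this
  let j : L × L →ₗ[F] (ι → F) :=
    (b₁.constr F e).comp (LinearMap.fst F L L) + (b₂.constr F e').comp (LinearMap.snd F L L)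
  have hBj : ∀ a b : L, QuadraticMap.polarBilin Q (b₁.constr F e a) (b₂.constr F e' b) = Algebra.trace F L (a * b) := by
    intro a b
    refine LinearMap.congr_fun₂ (f := (QuadraticMap.polarBilin Q).compl₁₂ (b₁.constr F e) (b₂.constr F e'))
      (g := Algebra.traceForm F L) (LinearMap.ext_basis b₁ b₂ fun x y => ?_) a b
    rw [LinearMap.compl₁₂_apply, Basis.constr_basis, Basis.constr_basis, hpair,
      show Algebra.traceForm F L (b₁ x) (b₂ y) = Algebra.traceForm F L (b₂ y) (b₁ x) by
        simp [Algebra.traceForm_apply, mul_comm], LinearMap.BilinForm.apply_dualBasis_left]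
  have hz : ∀ (b : Basis (Fin i) F L) (f : Fin i → ι → F),
      (∀ a c, QuadraticMap.polarBilin Q (f a) (f c) = 0) → ∀ u, Q (b.constr F f u) = 0 := fun b f hf u => by
    have h0 : QuadraticMap.polarBilin Q (b.constr F f u) (b.constr F f u) = 0 := by
      refine LinearMap.congr_fun₂ (f := (QuadraticMap.polarBilin Q).compl₁₂ (b.constr F f) (b.constr F f))
        (g := (0 : LinearMap.BilinForm F L)) (LinearMap.ext_basis b b fun x y => ?_) u u
      simp [hf]
    rw [QuadraticMap.polarBilin_apply_apply, QuadraticMap.polar_self, two_nsmul, ← two_mul] at h0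
    exact (mul_eq_zero.1 h0).resolve_left h2
  have hj : ∀ u, Q (j u) = QW u := fun u => by
    rw [hQW, ← hBj, show j u = b₁.constr F e u.1 + b₂.constr F e' u.2 from rfl, QuadraticMap.map_add Q,
      hz b₁ e hee, hz b₂ e' hee', zero_add, zero_add]
    rfl
  let y : Module.End F (L × L) := LinearMap.prodMap (Algebra.lmul F L α) (Algebra.lmul F L α⁻¹)
  have hyv : ∀ v, y v = (α * v.1, α⁻¹ * v.2) := fun v => rfl
  have hyr : y ^ r = 1 := by
    have : ∀ n v, (y ^ n) v = (α ^ n * v.1, α⁻¹ ^ n * v.2) := fun n => by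
      induction n with
      | zero => intro v; simp
      | succ n ih => intro v; rw [pow_succ', Module.End.mul_apply, ih, hyv]; simp [pow_succ', mul_assoc]
    refine LinearMap.ext fun v => ?_
    rw [this, hαr, inv_pow, hαr, inv_one, one_mul, one_mul]; rfl
  obtain ⟨T, hT, hTr, hTj, π, hπj, hπT, hfix⟩ := exists_extension QW hW j hj (y := y)
    (fun u => by rw [hQW, hQW, hyv, mul_mul_mul_comm, mul_inv_cancel₀ hα0, one_mul]) hyr
  have hjinj : Function.Injective j := fun u v h => by rw [← hπj u, h, hπj]
  refine exists_element hT hr.out.pos hTr (fun c => ?_) fun D hD hTD => ?_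
  · by_contra hc
    push Not at hc
    have e1 : y (1, 0) = c • ((1, 0) : L × L) := hjinj (by rw [← hTj, hc, map_smul])
    have e2 : y (0, 1) = c • ((0, 1) : L × L) := hjinj (by rw [← hTj, hc, map_smul])
    have e1' := congrArg Prod.fst e1
    have e2' := congrArg Prod.snd e2
    simp [hyv] at e1' e2'
    have h4 : α ^ 2 = 1 := by
      rw [pow_two]; conv_lhs => arg 2; rw [e1', ← e2']
      exact mul_inv_cancel₀ hα0
    exact hr2 ((Nat.prime_dvd_prime_iff_eq hr.out Nat.prime_two).1
      (orderOf_eq_prime hαr hα1 ▸ orderOf_dvd_of_pow_eq_one h4))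
  · let ιL : L →ₗ[F] (ι → F) := j.comp (LinearMap.inl F L L)
    obtain ⟨c, hc2, hmul⟩ := BlockField.exists_mul_on_block hgen hgα hTD (ε := ε) hD.sq ιL
      (hjinj.comp LinearMap.inl_injective) (fun a => by
        show j (α * a, 0) = T (j (a, 0))
        rw [hTj, hyv, mul_zero]) fun v hv => by
        have h1 := BlockField.aeval_intertwine π (S := y) hπT g v
        rw [hv, map_zero] at h1
        have h2' := congrArg (LinearMap.snd F L L) h1
        rw [map_zero, BlockField.aeval_intertwine (LinearMap.snd F L L) (S := Algebra.lmul F L α⁻¹) (fun v => rfl),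
          BlockField.aeval_mulLeft] at h2'
        have hp2 : (π v).2 = 0 := (mul_eq_zero.1 h2'.symm).resolve_left hginv
        have h3 := BlockField.aeval_intertwine (LinearMap.id - j ∘ₗ π) (T := T) (S := (1 : Module.End F (ι → F)))
          (fun u => by
            simp only [LinearMap.sub_apply, LinearMap.id_apply, LinearMap.comp_apply, Module.End.one_apply]
            rw [hπT, ← hTj]; exact (by rw [← map_sub]; exact hfix u)) g v
        rw [hv, map_zero, show (1 : Module.End F (ι → F)) = algebraMap F (Module.End F (ι → F)) 1 from (map_one _).symm,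
          aeval_algebraMap_apply, Module.algebraMap_end_apply] at h3
        refine ⟨(π v).1, ?_⟩
        have h4 := (smul_eq_zero.1 h3.symm).resolve_left hg_one
        simp only [LinearMap.sub_apply, LinearMap.id_apply, LinearMap.comp_apply, sub_eq_zero] at h4
        refine h4.trans ?_
        show j (π v) = j ((π v).1, 0)
        rw [← hp2]
    have h1 := BlockField.sqrt_pow_card hε hc2 i
    have h2' := BlockField.pow_card_pow_finrank (F := F) c
    rw [hL] at h2'
    rw [h2', hodd.neg_one_pow, neg_one_mul] at h1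
    have hc0 : c = 0 := by
      have h22 : (2 : L) ≠ 0 := fun h => h2 ((algebraMap F L).injective (by rw [map_ofNat, h, map_zero]))
      exact (mul_eq_zero.1 (show (2 : L) * c = 0 by linear_combination h1)).resolve_left h22
    rw [hc0, mul_zero] at hc2
    exact hε ((algebraMap F L).injective ((map_zero _).trans hc2) ▸ ⟨0, (mul_zero 0).symm⟩)

/-- The anisotropic block. -/
theorem exists_minus_block (hrp : r ≠ p) {ε : F} (hε : ¬ IsSquare ε) {h : ℕ} (hodd : Odd h)
    (hord : orderOf (Fintype.card F : ZMod r) = 2 * h) {W : Type*} [AddCommGroup W] [Module F W]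
    [FiniteDimensional F W] (QW : QuadraticForm F W) (hW : ∀ u, (∀ v, QuadraticMap.polarBilin QW u v = 0) → u = 0)
    (hdim : finrank F W = 2 * h) (j : W →ₗ[F] (ι → F)) (hj : ∀ u, Q (j u) = QW u)
    {y : Module.End F W} (hy : ∀ u, QW (y u) = QW u) (hyr : y ^ r = 1) (hy1 : y ≠ 1) :
    ∃ x : ↥(Cfsg.isometryGroup F ⇑Q), x ^ r = 1 ∧ (∀ c : F, (((x : GL ι F)) : Matrix ι ι F) ≠ c • 1) ∧
      NoField Q ε (Matrix.toLin' ((x : GL ι F) : Matrix ι ι F)) := by
  classical
  have h2 : (2 : F) ≠ 0 := fun h => by
    haveI : CharP F 2 := CharTwo.of_one_ne_zero_of_two_eq_zero one_ne_zero h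
    exact hε (FiniteField.isSquare_of_char_two (ringChar.eq F 2) ε)
  set q := Fintype.card F
  have hh0 : 0 < h := hodd.pos
  have hsep : (X ^ r - C (1 : F)).Separable :=
    separable_X_pow_sub_C 1 (natCast_ne_zero_of_ne hrp) one_ne_zero
  rw [map_one] at hsep
  obtain ⟨P, hP⟩ : X - 1 ∣ (X : F[X]) ^ r - 1 := sub_one_dvd_pow_sub_one _ r
  have hcop : IsCoprime (X - 1 : F[X]) P := (hP ▸ hsep).isCoprime
  have hy0 : aeval y ((X : F[X]) ^ r - 1) = 0 := by simp [hyr]
  obtain ⟨v, hv⟩ : ∃ v, y v - v ≠ 0 := by
    by_contra hc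
    push Not at hc
    exact hy1 (LinearMap.ext fun v => sub_eq_zero.1 (hc v))
  have hne : LinearMap.ker (aeval y P) ≠ ⊥ := fun hb => hv (by
    have h' : y v - v ∈ LinearMap.ker (aeval y P) := by
      rw [LinearMap.mem_ker]
      have e := LinearMap.congr_fun hy0 v
      rw [hP, mul_comm, map_mul, Module.End.mul_apply] at e
      simpa using e
    rwa [hb, Submodule.mem_bot] at h')
  have hinv : Inv y (LinearMap.ker (aeval y P)) := fun u hu => by
    rw [LinearMap.mem_ker] at hu ⊢
    have e : aeval y P (y u) = y (aeval y P u) := by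
      have h1 := BlockField.aeval_intertwine y (T := y) (S := y) (fun _ => rfl) P u
      exact h1.symm
    rw [e, hu, map_zero]
  obtain ⟨U, hUW, hU, hU0, g, hg, hrank, hdvd, hgU⟩ := exists_irreducible_sub y hinv hne
  have hgdvd : g ∣ X ^ r - 1 := hdvd _ hy0
  have hg1 : ¬ g ∣ X - 1 := fun hd => by
    obtain ⟨a, b, hab⟩ := hcop
    obtain ⟨Z, hZ⟩ := hd
    obtain ⟨u, hu, hu0⟩ := Submodule.exists_mem_ne_zero_of_ne_bot hU0
    refine hu0 ?_
    have e := LinearMap.congr_fun (congrArg (aeval y) hab) u
    rw [hZ, map_add, map_one, LinearMap.add_apply, show a * (g * Z) = (a * Z) * g by ring] at e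
    simp only [map_mul, Module.End.mul_apply, hgU u hu, LinearMap.mem_ker.1 (hUW hu), map_zero, zero_add,
      Module.End.one_apply] at e
    exact e.symm
  have hdeg : g.natDegree = 2 * h := (natDegree_eq_order (by rw [hord]; omega) hg hgdvd hg1).trans hord
  obtain rfl : U = ⊤ := Submodule.eq_top_of_finrank_eq (by rw [hrank, hdeg, hdim])
  have hgy : aeval y g = 0 := LinearMap.ext fun u => hgU u trivial
  haveI : Fact (Irreducible g) := ⟨hg⟩
  haveI : Module.Finite F (AdjoinRoot g) := (AdjoinRoot.powerBasis hg.ne_zero).finite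
  haveI : Finite (AdjoinRoot g) := Module.finite_of_finite F
  let L := AdjoinRoot g
  let α : L := AdjoinRoot.root g
  have hL : finrank F L = 2 * h := hdeg ▸ finrank_quotient_span_eq_natDegree (f := g)
  have hroot : ∀ P : F[X], aeval α P = 0 ↔ g ∣ P := fun P => by
    rw [AdjoinRoot.aeval_eq, AdjoinRoot.mk_eq_zero]
  have hgen : ∀ x : L, ∃ P : F[X], aeval α P = x := fun x => by
    obtain ⟨P, hP⟩ := AdjoinRoot.mk_surjective x
    exact ⟨P, by rw [AdjoinRoot.aeval_eq, hP]⟩
  have hgα : aeval α g = 0 := (hroot g).2 dvd_rfl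
  have hαr : α ^ r = 1 := by
    have := (hroot _).2 hgdvd
    simpa [sub_eq_zero] using this
  have hα1 : α ≠ 1 := fun h => hg1 ((hroot _).1 (by simp [h]))
  have hg_one : g.eval 1 ≠ 0 := fun h => by
    have h' : X - C (1 : F) ∣ g := dvd_iff_isRoot.2 h
    rw [← map_one (C : F →+* F[X])] at hg1
    exact hg1 ((irreducible_X_sub_C 1).associated_of_dvd hg h').symm.dvd
  let ρ : L →ₐ[F] Module.End F W := Ideal.Quotient.liftₐ (Ideal.span {g}) (aeval y) (fun a ha => by
    obtain ⟨b, rfl⟩ := Ideal.mem_span_singleton.1 ha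
    rw [map_mul, hgy, zero_mul])
  have hρα : ρ α = y := aeval_X (R := F) y
  haveI : Nontrivial W := Module.nontrivial_of_finrank_pos (R := F) (by omega)
  obtain ⟨w₀, hw₀⟩ := exists_ne (0 : W)
  let φ : L →ₗ[F] W := (LinearMap.applyₗ w₀).comp ρ.toLinearMap
  have hφ : ∀ a, φ a = ρ a w₀ := fun a => rfl
  have hφinj : Function.Injective φ := (injective_iff_map_eq_zero φ).2 fun a ha => by
    by_contra ha0
    refine hw₀ ?_
    rw [← Module.End.one_apply (R := F) w₀, ← map_one ρ, ← inv_mul_cancel₀ ha0, map_mul, Module.End.mul_apply,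
      ← hφ, ha, map_zero]
  have hφs : Function.Surjective φ :=
    (LinearMap.injective_iff_surjective_of_finrank_eq_finrank (hL.trans hdim.symm)).1 hφinj
  obtain ⟨T, hT, hTr, hTj, π, hπj, hπT, hfix⟩ := exists_extension QW hW j hj hy hyr
  have hjinj : Function.Injective j := fun u v h => by rw [← hπj u, h, hπj]
  let ιL : L →ₗ[F] (ι → F) := j.comp φ
  have hιL : ∀ a, ιL (α * a) = T (ιL a) := fun a => by
    show j (φ (α * a)) = T (j (φ a))
    rw [hTj, hφ, hφ, map_mul, hρα, Module.End.mul_apply]
  refine exists_element hT hr.out.pos hTr (fun c => ?_) fun D hD hTD => ?_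
  · by_contra hc
    push Not at hc
    have e : φ (α * 1) = φ (c • 1) := hjinj (by
      show ιL (α * 1) = j (φ (c • 1))
      rw [hιL, hc, map_smul, map_smul]; rfl)
    have e' := hφinj e
    rw [mul_one] at e'
    have hroot' : g.IsRoot c := by
      have h0 := hgα
      rw [e', ← Algebra.algebraMap_eq_smul_one, aeval_algebraMap_apply] at h0
      exact (algebraMap F L).injective (h0.trans (map_zero _).symm)
    have := natDegree_eq_of_degree_eq (degree_eq_degree_of_associated
      ((irreducible_X_sub_C c).associated_of_dvd hg (dvd_iff_isRoot.2 hroot')))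
    rw [natDegree_X_sub_C, hdeg] at this
    omega
  · obtain ⟨c, hc2, hmul⟩ := BlockField.exists_mul_on_block hgen hgα hTD (ε := ε) hD.sq ιL
      (hjinj.comp hφinj) hιL fun v hv => by
        have h3 := BlockField.aeval_intertwine (LinearMap.id - j ∘ₗ π) (T := T) (S := (1 : Module.End F (ι → F)))
          (fun u => by
            simp only [LinearMap.sub_apply, LinearMap.id_apply, LinearMap.comp_apply, Module.End.one_apply]
            rw [hπT, ← hTj]; exact (by rw [← map_sub]; exact hfix u)) g v
        rw [hv, map_zero, show (1 : Module.End F (ι → F)) = algebraMap F (Module.End F (ι → F)) 1 from (map_one _).symm,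
          aeval_algebraMap_apply, Module.algebraMap_end_apply] at h3
        have h4 := (smul_eq_zero.1 h3.symm).resolve_left hg_one
        simp only [LinearMap.sub_apply, LinearMap.id_apply, LinearMap.comp_apply, sub_eq_zero] at h4
        obtain ⟨a, ha⟩ := hφs (π v)
        exact ⟨a, by show v = j (φ a); rw [ha, ← h4]⟩
    let τ : L →ₐ[F] L := FiniteField.frobeniusAlgHom F L ^ h
    have hτ : ∀ x, τ x = x ^ q ^ h := fun x => BlockField.frobenius_pow_apply h x
    have hτα : α * τ α = 1 := by
      have hq1 : 1 < q := Fintype.one_lt_card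
      have h1 : r ∣ (q ^ h + 1) * (q ^ h - 1) := by
        rw [← Nat.sq_sub_sq, one_pow, ← pow_mul, mul_comm, ← hord]
        exact (dvd_pow_sub_one_iff hq1.le _).2 dvd_rfl
      have h3 : r ∣ q ^ h + 1 := (hr.out.dvd_mul.1 h1).resolve_right fun h' => by
        have := Nat.le_of_dvd hh0 ((dvd_pow_sub_one_iff hq1.le _).1 h')
        omega
      rw [hτ, ← pow_succ', ← orderOf_dvd_iff_pow_eq_one, orderOf_eq_prime hαr hα1]
      exact h3
    set B := QuadraticMap.polarBilin Q
    have hadj : ∀ x a b, B (ιL (x * a)) (ιL b) = B (ιL a) (ιL (τ x * b)) := by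
      intro x
      obtain ⟨P, rfl⟩ := hgen x
      induction P using Polynomial.induction_on with
      | C k =>
        intro a b
        rw [aeval_C, AlgHom.commutes, ← Algebra.smul_def, ← Algebra.smul_def, map_smul, map_smul, map_smul,
          map_smul, LinearMap.smul_apply]
      | add P Q' hP hQ =>
        intro a b
        rw [map_add, map_add τ, add_mul, add_mul, map_add, map_add, map_add, map_add, LinearMap.add_apply, hP, hQ]
      | monomial k a' ih =>
        intro a b
        rw [pow_succ, ← mul_assoc, map_mul (aeval α), map_mul τ, mul_assoc, ih, mul_assoc, aeval_X]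
        rw [show τ α * b = τ α * b from rfl, hιL a]
        conv_lhs => rw [show τ (aeval α (C a' * X ^ k)) * b = α * (τ α * (τ (aeval α (C a' * X ^ k)) * b)) by
          rw [← mul_assoc α, hτα, one_mul], hιL]
        show QuadraticMap.polar Q (T _) (T _) = QuadraticMap.polar Q _ _
        simp only [QuadraticMap.polar, ← map_add, hT]
        rw [show τ α * (τ (aeval α (C a' * X ^ k)) * b) = τ (aeval α (C a' * X ^ k)) * (τ α * b) by ring]
    have hcfix : τ c = c := by
      by_contra hne'
      have hz : ∀ a b, B (ιL a) (ιL ((τ c - c) * b)) = 0 := fun a b => by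
        have h := hD.adj (ιL a) (ιL b)
        rw [hmul, hmul, hadj] at h
        rw [sub_mul, map_sub, map_sub, h, sub_self]
      refine hne' (sub_eq_zero.1 ?_)
      have h0 : φ (τ c - c) = 0 := hW _ fun w => by
        obtain ⟨a, rfl⟩ := hφs w
        have := hz a 1
        rw [mul_one] at this
        show QuadraticMap.polar QW (φ (τ c - c)) (φ a) = 0
        rw [QuadraticMap.polar_comm]
        simp only [QuadraticMap.polar, ← hj, map_add]
        exact this
      exact hφinj (h0.trans (map_zero φ).symm)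
    have h1 := BlockField.sqrt_pow_card hε hc2 h
    rw [← hτ, hcfix, hodd.neg_one_pow, neg_one_mul] at h1
    have hc0 : c = 0 := by
      have h22 : (2 : L) ≠ 0 := fun h => h2 ((algebraMap F L).injective (by rw [map_ofNat, h, map_zero]))
      exact (mul_eq_zero.1 (show (2 : L) * c = 0 by linear_combination h1)).resolve_left h22
    rw [hc0, mul_zero] at hc2
    exact hε ((algebraMap F L).injective ((map_zero _).trans hc2) ▸ ⟨0, (mul_zero 0).symm⟩)

end CfsgLib.LinFix.OrthFieldElem
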