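import Mathlib
import Cfsg.Prelude.Def_GeometricClasses

/-!
Quadratic field subalgebras of a matrix algebra: generators, normalisers and conjugacy by
matrices of determinant one.
-/

set_option autoImplicit false

namespace CfsgLib.LinFix.QuadSub

open Module Matrix Cfsg.Geo
open scoped MatrixGroups

variable {F : Type*} [Field F] {ι : Type} [Fintype ι] [DecidableEq ι]

/-- `J` generates `K` with relation `J ^ 2 = a J + b`, irreducible. -/
structure IsGen (K : Subalgebra F (Matrix ι ι F)) (J : Matrix ι ι F) (a b : F) : Prop where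
  mem : J ∈ K
  rel : J * J = a • J + b • 1
  noroot : ∀ c : F, c * c ≠ a * c + b
  span : ∀ y ∈ K, ∃ c d : F, y = c • 1 + d • J

variable {K : Subalgebra F (Matrix ι ι F)}

theorem exists_gen [Nonempty ι] (hK : IsFieldSubalgebra 2 K) : ∃ J a b, IsGen K J a b := by
  classical
  set S := Subalgebra.toSubmodule K
  have hS : finrank F S = 2 := hK.finrank_eq
  obtain ⟨J, hJ, hJn⟩ : ∃ J ∈ K, ∀ c : F, J ≠ c • 1 := by
    by_contra hc
    push Not at hc
    have hle : S ≤ F ∙ (1 : Matrix ι ι F) := fun y hy => by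
      obtain ⟨c, hc⟩ := hc y hy
      exact Submodule.mem_span_singleton.mpr ⟨c, hc.symm⟩
    have := Submodule.finrank_mono hle
    rw [hS, finrank_span_singleton (one_ne_zero : (1 : Matrix ι ι F) ≠ 0)] at this
    omega
  have hli : LinearIndependent F ![(1 : Matrix ι ι F), J] := by
    rw [LinearIndependent.pair_iff]
    intro s t hst
    have ht : t = 0 := by
      by_contra ht
      refine hJn (-(t⁻¹ * s)) ?_
      have h := congrArg (fun M : Matrix ι ι F => t⁻¹ • M) hst
      simp only [smul_add, smul_smul, inv_mul_cancel₀ ht, one_smul, smul_zero] at h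
      rw [neg_smul]
      exact eq_neg_of_add_eq_zero_right h
    subst ht
    simp at hst
    exact ⟨hst, rfl⟩
  have hspan : Submodule.span F (Set.range ![(1 : Matrix ι ι F), J]) = S := by
    apply Submodule.eq_of_le_of_finrank_le
    · rw [Submodule.span_le]
      rintro _ ⟨i, rfl⟩
      fin_cases i
      · exact K.one_mem
      · exact hJ
    · rw [finrank_span_eq_card hli, hS, Fintype.card_fin]
  have hmem : ∀ y ∈ K, ∃ c d : F, y = c • 1 + d • J := fun y hy => by
    have : y ∈ Submodule.span F (Set.range ![(1 : Matrix ι ι F), J]) := hspan ▸ hy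
    rw [Matrix.range_cons_cons_empty, Submodule.mem_span_pair] at this
    obtain ⟨c, d, h⟩ := this
    exact ⟨c, d, h.symm⟩
  obtain ⟨b, a, hab⟩ := hmem (J * J) (K.mul_mem hJ hJ)
  rw [add_comm] at hab
  refine ⟨J, a, b, hJ, hab, fun c hc => ?_, hmem⟩
  have h1 : (J - c • 1) * (J - (a - c) • 1) = (0 : Matrix ι ι F) := by
    simp only [sub_mul, mul_sub, hab, Matrix.smul_mul, Matrix.mul_smul, one_mul, mul_one, smul_smul]
    rw [show b = c * c - a * c by linear_combination -hc]
    module
  obtain ⟨y, -, hy⟩ := hK.inv (J - c • 1) (K.sub_mem hJ (K.smul_mem K.one_mem c))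
    (sub_ne_zero.mpr (hJn c))
  have hcm : y * (J - c • 1) = 1 := mul_eq_one_comm.mp hy
  have h2 := congrArg (y * ·) h1
  simp only [← mul_assoc, hcm, one_mul, mul_zero] at h2
  exact hJn _ (sub_eq_zero.mp h2)

/-- In odd characteristic the generator can be normalised to have square a non-square scalar. -/
theorem IsGen.normalize {J : Matrix ι ι F} {a b : F} (h : IsGen K J a b) (h2 : (2 : F) ≠ 0) :
    IsGen K ((2 : F) • J - a • 1) 0 (a * a + 4 * b) where
  mem := K.sub_mem (K.smul_mem h.mem _) (K.smul_mem K.one_mem _)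
  rel := by
    simp only [sub_mul, mul_sub, Matrix.smul_mul, Matrix.mul_smul, one_mul, mul_one, h.rel]
    module
  noroot c hc := h.noroot ((c + a) / 2) (by field_simp; linear_combination hc)
  span y hy := by
    obtain ⟨c, d, rfl⟩ := h.span y hy
    refine ⟨c + d / 2 * a, d / 2, ?_⟩
    have hd : d / 2 * 2 = d := by field_simp
    rw [smul_sub, smul_smul, smul_smul, hd]
    module

theorem IsGen.mem_normalizer_iff {J : Matrix ι ι F} {a b : F} (h : IsGen K J a b)
    (hK : IsFieldSubalgebra 2 K) (g : GL ι F) :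
    g ∈ subalgebraNormalizer K ↔ (g : Matrix ι ι F) * J = J * g ∨ (g : Matrix ι ι F) * J = (a • 1 - J) * g := by
  constructor
  · intro hg
    set y := (g : Matrix ι ι F) * J * ((g⁻¹ : GL ι F) : Matrix ι ι F)
    have hy : y ∈ K := (hg J).mp h.mem
    have hyg : y * g = (g : Matrix ι ι F) * J := by
      simp only [y, mul_assoc, ← Units.val_mul, inv_mul_cancel, Units.val_one, mul_one]
    have hy2 : y * y = a • y + b • 1 := by
      have e : y * y = (g : Matrix ι ι F) * (J * J) * ((g⁻¹ : GL ι F) : Matrix ι ι F) := by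
        show y * ((g : Matrix ι ι F) * J * ((g⁻¹ : GL ι F) : Matrix ι ι F)) = _
        rw [← mul_assoc, ← mul_assoc, hyg, mul_assoc (g : Matrix ι ι F) J J]
      rw [e, h.rel, mul_add, add_mul, Matrix.mul_smul, Matrix.mul_smul, Matrix.smul_mul,
        Matrix.smul_mul, mul_one, ← Units.val_mul, mul_inv_cancel, Units.val_one]
    have hzero : (y - J) * (y + J - a • 1) = 0 := by
      simp only [sub_mul, mul_sub, mul_add, Matrix.mul_smul, mul_one, hy2, h.rel,
        hK.comm J h.mem y hy]
      module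
    by_cases hyJ : y = J
    · exact Or.inl (by rw [← hyg, hyJ])
    · obtain ⟨z, -, hz⟩ := hK.inv (y - J) (K.sub_mem hy h.mem) (sub_ne_zero.mpr hyJ)
      have h2 := congrArg (z * ·) hzero
      simp only [← mul_assoc, mul_eq_one_comm.mp hz, one_mul, mul_zero] at h2
      refine Or.inr ?_
      rw [← hyg, show a • 1 - J = y from sub_eq_iff_eq_add.mpr (sub_eq_zero.mp h2).symm]
  · intro hg
    have key : ∀ g : GL ι F, ((g : Matrix ι ι F) * J = J * g ∨ (g : Matrix ι ι F) * J = (a • 1 - J) * g) →
        ∀ k ∈ K, (g : Matrix ι ι F) * k * ((g⁻¹ : GL ι F) : Matrix ι ι F) ∈ K := by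
      intro g hg k hk
      obtain ⟨c, d, rfl⟩ := h.span k hk
      obtain ⟨J', hJ', hgJ⟩ : ∃ J' ∈ K, (g : Matrix ι ι F) * J = J' * g := by
        rcases hg with hg | hg
        · exact ⟨J, h.mem, hg⟩
        · exact ⟨_, K.sub_mem (K.smul_mem K.one_mem a) h.mem, hg⟩
      rw [mul_add, Matrix.mul_smul, Matrix.mul_smul, hgJ, mul_one, add_mul, Matrix.smul_mul,
        Matrix.smul_mul, mul_assoc, ← Units.val_mul, mul_inv_cancel, Units.val_one, mul_one]
      exact K.add_mem (K.smul_mem K.one_mem c) (K.smul_mem hJ' d)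
    intro k
    refine ⟨key g hg k, fun hk => ?_⟩
    have hcancel : ∀ A B : Matrix ι ι F, (g : Matrix ι ι F) * A = B * g →
        ((g⁻¹ : GL ι F) : Matrix ι ι F) * B = A * ((g⁻¹ : GL ι F) : Matrix ι ι F) := fun A B hAB => by
      calc ((g⁻¹ : GL ι F) : Matrix ι ι F) * B
          = ((g⁻¹ : GL ι F) : Matrix ι ι F) * (B * g) * ((g⁻¹ : GL ι F) : Matrix ι ι F) := by
            simp only [mul_assoc, ← Units.val_mul, mul_inv_cancel, Units.val_one, mul_one]
        _ = A * ((g⁻¹ : GL ι F) : Matrix ι ι F) := by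
            rw [← hAB, ← mul_assoc, ← Units.val_mul, inv_mul_cancel, Units.val_one, one_mul]
    have hg' : ((g⁻¹ : GL ι F) : Matrix ι ι F) * J = J * ((g⁻¹ : GL ι F) : Matrix ι ι F) ∨
        ((g⁻¹ : GL ι F) : Matrix ι ι F) * J = (a • 1 - J) * ((g⁻¹ : GL ι F) : Matrix ι ι F) := by
      rcases hg with hg | hg
      · exact Or.inl (hcancel _ _ hg)
      · refine Or.inr (hcancel _ _ ?_)
        rw [mul_sub, hg, Matrix.mul_smul, mul_one, sub_mul, Matrix.smul_mul, one_mul]
        abel
    have := key g⁻¹ hg' _ hk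
    rwa [inv_inv, show ((g⁻¹ : GL ι F) : Matrix ι ι F) * ((g : Matrix ι ι F) * k * ((g⁻¹ : GL ι F) : Matrix ι ι F)) *
      (g : Matrix ι ι F) = k by
        simp only [mul_assoc, ← Units.val_mul, inv_mul_cancel, Units.val_one, mul_one]
        rw [← mul_assoc, ← Units.val_mul, inv_mul_cancel, Units.val_one, one_mul]] at this

variable {V : Type*} [AddCommGroup V] [Module F V] [FiniteDimensional F V]

/-- A map with irreducible quadratic relation has a basis in pairs `v, T v`. -/
theorem exists_pairs_basis (T : V →ₗ[F] V) {a b : F} (hT : ∀ v, T (T v) = a • T v + b • v)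
    (hab : ∀ c : F, c * c ≠ a * c + b) :
    ∃ (d : ℕ) (B : Basis (Fin d × Fin 2) F V), ∀ i, T (B (i, 0)) = B (i, 1) := by
  classical
  let fam : ∀ {d : ℕ}, (Fin d → V) → Fin d × Fin 2 → V := fun v x => ![v x.1, T (v x.1)] x.2
  let P : ℕ → Prop := fun d => ∃ v : Fin d → V, LinearIndependent F (fam v)
  have hbound : ∀ d, P d → d ≤ finrank F V := fun d ⟨v, hv⟩ => by
    have := hv.fintype_card_le_finrank
    simp at this
    omega
  set d := Nat.findGreatest P (finrank F V) with hd
  obtain ⟨v, hv⟩ : P d := Nat.findGreatest_spec (Nat.zero_le _) ⟨Fin.elim0, linearIndependent_empty_type⟩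
  set W := Submodule.span F (Set.range (fam v)) with hW
  have hWT : ∀ w ∈ W, T w ∈ W := by
    intro w hw
    refine (Submodule.span_le (p := W.comap T)).mpr ?_ hw
    rintro _ ⟨⟨i, j⟩, rfl⟩
    fin_cases j
    · exact Submodule.subset_span ⟨(i, 1), rfl⟩
    · show T (T (v i)) ∈ W
      rw [hT]
      exact W.add_mem (W.smul_mem _ (Submodule.subset_span ⟨(i, 1), rfl⟩))
        (W.smul_mem _ (Submodule.subset_span ⟨(i, 0), rfl⟩))
  have htop : W = ⊤ := by
    by_contra hne
    obtain ⟨u, -, hu⟩ := SetLike.exists_of_lt (lt_top_iff_ne_top.mpr hne)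
    have hind : ∀ s t : F, s • u + t • T u ∈ W → s = 0 ∧ t = 0 := by
      intro s t hst
      by_cases ht : t = 0
      · subst ht
        refine ⟨?_, rfl⟩
        by_contra hs
        simp only [zero_smul, add_zero] at hst
        exact hu (by simpa [hs] using W.smul_mem s⁻¹ hst)
      · exfalso
        have h1 : T u - (-(s / t)) • u ∈ W := by
          have := W.smul_mem t⁻¹ hst
          rw [smul_add, smul_smul, smul_smul, inv_mul_cancel₀ ht, one_smul] at this
          convert this using 1
          rw [neg_smul, sub_neg_eq_add, div_eq_inv_mul, add_comm]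
        set c := -(s / t)
        have h2 := W.sub_mem (hWT _ h1) (W.smul_mem (a - c) h1)
        rw [map_sub, map_smul, hT] at h2
        have h3 : (b + (a - c) * c) • u ∈ W := by
          convert h2 using 1
          module
        have hne0 : b + (a - c) * c ≠ 0 := fun h0 => hab c (by linear_combination -h0)
        exact hu (by simpa [hne0] using W.smul_mem (b + (a - c) * c)⁻¹ h3)
    have hP : P (d + 1) := by
      refine ⟨Fin.snoc v u, Fintype.linearIndependent_iff.mpr fun g hg => ?_⟩
      rw [Fintype.sum_prod_type, Fin.sum_univ_castSucc] at hg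
      simp only [fam, Fin.snoc_castSucc, Fin.snoc_last] at hg
      have hmem : g (Fin.last d, 0) • u + g (Fin.last d, 1) • T u ∈ W := by
        have hs : (∑ i : Fin d, ∑ j : Fin 2, g (i.castSucc, j) • ![v i, T (v i)] j) ∈ W :=
          W.sum_mem fun i _ => W.sum_mem fun j _ => W.smul_mem _ (Submodule.subset_span ⟨(i, j), rfl⟩)
        have := eq_neg_of_add_eq_zero_right hg
        rw [Fin.sum_univ_two] at this
        simp only [Matrix.cons_val_zero, Matrix.cons_val_one, Matrix.cons_val_fin_one] at this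
        rw [this]
        exact W.neg_mem hs
      obtain ⟨h0, h1⟩ := hind _ _ hmem
      have hrest := Fintype.linearIndependent_iff.mp hv (fun x => g (x.1.castSucc, x.2)) (by
        rw [Fintype.sum_prod_type]
        simpa [fam, Fin.sum_univ_two, h0, h1] using hg)
      rintro ⟨i, j⟩
      induction i using Fin.lastCases with
      | last => fin_cases j <;> assumption
      | cast i => exact hrest (i, j)
    have := Nat.le_findGreatest (hbound _ hP) hP
    omega
  refine ⟨d, Basis.mk hv (top_le_iff.mpr htop), fun i => ?_⟩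
  simp [fam]

/-- The norm form of a quadratic extension of a finite field is surjective. -/
theorem exists_norm_eq [Fintype F] (a b e : F) (h : (2 : F) = 0 ∨ a = 0 ∧ b ≠ 0) :
    ∃ c d : F, c * (c + a * d) - b * (d * d) = e := by
  rcases h with h2 | ⟨rfl, hb⟩
  · haveI : CharP F 2 := CharTwo.of_one_ne_zero_of_two_eq_zero one_ne_zero h2
    obtain ⟨c, hc⟩ := (bijective_frobenius F 2).surjective e
    refine ⟨c, 0, ?_⟩
    rw [← hc, frobenius_def]; ring
  · by_cases h2 : (2 : F) = 0
    · haveI : CharP F 2 := CharTwo.of_one_ne_zero_of_two_eq_zero one_ne_zero h2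
      obtain ⟨c, hc⟩ := (bijective_frobenius F 2).surjective e
      refine ⟨c, 0, ?_⟩
      rw [← hc, frobenius_def]; ring
    · have hF : ringChar F ≠ 2 := fun h => h2 (by
        have := CharP.cast_eq_zero F (ringChar F)
        rwa [h, Nat.cast_two] at this)
      obtain ⟨c, d, hcd⟩ := FiniteField.exists_root_sum_quadratic (R := F)
        (Polynomial.degree_X_pow_sub_C (by norm_num : 0 < 2) e)
        (Polynomial.degree_C_mul_X_pow (n := 2) (neg_ne_zero.mpr hb))
        (Nat.odd_iff.mp (Nat.odd_iff.mpr (FiniteField.odd_card_of_char_ne_two hF)))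
      simp at hcd
      exact ⟨c, d, by linear_combination hcd⟩

variable {n : ℕ}

/-- Two matrices with the same irreducible quadratic relation are conjugate by a matrix of
determinant one. -/
theorem exists_sl_conj [Fintype F] [NeZero n] (J D : Matrix (Fin n) (Fin n) F) {a b : F}
    (hJ : J * J = a • J + b • 1) (hD : D * D = a • D + b • 1) (hab : ∀ c : F, c * c ≠ a * c + b) :
    ∃ P : SpecialLinearGroup (Fin n) F, D * (P : Matrix (Fin n) (Fin n) F) = (P : Matrix (Fin n) (Fin n) F) * J := by
  classical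
  have hrel : ∀ M : Matrix (Fin n) (Fin n) F, M * M = a • M + b • 1 →
      ∀ v, Matrix.toLin' M (Matrix.toLin' M v) = a • Matrix.toLin' M v + b • v := fun M hM v => by
    simp [Matrix.toLin'_apply, mulVec_mulVec, hM, add_mulVec, smul_mulVec]
  obtain ⟨d, BJ, hBJ⟩ := exists_pairs_basis _ (hrel J hJ) hab
  obtain ⟨d', BD, hBD⟩ := exists_pairs_basis _ (hrel D hD) hab
  obtain rfl : d = d' := by
    have h1 := finrank_eq_card_basis BJ
    have h2 := finrank_eq_card_basis BD
    rw [h1] at h2
    simp at h2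
    omega
  have hd : 0 < d := by
    have h1 := finrank_eq_card_basis BJ
    simp at h1
    have := NeZero.pos n
    omega
  let S₀ := Matrix.toLin' J
  let S := Matrix.toLin' D
  let Q₀ : (Fin n → F) ≃ₗ[F] (Fin n → F) := BJ.equiv BD (Equiv.refl _)
  have hne : LinearMap.det (Q₀ : (Fin n → F) →ₗ[F] (Fin n → F)) ≠ 0 := (LinearEquiv.isUnit_det' Q₀).ne_zero
  obtain ⟨c, e, hce⟩ : ∃ c e : F, c * (c + a * e) - b * (e * e) =
      (LinearMap.det (Q₀ : (Fin n → F) →ₗ[F] (Fin n → F)))⁻¹ := by
    by_cases h2 : (2 : F) = 0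
    · exact exists_norm_eq a b _ (Or.inl h2)
    · obtain ⟨u, v, huv⟩ := exists_norm_eq 0 (a * a / 4 + b)
        ((LinearMap.det (Q₀ : (Fin n → F) →ₗ[F] (Fin n → F)))⁻¹) (Or.inr ⟨rfl, fun h0 => hab (a / 2) (by
          have h4 : (4 : F) ≠ 0 := by
            rw [show (4 : F) = 2 * 2 by norm_num]; exact mul_ne_zero h2 h2
          field_simp at h0 ⊢
          linear_combination -h0)⟩)
      have h4 : (4 : F) ≠ 0 := by rw [show (4 : F) = 2 * 2 by norm_num]; exact mul_ne_zero h2 h2
      refine ⟨u - a / 2 * v, v, ?_⟩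
      rw [← huv]
      field_simp
      ring
  let C : Fin d → Matrix (Fin 2) (Fin 2) F := Function.update (fun _ => 1) ⟨0, hd⟩ !![c, b * e; e, c + a * e]
  let B' : Basis (Fin 2 × Fin d) F (Fin n → F) := BD.reindex (Equiv.prodComm _ _)
  let G : (Fin n → F) →ₗ[F] (Fin n → F) := Matrix.toLin B' B' (Matrix.blockDiagonal C)
  have hG : ∀ i j, G (BD (i, j)) = C i 0 j • BD (i, 0) + C i 1 j • BD (i, 1) := fun i j => by
    have := Matrix.toLin_self B' B' (Matrix.blockDiagonal C) (j, i)
    rw [show B' (j, i) = BD (i, j) by simp [B']] at this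
    rw [this, Fintype.sum_prod_type, Fin.sum_univ_two]
    congr 1 <;> rw [Finset.sum_eq_single i] <;>
      simp +contextual [B', Matrix.blockDiagonal_apply_eq, Matrix.blockDiagonal_apply_ne]
  have hGS : ∀ v, G (S v) = S (G v) := by
    refine LinearMap.congr_fun (BD.ext (f₁ := G ∘ₗ S) (f₂ := S ∘ₗ G) ?_)
    rintro ⟨i, j⟩
    simp only [LinearMap.comp_apply, S]
    fin_cases j <;> simp only [Fin.zero_eta, Fin.mk_one]
    · rw [hBD, hG, hG, map_add, map_smul, map_smul, hBD, ← hBD i, hrel D hD, hBD]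
      by_cases hi : i = ⟨0, hd⟩
      · subst hi
        simp only [C, Function.update_self, Matrix.cons_val', Matrix.cons_val_zero, Matrix.cons_val_one,
          Matrix.cons_val_fin_one, Matrix.empty_val', Matrix.of_apply]
        module
      · simp [C, hi]
    · conv_lhs => rw [← hBD i, hrel D hD, map_add, map_smul, map_smul, hBD, hG, hG]
      conv_rhs => rw [hG, map_add, map_smul, map_smul, hBD]
      rw [← hBD i, hrel D hD, hBD]
      by_cases hi : i = ⟨0, hd⟩
      · subst hi
        simp only [C, Function.update_self, Matrix.cons_val', Matrix.cons_val_zero, Matrix.cons_val_one,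
          Matrix.cons_val_fin_one, Matrix.empty_val', Matrix.of_apply]
        module
      · simp [C, hi]
  have hQ : ∀ v, Q₀ (S₀ v) = S (Q₀ v) := by
    refine LinearMap.congr_fun (BJ.ext (f₁ := Q₀.toLinearMap ∘ₗ S₀) (f₂ := S ∘ₗ Q₀.toLinearMap) ?_)
    rintro ⟨i, j⟩
    simp only [LinearMap.comp_apply, LinearEquiv.coe_coe, S, S₀]
    fin_cases j <;> simp only [Fin.zero_eta, Fin.mk_one]
    · simp [Q₀, hBJ, hBD]
    · rw [← hBJ i, hrel J hJ, hBJ]
      simp only [map_add, map_smul, Q₀, Basis.equiv_apply, Equiv.refl_apply]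
      rw [← hBD i, hrel D hD, hBD]
  have hdet : LinearMap.det (G ∘ₗ Q₀.toLinearMap) = 1 := by
    rw [LinearMap.det_comp, show LinearMap.det G = (LinearMap.det Q₀.toLinearMap)⁻¹ from ?_, inv_mul_cancel₀ hne]
    rw [LinearMap.det_toLin, Matrix.det_blockDiagonal, Finset.prod_eq_single (⟨0, hd⟩ : Fin d)
      (fun i _ hi => by simp [C, hi]) (by simp), ← hce]
    simp [C, Matrix.det_fin_two]
    ring
  refine ⟨⟨LinearMap.toMatrix' (G ∘ₗ Q₀.toLinearMap), by rw [LinearMap.det_toMatrix', hdet]⟩, ?_⟩
  show D * LinearMap.toMatrix' _ = LinearMap.toMatrix' _ * J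
  conv_lhs => rw [← LinearMap.toMatrix'_toLin' D]
  conv_rhs => rw [← LinearMap.toMatrix'_toLin' J]
  rw [← LinearMap.toMatrix'_comp, ← LinearMap.toMatrix'_comp]
  congr 1
  apply LinearMap.ext
  intro v
  exact ((congrArg G (hQ v)).trans (hGS _)).symm

variable {K : Subalgebra F (Matrix (Fin n) (Fin n) F)} {J : Matrix (Fin n) (Fin n) F} {a b : F}

/-- A determinant one matrix is conjugate into the normaliser iff it normalises some matrix
with the relation of the generator. -/
theorem IsGen.exists_conj_iff [Fintype F] [NeZero n] (h : IsGen K J a b) (hK : IsFieldSubalgebra 2 K)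
    (x : SpecialLinearGroup (Fin n) F) :
    (∃ P : SpecialLinearGroup (Fin n) F,
      P⁻¹ * x * P ∈ (subalgebraNormalizer K).comap SpecialLinearGroup.toGL) ↔
    ∃ D : Matrix (Fin n) (Fin n) F, D * D = a • D + b • 1 ∧
      ((x : Matrix (Fin n) (Fin n) F) * D = D * x ∨
        (x : Matrix (Fin n) (Fin n) F) * D = (a • 1 - D) * x) := by
  have hinv : ∀ P : SpecialLinearGroup (Fin n) F, (P : Matrix (Fin n) (Fin n) F) *
      ((P⁻¹ : SpecialLinearGroup (Fin n) F) : Matrix (Fin n) (Fin n) F) = 1 := fun P =>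
    congrArg Subtype.val (mul_inv_cancel P)
  have hinv' : ∀ P : SpecialLinearGroup (Fin n) F, ((P⁻¹ : SpecialLinearGroup (Fin n) F) : Matrix (Fin n) (Fin n) F) *
      (P : Matrix (Fin n) (Fin n) F) = 1 := fun P =>
    congrArg Subtype.val (inv_mul_cancel P)
  have hy : ∀ P : SpecialLinearGroup (Fin n) F,
      ((SpecialLinearGroup.toGL (P⁻¹ * x * P) : GL (Fin n) F) : Matrix (Fin n) (Fin n) F) =
      ((P⁻¹ : SpecialLinearGroup (Fin n) F) : Matrix (Fin n) (Fin n) F) * (x : Matrix (Fin n) (Fin n) F) *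
        (P : Matrix (Fin n) (Fin n) F) := fun P => rfl
  constructor
  · rintro ⟨P, hP⟩
    rw [Subgroup.mem_comap, h.mem_normalizer_iff hK, hy] at hP
    set p := (P : Matrix (Fin n) (Fin n) F)
    set p' := ((P⁻¹ : SpecialLinearGroup (Fin n) F) : Matrix (Fin n) (Fin n) F)
    set X := (x : Matrix (Fin n) (Fin n) F)
    have e : ∀ A : Matrix (Fin n) (Fin n) F, p' * X * p * J = A * (p' * X * p) →
        X * (p * J * p') = p * A * p' * X := fun A hA => by
      calc X * (p * J * p') = (p * p') * X * p * J * p' := by rw [hinv P, one_mul]; simp only [mul_assoc]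
        _ = p * (p' * X * p * J) * p' := by simp only [mul_assoc]
        _ = p * A * p' * X * (p * p') := by rw [hA]; simp only [mul_assoc]
        _ = _ := by rw [hinv P, mul_one]
    refine ⟨p * J * p', ?_, hP.imp (fun hP => e J hP) fun hP => ?_⟩
    · calc p * J * p' * (p * J * p') = p * (J * (p' * p) * J) * p' := by simp only [mul_assoc]
        _ = _ := by
          rw [hinv' P, mul_one, h.rel, mul_add, add_mul, Matrix.mul_smul, Matrix.mul_smul, Matrix.smul_mul,
            Matrix.smul_mul, mul_one, hinv P]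
    · rw [e _ hP]
      simp only [mul_sub, sub_mul, Matrix.mul_smul, Matrix.smul_mul, mul_one]
      rw [show p * p' = 1 from hinv P]
  · rintro ⟨D, hD, hxD⟩
    obtain ⟨P, hP⟩ := exists_sl_conj J D h.rel hD h.noroot
    refine ⟨P, ?_⟩
    rw [Subgroup.mem_comap, h.mem_normalizer_iff hK, hy]
    set p := (P : Matrix (Fin n) (Fin n) F)
    set p' := ((P⁻¹ : SpecialLinearGroup (Fin n) F) : Matrix (Fin n) (Fin n) F)
    set X := (x : Matrix (Fin n) (Fin n) F)
    have hJ : p' * D = J * p' := by
      calc p' * D = p' * D * (p * p') := by rw [hinv P, mul_one]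
        _ = p' * (D * p) * p' := by simp only [mul_assoc]
        _ = J * p' := by rw [hP, ← mul_assoc, hinv' P, one_mul]
    refine hxD.imp (fun e => ?_) fun e => ?_
    · rw [mul_assoc _ p J, ← hP, ← mul_assoc, mul_assoc p' X D, e, ← mul_assoc, hJ]; simp only [mul_assoc]
    · rw [mul_assoc _ p J, ← hP, ← mul_assoc, mul_assoc p' X D, e, ← mul_assoc]
      simp only [mul_sub, sub_mul, Matrix.mul_smul, Matrix.smul_mul, mul_one, one_mul, hJ, mul_assoc]

end CfsgLib.LinFix.QuadSub
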