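import Mathlib
import Cfsg.Prelude.Def_GeometricClasses
import Cfsg.Agent.Lib.LinFix.QuadSub
import Cfsg.Agent.Lib.LinFix.OrthRoot
import Cfsg.Agent.Lib.LinFix.OrthCoset
import Cfsg.Agent.Lib.LinFix.OrthCompat

/-!
Every involution of the projective orthogonal group normalises a conjugate of a self-adjoint quadratic field.
-/

set_option autoImplicit false

namespace CfsgLib.LinFix.OrthFieldFix

open Module Matrix Cfsg Cfsg.Geo CfsgLib.OrthSpinor

variable {ι : Type} [Fintype ι] [DecidableEq ι] {F : Type*} [Field F] {Q : QuadraticForm F (ι → F)}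
  {K : Subalgebra F (Matrix ι ι F)}

/-- The generator of the field, as a self-adjoint root. -/
theorem exists_root_of_field (h2 : (2 : F) ≠ 0) [Nonempty ι]
    (hQ : (QuadraticMap.polarBilin Q).Nondegenerate) (hK : IsFieldSubalgebra 2 K)
    (hKf : IsSelfAdjointFor (QuadraticMap.polar Q) K) :
    ∃ J ε, QuadSub.IsGen K J 0 ε ∧ ¬ IsSquare ε ∧
      OrthRoot.IsRoot (QuadraticMap.polarBilin Q) ε (Matrix.toLin' J) := by
  obtain ⟨J, a, b, hJ⟩ := QuadSub.exists_gen hK
  refine ⟨_, _, hJ.normalize h2, ?_, ⟨fun u v => QuadraticMap.polar_comm Q u v, hQ.1, fun v => ?_, fun u v => ?_⟩⟩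
  · rintro ⟨c, hc⟩
    exact (hJ.normalize h2).noroot c (by rw [zero_mul, zero_add, hc])
  · rw [Matrix.toLin'_apply, Matrix.toLin'_apply, mulVec_mulVec, (hJ.normalize h2).rel, zero_smul, zero_add,
      smul_mulVec, one_mulVec]
  · show QuadraticMap.polar Q (Matrix.toLin' _ u) v = QuadraticMap.polar Q u (Matrix.toLin' _ v)
    rw [Matrix.toLin'_apply, Matrix.toLin'_apply]
    exact hKf _ (hJ.normalize h2).mem u v

theorem act_eq_rho {v : ι → F} (hv : Q v ≠ 0) (x : ι → F) :
    act Q (reflection hv) x = OrthCompat.rho Q v x := by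
  rw [act_reflection, OrthCompat.rho_apply]

variable [Fintype F]

/-- Every element of order two of the projective group fixes a point. -/
theorem fixes (h2 : (2 : F) ≠ 0) {d : ℕ} (hd : 2 ≤ d) (hι : Fintype.card ι = 2 * d)
    (hQ : (QuadraticMap.polarBilin Q).Nondegenerate) (hK : IsFieldSubalgebra 2 K)
    (hKf : IsSelfAdjointFor (QuadraticMap.polar Q) K) {x : GL ι F} (hx : x ∈ omegaGL ⇑Q) {z : F}
    (hz : ((x ^ 2 : GL ι F) : Matrix ι ι F) = z • 1) (hns : ∀ c : F, (x : Matrix ι ι F) ≠ c • 1) :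
    ∃ g ∈ omegaGL ⇑Q, g⁻¹ * x * g ∈ subalgebraNormalizer K := by
  classical
  haveI : Nonempty ι := Fintype.card_pos_iff.1 (by omega)
  obtain ⟨x', hx', rfl⟩ := hx
  obtain ⟨J, ε, hJ, hε, hroot⟩ := exists_root_of_field h2 hQ hK hKf
  have hdim : finrank F (ι → F) = 2 * d := by rw [Module.finrank_fintype_fun_eq_card, hι]
  haveI : Nontrivial (ι → F) := Module.nontrivial_of_finrank_pos (R := F) (by omega)
  set X := ((x' : GL ι F) : Matrix ι ι F)
  obtain ⟨D, a, b, s, hs, hD, ha, hb, hcommρ, hcompat⟩ := OrthCompat.exists_compat (Q := Q) (ε := ε) (ν := ε) h2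
    (fun h0 => hε (h0 ▸ ⟨0, (mul_zero 0).symm⟩)) hd hdim hQ.1 (T := Matrix.toLin' X) (z := z)
    (fun v => by
      rw [Matrix.toLin'_apply, Matrix.toLin'_apply, mulVec_mulVec, ← pow_two,
        show X ^ 2 = ((x' : GL ι F) ^ 2 : GL ι F).1 from (Units.val_pow_eq_pow_val _ 2).symm]
      rw [show (((x' : GL ι F) ^ 2 : GL ι F) : Matrix ι ι F) = z • 1 from hz, smul_mulVec, one_mulVec])
    (fun v => by rw [Matrix.toLin'_apply]; exact Q_act Q x' v)
    (by rw [LinearMap.det_toLin']; exact OrthCoset.det_of_mem x' hx')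
    (fun c => by
      by_contra hc
      push Not at hc
      refine hns c (Matrix.toLin'.injective (LinearMap.ext fun v => ?_))
      show Matrix.toLin' X v = _
      rw [hc v, map_smul, LinearMap.smul_apply, Matrix.toLin'_apply, one_mulVec])
  obtain ⟨g₀, hg₀, hgJ⟩ := hroot.exists_isometry hε hD rfl ⟨_, rfl⟩
  let M := LinearMap.toMatrix' g₀.toLinearMap
  let M' := LinearMap.toMatrix' g₀.symm.toLinearMap
  have hMM : M * M' = 1 := by
    rw [← LinearMap.toMatrix'_comp, show g₀.toLinearMap ∘ₗ g₀.symm.toLinearMap = LinearMap.id from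
      LinearMap.ext g₀.apply_symm_apply, LinearMap.toMatrix'_id]
  have hMM' : M' * M = 1 := by
    rw [← LinearMap.toMatrix'_comp, show g₀.symm.toLinearMap ∘ₗ g₀.toLinearMap = LinearMap.id from
      LinearMap.ext g₀.symm_apply_apply, LinearMap.toMatrix'_id]
  have hMQ : ∀ v, Q (M *ᵥ v) = Q v := fun v => by
    have h := hg₀ v v
    simp only [QuadraticMap.polarBilin_apply_apply, polar_self'] at h
    have h' : Q (g₀ v) = Q v := mul_left_cancel₀ h2 h
    simpa [M] using h'
  let g := mkIsometry Q M M' hMM hMM' hMQ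
  have hg : ∀ v, act Q g v = g₀ v := fun v => by
    rw [act_mkIsometry]; simp [M]
  obtain ⟨h, hmem, hh⟩ := OrthCoset.exists_mul_mem h2 hQ ha hε hb g
  have hlin : ∃ L : (ι → F) →ₗ[F] (ι → F), (∀ v, act Q h v = L v) ∧ (L = LinearMap.id ∨ L = OrthCompat.rho Q a ∨
      L = OrthCompat.rho Q b ∨ L = OrthCompat.rho Q a ∘ₗ OrthCompat.rho Q b) ∧ h * h = 1 := by
    rcases hh with rfl | rfl | rfl | rfl
    · exact ⟨_, fun v => act_one Q v, Or.inl rfl, one_mul 1⟩
    · exact ⟨_, fun v => act_eq_rho _ v, Or.inr (Or.inl rfl), reflection_mul_self _⟩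
    · exact ⟨_, fun v => act_eq_rho _ v, Or.inr (Or.inr (Or.inl rfl)), reflection_mul_self _⟩
    · refine ⟨_, fun v => by rw [act_mul, act_eq_rho, act_eq_rho, LinearMap.comp_apply], Or.inr (Or.inr (Or.inr rfl)), ?_⟩
      have hc : reflection (Q := Q) (v := a) (ha ▸ one_ne_zero) *
          reflection (Q := Q) (v := b) (hb ▸ fun h0 => hε (h0 ▸ ⟨0, (mul_zero 0).symm⟩)) =
          reflection (Q := Q) (v := b) (hb ▸ fun h0 => hε (h0 ▸ ⟨0, (mul_zero 0).symm⟩)) *
            reflection (Q := Q) (v := a) (ha ▸ one_ne_zero) := by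
        refine ext_act Q fun v => ?_
        rw [act_mul, act_mul, act_eq_rho, act_eq_rho, act_eq_rho, act_eq_rho]
        exact LinearMap.congr_fun hcommρ v
      conv_lhs => arg 2; rw [hc]
      have hcancel : ∀ p q : ↥(isometryGroup F ⇑Q), p * p = 1 → q * q = 1 → p * q * (q * p) = 1 := fun p q hp hq => by
        rw [mul_assoc, ← mul_assoc q, hq, one_mul, hp]
      exact hcancel _ _ (reflection_mul_self _) (reflection_mul_self _)
  obtain ⟨L, hL, hLmem, hhh⟩ := hlin
  refine ⟨((h * g : ↥(isometryGroup F ⇑Q)) : GL ι F), ⟨_, hmem, rfl⟩, ?_⟩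
  rw [hJ.mem_normalizer_iff hK]
  set y := (h * g)⁻¹ * x' * (h * g) with hy
  have hinvJ : ∀ v, act Q g⁻¹ (D v) = J *ᵥ act Q g⁻¹ v := fun v => by
    conv_lhs => rw [show v = act Q g (act Q g⁻¹ v) from (act_act_inv Q g v).symm, hg, ← hgJ, ← hg, act_inv_act,
      Matrix.toLin'_apply]
  have key : ∀ v, act Q y (J *ᵥ v) = s • (J *ᵥ act Q y v) := fun v => by
    have e : y = g⁻¹ * (h * x' * h) * g := by
      rw [hy, _root_.mul_inv_rev, inv_eq_of_mul_eq_one_right hhh]
      simp only [mul_assoc]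
    rw [e, act_mul, act_mul, act_mul, act_mul, hg (J *ᵥ v), ← Matrix.toLin'_apply J v, hgJ, act_mul, hL, hL]
    rw [act_mul, act_mul, act_mul, hL (act Q g v), hL]
    have hX : ∀ w, act Q x' w = Matrix.toLin' X w := fun w => (Matrix.toLin'_apply X w).symm
    rw [hX, hX, hcompat L hLmem, ← hg, act_smul, hinvJ]
  have key' : ((y : GL ι F) : Matrix ι ι F) * J = (s • J) * ((y : GL ι F) : Matrix ι ι F) := by
    refine Matrix.ext_iff_mulVec.2 fun v => ?_
    rw [← mulVec_mulVec, ← mulVec_mulVec, smul_mulVec]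
    exact key v
  rcases hs with rfl | rfl
  · left
    rw [one_smul] at key'
    exact key'
  · right
    rw [neg_one_smul] at key'
    rw [zero_smul, zero_sub]
    exact key'

end CfsgLib.LinFix.OrthFieldFix
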