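import Mathlib
import Cfsg.Prelude.Def_GeometricClasses
import Cfsg.Agent.Lib.Classical.SmallIso.Core
import Cfsg.Agent.Lib.Orth.NegOne
import Cfsg.Agent.Lib.LinFix.QuadSub
import Cfsg.Agent.Lib.LinFix.OrthRoot
import Cfsg.Agent.Lib.LinFix.OrthFieldFix

/-!
The orthogonal group over the quadratic field inside the normaliser, and the primes dividing its index.
-/

set_option autoImplicit false

namespace CfsgLib.LinFix.OrthFieldSub

open Module QuadraticAlgebra

variable {F : Type*} [Field F] {ε : F} [Fact (∀ r : F, r ^ 2 ≠ ε + 0 * r)]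
  {ι' : Type} [Fintype ι'] [DecidableEq ι']

/-- The form over `F` underlying a quadratic form over the extension. -/
def trBil (f : QuadraticForm (QuadraticAlgebra F ε 0) (ι' → QuadraticAlgebra F ε 0)) :
    LinearMap.BilinForm F (ι' → QuadraticAlgebra F ε 0) :=
  LinearMap.mk₂ F (fun u v => (QuadraticMap.polar f u v).re)
    (fun u u' v => by rw [QuadraticMap.polar_add_left, re_add])
    (fun c u v => by
      rw [← algebraMap_smul (QuadraticAlgebra F ε 0) c u, QuadraticMap.polar_smul_left, smul_eq_mul,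
        ← Algebra.smul_def, re_smul])
    (fun u v v' => by rw [QuadraticMap.polar_add_right, re_add])
    (fun c u v => by
      rw [← algebraMap_smul (QuadraticAlgebra F ε 0) c v, QuadraticMap.polar_smul_right, smul_eq_mul,
        ← Algebra.smul_def, re_smul])

/-- Multiplication by the root. -/
def omegaMul (ε : F) (ι' : Type) : (ι' → QuadraticAlgebra F ε 0) →ₗ[F] (ι' → QuadraticAlgebra F ε 0) :=
  DistribSMul.toLinearMap F (ι' → QuadraticAlgebra F ε 0) (⟨0, 1⟩ : QuadraticAlgebra F ε 0)

theorem isRoot (f : QuadraticForm (QuadraticAlgebra F ε 0) (ι' → QuadraticAlgebra F ε 0))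
    (hf : (QuadraticMap.polarBilin f).Nondegenerate) : OrthRoot.IsRoot (trBil f) ε (omegaMul ε ι') := by
  refine ⟨fun u v => congrArg re (QuadraticMap.polar_comm f u v), fun u hu => hf.1 u fun v => ?_,
    fun v => funext fun k => ?_, fun u v => ?_⟩
  · show QuadraticMap.polar f u v = 0
    ext
    · exact hu v
    · have h : (QuadraticMap.polar f u ((⟨0, 1⟩ : QuadraticAlgebra F ε 0) • v)).re = 0 := hu _
      rw [QuadraticMap.polar_smul_right, smul_eq_mul, re_mul] at h
      have hε : ε ≠ 0 := fun h0 => (Fact.out : ∀ r : F, r ^ 2 ≠ ε + 0 * r) 0 (by simp [h0])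
      simpa [hε] using h
  · ext <;> simp [omegaMul]
  · show (QuadraticMap.polar f ((⟨0, 1⟩ : QuadraticAlgebra F ε 0) • u) v).re =
      (QuadraticMap.polar f u ((⟨0, 1⟩ : QuadraticAlgebra F ε 0) • v)).re
    rw [QuadraticMap.polar_smul_left, QuadraticMap.polar_smul_right]

theorem finrank_space : finrank F (ι' → QuadraticAlgebra F ε 0) = 2 * Fintype.card ι' := by
  rw [Module.finrank_pi_fintype, Finset.sum_const, Finset.card_univ, smul_eq_mul,
    finrank_eq_card_basis (QuadraticAlgebra.basis ε 0), Fintype.card_fin, mul_comm]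

/-- Isometric bilinear forms have discriminants in the same class. -/
theorem disc_congr {V W : Type*} [AddCommGroup V] [Module F V] [AddCommGroup W] [Module F W]
    [FiniteDimensional F V] [FiniteDimensional F W] (B : LinearMap.BilinForm F V) (B' : LinearMap.BilinForm F W)
    (e : V ≃ₗ[F] W) (he : ∀ u v, B' (e u) (e v) = B u v) : IsSquare (OrthRoot.disc B * OrthRoot.disc B') := by
  classical
  obtain ⟨t, -, h⟩ := OrthRoot.det_toMatrix_basis B' (Module.finBasis F W) ((Module.finBasis F V).map e)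
  have h' : LinearMap.BilinForm.toMatrix ((Module.finBasis F V).map e) B' =
      LinearMap.BilinForm.toMatrix (Module.finBasis F V) B := by
    ext i j; simp [he]
  rw [h'] at h
  refine ⟨OrthRoot.disc B' * t, ?_⟩
  rw [OrthRoot.disc, OrthRoot.disc, h]; ring

theorem disc_ne_zero {V : Type*} [AddCommGroup V] [Module F V] [FiniteDimensional F V]
    (B : LinearMap.BilinForm F V) (hB : ∀ u, (∀ v, B u v = 0) → u = 0) : OrthRoot.disc B ≠ 0 := by
  refine Matrix.Nondegenerate.det_ne_zero ?_
  refine (LinearMap.BilinForm.nondegenerate_toMatrix_iff _).2 ⟨hB, fun v hv => ?_⟩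
  by_contra hv0
  have hs : Function.Surjective B :=
    (LinearMap.injective_iff_surjective_of_finrank_eq_finrank Subspace.dual_finrank_eq.symm).1
      ((injective_iff_map_eq_zero B).2 fun u hu => hB u fun w => by rw [hu, LinearMap.zero_apply])
  obtain ⟨φ, hφ⟩ : ∃ φ : Module.Dual F V, φ v ≠ 0 := by
    by_contra hc
    push Not at hc
    exact hv0 ((Module.forall_dual_apply_eq_zero_iff F v).1 hc)
  obtain ⟨u, rfl⟩ := hs φ
  exact hφ (hv u)

variable [Fintype F]

/-- An isometry of underlying forms commuting with the roots is semilinear over the extension only trivially. -/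
theorem card_eq_of_isometry (hε : ¬ IsSquare ε) {ι'' : Type} [Fintype ι''] [DecidableEq ι'']
    (f : QuadraticForm (QuadraticAlgebra F ε 0) (ι' → QuadraticAlgebra F ε 0))
    (hf : (QuadraticMap.polarBilin f).Nondegenerate)
    (f' : QuadraticForm (QuadraticAlgebra F ε 0) (ι'' → QuadraticAlgebra F ε 0))
    (hf' : (QuadraticMap.polarBilin f').Nondegenerate) [Nonempty ι'] (hcard : Fintype.card ι' = Fintype.card ι'')
    (hdisc : IsSquare (OrthRoot.disc (trBil f) * OrthRoot.disc (trBil f'))) :
    Nat.card ↥(Cfsg.isometryGroup (QuadraticAlgebra F ε 0) ⇑f) =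
      Nat.card ↥(Cfsg.isometryGroup (QuadraticAlgebra F ε 0) ⇑f') := by
  classical
  haveI : Nontrivial (ι' → QuadraticAlgebra F ε 0) := Function.nontrivial
  have h2 : (2 : F) ≠ 0 := fun h => by
    haveI : CharP F 2 := CharTwo.of_one_ne_zero_of_two_eq_zero one_ne_zero h
    exact hε (FiniteField.isSquare_of_char_two (ringChar.eq F 2) ε)
  obtain ⟨g, hg, hgD⟩ := (isRoot f hf).exists_isometry hε (isRoot f' hf')
    (by rw [finrank_space, finrank_space, hcard]) hdisc
  let e : (ι' → QuadraticAlgebra F ε 0) ≃ₗ[QuadraticAlgebra F ε 0] (ι'' → QuadraticAlgebra F ε 0) :=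
    { g with
      map_smul' := fun c v => by
        show g (c • v) = c • g v
        have hc : ∀ (ι₀ : Type) (w : ι₀ → QuadraticAlgebra F ε 0),
            c • w = c.re • w + c.im • omegaMul ε ι₀ w := fun ι₀ w => funext fun k => by
          ext <;> simp [omegaMul] <;> ring
        rw [hc, map_add, map_smul, map_smul, hgD, ← hc] }
  have he : ∀ v, f' (e v) = f v := fun v => by
    have hpol : QuadraticMap.polar f' (e v) (e v) = QuadraticMap.polar f v v := by
      ext
      · exact hg v v
      · have h := hg v ((⟨0, 1⟩ : QuadraticAlgebra F ε 0) • v)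
        have hsm : g ((⟨0, 1⟩ : QuadraticAlgebra F ε 0) • v) = (⟨0, 1⟩ : QuadraticAlgebra F ε 0) • g v := hgD v
        rw [hsm] at h
        change (QuadraticMap.polar f' (e v) ((⟨0, 1⟩ : QuadraticAlgebra F ε 0) • e v)).re =
          (QuadraticMap.polar f v ((⟨0, 1⟩ : QuadraticAlgebra F ε 0) • v)).re at h
        rw [QuadraticMap.polar_smul_right, QuadraticMap.polar_smul_right, smul_eq_mul, smul_eq_mul, re_mul,
          re_mul] at h
        have hε0 : ε ≠ 0 := fun h0 => hε (h0 ▸ ⟨0, (mul_zero 0).symm⟩)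
        simpa [hε0] using h
    rw [QuadraticMap.polar_self, QuadraticMap.polar_self, two_nsmul, two_nsmul, ← two_mul, ← two_mul] at hpol
    exact mul_left_cancel₀ (fun h => h2 (by simpa using congrArg re h)) hpol
  rw [Nat.card_congr (CfsgLib.Classical.Quad.isometryEquivModel e he).toEquiv,
    Nat.card_congr (CfsgLib.Classical.Quad.isometryEquivModel (Q := f') (Qf := ⇑f')
      (LinearEquiv.refl _ _) fun _ => rfl).toEquiv]

/-- The group over the extension inside the normaliser. -/
theorem exists_subgroup {ι : Type} [Fintype ι] [DecidableEq ι] {Q : QuadraticForm F (ι → F)} (h2 : (2 : F) ≠ 0)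
    {K : Subalgebra F (Matrix ι ι F)} (hK : Cfsg.Geo.IsFieldSubalgebra 2 K)
    {J : Matrix ι ι F} (hJ : QuadSub.IsGen K J 0 ε) (hε : ¬ IsSquare ε)
    (hroot : OrthRoot.IsRoot (QuadraticMap.polarBilin Q) ε (Matrix.toLin' J))
    (f : QuadraticForm (QuadraticAlgebra F ε 0) (ι' → QuadraticAlgebra F ε 0))
    (hf : (QuadraticMap.polarBilin f).Nondegenerate) [Nonempty ι'] (hcard : Fintype.card ι = 2 * Fintype.card ι')
    (hdisc : IsSquare (OrthRoot.disc (trBil f) * OrthRoot.disc (QuadraticMap.polarBilin Q))) :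
    ∃ U : Subgroup (GL ι F), U ≤ Cfsg.isometryGroup F ⇑Q ∧ U ≤ Cfsg.Geo.subalgebraNormalizer K ∧
      Nat.card U = Nat.card ↥(Cfsg.isometryGroup (QuadraticAlgebra F ε 0) ⇑f) := by
  classical
  haveI : Nontrivial (ι' → QuadraticAlgebra F ε 0) := Function.nontrivial
  obtain ⟨g, hg, hgD⟩ := (isRoot f hf).exists_isometry hε hroot
    (by rw [finrank_space, Module.finrank_fintype_fun_eq_card, hcard]) hdisc
  let φ : GL ι' (QuadraticAlgebra F ε 0) →* GL ι F :=
    MonoidHom.toHomUnits
      { toFun := fun S => LinearMap.toMatrix' (g.toLinearMap ∘ₗ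
          ((Matrix.toLin' (S : Matrix ι' ι' (QuadraticAlgebra F ε 0))).restrictScalars F) ∘ₗ g.symm.toLinearMap)
        map_one' := by
          refine Matrix.toLin'.injective (LinearMap.ext fun v => ?_)
          simp
        map_mul' := fun S S' => by
          refine Matrix.toLin'.injective (LinearMap.ext fun v => ?_)
          simp [Matrix.mulVec_mulVec] }
  have hφ : ∀ S v, (φ S : Matrix ι ι F).mulVec v =
      g ((S : Matrix ι' ι' (QuadraticAlgebra F ε 0)).mulVec (g.symm v)) := fun S v => by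
    show Matrix.mulVec (LinearMap.toMatrix' _) v = _
    rw [LinearMap.toMatrix'_mulVec]; simp
  refine ⟨(Cfsg.isometryGroup (QuadraticAlgebra F ε 0) ⇑f).map φ, ?_, ?_, ?_⟩
  · rintro _ ⟨S, hS, rfl⟩
    intro u v
    show Q ((φ S : Matrix ι ι F).mulVec u) = Q u
    rw [hφ]
    set w := g.symm u
    have hu : u = g w := (g.apply_symm_apply u).symm
    have hSf : f ((S : Matrix ι' ι' (QuadraticAlgebra F ε 0)).mulVec w) = f w := hS w w
    have h1 := hg ((S : Matrix ι' ι' (QuadraticAlgebra F ε 0)).mulVec w)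
      ((S : Matrix ι' ι' (QuadraticAlgebra F ε 0)).mulVec w)
    have h2' := hg w w
    simp only [trBil, LinearMap.mk₂_apply, QuadraticMap.polarBilin_apply_apply, QuadraticMap.polar_self, two_nsmul,
      hSf] at h1 h2'
    rw [hu]
    exact mul_left_cancel₀ h2 (by rw [two_mul, two_mul, h1, h2'])
  · rintro _ ⟨S, -, rfl⟩
    rw [hJ.mem_normalizer_iff hK]
    left
    refine Matrix.ext_iff_mulVec.2 fun v => ?_
    rw [← Matrix.mulVec_mulVec, ← Matrix.mulVec_mulVec, hφ, hφ]
    have e : g.symm (J.mulVec v) = omegaMul ε ι' (g.symm v) := by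
      rw [LinearEquiv.symm_apply_eq, hgD, g.apply_symm_apply, Matrix.toLin'_apply]
    rw [e, show (omegaMul ε ι') (g.symm v) = (⟨0, 1⟩ : QuadraticAlgebra F ε 0) • g.symm v from rfl,
      Matrix.mulVec_smul]
    exact (hgD _).trans (Matrix.toLin'_apply J _)
  · refine Subgroup.card_map_of_injective fun S S' h => Units.ext (Matrix.ext_iff_mulVec.2 fun w => ?_)
    have h' := congrArg (fun A : GL ι F => (A : Matrix ι ι F).mulVec (g w)) h
    simp only [hφ, g.symm_apply_apply] at h'
    exact g.injective h'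

omit [Fact (∀ r : F, r ^ 2 ≠ ε + 0 * r)] in
/-- An odd prime dividing the index of the normaliser in `Ω` divides the index of any subgroup of the
normaliser in the orthogonal group. -/
theorem dvd_index {ι : Type} [Fintype ι] [DecidableEq ι] {Q : QuadraticForm F (ι → F)} (h2 : (2 : F) ≠ 0)
    (hQ : (QuadraticMap.polarBilin Q).Nondegenerate) (hn : 2 ≤ Fintype.card ι) {r : ℕ} (hr : r.Prime)
    (hr2 : r ≠ 2) {N U : Subgroup (GL ι F)} (hU : U ≤ Cfsg.isometryGroup F ⇑Q) (hUN : U ≤ N)
    (hΩ : r ∣ N.relIndex (Cfsg.Geo.omegaGL ⇑Q)) :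
    ∃ c, r ∣ c ∧ c * Nat.card U = Nat.card ↥(Cfsg.isometryGroup F ⇑Q) := by
  classical
  set O := Cfsg.isometryGroup F ⇑Q
  set U' := U.subgroupOf O
  set Ω := Cfsg.Omega F ⇑Q
  have h1 : r ∣ U'.relIndex Ω := by
    refine hΩ.trans ?_
    rw [show Cfsg.Geo.omegaGL ⇑Q = Ω.map O.subtype from rfl, ← Subgroup.relIndex_comap]
    exact Subgroup.relIndex_dvd_of_le_left _ (Subgroup.comap_mono hUN)
  refine ⟨U'.index, ?_, ?_⟩
  · have h3 : (U' ⊓ Ω).index = (U' ⊓ Ω).relIndex U' * U'.index :=
      (Subgroup.relIndex_mul_index inf_le_left).symm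
    have h4 : (U' ⊓ Ω).index = (U' ⊓ Ω).relIndex Ω * Ω.index :=
      (Subgroup.relIndex_mul_index inf_le_right).symm
    rw [Subgroup.inf_relIndex_right] at h4
    rw [Subgroup.inf_relIndex_left] at h3
    have h5 : r ∣ Ω.relIndex U' * U'.index := h3 ▸ h4 ▸ h1.mul_right _
    refine (hr.dvd_mul.1 h5).resolve_left fun h6 => ?_
    haveI : Ω.Normal := inferInstanceAs (commutator _).Normal
    have h7 := h6.trans (Subgroup.relIndex_dvd_index_of_normal Ω U')
    rw [CfsgLib.OrthNegOne.index_Omega_odd h2 hQ hn, show (4 : ℕ) = 2 ^ 2 by norm_num] at h7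
    exact hr2 ((Nat.prime_dvd_prime_iff_eq hr Nat.prime_two).1 (hr.dvd_of_dvd_pow h7))
  · rw [← Nat.card_congr (Subgroup.subgroupOfEquivOfLe hU).toEquiv]
    exact Subgroup.index_mul_card _

end CfsgLib.LinFix.OrthFieldSub
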