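import Mathlib
import Cfsg.Prelude.Def_GeometricClasses
import Cfsg.Agent.Lib.LinFix.OrthFieldSub
import Cfsg.Agent.Lib.LinFix.OrthFieldElem
import Cfsg.Agent.Lib.LinFix.OrthFieldFix

/-!
Orthogonal groups of plus and minus type: primes dividing the index of the quadratic field-extension subgroup.
-/

set_option autoImplicit false

namespace CfsgLib.LinFix.OrthFieldMain

open Module CfsgLib.Classical

variable {F : Type*} [Field F]

/-- `quadFormPlus` as a quadratic form. -/
def plusQ (m : ℕ) (F : Type*) [Field F] : QuadraticForm F (Fin m ⊕ Fin m → F) :=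
  (Quad.hypForm m (Quad.zeroKernel F)).comp (Quad.plusEquiv m F).toLinearMap

/-- `quadFormMinus` as a quadratic form. -/
def minusQ (m : ℕ) (F : Type*) [Field F] (a b : F) : QuadraticForm F ((Fin m ⊕ Fin m) ⊕ Fin 2 → F) :=
  (Quad.hypForm m (Quad.binForm a b)).comp (Quad.minusEquiv m F).toLinearMap

/-- `quadFormOdd` as a quadratic form. -/
def oddQ (m : ℕ) (F : Type*) [Field F] : QuadraticForm F (Unit ⊕ (Fin m ⊕ Fin m) → F) :=
  (Quad.hypForm m (Quad.lineForm F)).comp (Quad.oddEquiv m F).toLinearMap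

theorem coe_plusQ (m : ℕ) : ⇑(plusQ m F) = Cfsg.quadFormPlus m F := funext (Quad.plusEquiv_spec m)

theorem coe_minusQ (m : ℕ) (a b : F) : ⇑(minusQ m F a b) = Cfsg.quadFormMinus m F a b :=
  funext (Quad.minusEquiv_spec m a b)

theorem coe_oddQ (m : ℕ) : ⇑(oddQ m F) = Cfsg.quadFormOdd m F := funext (Quad.oddEquiv_spec m)

theorem nd_comp {V W : Type*} [AddCommGroup V] [Module F V] [AddCommGroup W] [Module F W]
    {R : QuadraticForm F W} (hR : Quad.NDPolar R) (e : V ≃ₗ[F] W) :
    (QuadraticMap.polarBilin (R.comp e.toLinearMap)).Nondegenerate := by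
  have key : ∀ x, (∀ y, QuadraticMap.polar (R.comp e.toLinearMap) x y = 0) → x = 0 := fun x hx => by
    refine e.map_eq_zero_iff.1 (hR _ fun y => ?_)
    have h := hx (e.symm y)
    simpa [QuadraticMap.polar] using h
  exact ⟨fun x hx => key x hx, fun x hx => key x fun y => by rw [QuadraticMap.polar_comm]; exact hx y⟩

theorem plusQ_nd (m : ℕ) : (QuadraticMap.polarBilin (plusQ m F)).Nondegenerate :=
  nd_comp (Quad.ndPolar_hypForm Quad.ndPolar_zeroKernel m) _

theorem minusQ_nd [Fintype F] (m : ℕ) {a b : F} (hab : Quad.IsAniso a b) :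
    (QuadraticMap.polarBilin (minusQ m F a b)).Nondegenerate :=
  nd_comp (Quad.ndPolar_hypForm (Quad.ndPolar_binForm hab) m) _

theorem oddQ_nd (h2 : (2 : F) ≠ 0) (m : ℕ) : (QuadraticMap.polarBilin (oddQ m F)).Nondegenerate :=
  nd_comp (Quad.ndPolar_hypForm (Quad.ndPolar_lineForm h2) m) _

theorem polar_plusQ (m : ℕ) (u v : Fin m ⊕ Fin m → F) :
    QuadraticMap.polarBilin (plusQ m F) u v =
      ∑ k, (u (.inl k) * v (.inr k) + u (.inr k) * v (.inl k)) := by
  show QuadraticMap.polar (plusQ m F) u v = _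
  rw [QuadraticMap.polar, coe_plusQ]
  simp only [Cfsg.quadFormPlus, Pi.add_apply, add_mul, mul_add, Finset.sum_add_distrib]
  simp only [mul_comm (v _) (u _)]
  ring

theorem polar_minusQ_inl (m : ℕ) (a b : F) (u v : (Fin m ⊕ Fin m) ⊕ Fin 2 → F) (hu : ∀ j, u (.inr j) = 0)
    (hv : ∀ j, v (.inr j) = 0) :
    QuadraticMap.polarBilin (minusQ m F a b) u v =
      ∑ k, (u (.inl (.inl k)) * v (.inl (.inr k)) + u (.inl (.inr k)) * v (.inl (.inl k))) := by
  show QuadraticMap.polar (minusQ m F a b) u v = _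
  rw [QuadraticMap.polar, coe_minusQ]
  simp only [Cfsg.quadFormMinus, Pi.add_apply, hu, hv, add_mul, mul_add, Finset.sum_add_distrib]
  simp only [mul_comm (v _) (u _)]
  ring

/-- The index of the subgroup, arithmetically. -/
theorem dvd_split {r q a b c n X Y : ℕ} (hr : r.Prime) (hrq : ¬ r ∣ q) (hq : 1 < q) (hX : 0 < X) (hc : r ∣ c)
    (h : c * (2 * (q ^ 2) ^ a * X * ∏ t ∈ Finset.range (n / 2), ((q ^ 2) ^ (2 * (t + 1)) - 1)) =
      2 * q ^ b * (X * Y) * ∏ j ∈ Finset.range n, (q ^ (2 * (j + 1)) - 1)) :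
    r ∣ Y ∨ ∃ j, Odd j ∧ j ≤ n ∧ r ∣ q ^ (2 * j) - 1 := by
  classical
  have himg : (Finset.range n).filter (fun j => 2 ∣ j + 1) = (Finset.range (n / 2)).image (fun t => 2 * t + 1) := by
    ext j
    simp only [Finset.mem_filter, Finset.mem_range, Finset.mem_image]
    exact ⟨fun ⟨hj, hd⟩ => ⟨j / 2, by omega, by omega⟩, fun ⟨t, ht, he⟩ => by omega⟩
  have hprod : ∏ j ∈ Finset.range n, (q ^ (2 * (j + 1)) - 1) =
      (∏ t ∈ Finset.range (n / 2), ((q ^ 2) ^ (2 * (t + 1)) - 1)) *
        ∏ j ∈ (Finset.range n).filter (fun j => ¬ 2 ∣ j + 1), (q ^ (2 * (j + 1)) - 1) := by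
    rw [← Finset.prod_filter_mul_prod_filter_not (Finset.range n) (fun j => 2 ∣ j + 1), himg, Finset.prod_image]
    · congr 1
      refine Finset.prod_congr rfl fun t _ => ?_
      rw [← pow_mul, show 2 * (2 * (t + 1)) = 2 * (2 * t + 1 + 1) by ring]
    · intro x _ y _ hxy; simp only at hxy; omega
  rw [hprod] at h
  have hA : 0 < ∏ t ∈ Finset.range (n / 2), ((q ^ 2) ^ (2 * (t + 1)) - 1) := Finset.prod_pos fun t _ => by
    have := Nat.one_lt_pow (n := 2 * (t + 1)) (by omega) (Nat.one_lt_pow two_ne_zero hq)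
    omega
  have h' : c * (q ^ 2) ^ a = q ^ b * (Y * ∏ j ∈ (Finset.range n).filter (fun j => ¬ 2 ∣ j + 1),
      (q ^ (2 * (j + 1)) - 1)) :=
    Nat.eq_of_mul_eq_mul_right (show 0 < 2 * X * ∏ t ∈ Finset.range (n / 2), ((q ^ 2) ^ (2 * (t + 1)) - 1) by positivity)
      (by linear_combination h)
  have h1 := h' ▸ hc.mul_right ((q ^ 2) ^ a)
  rcases hr.dvd_mul.1 h1 with h2 | h2
  · exact absurd (hr.dvd_of_dvd_pow h2) hrq
  rcases hr.dvd_mul.1 h2 with h3 | h3
  · exact Or.inl h3
  obtain ⟨j, hj, hj'⟩ := hr.prime.exists_mem_finset_dvd h3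
  rw [Finset.mem_filter, Finset.mem_range] at hj
  exact Or.inr ⟨j + 1, Nat.odd_iff.2 (by omega), by omega, hj'⟩

variable [Fintype F] {r p : ℕ} [hr : Fact r.Prime] [Fact p.Prime] [CharP F p]

theorem not_dvd_card (hrp : r ≠ p) : ¬ r ∣ Fintype.card F := fun hd => by
  obtain ⟨c, -, hc⟩ := FiniteField.card F p
  rw [hc] at hd
  exact hrp ((Nat.prime_dvd_prime_iff_eq hr.out Fact.out).1 (hr.out.dvd_of_dvd_pow hd))

/-- From a prime divisor of `q ^ (2 j) - 1`, `j` odd, to the order of `q`. -/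
theorem order_cases {j : ℕ} (hj : Odd j) (h : r ∣ Fintype.card F ^ (2 * j) - 1) :
    (Odd (orderOf (Fintype.card F : ZMod r)) ∧ orderOf (Fintype.card F : ZMod r) ≤ j) ∨
      ∃ h, Odd h ∧ h ≤ j ∧ orderOf (Fintype.card F : ZMod r) = 2 * h := by
  have hdvd := (dvd_pow_sub_one_iff (r := r) Fintype.card_pos (2 * j)).1 h
  set i := orderOf (Fintype.card F : ZMod r)
  rcases Nat.even_or_odd i with hie | hio
  · obtain ⟨h', hh⟩ := hie
    have hh2 : h' ∣ j := Nat.dvd_of_mul_dvd_mul_left two_pos (by rwa [two_mul h', ← hh])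
    exact Or.inr ⟨h', hj.of_dvd_nat hh2, Nat.le_of_dvd hj.pos hh2, by omega⟩
  · exact Or.inl ⟨hio, Nat.le_of_dvd hj.pos ((Nat.coprime_two_right.mpr hio).dvd_of_dvd_mul_left hdvd)⟩

section Models

variable {ε : F} [Fact (∀ r : F, r ^ 2 ≠ ε + 0 * r)]

omit [Fintype F] in
/-- The plus model over the extension is the plus form over `F`. -/
theorem exists_plus_equiv (hε0 : ε ≠ 0) (e : ℕ) :
    ∃ Φ : (Fin e ⊕ Fin e → QuadraticAlgebra F ε 0) ≃ₗ[F] (Fin (e + e) ⊕ Fin (e + e) → F),
      ∀ u v, QuadraticMap.polarBilin (plusQ (e + e) F) (Φ u) (Φ v) =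
        OrthFieldSub.trBil (plusQ e (QuadraticAlgebra F ε 0)) u v := by
  let Φ₀ : (Fin e ⊕ Fin e → QuadraticAlgebra F ε 0) →ₗ[F] (Fin (e + e) ⊕ Fin (e + e) → F) :=
    { toFun := fun v => Sum.elim (Fin.addCases (fun k => (v (.inl k)).re) (fun k => (v (.inl k)).im))
        (Fin.addCases (fun k => (v (.inr k)).re) (fun k => ε * (v (.inr k)).im))
      map_add' := fun u v => funext fun x => by
        rcases x with x | x <;> induction x using Fin.addCases <;>
          simp only [Sum.elim_inl, Sum.elim_inr, Pi.add_apply, Fin.addCases_left, Fin.addCases_right,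
            QuadraticAlgebra.re_add, QuadraticAlgebra.im_add, mul_add]
      map_smul' := fun c v => funext fun x => by
        rcases x with x | x <;> induction x using Fin.addCases <;>
          simp only [Sum.elim_inl, Sum.elim_inr, Pi.smul_apply, Fin.addCases_left, Fin.addCases_right,
            QuadraticAlgebra.re_smul, QuadraticAlgebra.im_smul, smul_eq_mul, RingHom.id_apply, mul_left_comm] }
  have hinj : Function.Injective Φ₀ := (injective_iff_map_eq_zero Φ₀).2 fun v hv => funext fun x => by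
    rcases x with k | k
    · have h1 := congrFun hv (.inl (Fin.castAdd e k))
      have h2 := congrFun hv (.inl (Fin.natAdd e k))
      simp only [Φ₀, LinearMap.coe_mk, AddHom.coe_mk, Sum.elim_inl, Fin.addCases_left, Fin.addCases_right, Pi.zero_apply] at h1 h2
      exact QuadraticAlgebra.ext h1 h2
    · have h1 := congrFun hv (.inr (Fin.castAdd e k))
      have h2 := congrFun hv (.inr (Fin.natAdd e k))
      simp only [Φ₀, LinearMap.coe_mk, AddHom.coe_mk, Sum.elim_inr, Fin.addCases_left, Fin.addCases_right, Pi.zero_apply] at h1 h2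
      exact QuadraticAlgebra.ext h1 ((mul_eq_zero.1 h2).resolve_left hε0)
  refine ⟨Φ₀.linearEquivOfInjective hinj ?_, fun u v => ?_⟩
  · rw [OrthFieldSub.finrank_space, Module.finrank_fintype_fun_eq_card]
    simp; ring
  · show QuadraticMap.polarBilin (plusQ (e + e) F) (Φ₀ u) (Φ₀ v) = QuadraticAlgebra.re (QuadraticMap.polar (plusQ e (QuadraticAlgebra F ε 0)) u v)
    change QuadraticMap.polarBilin (plusQ (e + e) F) (Φ₀ u) (Φ₀ v) =
      QuadraticAlgebra.re (QuadraticMap.polarBilin (plusQ e (QuadraticAlgebra F ε 0)) u v)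
    rw [polar_plusQ, polar_plusQ, Fin.sum_univ_add,
      ← Finset.sum_add_distrib]
    have hre : ∀ (g : Fin e → QuadraticAlgebra F ε 0), (∑ k, g k).re = ∑ k, (g k).re := fun g =>
      map_sum ({ toFun := QuadraticAlgebra.re, map_zero' := rfl, map_add' := fun _ _ => rfl } :
        QuadraticAlgebra F ε 0 →+ F) g Finset.univ
    rw [hre]
    refine Finset.sum_congr rfl fun k _ => ?_
    simp only [Φ₀, LinearMap.coe_mk, AddHom.coe_mk, Sum.elim_inl, Sum.elim_inr, Fin.addCases_left, Fin.addCases_right,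
      QuadraticAlgebra.re_add, QuadraticAlgebra.re_mul]
    ring

omit [Fintype F] in
theorem card_ext : Nat.card (QuadraticAlgebra F ε 0) = Nat.card F ^ 2 := by
  rw [Nat.card_congr (QuadraticAlgebra.equivProd ε 0), Nat.card_prod, pow_two]

end Models

/-- The order of the group over the extension, according to the type of the ambient group. -/
theorem exists_subgroup_card {ι : Type} [Fintype ι] [DecidableEq ι] {Q : QuadraticForm F (ι → F)}
    (h2 : (2 : F) ≠ 0) (hQ : (QuadraticMap.polarBilin Q).Nondegenerate) {d : ℕ} (hd : 4 ≤ d)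
    (hι : Fintype.card ι = 2 * d) {K : Subalgebra F (Matrix ι ι F)} (hK : Cfsg.Geo.IsFieldSubalgebra 2 K)
    (hKf : Cfsg.Geo.IsSelfAdjointFor (QuadraticMap.polar Q) K) (plus : Bool)
    (hO : Nat.card ↥(Cfsg.isometryGroup F ⇑Q) = 2 * Nat.card F ^ (d * (d - 1)) *
      (if plus then Nat.card F ^ d - 1 else Nat.card F ^ d + 1) *
      ∏ i ∈ Finset.range (d - 1), (Nat.card F ^ (2 * (i + 1)) - 1))
    (htype : if plus then ∃ e : (ι → F) ≃ₗ[F] (Fin d ⊕ Fin d → F), ∀ v, plusQ d F (e v) = Q v else True) :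
    ∃ (U : Subgroup (GL ι F)) (a : ℕ), U ≤ Cfsg.isometryGroup F ⇑Q ∧ U ≤ Cfsg.Geo.subalgebraNormalizer K ∧
      ((Even d ∧ Nat.card U = 2 * (Nat.card F ^ 2) ^ a *
          (if plus then Nat.card F ^ d - 1 else Nat.card F ^ d + 1) *
          ∏ i ∈ Finset.range ((d - 1) / 2), ((Nat.card F ^ 2) ^ (2 * (i + 1)) - 1)) ∨
        (Odd d ∧ Nat.card U = 2 * (Nat.card F ^ 2) ^ a * 1 *
          ∏ i ∈ Finset.range ((d - 1) / 2), ((Nat.card F ^ 2) ^ (2 * (i + 1)) - 1))) := by
  classical
  haveI : Nonempty ι := Fintype.card_pos_iff.1 (by omega)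
  obtain ⟨J, ε, hJ, hε, hroot⟩ := OrthFieldFix.exists_root_of_field h2 hQ hK hKf
  haveI := OrthRoot.isField_fact hε
  have hε0 : ε ≠ 0 := fun h => hε (h ▸ ⟨0, (mul_zero 0).symm⟩)
  haveI : Finite (QuadraticAlgebra F ε 0) := Finite.of_equiv _ (QuadraticAlgebra.equivProd ε 0).symm
  letI : Fintype (QuadraticAlgebra F ε 0) := Fintype.ofFinite _
  have h2K : (2 : QuadraticAlgebra F ε 0) ≠ 0 := fun h => h2 (by
    rw [← one_add_one_eq_two] at h
    have := congrArg QuadraticAlgebra.re h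
    rw [QuadraticAlgebra.re_add, QuadraticAlgebra.re_one, QuadraticAlgebra.re_zero, one_add_one_eq_two] at this
    exact this)
  obtain ⟨ν, hν⟩ := FiniteField.exists_nonsquare (F := QuadraticAlgebra F ε 0) (fun h => h2K (by
    have := CharP.cast_eq_zero (QuadraticAlgebra F ε 0) (ringChar (QuadraticAlgebra F ε 0))
    rwa [h, Nat.cast_two] at this))
  have hν0 : ν ≠ 0 := fun h => hν (h ▸ ⟨0, (mul_zero 0).symm⟩)
  have hq1 : 1 < Nat.card F := Finite.one_lt_card
  have hdQ := OrthFieldSub.disc_ne_zero _ hQ.1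
  rcases Nat.even_or_odd d with ⟨e, rfl⟩ | ⟨e, rfl⟩
  · -- even rank
    obtain ⟨e, rfl⟩ : ∃ e', e = e' + 1 := ⟨e - 1, by omega⟩
    haveI : Nonempty (Fin (e + 1) ⊕ Fin (e + 1)) := ⟨Sum.inl 0⟩
    set P := plusQ (e + 1) (QuadraticAlgebra F ε 0) with hPdef
    have hab : Quad.IsAniso (0 : QuadraticAlgebra F ε 0) (-ν) := fun z₁ z₂ hz => by
      rcases eq_or_ne z₂ 0 with rfl | hz2
      · exact ⟨by simpa using hz, rfl⟩
      · exact absurd ⟨z₁ / z₂, by field_simp; linear_combination -hz⟩ hν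
    set M := minusQ e (QuadraticAlgebra F ε 0) 0 (-ν) with hMdef
    have hP := plusQ_nd (F := QuadraticAlgebra F ε 0) (e + 1)
    have hM := minusQ_nd (F := QuadraticAlgebra F ε 0) e hab
    obtain ⟨Φ, hΦ⟩ := exists_plus_equiv hε0 (e + 1)
    have hPplus := OrthFieldSub.disc_congr _ _ Φ hΦ
    have hcardP : Nat.card ↥(Cfsg.isometryGroup (QuadraticAlgebra F ε 0) ⇑P) =
        2 * (Nat.card F ^ 2) ^ ((e + 1) * e) * (Nat.card F ^ (e + 1 + (e + 1)) - 1) *
          ∏ i ∈ Finset.range ((e + 1 + (e + 1) - 1) / 2), ((Nat.card F ^ 2) ^ (2 * (i + 1)) - 1) := by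
      rw [hPdef, coe_plusQ, SmallIso.card_isometryGroup_plus, card_ext,
        show (e + 1 + (e + 1) - 1) / 2 = e by omega]
      ring_nf
    have hcardM : Nat.card ↥(Cfsg.isometryGroup (QuadraticAlgebra F ε 0) ⇑M) =
        2 * (Nat.card F ^ 2) ^ ((e + 1) * e) * (Nat.card F ^ (e + 1 + (e + 1)) + 1) *
          ∏ i ∈ Finset.range ((e + 1 + (e + 1) - 1) / 2), ((Nat.card F ^ 2) ^ (2 * (i + 1)) - 1) := by
      rw [hMdef, coe_minusQ, SmallIso.card_isometryGroup_minus hab, card_ext,
        show (e + 1 + (e + 1) - 1) / 2 = e by omega]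
      ring_nf
    have hne : ∀ (A B N : ℕ), 0 < A → 1 ≤ N → 0 < B → A * (N - 1) * B ≠ A * (N + 1) * B := fun A B N hA hN hB h => by
      have := Nat.eq_of_mul_eq_mul_right hB h
      have := Nat.eq_of_mul_eq_mul_left hA this
      omega
    have hpos : ∀ (n : ℕ), 0 < ∏ i ∈ Finset.range n, ((Nat.card F ^ 2) ^ (2 * (i + 1)) - 1) := fun n =>
      Finset.prod_pos fun t _ => by
        have := Nat.one_lt_pow (n := 2 * (t + 1)) (by omega) (Nat.one_lt_pow two_ne_zero hq1)
        omega
    cases plus with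
    | true =>
      simp only [if_true] at htype ⊢
      obtain ⟨e₁, he₁⟩ := htype
      have hpol : ∀ u v, QuadraticMap.polarBilin Q u v =
          QuadraticMap.polarBilin (plusQ (e + 1 + (e + 1)) F) (e₁ u) (e₁ v) := fun u v => by
        simp [QuadraticMap.polar, ← he₁]
      have hQplus := OrthFieldSub.disc_congr _ _ e₁ (fun u v => (hpol u v).symm)
      have hsq : IsSquare (OrthRoot.disc (OrthFieldSub.trBil P) * OrthRoot.disc (QuadraticMap.polarBilin Q)) := by
        obtain ⟨s, hs⟩ := hPplus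
        obtain ⟨t, ht⟩ := hQplus
        set D := OrthRoot.disc (QuadraticMap.polarBilin (plusQ (e + 1 + (e + 1)) F))
        have hD : D ≠ 0 := OrthFieldSub.disc_ne_zero _ (plusQ_nd _).1
        refine ⟨s * t / D, ?_⟩
        field_simp
        linear_combination (OrthRoot.disc (QuadraticMap.polarBilin Q) * D) * hs + (s * s) * ht
      obtain ⟨U, hU, hUN, hc⟩ := OrthFieldSub.exists_subgroup h2 hK hJ hε hroot P hP (by simp; omega) hsq
      exact ⟨U, _, hU, hUN, Or.inl ⟨⟨e + 1, rfl⟩, hc.trans hcardP⟩⟩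
    | false =>
      simp only [Bool.false_eq_true, if_false] at hO ⊢
      haveI : Nonempty ((Fin e ⊕ Fin e) ⊕ Fin 2) := ⟨Sum.inr 0⟩
      have hdP := OrthFieldSub.disc_ne_zero _ (OrthFieldSub.isRoot P hP).nd
      have hdM := OrthFieldSub.disc_ne_zero _ (OrthFieldSub.isRoot M hM).nd
      have hPM : ¬ IsSquare (OrthRoot.disc (OrthFieldSub.trBil P) * OrthRoot.disc (OrthFieldSub.trBil M)) := fun hsq => by
        have h := OrthFieldSub.card_eq_of_isometry hε P hP M hM (by simp; omega) hsq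
        rw [hcardP, hcardM] at h
        exact hne _ _ _ (by positivity) (Nat.one_le_pow _ _ (by omega)) (hpos _) h
      have hPQ : ¬ IsSquare (OrthRoot.disc (OrthFieldSub.trBil P) * OrthRoot.disc (QuadraticMap.polarBilin Q)) :=
        fun hsq => by
        haveI : Nontrivial (Fin (e + 1) ⊕ Fin (e + 1) → QuadraticAlgebra F ε 0) := Function.nontrivial
        obtain ⟨g, hg, -⟩ := (OrthFieldSub.isRoot P hP).exists_isometry hε hroot
          (by rw [OrthFieldSub.finrank_space, Module.finrank_fintype_fun_eq_card]; simp; omega) hsq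
        let e₂ := Φ.symm.trans g
        have he₂ : ∀ w, Q (e₂ w) = Cfsg.quadFormPlus (e + 1 + (e + 1)) F w := fun w => by
          have h1 := hg (Φ.symm w) (Φ.symm w)
          rw [← hΦ, Φ.apply_symm_apply] at h1
          simp only [QuadraticMap.polarBilin_apply_apply, QuadraticMap.polar_self, two_nsmul, ← two_mul] at h1
          rw [← coe_plusQ]
          exact mul_left_cancel₀ h2 h1
        have h := (Nat.card_congr (Quad.isometryEquivModel (Q := Q) (Qf := ⇑Q) (LinearEquiv.refl _ _)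
          fun _ => rfl).toEquiv).trans (Nat.card_congr (Quad.isometryEquivModel e₂ he₂).toEquiv).symm
        rw [hO, show e + 1 + (e + 1) = (e + 1 + e) + 1 from rfl, SmallIso.card_isometryGroup_plus,
          show e + 1 + e + 1 - 1 = e + 1 + e from rfl] at h
        refine hne _ _ _ (Nat.mul_pos two_pos (Nat.pow_pos (by omega))) (Nat.one_le_pow _ _ (by omega)) ?_ h.symm
        exact Finset.prod_pos fun t _ => by
          have := Nat.one_lt_pow (n := 2 * (t + 1)) (by omega) hq1
          omega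
      have hsq : IsSquare (OrthRoot.disc (OrthFieldSub.trBil M) * OrthRoot.disc (QuadraticMap.polarBilin Q)) := by
        rw [CfsgLib.FormsDisc.isSquare_mul_iff_of_odd h2 hdP hdM] at hPM
        rw [CfsgLib.FormsDisc.isSquare_mul_iff_of_odd h2 hdP hdQ] at hPQ
        rw [CfsgLib.FormsDisc.isSquare_mul_iff_of_odd h2 hdM hdQ]
        tauto
      obtain ⟨U, hU, hUN, hc⟩ := OrthFieldSub.exists_subgroup h2 hK hJ hε hroot M hM (by simp; omega) hsq
      exact ⟨U, _, hU, hUN, Or.inl ⟨⟨e + 1, rfl⟩, hc.trans hcardM⟩⟩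
  · -- odd rank
    haveI : Nonempty (Unit ⊕ (Fin e ⊕ Fin e)) := ⟨Sum.inl ()⟩
    set O1 := oddQ e (QuadraticAlgebra F ε 0) with hO1def
    have hO1 := oddQ_nd (F := QuadraticAlgebra F ε 0) h2K e
    set O2 := ν • O1 with hO2def
    have hO2 : (QuadraticMap.polarBilin O2).Nondegenerate := by
      have hsm : ∀ x y, QuadraticMap.polar O2 x y = ν * QuadraticMap.polar O1 x y := fun x y => by
        simp [O2, QuadraticMap.polar, mul_sub]
      refine ⟨fun x hx => hO1.1 x fun y => ?_, fun x hx => hO1.2 x fun y => ?_⟩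
      · have := hx y; simp only [QuadraticMap.polarBilin_apply_apply, hsm] at this ⊢
        exact (mul_eq_zero.1 this).resolve_left hν0
      · have := hx y; simp only [QuadraticMap.polarBilin_apply_apply, hsm] at this ⊢
        exact (mul_eq_zero.1 this).resolve_left hν0
    have hcard1 : Nat.card ↥(Cfsg.isometryGroup (QuadraticAlgebra F ε 0) ⇑O1) =
        2 * (Nat.card F ^ 2) ^ (e ^ 2) * 1 *
          ∏ i ∈ Finset.range ((2 * e + 1 - 1) / 2), ((Nat.card F ^ 2) ^ (2 * (i + 1)) - 1) := by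
      rw [hO1def, coe_oddQ, SmallIso.card_isometryGroup_odd h2K, card_ext,
        show (2 * e + 1 - 1) / 2 = e by omega, mul_one]
    have hgrp : Cfsg.isometryGroup (QuadraticAlgebra F ε 0) ⇑O2 = Cfsg.isometryGroup (QuadraticAlgebra F ε 0) ⇑O1 := by
      ext g
      constructor
      · intro hg u v
        exact mul_left_cancel₀ hν0 (by simpa [O2] using hg u v)
      · intro hg u v
        have := hg u v
        simp only [O2, smul_eq_mul, FunLike.coe_smul, Pi.smul_apply] at this ⊢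
        exact congrArg (ν * ·) this
    set V0 := Unit ⊕ (Fin e ⊕ Fin e) → QuadraticAlgebra F ε 0
    obtain ⟨t, ht, hdet⟩ : ∃ t : F, ¬ IsSquare t ∧
        OrthRoot.disc (OrthFieldSub.trBil O2) = OrthRoot.disc (OrthFieldSub.trBil O1) * t := by
      refine ⟨QuadraticAlgebra.norm ν ^ (2 * e + 1), fun hsq => hν (OrthRoot.isSquare_of_norm hε ?_), ?_⟩
      · obtain ⟨s, hs⟩ := hsq
        have hn : QuadraticAlgebra.norm ν ≠ 0 := by
          intro h0
          exact hν (OrthRoot.isSquare_of_norm hε (by rw [h0]; exact IsSquare.zero))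
        refine ⟨s / QuadraticAlgebra.norm ν ^ e, ?_⟩
        rw [pow_succ, two_mul, pow_add] at hs
        field_simp
        linear_combination hs
      · set L : V0 →ₗ[F] V0 := (ν • (LinearMap.id : V0 →ₗ[QuadraticAlgebra F ε 0] V0)).restrictScalars F
        have hB : OrthFieldSub.trBil O2 = (OrthFieldSub.trBil O1).compl₁₂ L LinearMap.id := by
          refine LinearMap.ext₂ fun u v => ?_
          show (QuadraticMap.polar O2 u v).re = (QuadraticMap.polar O1 (ν • u) v).re
          rw [QuadraticMap.polar_smul_left]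
          simp [O2, QuadraticMap.polar, mul_sub]
        rw [OrthRoot.disc, OrthRoot.disc, hB]
        set b := Module.finBasis F V0
        have hmat : LinearMap.BilinForm.toMatrix b ((OrthFieldSub.trBil O1).compl₁₂ L LinearMap.id) =
            (LinearMap.toMatrix b b L).transpose * LinearMap.BilinForm.toMatrix b (OrthFieldSub.trBil O1) :=
          LinearMap.BilinForm.toMatrix_compLeft b _ L
        rw [hmat, Matrix.det_mul, Matrix.det_transpose, LinearMap.det_toMatrix, LinearMap.det_restrictScalars,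
          LinearMap.det_smul, LinearMap.det_id, mul_one, map_pow]
        rw [Module.finrank_fintype_fun_eq_card]
        have hN : Algebra.norm F ν = QuadraticAlgebra.norm ν := by
          rw [← QuadraticAlgebra.det_toLinearMap_eq_norm, Algebra.norm_apply]
          congr 1
        rw [hN]
        rw [Fintype.card_sum, Fintype.card_sum, Fintype.card_unit, Fintype.card_fin, show 1 + (e + e) = 2 * e + 1 by ring]
        ring
    have hd1 := OrthFieldSub.disc_ne_zero _ (OrthFieldSub.isRoot O1 hO1).nd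
    have hd2 := OrthFieldSub.disc_ne_zero _ (OrthFieldSub.isRoot O2 hO2).nd
    by_cases hsq : IsSquare (OrthRoot.disc (OrthFieldSub.trBil O1) * OrthRoot.disc (QuadraticMap.polarBilin Q))
    · obtain ⟨U, hU, hUN, hc⟩ := OrthFieldSub.exists_subgroup h2 hK hJ hε hroot O1 hO1 (by simp; omega) hsq
      exact ⟨U, _, hU, hUN, Or.inr ⟨⟨e, rfl⟩, hc.trans hcard1⟩⟩
    · have hsq2 : IsSquare (OrthRoot.disc (OrthFieldSub.trBil O2) * OrthRoot.disc (QuadraticMap.polarBilin Q)) := by
        have ht0 : t ≠ 0 := fun h => ht (h ▸ ⟨0, (mul_zero 0).symm⟩)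
        rw [hdet, mul_right_comm, CfsgLib.FormsDisc.isSquare_mul_iff_of_odd h2 (mul_ne_zero hd1 hdQ) ht0]
        tauto
      obtain ⟨U, hU, hUN, hc⟩ := OrthFieldSub.exists_subgroup h2 hK hJ hε hroot O2 hO2 (by simp; omega) hsq2
      exact ⟨U, _, hU, hUN, Or.inr ⟨⟨e, rfl⟩, hc.trans (by rw [hgrp, hcard1])⟩⟩

/-- An element without adapted root fixes no point. -/
theorem not_fixed {ι : Type} [Fintype ι] [DecidableEq ι] {Q : QuadraticForm F (ι → F)}
    (h2 : (2 : F) ≠ 0) (hQ : (QuadraticMap.polarBilin Q).Nondegenerate) [Nonempty ι] (hr2 : r ≠ 2)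
    {K : Subalgebra F (Matrix ι ι F)} (hK : Cfsg.Geo.IsFieldSubalgebra 2 K) {J : Matrix ι ι F} {ε : F}
    (hJ : QuadSub.IsGen K J 0 ε) (hroot : OrthRoot.IsRoot (QuadraticMap.polarBilin Q) ε (Matrix.toLin' J))
    (hall : ∀ x ∈ Cfsg.Geo.omegaGL ⇑Q, (∃ z : F, ((x ^ r : GL ι F) : Matrix ι ι F) = z • (1 : Matrix ι ι F)) →
      (∀ z : F, (x : Matrix ι ι F) ≠ z • (1 : Matrix ι ι F)) →
      ∃ g ∈ Cfsg.Geo.omegaGL ⇑Q, g⁻¹ * x * g ∈ Cfsg.Geo.subalgebraNormalizer K)
    (hx : ∃ x : ↥(Cfsg.isometryGroup F ⇑Q), x ^ r = 1 ∧ (∀ c : F, (((x : GL ι F)) : Matrix ι ι F) ≠ c • 1) ∧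
      OrthFieldElem.NoField Q ε (Matrix.toLin' ((x : GL ι F) : Matrix ι ι F))) : False := by
  classical
  obtain ⟨x, hxr, hns, hno⟩ := hx
  have hrodd : Odd r := hr.out.odd_of_ne_two hr2
  have hmem : x ∈ Cfsg.Omega F ⇑Q := OrthCoset.mem_of_odd_pow h2 hQ hrodd hxr
  have hxr' : (x : GL ι F) ^ r = 1 := by rw [← SubmonoidClass.coe_pow, hxr]; rfl
  obtain ⟨g, ⟨g', -, rfl⟩, hN⟩ := hall x ⟨x, hmem, rfl⟩ ⟨1, by rw [hxr', one_smul, Units.val_one]⟩ hns
  have hyr : ((g' : GL ι F)⁻¹ * x * g') ^ r = 1 := by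
    have h := conj_pow (i := r) (a := (g' : GL ι F)⁻¹) (b := (x : GL ι F))
    rw [inv_inv] at h
    rw [h, hxr', mul_one, inv_mul_cancel]
  set G := ((g' : GL ι F) : Matrix ι ι F)
  set G' := (((g' : GL ι F)⁻¹ : GL ι F) : Matrix ι ι F)
  set X := ((x : GL ι F) : Matrix ι ι F)
  rw [hJ.mem_normalizer_iff hK] at hN
  rcases hN with h | h
  · change G' * X * G * J = J * (G' * X * G) at h
    have h1 : G * G' = 1 := Units.mul_inv _
    have h1v : ∀ v, G.mulVec (G'.mulVec v) = v := fun v => by rw [Matrix.mulVec_mulVec, h1, Matrix.one_mulVec]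
    have h2v : ∀ v, G'.mulVec (G.mulVec v) = v := fun v => by
      rw [Matrix.mulVec_mulVec, show G' * G = 1 from Units.inv_mul _, Matrix.one_mulVec]
    have hgi : ∀ u v, QuadraticMap.polar Q (G.mulVec u) (G.mulVec v) = QuadraticMap.polar Q u v :=
      CfsgLib.OrthSpinor.polar_act Q g'
    refine hno (Matrix.toLin' (G * J * G')) ⟨hroot.sym, hroot.nd, fun v => ?_, fun u v => ?_⟩ ?_
    · have := hroot.sq (G'.mulVec v)
      simp only [Matrix.toLin'_apply, ← Matrix.mulVec_mulVec, h2v] at this ⊢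
      rw [this, Matrix.mulVec_smul, h1v]
    · have := hroot.adj (G'.mulVec u) (G'.mulVec v)
      simp only [Matrix.toLin'_apply, ← Matrix.mulVec_mulVec, QuadraticMap.polarBilin_apply_apply] at this ⊢
      calc _ = QuadraticMap.polar Q (G.mulVec (J.mulVec (G'.mulVec u))) (G.mulVec (G'.mulVec v)) := by rw [h1v]
        _ = _ := by rw [hgi, this, ← hgi, h1v]
    · have e : X * (G * J * G') = G * J * G' * X := by
        calc X * (G * J * G') = (G * G') * X * G * J * G' := by rw [h1, one_mul]; simp only [mul_assoc]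
          _ = G * (G' * X * G * J) * G' := by simp only [mul_assoc]
          _ = G * J * G' * X * (G * G') := by rw [h]; simp only [mul_assoc]
          _ = _ := by rw [h1, mul_one]
      rw [Commute, SemiconjBy, Module.End.mul_eq_comp, Module.End.mul_eq_comp, ← Matrix.toLin'_mul,
        ← Matrix.toLin'_mul, e]
  · set y := (g' : GL ι F)⁻¹ * x * g'
    rw [zero_smul, zero_sub] at h
    have hpow : ∀ n : ℕ, (y : Matrix ι ι F) ^ n * J = (-1 : F) ^ n • (J * (y : Matrix ι ι F) ^ n) := fun n => by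
      induction n with
      | zero => simp
      | succ n ih =>
        rw [pow_succ', mul_assoc, ih, Matrix.mul_smul, ← mul_assoc]
        change _ • ((y : Matrix ι ι F) * J * _) = _
        rw [show (y : Matrix ι ι F) * J = -J * (y : Matrix ι ι F) from h, neg_mul, neg_mul, mul_assoc, ← pow_succ',
          smul_neg, pow_succ (-1 : F), mul_neg_one, neg_smul]
    have h' := hpow r
    rw [← Units.val_pow_eq_pow_val, hyr, Units.val_one, one_mul, mul_one, hrodd.neg_one_pow, neg_one_smul] at h'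
    have hJ0 : J = 0 := by
      have : (2 : F) • J = 0 := by rw [two_smul]; nth_rewrite 1 [h']; exact neg_add_cancel _
      exact (smul_eq_zero.1 this).resolve_left h2
    exact hJ.noroot 0 (by
      have := hJ.rel
      rw [hJ0, mul_zero, zero_smul, zero_add] at this
      rcases smul_eq_zero.1 this.symm with h0 | h0
      · rw [h0]; simp
      · exact absurd h0 one_ne_zero)

/-- An element of order `r` on the anisotropic space of dimension `2 h`. -/
theorem exists_minus_element {h : ℕ} (hh : 0 < h) (hord : orderOf (Fintype.card F : ZMod r) = 2 * h)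
    {a b : F} (hab : Quad.IsAniso a b) :
    ∃ y : Module.End F ((Fin (h - 1) ⊕ Fin (h - 1)) ⊕ Fin 2 → F),
      (∀ u, minusQ (h - 1) F a b (y u) = minusQ (h - 1) F a b u) ∧ y ^ r = 1 ∧ y ≠ 1 := by
  classical
  have hq1 : 1 < Fintype.card F := Fintype.one_lt_card
  have h1 : r ∣ (Fintype.card F ^ h + 1) * (Fintype.card F ^ h - 1) := by
    rw [← Nat.sq_sub_sq, one_pow, ← pow_mul, mul_comm, ← hord]
    exact (dvd_pow_sub_one_iff hq1.le _).2 dvd_rfl
  have h3 : r ∣ Fintype.card F ^ h + 1 := (hr.out.dvd_mul.1 h1).resolve_right fun h' => by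
    have := Nat.le_of_dvd hh ((dvd_pow_sub_one_iff hq1.le _).1 h')
    omega
  have hdvd : r ∣ Nat.card ↥(Cfsg.isometryGroup F (Cfsg.quadFormMinus (h - 1) F a b)) := by
    rw [SmallIso.card_isometryGroup_minus hab, Nat.card_eq_fintype_card, show h - 1 + 1 = h by omega]
    exact (h3.mul_left _).mul_right _
  obtain ⟨x, hx⟩ := exists_prime_orderOf_dvd_card' r hdvd
  refine ⟨Matrix.toLin' x.1.1, fun u => ?_, ?_, fun h0 => ?_⟩
  · rw [coe_minusQ, Matrix.toLin'_apply]
    exact x.2 u u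
  · rw [← Matrix.toLin'_pow, ← Units.val_pow_eq_pow_val, ← SubmonoidClass.coe_pow,
      ← hx, pow_orderOf_eq_one]
    simp
    rfl
  · have : x = 1 := Subtype.ext (Units.ext (Matrix.toLin'.injective (h0.trans Matrix.toLin'_one.symm)))
    rw [this, orderOf_one] at hx
    exact hr.out.one_lt.ne hx

end CfsgLib.LinFix.OrthFieldMain
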