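import Mathlib
import Cfsg.Agent.Lib.LinFix.OrthTyped
import Cfsg.Agent.Lib.LinFix.OrthParaMain
import Cfsg.Agent.Lib.PrimeFix.HypTwo

/-!
# Elements of order two modulo scalars and elliptic subspaces
-/

set_option autoImplicit false

namespace CfsgLib.OrthInv

open Module QuadraticMap
open CfsgLib.Classical.Quad (NDPolar)
open CfsgLib.RootCount (IsPlus)
open CfsgLib.LinFix (Inv)

variable {F : Type*} [Field F] [Fintype F] {V : Type*} [AddCommGroup V] [Module F V] [FiniteDimensional F V]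
  {Q : QuadraticForm F V} {T : Module.End F V}

/-- `X` is an orthogonal sum of `sm` invariant planes of minus type, `sp` of plus type and `b` invariant
four-dimensional spaces of plus type, expressed through its invariant subspaces. -/
def Sel (Q : QuadraticForm F V) (T : Module.End F V) (X : Submodule F V) (sm sp b : ℕ) : Prop :=
  finrank F X = 2 * (sm + sp + 2 * b) ∧ (PlusOn Q X ↔ Even sm) ∧
    ∀ i j l, i ≤ sm → j ≤ sp → l ≤ b → ∃ W ≤ X, Inv T W ∧ Nd Q W ∧ finrank F W = 2 * (i + j + 2 * l) ∧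
      (PlusOn Q W ↔ Even i)

theorem Sel.sup {X Y : Submodule F V} {s p b s' p' b' : ℕ} (hX : Sel Q T X s p b) (hY : Sel Q T Y s' p' b')
    (hXn : Nd Q X) (hYn : Nd Q Y) (ho : ∀ x ∈ X, ∀ y ∈ Y, polar Q x y = 0) :
    Sel Q T (X ⊔ Y) (s + s') (p + p') (b + b') := by
  refine ⟨?_, ?_, fun i j l hi hj hl => ?_⟩
  · rw [CfsgLib.LinFix.finrank_sup_of_disjoint (disjoint_of_nd hXn ho), hX.1, hY.1]; ring
  · rw [plusOn_sup hXn hYn ho (by rw [hX.1]; exact even_two_mul _) (by rw [hY.1]; exact even_two_mul _),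
      hX.2.1, hY.2.1, Nat.even_add]
  · obtain ⟨A, hAX, hAi, hAn, hAd, hAp⟩ := hX.2.2 (min i s) (min j p) (min l b) (min_le_right _ _)
      (min_le_right _ _) (min_le_right _ _)
    obtain ⟨B, hBY, hBi, hBn, hBd, hBp⟩ := hY.2.2 (i - min i s) (j - min j p) (l - min l b)
      (by omega) (by omega) (by omega)
    have ho' : ∀ x ∈ A, ∀ y ∈ B, polar Q x y = 0 := fun x hx y hy => ho x (hAX hx) y (hBY hy)
    refine ⟨A ⊔ B, sup_le_sup hAX hBY, fun v hv => ?_, nd_sup hAn hBn ho', ?_, ?_⟩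
    · obtain ⟨x, hx, y, hy, rfl⟩ := Submodule.mem_sup.1 hv
      rw [map_add]
      exact Submodule.add_mem_sup (hAi x hx) (hBi y hy)
    · rw [CfsgLib.LinFix.finrank_sup_of_disjoint (disjoint_of_nd hAn ho'), hAd, hBd]; omega
    · rw [plusOn_sup hAn hBn ho' (by rw [hAd]; exact even_two_mul _) (by rw [hBd]; exact even_two_mul _),
        hAp, hBp, ← Nat.even_add, show min i s + (i - min i s) = i by omega]

/-- A space on which the map is a scalar. -/
theorem sel_scalar {X : Submodule F V} {c : F} (hX : ∀ v ∈ X, T v = c • v) (hn : Nd Q X) {h : ℕ}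
    (hd : finrank F X = 2 * h) : ∃ sm sp, Sel Q T X sm sp 0 ∧ (2 ≤ h → 1 ≤ sp) := by
  classical
  obtain ⟨sm, sp, hsum, hpar, hsp⟩ : ∃ sm sp : ℕ, sm + sp = h ∧ (PlusOn Q X ↔ Even sm) ∧ (2 ≤ h → 1 ≤ sp) := by
    by_cases hp : PlusOn Q X
    · exact ⟨0, h, by omega, iff_of_true hp ⟨0, rfl⟩, fun h2 => by omega⟩
    · refine ⟨1, h - 1, ?_, iff_of_false hp (by decide), fun h2 => by omega⟩
      rcases Nat.eq_zero_or_pos h with rfl | hpos
      · have h0 : X = ⊥ := Submodule.finrank_eq_zero.1 (by rw [hd])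
        exact absurd (h0 ▸ plusOn_bot) hp
      · omega
  refine ⟨sm, sp, ⟨by omega, hpar, fun i j l hi hj hl => ?_⟩, hsp⟩
  obtain ⟨W, hWX, hWd, hWn, hWp⟩ := exists_typed hn hd (a := i + j + 2 * l) (by omega) (Even i)
    (fun h0 => by rw [show i = 0 by omega]; exact ⟨0, rfl⟩)
    (fun h0 => by rw [show i = sm by omega]; exact hpar.symm)
  exact ⟨W, hWX, fun v hv => by rw [hX v (hWX hv)]; exact W.smul_mem c hv, hWn, hWd, hWp⟩

/-- A single invariant plane or four-dimensional plus space. -/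
theorem sel_piece {X : Submodule F V} (hX : Inv T X) (hn : Nd Q X) {sm sp b : ℕ} (hsum : sm + sp + b = 1)
    (hd : finrank F X = 2 * (sm + sp + 2 * b)) (hp : PlusOn Q X ↔ Even sm) : Sel Q T X sm sp b := by
  refine ⟨hd, hp, fun i j l hi hj hl => ?_⟩
  rcases Nat.eq_zero_or_pos (i + j + l) with h | h
  · exact ⟨⊥, bot_le, CfsgLib.LinFix.inv_bot T, fun x hx _ => (Submodule.mem_bot F).1 hx, by simp; omega,
      iff_of_true plusOn_bot ⟨0, by omega⟩⟩
  · obtain ⟨rfl, rfl, rfl⟩ : i = sm ∧ j = sp ∧ l = b := by omega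
    exact ⟨X, le_rfl, hX, hn, hd, hp⟩

/-- Decomposition of an involution in characteristic two. -/
theorem exists_sel_char_two (h2 : (2 : F) = 0) (hiso : ∀ v, Q (T v) = Q v) (hT2 : ∀ v, T (T v) = v) :
    ∀ (h : ℕ) (X : Submodule F V), Inv T X → Nd Q X → finrank F X = 2 * h → ∃ sm sp b, Sel Q T X sm sp b := by
  intro h
  induction h using Nat.strong_induction_on with
  | _ h ih =>
  intro X hX hn hd
  have rest : ∀ (R : Submodule F V) (e : ℕ), R ≤ X → Inv T R → Nd Q R → finrank F R = 2 * e → 0 < e →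
      (∃ s p b, Sel Q T R s p b) → ∃ sm sp b, Sel Q T X sm sp b := by
    rintro R e hRX hR hRn hRd he ⟨s, p, b, hsel⟩
    obtain ⟨R', hR'X, hR'i, hR'n, hdis, hsum, ho⟩ := exists_compl_in hiso hR hRn hX hn hRX
    have hle := Submodule.finrank_mono hRX
    obtain ⟨s', p', b', hsel'⟩ := ih (h - e) (by omega) R' hR'i hR'n (by omega)
    refine ⟨s + s', p + p', b + b', ?_⟩
    have heq : R ⊔ R' = X := Submodule.eq_of_le_of_finrank_le (sup_le hRX hR'X)
      (by rw [CfsgLib.LinFix.finrank_sup_of_disjoint hdis, hsum])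
    rw [← heq]
    exact hsel.sup hsel' hRn hR'n ho
  by_cases hex : ∃ v ∈ X, polar Q (T v) v ≠ 0
  · obtain ⟨v, hv, hne⟩ := hex
    obtain ⟨P, hPX, hPi, hPd, hPn⟩ := CfsgLib.PrimeFix.Quad.plane_of_ne h2 hiso hT2 hX hv hne
    have hPn' : Nd Q P := fun x hx hx' => congrArg Subtype.val
      (hPn ⟨x, hx⟩ fun y => (by simpa [polar] using hx' y y.2))
    refine rest P 1 hPX hPi hPn' hPd one_pos ?_
    by_cases hp : PlusOn Q P
    · exact ⟨0, 1, 0, sel_piece hPi hPn' rfl hPd (iff_of_true hp ⟨0, rfl⟩)⟩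
    · exact ⟨1, 0, 0, sel_piece hPi hPn' rfl hPd (iff_of_false hp (by decide))⟩
  push Not at hex
  by_cases hfix : ∀ v ∈ X, T v = v
  · obtain ⟨sm, sp, hsel, -⟩ := sel_scalar (c := 1) (fun v hv => by rw [hfix v hv, one_smul]) hn hd
    exact ⟨sm, sp, 0, hsel⟩
  push Not at hfix
  obtain ⟨v, hv, hne⟩ := hfix
  obtain ⟨R, hRX, hRi, hR⟩ := CfsgLib.PrimeFix.Quad.four_of_ne h2 hiso hT2 (ndPolar_comp hn) hX hex hv hne
  obtain ⟨hRd, hRn, hRp⟩ := CfsgLib.PrimeFix.Quad.isHypSub_iff.1 hR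
  have hRn' : Nd Q R := fun x hx hx' => congrArg Subtype.val
    (hRn ⟨x, hx⟩ fun y => (by simpa [polar] using hx' y y.2))
  exact rest R 2 hRX hRi hRn' hRd two_pos
    ⟨0, 0, 1, sel_piece hRi hRn' rfl hRd (iff_of_true ((plusOn_iff R).2 hRp) ⟨0, rfl⟩)⟩

theorem exists_choice {sm sp b μ : ℕ} (hsm : Odd sm) (hμ : 1 ≤ μ) (hμd : μ < sm + sp + 2 * b)
    (h : 1 ≤ sp ∨ Odd μ) : ∃ i j l, i ≤ sm ∧ j ≤ sp ∧ l ≤ b ∧ Odd i ∧ i + j + 2 * l = μ := by
  simp only [Nat.odd_iff] at *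
  rcases Nat.eq_zero_or_pos sp with h0 | hp
  · exact ⟨μ - 2 * min b ((μ - 1) / 2), 0, min b ((μ - 1) / 2), by omega, by omega, by omega, by omega, by omega⟩
  rcases Nat.lt_or_ge (1 + sp + 2 * b) μ with hlt | hle
  · by_cases hR : (μ - sp - 2 * b) % 2 = 1
    · exact ⟨μ - sp - 2 * b, sp, b, by omega, le_rfl, le_rfl, by omega, by omega⟩
    · exact ⟨μ - sp - 2 * b + 1, sp - 1, b, by omega, by omega, le_rfl, by omega, by omega⟩
  · exact ⟨1, μ - 1 - 2 * min b ((μ - 1) / 2), min b ((μ - 1) / 2), by omega, by omega, by omega, rfl, by omega⟩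

/-- The elliptic subspaces given by a decomposition of minus type. -/
theorem Sel.exists_ell {sm sp b d m : ℕ} (hsel : Sel Q T ⊤ sm sp b) (hV : ¬ IsPlus Q) (hdim : finrank F V = 2 * d)
    (hm : Even m) (hm2 : 2 ≤ m) (hmd : m < 2 * d) (h : 1 ≤ sp ∨ m % 4 = 2 ∨ Even d) :
    ∃ W, Ell Q m W ∧ Inv T W := by
  obtain ⟨hd', hp, hsub⟩ := hsel
  rw [finrank_top, hdim] at hd'
  rw [plusOn_top] at hp
  have hsm : Odd sm := Nat.not_even_iff_odd.1 fun h => hV (hp.2 h)
  obtain ⟨μ, rfl⟩ := hm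
  obtain ⟨i, j, l, hi, hj, hl, hiodd, hsum⟩ := exists_choice (b := b) (sp := sp) (μ := μ) hsm (by omega) (by omega)
    (by
      rcases h with h | h | h
      · exact Or.inl h
      · exact Or.inr (Nat.odd_iff.2 (by omega))
      · refine Or.inl ?_
        rw [Nat.odd_iff] at hsm
        rw [Nat.even_iff] at h
        omega)
  obtain ⟨W, -, hWi, hWn, hWd, hWp⟩ := hsub i j l hi hj hl
  exact ⟨W, ⟨by omega, hWn, fun h => Nat.not_even_iff_odd.2 hiodd (hWp.1 h)⟩, hWi⟩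

section matrix

open Matrix Cfsg CfsgLib.OrthSpinor

variable {ι : Type} [Fintype ι] [DecidableEq ι] {Q : QuadraticForm F (ι → F)}

/-- Involutions in odd characteristic fix elliptic subspaces. -/
theorem ell_fixes_involution (h2 : (2 : F) ≠ 0) (hQ : NDPolar Q) {g : ↥(isometryGroup F ⇑Q)}
    (hg : g ∈ Omega F ⇑Q) (hsq : ∀ v, act Q g (act Q g v) = v) {d m : ℕ} (hd : 4 ≤ d)
    (hdim : finrank F (ι → F) = 2 * d) (hm : Even m) (hm2 : 2 ≤ m) (hmd : m < 2 * d)
    (hV : m < d ∨ ¬ IsPlus Q) :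
    ∃ W, Ell Q m W ∧ Inv (Matrix.toLin' ((g : GL ι F) : Matrix ι ι F)) W := by
  set T : Module.End F (ι → F) := Matrix.toLin' ((g : GL ι F) : Matrix ι ι F) with hTdef
  have hT : ∀ v, T v = act Q g v := toLin_apply g
  have hT2 : T ^ 2 = 1 := LinearMap.ext fun v => by rw [pow_two, Module.End.mul_apply, hT, hT, hsq]; rfl
  have hiso : ∀ v, Q (T v) = Q v := fun v => by rw [hT, Q_act]
  have hr2 : ((2 : ℕ) : F) ≠ 0 := by exact_mod_cast h2
  obtain ⟨hC, hU⟩ := nd_parts hr2 hT2 hiso (CfsgLib.LinFix.inv_top T) (nd_top hQ)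
  rw [top_inf_eq] at hC hU
  have hsum := finrank_split hr2 hT2 (CfsgLib.LinFix.inv_top T)
  rw [top_inf_eq, top_inf_eq, finrank_top, hdim] at hsum
  have hneg : ∀ v ∈ LinearMap.range (T - 1), T v = (-1 : F) • v := by
    rintro _ ⟨u, rfl⟩
    rw [LinearMap.sub_apply, Module.End.one_apply, map_sub, hT (T u), hT u, hsq, neg_one_smul]; abel
  have hpos : ∀ v ∈ LinearMap.ker (T - 1), T v = (1 : F) • v := fun v hv => by
    rw [one_smul]; exact sub_eq_zero.1 hv
  have hev : Even (finrank F (LinearMap.range (T - 1))) := by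
    have hrange : LinearMap.range (T - 1) = LinearMap.ker (T + LinearMap.id) := by
      ext v
      rw [LinearMap.mem_ker, LinearMap.add_apply, LinearMap.id_apply]
      refine ⟨fun h => by rw [hneg v h, neg_one_smul, neg_add_cancel], fun hv => ⟨(-(2 : F)⁻¹) • v, ?_⟩⟩
      rw [LinearMap.sub_apply, Module.End.one_apply, map_smul, eq_neg_of_add_eq_zero_left hv, smul_neg,
        neg_smul, neg_neg, sub_neg_eq_add, ← two_nsmul, ← Nat.cast_smul_eq_nsmul F, smul_smul,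
        show ((2 : ℕ) : F) = 2 by norm_num, mul_inv_cancel₀ h2, one_smul]
    rw [hrange]
    refine CfsgLib.LinFix.OrthCompat.even_finrank_neg h2 (fun v => by rw [hT, hT, hsq]) ?_
    rw [hTdef, LinearMap.det_toLin', CfsgLib.LinFix.OrthCoset.det_of_mem g hg]
  obtain ⟨a, ha⟩ := hev
  obtain ⟨e, he⟩ : ∃ e, finrank F (LinearMap.ker (T - 1)) = 2 * e := ⟨d - a, by omega⟩
  have direct : ∀ (X : Submodule F (ι → F)) (c : F) (h : ℕ), Nd Q X → (∀ v ∈ X, T v = c • v) →
      finrank F X = 2 * h → m < 2 * h → ∃ W, Ell Q m W ∧ Inv T W := by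
    intro X c h hXn hXc hXd hmh
    obtain ⟨μ, rfl⟩ := hm
    obtain ⟨W, hWX, hWd, hWn, hWp⟩ := exists_typed hXn hXd (a := μ) (by omega) False (by omega) (by omega)
    exact ⟨W, ⟨by omega, hWn, fun hp => hWp.1 hp⟩, fun v hv => by rw [hXc v (hWX hv)]; exact W.smul_mem c hv⟩
  by_cases h1 : m < 2 * e
  · exact direct _ 1 e hC hpos he h1
  by_cases h3 : m < 2 * a
  · exact direct _ (-1) a hU hneg (by omega) h3
  obtain ⟨s, p, hselC, hpC⟩ := sel_scalar hpos hC he
  obtain ⟨s', p', hselU, hpU⟩ := sel_scalar hneg hU (h := a) (by omega)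
  have hsel := hselC.sup hselU hC hU (fun x hx y hy => polar_fix_range hiso hx hy)
  have htop : LinearMap.ker (T - 1) ⊔ LinearMap.range (T - 1) = ⊤ := by
    simpa using sup_split hr2 hT2 (CfsgLib.LinFix.inv_top T)
  rw [htop] at hsel
  refine hsel.exists_ell (hV.resolve_left (by omega)) hdim hm hm2 hmd (Or.inl ?_)
  by_cases hbig : 2 ≤ e
  · exact le_add_of_le_left (hpC hbig)
  · exact le_add_of_le_right (hpU (by omega))

/-- With a square root of `-1`, elements squaring to minus one fix no elliptic subspace. -/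
theorem plusOn_of_sqrt (h2 : (2 : F) ≠ 0) {T : Module.End F (ι → F)} (hiso : ∀ v, Q (T v) = Q v)
    (hsq : ∀ v, T (T v) = -v) {s : F} (hs : s * s = -1) {W : Submodule F (ι → F)} (hW : Inv T W)
    (hnd : Nd Q W) : PlusOn Q W := by
  have hsing : ∀ c : F, c * c = -1 → ∀ x ∈ W ⊓ LinearMap.ker (T - c • 1), Q x = 0 := by
    rintro c hc x ⟨-, hx⟩
    have h := hiso x
    rw [show T x = c • x from sub_eq_zero.1 hx, QuadraticMap.map_smul, hc, smul_eq_mul] at h
    exact (mul_eq_zero.1 (show (2 : F) * Q x = 0 by linear_combination -h)).resolve_left h2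
  have hhalf : ∀ c : F, c * c = -1 → 2 * finrank F ↥(W ⊓ LinearMap.ker (T - c • 1)) ≤ finrank F W := by
    intro c hc
    have h := CfsgLib.PrimeFix.two_mul_finrank_le (B := polarBilin (Q.comp W.subtype)) (ndPolar_comp hnd)
      (U := (W ⊓ LinearMap.ker (T - c • 1)).comap W.subtype)
      (CfsgLib.PrimeFix.Quad.TotSing.isotropic (Q := Q.comp W.subtype) fun x hx => hsing c hc _ hx)
    rwa [(Submodule.comapSubtypeEquivOfLe inf_le_left).finrank_eq] at h
  have hle : W ≤ (W ⊓ LinearMap.ker (T - s • 1)) ⊔ (W ⊓ LinearMap.ker (T - (-s) • 1)) := by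
    intro v hv
    refine Submodule.mem_sup.2 ⟨(2 : F)⁻¹ • (v - s • T v), ⟨W.smul_mem _ (W.sub_mem hv (W.smul_mem _ (hW v hv))), ?_⟩,
      (2 : F)⁻¹ • (v + s • T v), ⟨W.smul_mem _ (W.add_mem hv (W.smul_mem _ (hW v hv))), ?_⟩, ?_⟩
    · show T ((2 : F)⁻¹ • (v - s • T v)) - s • ((2 : F)⁻¹ • (v - s • T v)) = 0
      rw [map_smul, map_sub, map_smul, hsq]
      linear_combination (norm := module) ((2 : F)⁻¹ * hs) • T v
    · show T ((2 : F)⁻¹ • (v + s • T v)) - (-s) • ((2 : F)⁻¹ • (v + s • T v)) = 0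
      rw [map_smul, map_add, map_smul, hsq]
      linear_combination (norm := module) ((2 : F)⁻¹ * hs) • T v
    · rw [← smul_add, sub_add_add_cancel, ← two_smul F, smul_smul, inv_mul_cancel₀ h2, one_smul]
  have h := (Submodule.finrank_mono hle).trans (Submodule.finrank_add_le_finrank_add_finrank _ _)
  have h1 := hhalf s hs
  have h3 := hhalf (-s) (by rw [neg_mul_neg, hs])
  exact ⟨_, inf_le_left, hsing s hs, by omega⟩

end matrix

end CfsgLib.OrthInv
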