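import Mathlib
import Cfsg.Agent.Lib.LinFix.OrthEllOdd
import Cfsg.Agent.Lib.LinFix.OrthEllTwo
import Cfsg.Agent.Lib.PrimeFix.OrthOmega

/-!
# Elements of prime order of an orthogonal group and elliptic subspaces
-/

set_option autoImplicit false

namespace CfsgLib.OrthInv

open Module QuadraticMap Matrix Cfsg CfsgLib.OrthSpinor
open CfsgLib.Classical.Quad (NDPolar)
open CfsgLib.RootCount (IsPlus)
open CfsgLib.LinFix (Inv)

variable {F : Type*} [Field F] [Fintype F] {ι : Type} [Fintype ι] [DecidableEq ι]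
  {Q : QuadraticForm F (ι → F)}

/-- Every element of `Ω` of order `r` modulo scalars fixes an elliptic `m`-space. -/
def EllFix (Q : QuadraticForm F (ι → F)) (r m : ℕ) : Prop :=
  ∀ x : GL ι F, x ∈ Cfsg.Geo.omegaGL ⇑Q →
    (∃ z : F, ((x ^ r : GL ι F) : Matrix ι ι F) = z • (1 : Matrix ι ι F)) →
    (∀ z : F, (x : Matrix ι ι F) ≠ z • (1 : Matrix ι ι F)) →
    ∃ W : Submodule F (ι → F), Ell Q m W ∧ W.map (Matrix.toLin' (x : Matrix ι ι F)) ≤ W

theorem ell_iff {W : Submodule F (ι → F)} {m : ℕ} :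
    Ell Q m W ↔ Module.finrank F ↥W = m ∧ Cfsg.Geo.IsNondegenerateOn (QuadraticMap.polar ⇑Q) W ∧
      ¬ Cfsg.Geo.IsPlusTypeOn (⇑Q) W := by
  refine and_congr_right fun _ => and_congr ⟨fun h w hw hw0 => ?_, nd_of_isNondegenerateOn⟩ Iff.rfl
  by_contra hc
  refine hw0 (h w hw fun y hy => ?_)
  by_contra hy'
  exact hc ⟨⟨y, hy, by rwa [polar_comm]⟩, ⟨y, hy, hy'⟩⟩

/-- Reduction to endomorphisms of odd prime order. -/
theorem ellFix_iff_odd (hQ : NDPolar Q) (hreg : CfsgLib.OrthCrit.Regular F ι) (hn : 2 ≤ Fintype.card ι)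
    {r m : ℕ} [Fact r.Prime] (hr : Odd r) :
    EllFix Q r m ↔ ∀ T : Module.End F (ι → F), (∀ v, Q (T v) = Q v) → T ^ r = 1 → T ≠ 1 →
      ∃ W, Ell Q m W ∧ Inv T W := by
  haveI : Nonempty ι := Fintype.card_pos_iff.1 (by omega)
  constructor
  · intro hall T hiso hT hT1
    obtain ⟨x, hx, hxr, hxT⟩ := CfsgLib.PrimeFix.Quad.exists_omega hQ hreg hn T hiso hr hT
    obtain ⟨W, hW, hinv⟩ := hall x hx ⟨1, by rw [hxr, one_smul]; rfl⟩ fun z hz => hT1 (by
      rw [hz, CfsgLib.PrimeFix.Quad.toLin_eq_smul rfl] at hxT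
      exact eq_one_of_scalar hr hiso hT hxT.symm (CfsgLib.OrthCrit.exists_Q_ne_zero hQ))
    rw [hxT] at hinv
    exact ⟨W, hW, fun v hv => hinv (Submodule.mem_map_of_mem hv)⟩
  · rintro hall x hx ⟨z, hz⟩ hns
    set S := Matrix.toLin' (x : Matrix ι ι F) with hS
    have hSr : S ^ r = z • 1 := by
      rw [hS, CfsgLib.PrimeFix.Quad.toLin_pow, CfsgLib.PrimeFix.Quad.toLin_eq_smul hz]
    have hzz := CfsgLib.PrimeFix.Quad.scalar_sq hQ (CfsgLib.PrimeFix.Quad.toLin_isometry hx) hSr
    obtain ⟨W, hW, hinv⟩ := hall (z • S)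
      (fun v => by
        rw [LinearMap.smul_apply, QuadraticMap.map_smul, smul_eq_mul, hzz, one_mul, hS,
          CfsgLib.PrimeFix.Quad.toLin_isometry hx])
      (by
        obtain ⟨k, hk⟩ := hr
        rw [smul_pow, hSr, smul_smul, ← pow_succ, hk, show 2 * k + 1 + 1 = 2 * (k + 1) by ring, pow_mul, pow_two,
          hzz, one_pow, one_smul])
      (fun h1 => hns z (Matrix.toLin'.injective (by
        rw [map_smul, Matrix.toLin'_one]
        calc S = (z * z) • S := by rw [hzz, one_smul]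
          _ = z • (z • S) := (smul_smul _ _ _).symm
          _ = z • 1 := by rw [h1]
          _ = _ := rfl)))
    refine ⟨W, hW, ?_⟩
    rintro _ ⟨v, hv, rfl⟩
    have := W.smul_mem z (hinv v hv)
    rwa [LinearMap.smul_apply, smul_smul, hzz, one_smul] at this

/-- An element of order `p` fixing no elliptic subspace. -/
theorem exists_unipotent_ell {p : ℕ} [hp : Fact p.Prime] [CharP F p] (hQ : NDPolar Q)
    (hreg : CfsgLib.OrthCrit.Regular F ι) {d m s : ℕ} (hdim : finrank F (ι → F) = 2 * d) (hs : 1 ≤ s)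
    (hsd : d ≤ 2 * s + 1) (hsing : ∃ U : Submodule F (ι → F), (∀ x ∈ U, Q x = 0) ∧ finrank F U = 2 * s)
    (hm : Even m) (hV : IsPlus Q ∨ m % 4 = 0) :
    ∃ x : GL ι F, x ∈ Cfsg.Geo.omegaGL ⇑Q ∧
      (∃ z : F, ((x ^ p : GL ι F) : Matrix ι ι F) = z • (1 : Matrix ι ι F)) ∧
      (∀ z : F, (x : Matrix ι ι F) ≠ z • (1 : Matrix ι ι F)) ∧
      ∀ W : Submodule F (ι → F), Ell Q m W → ¬ W.map (Matrix.toLin' (x : Matrix ι ι F)) ≤ W := by
  classical
  obtain ⟨U, hU, hUd⟩ := hsing
  let b : Module.Basis (Fin s ⊕ Fin s) F U := (Module.finBasisOfFinrankEq F U hUd).reindex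
    ((finCongr (two_mul s)).trans finSumFinEquiv.symm)
  let e : Fin s ⊕ Fin s → (ι → F) := fun k => (b k : ι → F)
  have he : ∀ k, e k ∈ U := fun k => (b k).2
  have hUU : ∀ u ∈ U, ∀ v ∈ U, polar Q u v = 0 := fun u hu v hv => by
    rw [polar, hU _ (U.add_mem hu hv), hU _ hu, hU _ hv]; ring
  have hli : LinearIndependent F e := b.linearIndependent.map' U.subtype (Submodule.ker_subtype U)
  let ψ : (ι → F) →ₗ[F] (Fin s ⊕ Fin s → F) := LinearMap.pi fun k => (polarBilin Q).flip (e k)
  have hψ : ∀ v k, ψ v k = polar Q v (e k) := fun v k => rfl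
  have hψsur : Function.Surjective ψ := by
    rw [← LinearMap.dualMap_injective_iff]
    refine (injective_iff_map_eq_zero _).2 fun c hc => (Pi.basisFun F _).ext fun k => ?_
    have hsum : ∑ j, c (Pi.single j 1) • e j = 0 := hQ _ fun v => by
      rw [polar_comm, ← polarBilin_apply_apply, map_sum]
      have h := LinearMap.congr_fun hc v
      rw [LinearMap.dualMap_apply, LinearMap.pi_apply_eq_sum_univ c (ψ v), LinearMap.zero_apply] at h
      rw [← h]
      refine Finset.sum_congr rfl fun j _ => ?_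
      rw [map_smul, polarBilin_apply_apply, smul_eq_mul, smul_eq_mul, hψ, mul_comm]
      congr 1
      exact congrArg c (funext fun l => by simp [Pi.single_apply, eq_comm])
    rw [Pi.basisFun_apply, LinearMap.zero_apply]
    exact Fintype.linearIndependent_iff.1 hli _ hsum k
  let N : Module.End F (ι → F) :=
    (Fintype.linearCombination F (Sum.elim (fun j => e (.inr j)) (fun j => -e (.inl j)))).comp ψ
  have hN : ∀ v, N v = (∑ j, polar Q v (e (.inl j)) • e (.inr j)) - ∑ j, polar Q v (e (.inr j)) • e (.inl j) := by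
    intro v
    simp only [N, LinearMap.comp_apply, Fintype.linearCombination_apply, Fintype.sum_sum_type, Sum.elim_inl,
      Sum.elim_inr, hψ, smul_neg, Finset.sum_neg_distrib]
    abel
  have hNU : ∀ v, N v ∈ U := fun v => by
    rw [hN]
    exact U.sub_mem (U.sum_mem fun j _ => U.smul_mem _ (he _)) (U.sum_mem fun j _ => U.smul_mem _ (he _))
  have hN0 : ∀ u ∈ U, N u = 0 := fun u hu => by
    rw [hN]
    simp [hUU u hu _ (he _)]
  have hNN : ∀ v, N (N v) = 0 := fun v => hN0 _ (hNU v)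
  have hpol : ∀ v, polar Q v (N v) = 0 := fun v => by
    rw [hN, polar_sub_right, ← polarBilin_apply_apply, map_sum, ← polarBilin_apply_apply, map_sum, sub_eq_zero]
    exact Finset.sum_congr rfl fun j _ => by
      rw [map_smul, map_smul, polarBilin_apply_apply, polarBilin_apply_apply, smul_eq_mul, smul_eq_mul, mul_comm]
  have hiso : ∀ v, Q ((1 + N) v) = Q v := fun v => by
    rw [LinearMap.add_apply, Module.End.one_apply, QuadraticMap.map_add (⇑Q), hpol, hU _ (hNU v), add_zero,
      add_zero]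
  have hrange : finrank F (LinearMap.range N) = 2 * s := by
    have hinj : Function.Injective
        (Fintype.linearCombination F (Sum.elim (fun j => e (.inr j)) (fun j => -e (.inl j)))) := by
      refine (injective_iff_map_eq_zero _).2 fun c hc => ?_
      have h := Fintype.linearIndependent_iff.1 hli (Sum.elim (fun j => -c (.inr j)) (fun j => c (.inl j))) (by
        rw [← hc]
        simp only [Fintype.linearCombination_apply, Fintype.sum_sum_type, Sum.elim_inl, Sum.elim_inr, smul_neg,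
          neg_smul]
        abel)
      funext k
      rcases k with k | k
      · exact h (.inr k)
      · exact neg_eq_zero.1 (h (.inl k))
    rw [show LinearMap.range N = (LinearMap.range ψ).map
        (Fintype.linearCombination F (Sum.elim (fun j => e (.inr j)) (fun j => -e (.inl j)))) from
      LinearMap.range_comp _ _, LinearMap.range_eq_top.2 hψsur, Submodule.map_top,
      LinearMap.finrank_range_of_inj hinj, Module.finrank_fintype_fun_eq_card, Fintype.card_sum, Fintype.card_fin]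
    ring
  set T : Module.End F (ι → F) := 1 + N with hTdef
  have hTN : T - 1 = N := add_sub_cancel_left _ _
  have hNN' : N * N = 0 := LinearMap.ext fun v => hNN v
  have hTp : T ^ p = 1 := by
    rcases eq_or_ne p 2 with rfl | hp2
    · haveI : CharP F 2 := inferInstance
      rw [pow_two, hTdef, add_mul, one_mul, mul_add, mul_one, hNN', add_zero, add_assoc,
        show N + N = 0 from LinearMap.ext fun v => by
          rw [LinearMap.add_apply, ← two_smul F, CharTwo.two_eq_zero, zero_smul]; rfl, add_zero]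
    · exact pow_char_eq_one hp2 fun v => by rw [hTN, hNN]
  have hn2 : 2 ≤ Fintype.card ι := by
    have h := Submodule.finrank_le U
    rw [hUd, Module.finrank_fintype_fun_eq_card] at h
    omega
  haveI : Nonempty ι := Fintype.card_pos_iff.1 (by omega)
  obtain ⟨x, hx, hxp, hxT⟩ : ∃ x : GL ι F, x ∈ Cfsg.Geo.omegaGL ⇑Q ∧ x ^ p = 1 ∧
      Matrix.toLin' (x : Matrix ι ι F) = T := by
    rcases eq_or_ne p 2 with rfl | hp2
    · obtain ⟨g, hg, hgp⟩ := exists_isometry (Q := Q) hiso hp.out.pos hTp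
      have hgT : Matrix.toLin' ((g : GL ι F) : Matrix ι ι F) = T := LinearMap.ext fun v => by rw [toLin_apply, hg]
      refine ⟨g, ⟨g, ?_, rfl⟩, by rw [← SubgroupClass.coe_pow, hgp]; rfl, hgT⟩
      refine (CfsgLib.OrthCrit.mem_Omega_iff_char_two hQ hreg (CfsgLib.OrthCrit.exists_Q_ne_zero hQ) g).2 ?_
      have hr : LinearMap.range (CfsgLib.Orth.subOne (CfsgLib.OrthCrit.toOrth Q g)) = LinearMap.range N := by
        refine congrArg LinearMap.range (LinearMap.ext fun v => ?_)
        rw [CfsgLib.Orth.subOne_apply, CfsgLib.OrthCrit.toOrth_apply, hg, ← hTN]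
        rfl
      show (finrank F (LinearMap.range (CfsgLib.Orth.subOne (CfsgLib.OrthCrit.toOrth Q g))) : ZMod 2) = 0
      rw [hr, hrange, ZMod.natCast_eq_zero_iff_even]
      exact even_two_mul s
    · exact CfsgLib.PrimeFix.Quad.exists_omega hQ hreg hn2 T hiso (hp.out.odd_of_ne_two hp2) hTp
  refine ⟨x, hx, ⟨1, by rw [hxp, one_smul]; rfl⟩, fun z hz => ?_, fun W hW hinv => ?_⟩
  · rw [hz, CfsgLib.PrimeFix.Quad.toLin_eq_smul rfl] at hxT
    have h0 : LinearMap.range N ≤ ⊥ := by
      rintro _ ⟨v, rfl⟩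
      have h1 := LinearMap.congr_fun hxT v
      have h3 : N v = (z - 1) • v := by
        rw [← hTN, LinearMap.sub_apply, Module.End.one_apply, ← h1, LinearMap.smul_apply, Module.End.one_apply,
          sub_smul, one_smul]
      have h4 := hNN v
      rw [h3, map_smul, h3, smul_smul] at h4
      rcases smul_eq_zero.1 h4 with h | h
      · rw [Submodule.mem_bot, h3, mul_self_eq_zero.1 h, zero_smul]
      · rw [Submodule.mem_bot, h3, h, smul_zero]
    rw [le_bot_iff] at h0
    rw [h0, finrank_bot] at hrange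
    omega
  obtain ⟨hWm, hWn, hWp⟩ := hW
  have hWinv : Inv T W := fun v hv => by rw [← hxT]; exact hinv (Submodule.mem_map_of_mem hv)
  obtain ⟨W', -, hW'i, hW'n, hdis, hsum, ho⟩ :=
    exists_compl_in hiso hWinv hWn (CfsgLib.LinFix.inv_top T) (nd_top hQ) le_top
  rw [finrank_top, hdim, hWm] at hsum
  have hsup : W ⊔ W' = ⊤ := Submodule.eq_top_of_finrank_eq (by
    rw [CfsgLib.LinFix.finrank_sup_of_disjoint hdis, hWm, hdim, hsum])
  have hNX : ∀ X : Submodule F (ι → F), Inv T X → X.map N ≤ X := by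
    rintro X hX _ ⟨v, hv, rfl⟩
    rw [← hTN]; exact sub_one_mem hX hv
  have hhalf : ∀ X : Submodule F (ι → F), Inv T X → Nd Q X → 2 * finrank F (X.map N) ≤ finrank F X := by
    intro X hX hXn
    have h := CfsgLib.PrimeFix.two_mul_finrank_le (B := polarBilin (Q.comp X.subtype)) (ndPolar_comp hXn)
      (U := (X.map N).comap X.subtype)
      (CfsgLib.PrimeFix.Quad.TotSing.isotropic (Q := Q.comp X.subtype) fun y hy => by
        obtain ⟨v, -, hv⟩ := hy
        show Q (y : ι → F) = 0
        rw [show (y : ι → F) = N v from hv.symm]; exact hU _ (hNU v))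
    rwa [(Submodule.comapSubtypeEquivOfLe (hNX X hX)).finrank_eq] at h
  have hadd : finrank F (W.map N) + finrank F (W'.map N) = 2 * s := by
    rw [← hrange, LinearMap.range_eq_map, ← hsup, Submodule.map_sup,
      CfsgLib.LinFix.finrank_sup_of_disjoint (hdis.mono (hNX W hWinv) (hNX W' hW'i))]
  have hne : 2 * finrank F (W.map N) ≠ finrank F W := fun h => hWp ⟨W.map N, hNX W hWinv, by
    rintro _ ⟨v, -, rfl⟩; exact hU _ (hNU v), h⟩
  have h1 := hhalf W hWinv hWn
  have h3 := hhalf W' hW'i hW'n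
  obtain ⟨μ, rfl⟩ := hm
  have hW'p : PlusOn Q W' := ⟨W'.map N, hNX W' hW'i, by rintro _ ⟨v, -, rfl⟩; exact hU _ (hNU v), by omega⟩
  have hnplus : ¬ IsPlus Q := fun hp => by
    rw [← plusOn_top, ← hsup, plusOn_sup hWn hW'n ho ⟨μ, hWm⟩ ⟨d - μ, by omega⟩] at hp
    exact hWp (hp.2 hW'p)
  -- the rank on the complement is even
  have heven : Even (finrank F (W'.map N)) := by
    let bb : W' →ₗ[F] W' →ₗ[F] F :=
      (polarBilin (Q.comp W'.subtype)).comp (N.restrict (fun v hv => hNX W' hW'i ⟨v, hv, rfl⟩))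
    have hbb : ∀ w, bb w w = 0 := fun w => by
      show polar (Q.comp W'.subtype) _ w = 0
      simpa [polar, add_comm] using (polar_comm (⇑Q) (N (w : ι → F)) (w : ι → F)).trans (hpol w)
    have h := CfsgLib.UnipotentClassical.even_finrank_sub_ker bb hbb
    have hk : LinearMap.ker bb = LinearMap.ker (N.domRestrict W') := by
      ext w
      refine ⟨fun hw => ?_, fun hw => ?_⟩
      · exact congrArg Subtype.val (ndPolar_comp hW'n _ fun y => LinearMap.congr_fun hw y)
      · refine LinearMap.ext fun y => ?_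
        have h0 : N.restrict (fun v hv => hNX W' hW'i ⟨v, hv, rfl⟩) w = 0 := Subtype.ext hw
        show polarBilin (Q.comp W'.subtype) _ y = 0
        rw [h0, map_zero, LinearMap.zero_apply]
    have h4 := LinearMap.finrank_range_add_finrank_ker (N.domRestrict W')
    rw [LinearMap.range_domRestrict] at h4
    rw [hk] at h
    rwa [show finrank F (W'.map N) = finrank F W' - finrank F (LinearMap.ker (N.domRestrict W')) by omega]
  have hm4 := hV.resolve_left hnplus
  obtain ⟨a, ha⟩ := heven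
  omega

/-- The case `r = 2` in odd characteristic, up to the elements squaring to minus one. -/
theorem ellFix_two (h2 : (2 : F) ≠ 0) (hQ : NDPolar Q) {d m : ℕ} (hd : 4 ≤ d)
    (hdim : finrank F (ι → F) = 2 * d) (hm : Even m) (hm2 : 2 ≤ m) (hmd : m < 2 * d)
    (hV : m < d ∨ ¬ IsPlus Q) :
    EllFix Q 2 m ↔ ((¬ ∃ g ∈ Omega F ⇑Q, ∀ v, act Q g (act Q g v) = -v) ∨
      (Fintype.card F % 4 = 3 ∧ m % 4 = 2)) := by
  classical
  haveI : Nonempty ι := Fintype.card_pos_iff.1 (by
    rw [Module.finrank_fintype_fun_eq_card] at hdim; omega)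
  constructor
  · intro hall
    by_contra hc
    rw [not_or, not_not] at hc
    obtain ⟨⟨g, hg, hgg⟩, hne⟩ := hc
    obtain ⟨W, hW, hinv⟩ := hall (g : GL ι F) ⟨g, hg, rfl⟩ ⟨-1, Matrix.ext_iff_mulVec.mpr fun v => by
        rw [pow_two, Units.val_mul, ← Matrix.mulVec_mulVec, Matrix.smul_mulVec, Matrix.one_mulVec, neg_one_smul]
        exact hgg v⟩
      (fun z hz => by
        obtain ⟨v, hv⟩ := CfsgLib.OrthCrit.exists_Q_ne_zero hQ
        have hzv : ∀ w, act Q g w = z • w := fun w => by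
          simp only [act, hz, Matrix.smul_mulVec, Matrix.one_mulVec]
        have h1 := hgg v
        rw [hzv, hzv, smul_smul] at h1
        have h3 := Q_act Q g v
        rw [hzv, QuadraticMap.map_smul, smul_eq_mul] at h3
        rw [mul_right_cancel₀ hv (h3.trans (one_mul _).symm), one_smul, eq_neg_iff_add_eq_zero, ← two_smul F,
          smul_eq_zero] at h1
        exact hv (by rw [h1.resolve_left h2, QuadraticMap.map_zero]))
    have hWinv : Inv (Matrix.toLin' ((g : GL ι F) : Matrix ι ι F)) W :=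
      fun v hv => hinv (Submodule.mem_map_of_mem hv)
    by_cases hsq : IsSquare (-1 : F)
    · obtain ⟨s, hs⟩ := hsq
      exact hW.2.2 (plusOn_of_sqrt h2 (fun v => by rw [toLin_apply, Q_act])
        (fun v => by rw [toLin_apply, toLin_apply, hgg]) hs.symm hWinv hW.2.1)
    · obtain ⟨μ, rfl⟩ := hm
      have hq4 : Fintype.card F % 4 = 3 := by
        by_contra h; exact hsq (FiniteField.isSquare_neg_one_iff.2 h)
      have hty := CfsgLib.PrimeFix.Quad.complex_sub_type h2 hsq g hgg μ W hW.2.1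
        (fun v hv => by rw [← toLin_apply]; exact hWinv v hv) (by rw [hW.1, two_mul])
      rw [← plusOn_iff] at hty
      have : ¬ Even μ := fun h => hW.2.2 (hty.2 h)
      rw [Nat.even_iff] at this
      exact hne ⟨hq4, by omega⟩
  · rintro hcase x ⟨g, hg, rfl⟩ ⟨z, hz⟩ -
    rcases CfsgLib.PrimeFix.Quad.act_act_sign hQ hz with hgg | hgg
    · obtain ⟨W, hW, hinv⟩ := ell_fixes_involution h2 hQ hg hgg hd hdim hm hm2 hmd hV
      exact ⟨W, hW, hinv.map_le⟩
    · rcases hcase with hno | ⟨hq4, hm4⟩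
      · exact absurd ⟨g, hg, hgg⟩ hno
      have hsq : ¬ IsSquare (-1 : F) := fun h => FiniteField.isSquare_neg_one_iff.1 h hq4
      obtain ⟨μ, rfl⟩ := hm
      obtain ⟨W, hWn, hWi, hWd⟩ := CfsgLib.PrimeFix.Quad.exists_complex_sub h2 hQ hsq g hgg (d - μ) μ
        (by rw [← Module.finrank_fintype_fun_eq_card (R := F), hdim]; omega)
      have hty := CfsgLib.PrimeFix.Quad.complex_sub_type h2 hsq g hgg μ W hWn hWi hWd
      rw [← plusOn_iff] at hty
      refine ⟨W, ⟨by omega, hWn, fun h => ?_⟩, ?_⟩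
      · have h' := hty.1 h
        rw [Nat.even_iff] at h'
        omega
      · rintro _ ⟨v, hv, rfl⟩
        exact (toLin_apply g v).symm ▸ hWi v hv

/-- The case `r = p = 2` for minus type. -/
theorem ellFix_two_char_two [CharP F 2] (hQ : NDPolar Q) {d m : ℕ} (hd : 4 ≤ d)
    (hdim : finrank F (ι → F) = 2 * d) (hm : Even m) (hm2 : 2 ≤ m) (hmd : m < 2 * d) (hV : ¬ IsPlus Q)
    (h : Even d ∨ m % 4 = 2) : EllFix Q 2 m := by
  haveI : Nonempty ι := Fintype.card_pos_iff.1 (by
    rw [Module.finrank_fintype_fun_eq_card] at hdim; omega)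
  rintro x ⟨g, hg, rfl⟩ ⟨z, hz⟩ -
  have hgg : ∀ v, act Q g (act Q g v) = v := by
    rcases CfsgLib.PrimeFix.Quad.act_act_sign hQ hz with h' | h'
    · exact h'
    · intro v
      rw [h', ← neg_one_smul F v, CharTwo.neg_eq, one_smul]
  obtain ⟨sm, sp, b, hsel⟩ := exists_sel_char_two (T := Matrix.toLin' ((g : GL ι F) : Matrix ι ι F))
    CharTwo.two_eq_zero (fun v => by rw [toLin_apply, Q_act]) (fun v => by rw [toLin_apply, toLin_apply, hgg])
    d ⊤ (CfsgLib.LinFix.inv_top _) (nd_top hQ) (by rw [finrank_top, hdim])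
  obtain ⟨W, hW, hinv⟩ := hsel.exists_ell hV hdim hm hm2 hmd (Or.inr h.symm)
  exact ⟨W, hW, hinv.map_le⟩

end CfsgLib.OrthInv
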