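import Mathlib
import Cfsg.Agent.Lib.LinFix.OrthParaMain
import Cfsg.Agent.Lib.Classical.Quad.Std

/-!
# Elements of `Ω` squaring to minus one in even-dimensional orthogonal groups of odd characteristic
-/

set_option autoImplicit false

namespace CfsgLib.OrthInv

open Module QuadraticMap Matrix Cfsg CfsgLib.OrthSpinor CfsgLib.Classical.Quad

variable {F : Type*} [Field F] [Fintype F]

section transfer

variable {ι : Type} [Fintype ι] [DecidableEq ι] {Q : QuadraticForm F (ι → F)}
  {P : Type*} [AddCommGroup P] [Module F P] (E : P ≃ₗ[F] (ι → F))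

omit [Fintype F] in
/-- An isometry of a model of finite order. -/
theorem exists_act (T : Module.End F P) (hiso : ∀ v, Q (E (T v)) = Q (E v)) {n : ℕ} (hn : 0 < n)
    (hT : T ^ n = 1) : ∃ g : ↥(isometryGroup F ⇑Q), (∀ v, act Q g (E v) = E (T v)) ∧ g ^ n = 1 := by
  have hpow : ∀ j : ℕ, (E.conj T) ^ j = E.conj (T ^ j) := fun j => by
    rw [show E.conj T = E.conjAlgEquiv F T from rfl, ← map_pow]; rfl
  obtain ⟨g, hg, hgn⟩ := exists_isometry (Q := Q) (T := E.conj T) (fun v => by
    obtain ⟨u, rfl⟩ := E.surjective v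
    rw [LinearEquiv.conj_apply]; simp [hiso]) hn (by rw [hpow, hT]; exact LinearEquiv.conj_id E)
  exact ⟨g, fun v => by rw [hg, LinearEquiv.conj_apply]; simp, hgn⟩

end transfer

/-- A pair of unipotent maps generating a map squaring to minus one. -/
theorem exists_sq_pairs {p : ℕ} [Fact p.Prime] [CharP F p] (h2 : (2 : F) ≠ 0) (hp2 : p ≠ 2) {ι : Type} [Fintype ι]
    [DecidableEq ι] {Q : QuadraticForm F (ι → F)} (hQ : NDPolar Q) {s : ℕ}
    (E : ((Fin s ⊕ Fin s → F) × (Fin s ⊕ Fin s → F)) ≃ₗ[F] (ι → F)) (hE : ∀ v, Q (E v) = ∑ k, v.1 k * v.2 k) :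
    ∃ g ∈ Omega F ⇑Q, ∀ v, act Q g (act Q g v) = -v := by
  let N₁ : Module.End F ((Fin s ⊕ Fin s → F) × (Fin s ⊕ Fin s → F)) :=
    { toFun := fun v => (Sum.elim (fun j => v.1 (.inr j)) 0, Sum.elim 0 (fun j => -v.2 (.inl j)))
      map_add' := fun u v => by
        refine Prod.ext (funext fun x => ?_) (funext fun x => ?_) <;> rcases x with x | x <;> simp [add_comm]
      map_smul' := fun c v => by
        refine Prod.ext (funext fun x => ?_) (funext fun x => ?_) <;> rcases x with x | x <;> simp }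
  let N₂ : Module.End F ((Fin s ⊕ Fin s → F) × (Fin s ⊕ Fin s → F)) :=
    { toFun := fun v => (Sum.elim 0 (fun j => -v.1 (.inl j)), Sum.elim (fun j => v.2 (.inr j)) 0)
      map_add' := fun u v => by
        refine Prod.ext (funext fun x => ?_) (funext fun x => ?_) <;> rcases x with x | x <;> simp [add_comm]
      map_smul' := fun c v => by
        refine Prod.ext (funext fun x => ?_) (funext fun x => ?_) <;> rcases x with x | x <;> simp }
  have key : ∀ N : Module.End F ((Fin s ⊕ Fin s → F) × (Fin s ⊕ Fin s → F)), (∀ v, N (N v) = 0) →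
      (∀ v, Q (E ((1 + N) v)) = Q (E v)) → ∃ g ∈ Omega F ⇑Q, ∀ v, act Q g (E v) = E ((1 + N) v) := by
    intro N hN hiso
    obtain ⟨g, hg, hgp⟩ := exists_act E (1 + N) hiso (Fact.out : p.Prime).pos
      (pow_char_eq_one hp2 fun v => by simp [add_sub_cancel_left, hN])
    exact ⟨g, CfsgLib.LinFix.OrthCoset.mem_of_odd_pow h2 (CfsgLib.Orth.ndPolar_iff.1 hQ)
      ((Fact.out : p.Prime).odd_of_ne_two hp2) hgp, hg⟩
  obtain ⟨g₁, hg₁, hg₁'⟩ := key N₁ (fun v => by
      refine Prod.ext (funext fun x => ?_) (funext fun x => ?_) <;> rcases x with x | x <;> simp [N₁])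
    (fun v => by
      rw [hE, hE, Fintype.sum_sum_type, Fintype.sum_sum_type]
      simp only [N₁, LinearMap.add_apply, Module.End.one_apply, LinearMap.coe_mk, AddHom.coe_mk, Prod.fst_add,
        Prod.snd_add, Pi.add_apply, Sum.elim_inl, Sum.elim_inr, Pi.zero_apply, add_zero, add_mul, mul_add,
        mul_neg, Finset.sum_add_distrib, Finset.sum_neg_distrib]
      ring)
  obtain ⟨g₂, hg₂, hg₂'⟩ := key N₂ (fun v => by
      refine Prod.ext (funext fun x => ?_) (funext fun x => ?_) <;> rcases x with x | x <;> simp [N₂])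
    (fun v => by
      rw [hE, hE, Fintype.sum_sum_type, Fintype.sum_sum_type]
      simp only [N₂, LinearMap.add_apply, Module.End.one_apply, LinearMap.coe_mk, AddHom.coe_mk, Prod.fst_add,
        Prod.snd_add, Pi.add_apply, Sum.elim_inl, Sum.elim_inr, Pi.zero_apply, add_zero, add_mul, mul_add,
        neg_mul, Finset.sum_add_distrib, Finset.sum_neg_distrib]
      ring)
  refine ⟨g₁ * g₂ * g₁, mul_mem (mul_mem hg₁ hg₂) hg₁, fun v => ?_⟩
  obtain ⟨v, rfl⟩ := E.surjective v
  simp only [act_mul, hg₁', hg₂', ← map_neg]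
  congr 1
  refine Prod.ext (funext fun x => ?_) (funext fun x => ?_) <;> rcases x with x | x <;> simp [N₁, N₂]

/-- When `q ≡ 1 (mod 8)` the plus-type group has an element of `Ω` squaring to minus one. -/
theorem exists_sq_scalar (h2 : (2 : F) ≠ 0) (h8 : Fintype.card F % 8 = 1) {ι : Type} [Fintype ι]
    [DecidableEq ι] {Q : QuadraticForm F (ι → F)} (hQ : NDPolar Q) {d : ℕ}
    (E : ((Fin d → F) × (Fin d → F)) ≃ₗ[F] (ι → F)) (hE : ∀ v, Q (E v) = ∑ k, v.1 k * v.2 k) :
    ∃ g ∈ Omega F ⇑Q, ∀ v, act Q g (act Q g v) = -v := by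
  classical
  obtain ⟨γ, hγ⟩ := IsCyclic.exists_ofOrder_eq_natCard (α := Fˣ)
  rw [Nat.card_units, Nat.card_eq_fintype_card] at hγ
  have hq := Fintype.one_lt_card (α := F)
  set η : F := ((γ ^ ((Fintype.card F - 1) / 8) : Fˣ) : F) with hη
  have h4 : η ^ 4 = -1 := by
    have hsq : η ^ 4 * η ^ 4 = 1 := by
      rw [hη, ← Units.val_pow_eq_pow_val, ← Units.val_mul, ← pow_mul, ← pow_add,
        show (Fintype.card F - 1) / 8 * 4 + (Fintype.card F - 1) / 8 * 4 = orderOf γ by omega,
        pow_orderOf_eq_one, Units.val_one]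
    refine (mul_self_eq_one_iff.1 hsq).resolve_left fun h1 => ?_
    rw [hη, ← Units.val_pow_eq_pow_val, ← pow_mul, Units.val_eq_one] at h1
    have := Nat.le_of_dvd (by omega) (orderOf_dvd_of_pow_eq_one h1)
    omega
  have hη0 : η ≠ 0 := fun h => by rw [h] at h4; simp at h4
  let T : Module.End F ((Fin d → F) × (Fin d → F)) := (η • LinearMap.id).prodMap (η⁻¹ • LinearMap.id)
  have hT : ∀ v, T v = (η • v.1, η⁻¹ • v.2) := fun v => rfl
  have hTpow : ∀ j v, (T ^ j) v = (η ^ j • v.1, η⁻¹ ^ j • v.2) := fun j => by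
    induction j with
    | zero => intro v; simp
    | succ j ih => intro v; rw [pow_succ', Module.End.mul_apply, ih, hT, smul_smul, smul_smul, ← pow_succ', ← pow_succ']
  obtain ⟨g, hg, -⟩ := exists_act (Q := Q) E T (fun v => by
    rw [hE, hE, hT]
    exact Finset.sum_congr rfl fun k _ => by simp; field_simp) (n := 8) (by norm_num)
    (LinearMap.ext fun v => by
      rw [hTpow, Module.End.one_apply, show 8 = 4 * 2 by rfl, pow_mul, pow_mul, inv_pow, h4]; simp)
  refine ⟨g * g, sq_mem_Omega h2 (CfsgLib.Orth.ndPolar_iff.1 hQ) g, fun v => ?_⟩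
  obtain ⟨v, rfl⟩ := E.surjective v
  simp only [act_mul, hg, ← map_neg]
  congr 1
  rw [← Module.End.mul_apply, ← Module.End.mul_apply, ← Module.End.mul_apply,
    show T * T * T * T = T ^ 4 by simp [pow_succ, mul_assoc], hTpow, inv_pow, h4]
  simp
  rfl

/-- When `q ≡ 7 (mod 8)` a sum of pairs of squares and hyperbolic pairs has an element of `Ω` squaring to minus one. -/
theorem exists_sq_rotation (h2 : (2 : F) ≠ 0) (h8 : Fintype.card F % 8 = 7) {ι : Type} [Fintype ι]
    [DecidableEq ι] {Q : QuadraticForm F (ι → F)} (hQ : NDPolar Q) {s : ℕ}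
    (E : (((Fin s ⊕ Fin s → F) × (Fin s ⊕ Fin s → F)) × (Fin 2 → F)) ≃ₗ[F] (ι → F))
    (hE : ∀ v, Q (E v) = (∑ k, v.1.1 k * v.1.2 k) + (v.2 0 ^ 2 + v.2 1 ^ 2)) :
    ∃ g ∈ Omega F ⇑Q, ∀ v, act Q g (act Q g v) = -v := by
  classical
  obtain ⟨t, ht⟩ : IsSquare (2 : F) := (FiniteField.isSquare_two_iff).2 (by omega)
  have ht0 : t ≠ 0 := fun h => h2 (by rw [ht, h, mul_zero])
  set σ : F := t⁻¹ with hσdef
  have hσ : σ * σ * 2 = 1 := by rw [hσdef, ht]; field_simp
  let R : (F × F) → (F × F) := fun u => (σ * (u.1 + u.2), σ * (u.2 - u.1))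
  let T : Module.End F (((Fin s ⊕ Fin s → F) × (Fin s ⊕ Fin s → F)) × (Fin 2 → F)) :=
    { toFun := fun v => ((Sum.elim (fun j => (R (v.1.1 (.inl j), v.1.1 (.inr j))).1) (fun j => (R (v.1.1 (.inl j), v.1.1 (.inr j))).2),
          Sum.elim (fun j => (R (v.1.2 (.inl j), v.1.2 (.inr j))).1) (fun j => (R (v.1.2 (.inl j), v.1.2 (.inr j))).2)),
          ![(R (v.2 0, v.2 1)).1, (R (v.2 0, v.2 1)).2])
      map_add' := fun u v => by
        refine Prod.ext (Prod.ext (funext fun x => ?_) (funext fun x => ?_)) (funext fun i => ?_)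
        · rcases x with x | x <;> simp [R] <;> ring
        · rcases x with x | x <;> simp [R] <;> ring
        · fin_cases i <;> simp [R] <;> ring
      map_smul' := fun c v => by
        refine Prod.ext (Prod.ext (funext fun x => ?_) (funext fun x => ?_)) (funext fun i => ?_)
        · rcases x with x | x <;> simp [R] <;> ring
        · rcases x with x | x <;> simp [R] <;> ring
        · fin_cases i <;> simp [R] <;> ring }
  have hR : ∀ a b : F, R (R (a, b)) = (b, -a) := fun a b => by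
    refine Prod.ext ?_ ?_ <;> simp only [R]
    · linear_combination b * hσ
    · linear_combination -a * hσ
  have h22 : ∀ v, T (T (T (T v))) = -v := fun v => by
    refine Prod.ext (Prod.ext (funext fun x => ?_) (funext fun x => ?_)) (funext fun i => ?_)
    · rcases x with x | x <;> simp [T, hR]
    · rcases x with x | x <;> simp [T, hR]
    · fin_cases i <;> simp [T, hR]
  obtain ⟨g, hg, -⟩ := exists_act (Q := Q) E T (fun v => by
    rw [hE, hE, Fintype.sum_sum_type, Fintype.sum_sum_type]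
    simp only [T, R, LinearMap.coe_mk, AddHom.coe_mk, Sum.elim_inl, Sum.elim_inr, Matrix.cons_val_zero,
      Matrix.cons_val_one, Matrix.cons_val_fin_one, ← Finset.sum_add_distrib]
    congr 1
    · exact Finset.sum_congr rfl fun j _ => by
        linear_combination (v.1.1 (.inl j) * v.1.2 (.inl j) + v.1.1 (.inr j) * v.1.2 (.inr j)) * hσ
    · linear_combination (v.2 0 ^ 2 + v.2 1 ^ 2) * hσ) (n := 8) (by norm_num)
    (LinearMap.ext fun v => by
      simp only [pow_succ, pow_zero, one_mul, Module.End.mul_apply, h22, neg_neg, Module.End.one_apply])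
  refine ⟨g * g, sq_mem_Omega h2 (CfsgLib.Orth.ndPolar_iff.1 hQ) g, fun v => ?_⟩
  obtain ⟨v, rfl⟩ := E.surjective v
  simp only [act_mul, hg, h22, map_neg]

/-- Norm-one vectors of the plus form. -/
theorem card_one_plus (d : ℕ) :
    Nat.card {v : Fin d ⊕ Fin d → F // Cfsg.quadFormPlus d F v = 1} =
      (Fintype.card F ^ d - 1) * Fintype.card F ^ (d - 1) := by
  rw [Nat.card_congr ((plusEquiv d F).toEquiv.subtypeEquiv
    (q := fun w => hypForm d (zeroKernel F) w = 1) fun v => by
      show _ ↔ hypForm d (zeroKernel F) (plusEquiv d F v) = 1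
      rw [plusEquiv_spec]), card_level_hypForm]
  have hemp : IsEmpty {w : Fin 0 → F // zeroKernel F w = 1} := ⟨fun w => zero_ne_one (α := F) (by
    rw [← w.2, Subsingleton.elim w.1 0, QuadraticMap.map_zero])⟩
  rw [@Nat.card_of_isEmpty _ hemp]
  simp [Nat.card_eq_fintype_card]

/-- Norm-one vectors of the minus form. -/
theorem card_one_minus {a b : F} (hab : IsAniso a b) (k : ℕ) :
    Nat.card {v : (Fin k ⊕ Fin k) ⊕ Fin 2 → F // Cfsg.quadFormMinus k F a b v = 1} =
      (Fintype.card F ^ k - 1) * Fintype.card F ^ (k - 1) * Fintype.card F ^ 2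
        + Fintype.card F ^ k * (Fintype.card F + 1) := by
  rw [Nat.card_congr ((minusEquiv k F).toEquiv.subtypeEquiv
    (q := fun w => hypForm k (binForm a b) w = 1) fun v => by
      show _ ↔ hypForm k (binForm a b) (minusEquiv k F v) = 1
      rw [minusEquiv_spec]), card_level_hypForm, card_level_binForm hab one_ne_zero]
  simp [Nat.card_eq_fintype_card]

/-- Elements of `Ω⁺` squaring to minus one. -/
theorem exists_sq_plus_iff {p : ℕ} [Fact p.Prime] [CharP F p] (h2 : (2 : F) ≠ 0) (hp2 : p ≠ 2)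
    (hodd : Odd (Fintype.card F)) (d : ℕ) (hd : 1 ≤ d) :
    (∃ g ∈ Omega F ⇑(CfsgLib.OrthCrit.plusForm d F), ∀ v,
      act (CfsgLib.OrthCrit.plusForm d F) g (act (CfsgLib.OrthCrit.plusForm d F) g v) = -v) ↔
      (Even d ∨ Fintype.card F % 8 = 1) := by
  set q := Fintype.card F with hq
  constructor
  · rintro ⟨g, hg, hsq⟩
    have h8 := eight_dvd_level h2 hg hsq
    rw [show Nat.card {v : Fin d ⊕ Fin d → F // CfsgLib.OrthCrit.plusForm d F v = 1} = _ from card_one_plus d, ← hq] at h8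
    by_contra hc
    rw [not_or] at hc
    obtain ⟨j, hj⟩ := Nat.not_even_iff_odd.1 hc.1
    have hcop : Nat.Coprime 8 (q ^ (d - 1)) :=
      Nat.Coprime.pow_left 3 (Nat.Coprime.pow_right _ (Nat.coprime_two_left.2 hodd))
    have h := Nat.Coprime.dvd_of_dvd_mul_right hcop h8
    have hq2 : (q * q) % 8 = 1 := by
      obtain ⟨k, hk⟩ := hodd
      have hk2 : k * (k + 1) % 2 = 0 := Nat.even_iff.1 (Nat.even_mul_succ_self k)
      have : q * q = 4 * (k * (k + 1)) + 1 := by rw [hk]; ring
      omega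
    have hmod : q ^ d % 8 = q % 8 := by
      rw [hj, pow_succ, pow_mul, pow_two, Nat.mul_mod, Nat.pow_mod, hq2, one_pow]
      simp
    have := Nat.one_le_pow d q Fintype.card_pos
    omega
  · intro h
    rcases h with ⟨s, rfl⟩ | h
    · let e : Fin (s + s) ≃ Fin s ⊕ Fin s := finSumFinEquiv.symm
      refine exists_sq_pairs h2 hp2 (CfsgLib.OrthCrit.ndPolar_plusForm _)
        (((LinearEquiv.funCongrLeft F F e).prodCongr (LinearEquiv.funCongrLeft F F e)).trans
          (LinearEquiv.sumArrowLequivProdArrow _ _ F F).symm) fun v => ?_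
      change Cfsg.quadFormPlus _ F _ = _
      simp only [Cfsg.quadFormPlus, LinearEquiv.trans_apply, LinearEquiv.prodCongr_apply,
        LinearEquiv.sumArrowLequivProdArrow_symm_apply_inl, LinearEquiv.sumArrowLequivProdArrow_symm_apply_inr,
        LinearEquiv.funCongrLeft_apply, LinearMap.funLeft_apply]
      exact Equiv.sum_comp e (fun k => v.1 k * v.2 k)
    · refine exists_sq_scalar h2 h (CfsgLib.OrthCrit.ndPolar_plusForm _)
        (LinearEquiv.sumArrowLequivProdArrow _ _ F F).symm fun v => ?_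
      rfl

/-- Elements of `Ω⁻` squaring to minus one. -/
theorem exists_sq_minus_iff (h2 : (2 : F) ≠ 0) (hodd : Odd (Fintype.card F)) (d : ℕ) (hd : 2 ≤ d) {a b : F}
    (hab : IsAniso a b) :
    (∃ g ∈ Omega F ⇑(CfsgLib.OrthCrit.minusForm (d - 1) F a b), ∀ v,
      act (CfsgLib.OrthCrit.minusForm (d - 1) F a b) g (act (CfsgLib.OrthCrit.minusForm (d - 1) F a b) g v) = -v) ↔
      (Odd d ∧ Fintype.card F % 8 = 7) := by
  classical
  set q := Fintype.card F with hq
  have hq2 : (q * q) % 8 = 1 := by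
    obtain ⟨k, hk⟩ := hodd
    have hk2 : k * (k + 1) % 2 = 0 := Nat.even_iff.1 (Nat.even_mul_succ_self k)
    have : q * q = 4 * (k * (k + 1)) + 1 := by rw [hk]; ring
    omega
  constructor
  · rintro ⟨g, hg, hsq⟩
    have h8 := eight_dvd_level h2 hg hsq
    rw [show Nat.card {v : (Fin (d - 1) ⊕ Fin (d - 1)) ⊕ Fin 2 → F //
      CfsgLib.OrthCrit.minusForm (d - 1) F a b v = 1} = _ from card_one_minus hab (d - 1), ← hq] at h8
    obtain ⟨j, rfl⟩ : ∃ j, d = j + 2 := ⟨d - 2, by omega⟩
    rw [show j + 2 - 1 = j + 1 by omega, Nat.add_sub_cancel] at h8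
    have hpos := Nat.one_le_pow (j + 1) q Fintype.card_pos
    obtain ⟨e, he⟩ : ∃ e, q ^ (j + 1) = e + 1 := ⟨q ^ (j + 1) - 1, by omega⟩
    have hcount : (q ^ (j + 1) - 1) * q ^ j * q ^ 2 + q ^ (j + 1) * (q + 1) = q ^ (j + 1) * (q ^ (j + 2) + 1) := by
      rw [show q ^ (j + 1) - 1 = e by omega, pow_succ q (j + 1), he, pow_two]
      rw [pow_succ] at he
      linear_combination (e * q) * he
    rw [hcount] at h8
    have hcop : Nat.Coprime 8 (q ^ (j + 1)) :=
      Nat.Coprime.pow_left 3 (Nat.Coprime.pow_right _ (Nat.coprime_two_left.2 hodd))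
    have h := Nat.Coprime.dvd_of_dvd_mul_left hcop h8
    rcases Nat.even_or_odd' (j + 2) with ⟨i, hi | hi⟩
    · have : q ^ (j + 2) % 8 = 1 := by rw [hi, pow_mul, pow_two, Nat.pow_mod, hq2, one_pow]; norm_num
      omega
    · have : q ^ (j + 2) % 8 = q % 8 := by
        rw [hi, pow_succ, pow_mul, pow_two, Nat.mul_mod, Nat.pow_mod, hq2, one_pow]
        simp
      exact ⟨⟨i, hi⟩, by omega⟩
  · rintro ⟨⟨s, hs⟩, h⟩
    subst hs
    have hns : ¬ IsSquare (-1 : F) := fun hsq => FiniteField.isSquare_neg_one_iff.1 hsq (by omega)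
    have h01 : CfsgLib.RootCount.Aniso (0 : F) 1 := by
      intro z₁ z₂ hz
      by_cases h0 : z₂ = 0
      · subst h0
        exact ⟨pow_eq_zero_iff two_ne_zero |>.1 (by linear_combination hz), rfl⟩
      · exact absurd ⟨z₁ / z₂, by field_simp; linear_combination -hz⟩ hns
    have hnd := CfsgLib.OrthCrit.ndPolar_minusForm (2 * s + 1 - 1) a b hab
      (CfsgLib.OrthCrit.a_ne_zero_of_anisotropic hab)
    rcases CfsgLib.RootCount.classify_even (CfsgLib.OrthCrit.minusForm (2 * s + 1 - 1) F a b) hnd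
      (m := 2 * s + 1) (by simp; omega) h01 with ⟨hp, -⟩ | ⟨-, k, hk, G, hG⟩
    · exact absurd hp (CfsgLib.RootCount.not_isPlus_minus hab _)
    · let e : Fin k ≃ Fin s ⊕ Fin s := (finCongr (by omega)).trans finSumFinEquiv.symm
      let f : (((Fin s ⊕ Fin s → F) × (Fin s ⊕ Fin s → F)) × (Fin 2 → F)) ≃ₗ[F] ((Fin k ⊕ Fin k) ⊕ Fin 2 → F) :=
        ((((LinearEquiv.funCongrLeft F F e).prodCongr (LinearEquiv.funCongrLeft F F e)).trans
          (LinearEquiv.sumArrowLequivProdArrow _ _ F F).symm).prodCongr (LinearEquiv.refl F (Fin 2 → F))).trans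
          (LinearEquiv.sumArrowLequivProdArrow _ _ F F).symm
      refine exists_sq_rotation h2 h hnd (f.trans G) fun v => ?_
      rw [LinearEquiv.trans_apply, hG]
      change Cfsg.quadFormMinus k F 0 1 (f v) = _
      simp only [Cfsg.quadFormMinus, f, LinearEquiv.trans_apply, LinearEquiv.prodCongr_apply, LinearEquiv.refl_apply,
        LinearEquiv.sumArrowLequivProdArrow_symm_apply_inl, LinearEquiv.sumArrowLequivProdArrow_symm_apply_inr,
        LinearEquiv.funCongrLeft_apply, LinearMap.funLeft_apply, zero_mul, add_zero, one_mul]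
      rw [Equiv.sum_comp e (fun k => v.1.1 k * v.1.2 k)]

end CfsgLib.OrthInv
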