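import Mathlib
import Cfsg.Agent.Lib.LinFix.OrthEllMain
import Cfsg.Agent.Lib.LinFix.OrthParaSquare

/-!
# Glue for the elliptic criteria
-/

set_option autoImplicit false

namespace CfsgLib.OrthInv

open Module QuadraticMap Matrix Cfsg
open CfsgLib.Classical.Quad (NDPolar)
open CfsgLib.RootCount (IsPlus)

variable {F : Type*} [Field F] [Fintype F] {ι : Type} [Fintype ι] [DecidableEq ι]
  {Q : QuadraticForm F (ι → F)}

theorem ellFix_def (r m : ℕ) :
    (∀ x : GL ι F, x ∈ Cfsg.Geo.omegaGL ⇑Q →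
      (∃ z : F, ((x ^ r : GL ι F) : Matrix ι ι F) = z • (1 : Matrix ι ι F)) →
      (∀ z : F, (x : Matrix ι ι F) ≠ z • (1 : Matrix ι ι F)) →
      ∃ W : Submodule F (ι → F), (Module.finrank F ↥W = m ∧
        Cfsg.Geo.IsNondegenerateOn (QuadraticMap.polar ⇑Q) W ∧ ¬ Cfsg.Geo.IsPlusTypeOn (⇑Q) W) ∧
        W.map (Matrix.toLin' (x : Matrix ι ι F)) ≤ W) ↔ EllFix Q r m := by
  simp only [EllFix, ell_iff]

theorem card_ell (m : ℕ) :
    Nat.card {W : Submodule F (ι → F) // Module.finrank F ↥W = m ∧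
        Cfsg.Geo.IsNondegenerateOn (QuadraticMap.polar ⇑Q) W ∧ ¬ Cfsg.Geo.IsPlusTypeOn (⇑Q) W} =
      Nat.card {W : Submodule F (ι → F) // Ell Q m W} :=
  Nat.card_congr (Equiv.subtypeEquivRight fun _ => ell_iff.symm)

/-- No element of `Ω` of order `p` modulo scalars fixes an elliptic subspace, given enough singular vectors. -/
theorem not_ellFix_char {p : ℕ} [Fact p.Prime] [CharP F p] (hQ : NDPolar Q)
    (hreg : CfsgLib.OrthCrit.Regular F ι) {d m s : ℕ} (hdim : finrank F (ι → F) = 2 * d) (hs : 1 ≤ s)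
    (hsd : d ≤ 2 * s + 1) (hsd' : 4 * s + CfsgLib.PrimeFix.Quad.defect Q ≤ 2 * d)
    (hm : Even m) (hV : IsPlus Q ∨ m % 4 = 0) : ¬ EllFix Q p m := by
  obtain ⟨U, hU, hUd⟩ := (CfsgLib.PrimeFix.Quad.hasSing_iff hQ (2 * s)).2 (by omega)
  obtain ⟨x, hx, hz, hns, hW⟩ := exists_unipotent_ell (p := p) hQ hreg hdim hs hsd ⟨U, hU, hUd⟩ hm hV
  intro hall
  obtain ⟨W, hWe, hinv⟩ := hall x hx hz hns
  exact hW W hWe hinv

theorem sum_div_parity {i a b k : ℕ} (hi : 0 < i) (hka : k ≤ a) (hkb : k ≤ b) (ha : i ∣ a - k) (hb : i ∣ b - k) :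
    Even ((a + b - 2 * k) / i) ↔ (Even ((a - k) / i) ↔ Even ((b - k) / i)) := by
  obtain ⟨x, hx⟩ := ha
  obtain ⟨y, hy⟩ := hb
  rw [show a + b - 2 * k = i * (x + y) by rw [mul_add]; omega, hx, hy, Nat.mul_div_cancel_left _ hi,
    Nat.mul_div_cancel_left _ hi, Nat.mul_div_cancel_left _ hi, Nat.even_add]

end CfsgLib.OrthInv
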