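import Mathlib
import Cfsg.Agent.Lib.LinFix.OrthFieldMain

/-!
Witness elements inside the standard orthogonal spaces of plus and minus type.
-/

set_option autoImplicit false

namespace CfsgLib.LinFix.OrthFieldCases

open Module CfsgLib.Classical OrthFieldMain

variable {F : Type*} [Field F]

/-- The minus space of dimension `2 m + 2` inside a plus space. -/
theorem exists_embed_plus (m n : ℕ) (a b : F) :
    ∃ j : ((Fin m ⊕ Fin m) ⊕ Fin 2 → F) →ₗ[F] (Fin (m + (2 + n)) ⊕ Fin (m + (2 + n)) → F),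
      ∀ v, plusQ (m + (2 + n)) F (j v) = minusQ m F a b v := by
  refine ⟨{ toFun := fun v => Sum.elim
              (Fin.addCases (fun k => v (.inl (.inl k))) (Fin.addCases ![v (.inr 0), v (.inr 1)] fun _ => 0))
              (Fin.addCases (fun k => v (.inl (.inr k)))
                (Fin.addCases ![v (.inr 0) + a * v (.inr 1), b * v (.inr 1)] fun _ => 0))
            map_add' := fun u v => funext fun x => ?_
            map_smul' := fun c v => funext fun x => ?_ }, fun v => ?_⟩
  · rcases x with x | x <;> induction x using Fin.addCases with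
      | left k => simp only [Sum.elim_inl, Sum.elim_inr, Pi.add_apply, Fin.addCases_left]
      | right k =>
        induction k using Fin.addCases with
        | left k =>
          simp only [Sum.elim_inl, Sum.elim_inr, Pi.add_apply, Fin.addCases_left, Fin.addCases_right]
          fin_cases k <;> simp <;> ring
        | right k => simp only [Sum.elim_inl, Sum.elim_inr, Pi.add_apply, Fin.addCases_right, add_zero]
  · rcases x with x | x <;> induction x using Fin.addCases with
      | left k => simp only [Sum.elim_inl, Sum.elim_inr, Pi.smul_apply, Fin.addCases_left, RingHom.id_apply]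
      | right k =>
        induction k using Fin.addCases with
        | left k =>
          simp only [Sum.elim_inl, Sum.elim_inr, Pi.smul_apply, Fin.addCases_left, Fin.addCases_right, RingHom.id_apply]
          fin_cases k <;> simp <;> ring
        | right k =>
          simp only [Sum.elim_inl, Sum.elim_inr, Pi.smul_apply, Fin.addCases_right, smul_zero, RingHom.id_apply]
  · rw [coe_plusQ, coe_minusQ]
    simp only [Cfsg.quadFormPlus, Cfsg.quadFormMinus, LinearMap.coe_mk, AddHom.coe_mk, Sum.elim_inl, Sum.elim_inr,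
      Fin.sum_univ_add, Fin.addCases_left, Fin.addCases_right, Fin.sum_univ_two, Matrix.cons_val_zero,
      Matrix.cons_val_one, Matrix.cons_val_fin_one, mul_zero, Finset.sum_const_zero, add_zero]
    ring

/-- A minus space inside a larger one. -/
theorem exists_embed_minus (m n : ℕ) (a b : F) :
    ∃ j : ((Fin m ⊕ Fin m) ⊕ Fin 2 → F) →ₗ[F] ((Fin (m + n) ⊕ Fin (m + n)) ⊕ Fin 2 → F),
      ∀ v, minusQ (m + n) F a b (j v) = minusQ m F a b v := by
  refine ⟨{ toFun := fun v => Sum.elim (Sum.elim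
              (Fin.addCases (fun k => v (.inl (.inl k))) fun _ => 0)
              (Fin.addCases (fun k => v (.inl (.inr k))) fun _ => 0)) fun k => v (.inr k)
            map_add' := fun u v => funext fun x => ?_
            map_smul' := fun c v => funext fun x => ?_ }, fun v => ?_⟩
  · rcases x with (x | x) | x
    · induction x using Fin.addCases <;>
        simp only [Sum.elim_inl, Sum.elim_inr, Pi.add_apply, Fin.addCases_left, Fin.addCases_right, add_zero]
    · induction x using Fin.addCases <;>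
        simp only [Sum.elim_inl, Sum.elim_inr, Pi.add_apply, Fin.addCases_left, Fin.addCases_right, add_zero]
    · rfl
  · rcases x with (x | x) | x
    · induction x using Fin.addCases <;>
        simp only [Sum.elim_inl, Sum.elim_inr, Pi.smul_apply, Fin.addCases_left, Fin.addCases_right, smul_zero,
          RingHom.id_apply]
    · induction x using Fin.addCases <;>
        simp only [Sum.elim_inl, Sum.elim_inr, Pi.smul_apply, Fin.addCases_left, Fin.addCases_right, smul_zero,
          RingHom.id_apply]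
    · rfl
  · rw [coe_minusQ, coe_minusQ]
    simp only [Cfsg.quadFormMinus, LinearMap.coe_mk, AddHom.coe_mk, Sum.elim_inl, Sum.elim_inr, Fin.sum_univ_add,
      Fin.addCases_left, Fin.addCases_right, mul_zero, Finset.sum_const_zero, add_zero]

variable [Fintype F] {r p : ℕ} [hr : Fact r.Prime] [Fact p.Prime] [CharP F p]

include p

/-- Existence of an element without fixed point in the plus case. -/
theorem plus_elem (h2 : (2 : F) ≠ 0) {d : ℕ} (hd : 4 ≤ d) (hr2 : r ≠ 2) {ε : F} (hε : ¬ IsSquare ε)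
    {U : Subgroup (GL (Fin d ⊕ Fin d) F)} {a c : ℕ} (hc : r ∣ c)
    (hidx : c * Nat.card U = Nat.card ↥(Cfsg.isometryGroup F ⇑(plusQ d F)))
    (hU : (Even d ∧ Nat.card U = 2 * (Nat.card F ^ 2) ^ a * (Nat.card F ^ d - 1) *
          ∏ i ∈ Finset.range ((d - 1) / 2), ((Nat.card F ^ 2) ^ (2 * (i + 1)) - 1)) ∨
        (Odd d ∧ Nat.card U = 2 * (Nat.card F ^ 2) ^ a * 1 *
          ∏ i ∈ Finset.range ((d - 1) / 2), ((Nat.card F ^ 2) ^ (2 * (i + 1)) - 1))) :
    ∃ x : ↥(Cfsg.isometryGroup F ⇑(plusQ d F)), x ^ r = 1 ∧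
      (∀ k : F, (((x : GL (Fin d ⊕ Fin d) F)) : Matrix (Fin d ⊕ Fin d) (Fin d ⊕ Fin d) F) ≠ k • 1) ∧
      OrthFieldElem.NoField (plusQ d F) ε
        (Matrix.toLin' ((x : GL (Fin d ⊕ Fin d) F) : Matrix (Fin d ⊕ Fin d) (Fin d ⊕ Fin d) F)) := by
  classical
  by_cases hrp : r = p
  · subst hrp
    refine OrthFieldElem.exists_siegel h2 (plusQ_nd d) hr.out.pos hε (e := Pi.single (.inl ⟨0, by omega⟩) 1)
      (w := Pi.single (.inl ⟨1, by omega⟩) 1) ?_ ?_ ?_ ?_
    · rw [coe_plusQ]; simp [Cfsg.quadFormPlus]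
    · rw [coe_plusQ]; simp [Cfsg.quadFormPlus]
    · rw [polar_plusQ]; simp
    · rw [LinearIndependent.pair_iff]
      intro s t hst
      have h0 := congrFun hst (.inl ⟨0, by omega⟩)
      have h1 := congrFun hst (.inl ⟨1, by omega⟩)
      simp at h0 h1
      exact ⟨h0, h1⟩
  · have hord := orderOf_pos_of_ne (F := F) (r := r) hrp
    have hpair : ∀ i, orderOf (Fintype.card F : ZMod r) = i → Odd i → i ≤ d → _ := fun i hi hio hid =>
      OrthFieldElem.exists_pair_block (Q := plusQ d F) hi hr2 hrp hε (hi ▸ hord) hio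
        (e := fun k => Pi.single (.inl (Fin.castLE hid k)) 1) (e' := fun k => Pi.single (.inr (Fin.castLE hid k)) 1)
        (fun k l => by rw [polar_plusQ]; simp) (fun k l => by rw [polar_plusQ]; simp)
        (fun k l => by
          rw [polar_plusQ]
          simp [Pi.single_apply, Fin.castLE_inj, eq_comm])
    obtain ⟨e, rfl⟩ : ∃ e, d = e + 1 := ⟨d - 1, by omega⟩
    have hcases : (Odd (orderOf (Fintype.card F : ZMod r)) ∧ orderOf (Fintype.card F : ZMod r) ≤ e + 1) ∨
        ∃ h, Odd h ∧ h ≤ e ∧ orderOf (Fintype.card F : ZMod r) = 2 * h := by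
      rw [coe_plusQ, SmallIso.card_isometryGroup_plus] at hidx
      have hq : 1 < Nat.card F := Finite.one_lt_card
      have hrq : ¬ r ∣ Nat.card F := by rw [Nat.card_eq_fintype_card]; exact not_dvd_card hrp
      have hX : 0 < Nat.card F ^ (e + 1) - 1 := by
        have := Nat.one_lt_pow (n := e + 1) (by omega) hq
        omega
      rcases hU with ⟨-, hU⟩ | ⟨hdodd, hU⟩
      · rw [hU, show e + 1 - 1 = e from rfl] at hidx
        rcases dvd_split (Y := 1) hr.out hrq hq hX hc (b := (e + 1) * e) (n := e)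
          (by rw [hidx, mul_one]) with h | ⟨j, hj, hje, h⟩
        · exact absurd (Nat.dvd_one.1 h) hr.out.ne_one
        · rw [Nat.card_eq_fintype_card] at h
          exact (order_cases hj h).imp (fun h => ⟨h.1, by omega⟩) fun ⟨h', h1, h2, h3⟩ => ⟨h', h1, by omega, h3⟩
      · rw [hU, show e + 1 - 1 = e from rfl] at hidx
        rcases dvd_split (X := 1) (Y := Nat.card F ^ (e + 1) - 1) hr.out hrq hq one_pos hc (b := (e + 1) * e) (n := e)
          (by rw [hidx, one_mul]) with h | ⟨j, hj, hje, h⟩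
        · rw [Nat.card_eq_fintype_card] at h
          have hdvd := (dvd_pow_sub_one_iff (r := r) Fintype.card_pos (e + 1)).1 h
          exact Or.inl ⟨hdodd.of_dvd_nat hdvd, Nat.le_of_dvd (by omega) hdvd⟩
        · rw [Nat.card_eq_fintype_card] at h
          exact (order_cases hj h).imp (fun h => ⟨h.1, by omega⟩) fun ⟨h', h1, h2, h3⟩ => ⟨h', h1, by omega, h3⟩
    rcases hcases with ⟨hio, hid⟩ | ⟨h, hh, hhe, hi⟩
    · exact hpair _ rfl hio hid
    · obtain ⟨ν, hν⟩ := FiniteField.exists_nonsquare (F := F) (fun h => h2 (by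
        have h' := (ringChar.spec F 2).2 (by rw [h])
        rwa [Nat.cast_two] at h'))
      have hab : Quad.IsAniso (0 : F) (-ν) := fun z₁ z₂ hz => by
        rcases eq_or_ne z₂ 0 with rfl | hz2
        · exact ⟨by simpa using hz, rfl⟩
        · exact absurd ⟨z₁ / z₂, by field_simp; linear_combination -hz⟩ hν
      obtain ⟨y, hy, hyr, hy1⟩ := exists_minus_element hh.pos hi hab
      obtain ⟨m, rfl⟩ : ∃ m, h = m + 1 := ⟨h - 1, by have := hh.pos; omega⟩
      obtain ⟨n, hn⟩ : ∃ n, e + 1 = m + (2 + n) := ⟨e - 1 - m, by omega⟩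
      obtain ⟨j, hj⟩ := exists_embed_plus m n (0 : F) (-ν)
      let σ : (Fin (m + (2 + n)) ⊕ Fin (m + (2 + n)) → F) ≃ₗ[F] (Fin (e + 1) ⊕ Fin (e + 1) → F) :=
        LinearEquiv.funCongrLeft F F (Equiv.sumCongr (finCongr hn) (finCongr hn))
      have hσ : ∀ v, plusQ (e + 1) F (σ v) = plusQ (m + (2 + n)) F v := fun v => by
        rw [coe_plusQ, coe_plusQ]
        exact Fintype.sum_equiv (finCongr hn) _ _ fun k => rfl
      exact OrthFieldElem.exists_minus_block hrp hε hh hi (minusQ m F 0 (-ν)) (minusQ_nd m hab).1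
        (by rw [Module.finrank_fintype_fun_eq_card]; simp; ring) (σ.toLinearMap.comp j)
        (fun u => (hσ _).trans (hj u)) hy hyr hy1

/-- Existence of an element without fixed point in the minus case. -/
theorem minus_elem (h2 : (2 : F) ≠ 0) {e : ℕ} (he : 3 ≤ e) (hr2 : r ≠ 2) {ε : F} (hε : ¬ IsSquare ε)
    {a b : F} (hab : Quad.IsAniso a b) {U : Subgroup (GL ((Fin e ⊕ Fin e) ⊕ Fin 2) F)} {k c : ℕ} (hc : r ∣ c)
    (hidx : c * Nat.card U = Nat.card ↥(Cfsg.isometryGroup F ⇑(minusQ e F a b)))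
    (hU : (Even (e + 1) ∧ Nat.card U = 2 * (Nat.card F ^ 2) ^ k * (Nat.card F ^ (e + 1) + 1) *
          ∏ i ∈ Finset.range ((e + 1 - 1) / 2), ((Nat.card F ^ 2) ^ (2 * (i + 1)) - 1)) ∨
        (Odd (e + 1) ∧ Nat.card U = 2 * (Nat.card F ^ 2) ^ k * 1 *
          ∏ i ∈ Finset.range ((e + 1 - 1) / 2), ((Nat.card F ^ 2) ^ (2 * (i + 1)) - 1))) :
    ∃ x : ↥(Cfsg.isometryGroup F ⇑(minusQ e F a b)), x ^ r = 1 ∧
      (∀ z : F, (((x : GL ((Fin e ⊕ Fin e) ⊕ Fin 2) F)) : Matrix ((Fin e ⊕ Fin e) ⊕ Fin 2) ((Fin e ⊕ Fin e) ⊕ Fin 2) F) ≠ z • 1) ∧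
      OrthFieldElem.NoField (minusQ e F a b) ε
        (Matrix.toLin' ((x : GL ((Fin e ⊕ Fin e) ⊕ Fin 2) F) : Matrix ((Fin e ⊕ Fin e) ⊕ Fin 2) ((Fin e ⊕ Fin e) ⊕ Fin 2) F)) := by
  classical
  by_cases hrp : r = p
  · subst hrp
    refine OrthFieldElem.exists_siegel h2 (minusQ_nd e hab) hr.out.pos hε
      (e := Pi.single (.inl (.inl ⟨0, by omega⟩)) 1) (w := Pi.single (.inl (.inl ⟨1, by omega⟩)) 1) ?_ ?_ ?_ ?_
    · rw [coe_minusQ]; simp [Cfsg.quadFormMinus]
    · rw [coe_minusQ]; simp [Cfsg.quadFormMinus]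
    · rw [polar_minusQ_inl _ _ _ _ _ (by simp) (by simp)]; simp
    · rw [LinearIndependent.pair_iff]
      intro s t hst
      have h0 := congrFun hst (.inl (.inl ⟨0, by omega⟩))
      have h1 := congrFun hst (.inl (.inl ⟨1, by omega⟩))
      simp at h0 h1
      exact ⟨h0, h1⟩
  · have hord := orderOf_pos_of_ne (F := F) (r := r) hrp
    have hpair : ∀ i, orderOf (Fintype.card F : ZMod r) = i → Odd i → i ≤ e → _ := fun i hi hio hid =>
      OrthFieldElem.exists_pair_block (Q := minusQ e F a b) hi hr2 hrp hε (hi ▸ hord) hio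
        (e := fun k => Pi.single (.inl (.inl (Fin.castLE hid k))) 1)
        (e' := fun k => Pi.single (.inl (.inr (Fin.castLE hid k))) 1)
        (fun k l => by rw [polar_minusQ_inl _ _ _ _ _ (by simp) (by simp)]; simp)
        (fun k l => by rw [polar_minusQ_inl _ _ _ _ _ (by simp) (by simp)]; simp)
        (fun k l => by
          rw [polar_minusQ_inl _ _ _ _ _ (by simp) (by simp)]
          simp [Pi.single_apply, Fin.castLE_inj, eq_comm])
    have hcases : (Odd (orderOf (Fintype.card F : ZMod r)) ∧ orderOf (Fintype.card F : ZMod r) ≤ e) ∨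
        ∃ h, Odd h ∧ h ≤ e + 1 ∧ orderOf (Fintype.card F : ZMod r) = 2 * h := by
      rw [coe_minusQ, SmallIso.card_isometryGroup_minus hab] at hidx
      have hq : 1 < Nat.card F := Finite.one_lt_card
      have hrq : ¬ r ∣ Nat.card F := by rw [Nat.card_eq_fintype_card]; exact not_dvd_card hrp
      rcases hU with ⟨-, hU⟩ | ⟨hdodd, hU⟩
      · rw [hU, show e + 1 - 1 = e from rfl] at hidx
        rcases dvd_split (Y := 1) hr.out hrq hq (Nat.succ_pos _) hc (b := (e + 1) * e) (n := e)
          (X := Nat.card F ^ (e + 1) + 1) (by rw [hidx, mul_one]) with h | ⟨j, hj, hje, h⟩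
        · exact absurd (Nat.dvd_one.1 h) hr.out.ne_one
        · rw [Nat.card_eq_fintype_card] at h
          exact (order_cases hj h).imp (fun h => ⟨h.1, by omega⟩) fun ⟨h', h1, h2, h3⟩ => ⟨h', h1, by omega, h3⟩
      · rw [hU, show e + 1 - 1 = e from rfl] at hidx
        rcases dvd_split (X := 1) (Y := Nat.card F ^ (e + 1) + 1) hr.out hrq hq one_pos hc (b := (e + 1) * e) (n := e)
          (by rw [hidx, one_mul]) with h | ⟨j, hj, hje, h⟩
        · rw [Nat.card_eq_fintype_card] at h
          set q := Fintype.card F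
          have hsq : (q ^ (e + 1) + 1) * (q ^ (e + 1) - 1) = q ^ (2 * (e + 1)) - 1 := by
            rw [← Nat.sq_sub_sq, one_pow, ← pow_mul, mul_comm]
          have hdvd := (dvd_pow_sub_one_iff (r := r) (Fintype.card_pos (α := F)) (2 * (e + 1))).1
            (hsq ▸ h.mul_right _)
          rcases Nat.even_or_odd (orderOf (q : ZMod r)) with hie | hio
          · obtain ⟨h', hh⟩ := hie
            have hh2 : h' ∣ e + 1 := Nat.dvd_of_mul_dvd_mul_left two_pos (by rwa [two_mul h', ← hh])
            exact Or.inr ⟨h', hdodd.of_dvd_nat hh2, Nat.le_of_dvd (by omega) hh2, by omega⟩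
          · exfalso
            have hid := (Nat.coprime_two_right.mpr hio).dvd_of_dvd_mul_left hdvd
            have h1 := (dvd_pow_sub_one_iff (r := r) (Fintype.card_pos (α := F)) (e + 1)).2 hid
            have h2' := Nat.dvd_sub h h1
            have := Nat.one_le_pow (e + 1) q Fintype.card_pos
            rw [show q ^ (e + 1) + 1 - (q ^ (e + 1) - 1) = 2 by omega] at h2'
            exact hr2 ((Nat.prime_dvd_prime_iff_eq hr.out Nat.prime_two).1 h2')
        · rw [Nat.card_eq_fintype_card] at h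
          exact (order_cases hj h).imp (fun h => ⟨h.1, by omega⟩) fun ⟨h', h1, h2, h3⟩ => ⟨h', h1, by omega, h3⟩
    rcases hcases with ⟨hio, hid⟩ | ⟨h, hh, hhe, hi⟩
    · exact hpair _ rfl hio hid
    · obtain ⟨y, hy, hyr, hy1⟩ := exists_minus_element hh.pos hi hab
      obtain ⟨m, rfl⟩ : ∃ m, h = m + 1 := ⟨h - 1, by have := hh.pos; omega⟩
      obtain ⟨n, rfl⟩ : ∃ n, e = m + n := ⟨e - m, by omega⟩
      obtain ⟨j, hj⟩ := exists_embed_minus m n a b
      exact OrthFieldElem.exists_minus_block hrp hε hh hi (minusQ m F a b) (minusQ_nd m hab).1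
        (by rw [Module.finrank_fintype_fun_eq_card]; simp; ring) j hj hy hyr hy1

end CfsgLib.LinFix.OrthFieldCases
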