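import Mathlib
import Cfsg.Agent.Lib.LinFix.Field
import Cfsg.Agent.Lib.LinFix.Heis3
import Cfsg.Agent.Lib.Semisimple.GL

/-!
# Classes of elements of order three and five in dimension four
-/

set_option autoImplicit false

namespace CfsgLib.LinFix

open Polynomial

variable {F : Type*} [Field F]

theorem minpoly_dvd_of_pow_eq_one {n r : ℕ} {M : Matrix (Fin n) (Fin n) F} (hM : M ^ r = 1)
    {g : F[X]} (hg : Irreducible g) (hgd : g ∣ M.charpoly) : g ∣ X ^ r - 1 :=
  (hg.prime.dvd_of_dvd_pow (hgd.trans (CfsgLib.Spectrum.charpoly_dvd_minpoly_pow M))).trans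
    (minpoly.dvd F M (by simp [hM]))

/-- Without cube roots of one, the characteristic polynomial of an element of order dividing
three in dimension four is determined by the trace. -/
theorem charpoly_cases_three (hω : ∀ z : F, z ^ 2 + z + 1 ≠ 0) {M : Matrix (Fin 4) (Fin 4) F}
    (hM : M ^ 3 = 1) :
    (M.charpoly = (X - 1) ^ 4 ∧ M.trace = 4) ∨
      (M.charpoly = (X - 1) ^ 2 * (X ^ 2 + X + 1) ∧ M.trace = 1) ∨
      (M.charpoly = (X ^ 2 + X + 1) ^ 2 ∧ M.trace = -2) := by
  classical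
  have hqm : (X ^ 2 + X + 1 : F[X]).Monic := by monicity!
  have hqd : (X ^ 2 + X + 1 : F[X]).natDegree = 2 := by compute_degree!
  have hq : Irreducible (X ^ 2 + X + 1 : F[X]) := by
    refine (hqm.irreducible_iff_roots_eq_zero_of_degree_le_three (by omega) (by omega)).2 ?_
    refine Multiset.eq_zero_of_forall_notMem fun z hz => ?_
    rw [mem_roots hqm.ne_zero, IsRoot] at hz
    exact hω z (by simpa using hz)
  have hlm : (X - 1 : F[X]).Monic := by simpa using monic_X_sub_C (1 : F)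
  have hl : Irreducible (X - 1 : F[X]) := by simpa using irreducible_X_sub_C (1 : F)
  obtain ⟨a, P', hP', hP⟩ := WfDvdMonoid.max_power_factor M.charpoly_monic.ne_zero hl
  have hP'm : P'.Monic := (hlm.pow a).of_mul_monic_left (hP ▸ M.charpoly_monic)
  obtain ⟨b, rfl⟩ := CfsgLib.Spectrum.exists_eq_pow_of_forall_irreducible_dvd hqm hq hP'm
    fun g hg hgd => by
      have h1 : g ∣ (X - 1) * (X ^ 2 + X + 1) :=
        (minpoly_dvd_of_pow_eq_one hM hg (hP ▸ hgd.mul_left _)).trans (dvd_of_eq (by ring))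
      rcases hg.prime.dvd_or_dvd h1 with h | h
      · exact absurd ((hg.associated_of_dvd hl h).symm.dvd.trans hgd) hP'
      · exact (hg.associated_of_dvd hq h).symm.dvd
  have hdeg := congrArg natDegree hP
  rw [M.charpoly_natDegree_eq_dim, Fintype.card_fin, (hlm.pow a).natDegree_mul (hqm.pow b),
    natDegree_pow, natDegree_pow, hqd, show (X - 1 : F[X]).natDegree = 1 by
      simpa using natDegree_X_sub_C (1 : F)] at hdeg
  have htr := Matrix.trace_eq_neg_charpoly_coeff M
  rw [Fintype.card_fin, show 4 - 1 = 3 from rfl, hP] at htr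
  have hb : b ≤ 2 := by omega
  interval_cases b
  · obtain rfl : a = 4 := by omega
    refine Or.inl ⟨by rw [hP]; ring, ?_⟩
    rw [htr, show ((X - 1) ^ 4 * (X ^ 2 + X + 1) ^ 0 : F[X]) =
      X ^ 4 + C (-4) * X ^ 3 + C 6 * X ^ 2 + C (-4) * X + 1 by simp [map_ofNat]; ring]
    simp [coeff_X, coeff_one]
  · obtain rfl : a = 2 := by omega
    refine Or.inr (Or.inl ⟨by rw [hP]; ring, ?_⟩)
    rw [htr, show ((X - 1) ^ 2 * (X ^ 2 + X + 1) ^ 1 : F[X]) =
      X ^ 4 + C (-1) * X ^ 3 + C (-1) * X + 1 by simp; ring]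
    simp [coeff_X, coeff_one]
  · obtain rfl : a = 0 := by omega
    refine Or.inr (Or.inr ⟨by rw [hP]; ring, ?_⟩)
    rw [htr, show ((X - 1) ^ 0 * (X ^ 2 + X + 1) ^ 2 : F[X]) =
      X ^ 4 + C 2 * X ^ 3 + C 3 * X ^ 2 + C 2 * X + 1 by simp [map_ofNat]; ring]
    simp [coeff_X, coeff_one]

/-- Without fifth roots of one in the quadratic extension, elements of order five in dimension
four have one characteristic polynomial. -/
theorem charpoly_cases_five [Fintype F] (h5 : orderOf (Fintype.card F : ZMod 5) = 4)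
    {M : Matrix (Fin 4) (Fin 4) F} (hM : M ^ 5 = 1) :
    M.charpoly = (X - 1) ^ 4 ∨ M.charpoly = X ^ 4 + X ^ 3 + X ^ 2 + X + 1 := by
  classical
  haveI : Fact (Nat.Prime 5) := ⟨Nat.prime_five⟩
  have hlm : (X - 1 : F[X]).Monic := by simpa using monic_X_sub_C (1 : F)
  have hl : Irreducible (X - 1 : F[X]) := by simpa using irreducible_X_sub_C (1 : F)
  by_cases hall : ∀ g : F[X], Irreducible g → g ∣ M.charpoly → (X - 1) ∣ g
  · obtain ⟨k, hk⟩ := CfsgLib.Spectrum.exists_eq_pow_of_forall_irreducible_dvd hlm hl M.charpoly_monic hall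
    have hdeg := congrArg natDegree hk
    rw [M.charpoly_natDegree_eq_dim, Fintype.card_fin, natDegree_pow,
      show (X - 1 : F[X]).natDegree = 1 by simpa using natDegree_X_sub_C (1 : F), mul_one] at hdeg
    exact Or.inl (by rw [hk, ← hdeg])
  · push Not at hall
    obtain ⟨g, hg, hgd, hg1⟩ := hall
    have hne : ¬ g ∣ X - 1 := fun h => hg1 (hg.associated_of_dvd hl h).symm.dvd
    have hgr := minpoly_dvd_of_pow_eq_one hM hg hgd
    have hdeg := natDegree_eq_order (r := 5) (by omega) hg hgr hne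
    rw [h5] at hdeg
    obtain ⟨c, hc⟩ := hgd
    have hc0 : c ≠ 0 := fun h0 => M.charpoly_monic.ne_zero (by rw [hc, h0, mul_zero])
    have hd := congrArg natDegree hc
    rw [M.charpoly_natDegree_eq_dim, Fintype.card_fin, natDegree_mul hg.ne_zero hc0, hdeg] at hd
    have hP : M.charpoly ∣ X ^ 4 + X ^ 3 + X ^ 2 + X + 1 := by
      have hgP : g ∣ X ^ 4 + X ^ 3 + X ^ 2 + X + 1 :=
        (hg.prime.dvd_or_dvd (hgr.trans (dvd_of_eq
          (show (X ^ 5 - 1 : F[X]) = (X - 1) * (X ^ 4 + X ^ 3 + X ^ 2 + X + 1) by ring)))).resolve_left hne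
      rw [hc]
      exact ((IsUnit.mul_right_dvd (isUnit_iff_degree_eq_zero.2 (by
        rw [degree_eq_natDegree hc0, show c.natDegree = 0 by omega]; rfl))).2 hgP)
    refine Or.inr (eq_of_monic_of_associated M.charpoly_monic (by monicity!) ?_)
    exact associated_of_dvd_of_natDegree_le hP (Polynomial.Monic.ne_zero (by monicity!))
      (by rw [M.charpoly_natDegree_eq_dim, Fintype.card_fin]; compute_degree!)

section conj

variable [Fintype F]

theorem coprime_orderOf_of_pow (p : ℕ) [Fact p.Prime] [CharP F p] {n k : ℕ} (hk : (k : F) ≠ 0)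
    {c : F} (hc : c ≠ 0) {y : GL (Fin n) F}
    (hy : (y : Matrix (Fin n) (Fin n) F) ^ k = c • 1) : (orderOf y).Coprime p := by
  have h : y ^ (k * (Fintype.card F - 1)) = 1 := by
    apply Units.ext
    rw [pow_mul, Units.val_pow_eq_pow_val, Units.val_pow_eq_pow_val, hy, _root_.smul_pow, one_pow,
      FiniteField.pow_card_sub_one_eq_one c hc, one_smul, Units.val_one]
  refine Nat.Coprime.coprime_dvd_left (orderOf_dvd_of_pow_eq_one h) ?_
  have hp : p.Prime := Fact.out
  rw [Nat.coprime_comm, hp.coprime_iff_not_dvd, ← CharP.cast_eq_zero_iff F p, Nat.cast_mul,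
    Nat.cast_sub Fintype.card_pos, FiniteField.cast_card_eq_zero]
  simp [hk]

/-- Conjugation by a matrix of determinant one. -/
theorem exists_sl_conj_of_charpoly (p : ℕ) [Fact p.Prime] [CharP F p] {n k : ℕ} [NeZero n]
    (hk : (k : F) ≠ 0) {c : F} (hc : c ≠ 0) {x y : GL (Fin n) F}
    (hx : (x : Matrix (Fin n) (Fin n) F) ^ k = c • 1) (hy : (y : Matrix (Fin n) (Fin n) F) ^ k = c • 1)
    (hcp : (y : Matrix (Fin n) (Fin n) F).charpoly = (x : Matrix (Fin n) (Fin n) F).charpoly) :
    ∃ g : GL (Fin n) F, (g : Matrix (Fin n) (Fin n) F).det = 1 ∧ g⁻¹ * x * g = y := by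
  obtain ⟨g, hg⟩ := isConj_iff.1 (CfsgLib.Semisimple.isConj_of_charpoly_eq p y x
    (coprime_orderOf_of_pow p hk hc hy) (coprime_orderOf_of_pow p hk hc hx) hcp)
  obtain ⟨D, hD, hDx⟩ := CfsgLib.Semisimple.exists_commute_det_eq p x (coprime_orderOf_of_pow p hk hc hx)
    ((Matrix.GeneralLinearGroup.det g⁻¹ : Fˣ) : F) (Units.ne_zero _)
  refine ⟨D * g, ?_, ?_⟩
  · rw [Units.val_mul, Matrix.det_mul, hD]
    change ((Matrix.GeneralLinearGroup.det g⁻¹ : Fˣ) : F) * ((Matrix.GeneralLinearGroup.det g : Fˣ) : F) = 1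
    rw [← Units.val_mul, ← map_mul, inv_mul_cancel, map_one, Units.val_one]
  · have hd : D * x = x * D := hDx
    calc (D * g)⁻¹ * x * (D * g) = g⁻¹ * (D⁻¹ * (x * D)) * g := by group
      _ = g⁻¹ * (D⁻¹ * (D * x)) * g := by rw [hd]
      _ = g⁻¹ * x * g := by group
      _ = y := by rw [← hg]; group

/-- A semisimple matrix with one eigenvalue is scalar. -/
theorem eq_scalar_of_charpoly (p : ℕ) [Fact p.Prime] [CharP F p] {n k : ℕ} [NeZero n]
    (hk : (k : F) ≠ 0) {c : F} (hc : c ≠ 0) {x : GL (Fin n) F} {d : F} (hd : d ^ k = c)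
    (hx : (x : Matrix (Fin n) (Fin n) F) ^ k = c • 1)
    (hcp : (x : Matrix (Fin n) (Fin n) F).charpoly = (X - C d) ^ n) :
    (x : Matrix (Fin n) (Fin n) F) = d • 1 := by
  have hd0 : d ≠ 0 := fun h => by
    rcases Nat.eq_zero_or_pos k with rfl | hk0
    · simp at hk
    · rw [h, zero_pow hk0.ne'] at hd; exact hc hd.symm
  let y : GL (Fin n) F := Matrix.GeneralLinearGroup.mkOfDetNeZero (d • (1 : Matrix (Fin n) (Fin n) F))
    (by rw [Matrix.det_smul, Matrix.det_one, mul_one]; exact pow_ne_zero _ hd0)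
  obtain ⟨g, -, hg⟩ := exists_sl_conj_of_charpoly p hk hc hx (y := y)
    (by change (d • (1 : Matrix (Fin n) (Fin n) F)) ^ k = _; rw [_root_.smul_pow, one_pow, hd])
    (by
      change (d • (1 : Matrix (Fin n) (Fin n) F)).charpoly = _
      rw [hcp, Matrix.smul_one_eq_diagonal, Matrix.charpoly_diagonal, Finset.prod_const,
        Finset.card_univ, Fintype.card_fin])
  have : x = g * y * g⁻¹ := by rw [← hg]; group
  rw [this, Units.val_mul, Units.val_mul]
  change _ * (d • (1 : Matrix (Fin n) (Fin n) F)) * _ = _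
  simp

end conj

end CfsgLib.LinFix
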