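import Mathlib
import Cfsg.Agent.Lib.Conj.Unitary
import Cfsg.Agent.Lib.Semisimple.Unitary
import Cfsg.Agent.Lib.LinFix.SmallClasses
import Cfsg.Agent.Lib.LinFix.Pauli4
import Cfsg.Agent.S5999

/-!
# Conjugacy in the special unitary group, and the unitary Pauli model
-/

set_option autoImplicit false
open scoped MatrixGroups

namespace CfsgLib.SUConj

open Matrix CfsgLib.Conj

variable {F : Type*} [Field F] [Fintype F] {p : ℕ} [Fact p.Prime] [CharP F p] {n : ℕ}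

/-- Change of an orthonormal basis. -/
theorem mem_GU_conj {φ : F →+* F} (hφq : ∀ x, φ x = x ^ p) (hφ : ∀ x, φ (φ x) = x)
    {Q y : GL (Fin n) F} {Y : Matrix (Fin n) (Fin n) F} (hQ : Q ∈ Cfsg.GU n F p)
    (hY : conjT (n := n) φ Y * Y = 1)
    (hy : (y : Matrix (Fin n) (Fin n) F) = (Q : Matrix (Fin n) (Fin n) F) * Y *
      ((Q⁻¹ : GL (Fin n) F) : Matrix (Fin n) (Fin n) F)) : y ∈ Cfsg.GU n F p := by
  let Y' : GL (Fin n) F := ⟨Y, conjT (n := n) φ Y, mul_eq_one_comm.1 hY, hY⟩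
  have : y = Q * Y' * Q⁻¹ := Units.ext hy
  rw [this]
  exact mul_mem (mul_mem hQ ((mem_GU_iff φ hφq hφ Y').2 hY)) (inv_mem hQ)

/-- Scalars of norm one are unitary. -/
theorem scalar_mem_GU {φ : F →+* F} (hφq : ∀ x, φ x = x ^ p) (hφ : ∀ x, φ (φ x) = x) {s : F}
    (hs : s ^ (p + 1) = 1) {y : GL (Fin n) F} (hy : (y : Matrix (Fin n) (Fin n) F) = s • 1) :
    y ∈ Cfsg.GU n F p := by
  rw [mem_GU_iff φ hφq hφ, hy]
  have : conjT (n := n) φ (s • (1 : Matrix (Fin n) (Fin n) F)) = φ s • 1 := by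
    rw [← Algebra.algebraMap_eq_smul_one, conjT_algebraMap, Algebra.algebraMap_eq_smul_one]
  rw [this, Matrix.smul_mul, one_mul, smul_smul, hφq, ← pow_succ, hs, one_smul]

/-- The characteristic polynomial of the inverse of a unitary matrix. -/
theorem charpoly_inv_eq_map {φ : F →+* F} (hφq : ∀ x, φ x = x ^ p) (hφ : ∀ x, φ (φ x) = x)
    {x : GL (Fin n) F} (hx : x ∈ Cfsg.GU n F p) :
    ((x⁻¹ : GL (Fin n) F) : Matrix (Fin n) (Fin n) F).charpoly =
      (x : Matrix (Fin n) (Fin n) F).charpoly.map φ := by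
  rw [Units.inv_eq_of_mul_eq_one_left ((mem_GU_iff φ hφq hφ x).1 hx)]
  change ((x : Matrix (Fin n) (Fin n) F).map φ)ᵀ.charpoly = _
  rw [Matrix.charpoly_transpose, Matrix.charpoly_map]

/-- The trace of the inverse of a unitary matrix. -/
theorem trace_inv_eq {φ : F →+* F} (hφq : ∀ x, φ x = x ^ p) (hφ : ∀ x, φ (φ x) = x)
    {x : GL (Fin n) F} (hx : x ∈ Cfsg.GU n F p) :
    ((x⁻¹ : GL (Fin n) F) : Matrix (Fin n) (Fin n) F).trace =
      φ (x : Matrix (Fin n) (Fin n) F).trace := by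
  rw [Units.inv_eq_of_mul_eq_one_left ((mem_GU_iff φ hφq hφ x).1 hx)]
  change ((x : Matrix (Fin n) (Fin n) F).map φ)ᵀ.trace = _
  rw [Matrix.trace_transpose, AddMonoidHom.map_trace]

/-- Semisimple unitary elements with the same characteristic polynomial are conjugate in `SU`. -/
theorem exists_su_conj_of_charpoly (hF : Fintype.card F = p ^ 2) [NeZero n] {k : ℕ}
    (hk : (k : F) ≠ 0) {c : F} (hc : c ≠ 0) {x y : GL (Fin n) F}
    (hxU : x ∈ Cfsg.GU n F p) (hyU : y ∈ Cfsg.GU n F p)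
    (hx : (x : Matrix (Fin n) (Fin n) F) ^ k = c • 1) (hy : (y : Matrix (Fin n) (Fin n) F) ^ k = c • 1)
    (hcp : (y : Matrix (Fin n) (Fin n) F).charpoly = (x : Matrix (Fin n) (Fin n) F).charpoly) :
    ∃ g : GL (Fin n) F, g ∈ Cfsg.GU n F p ∧ (g : Matrix (Fin n) (Fin n) F).det = 1 ∧ g⁻¹ * x * g = y := by
  obtain ⟨φ, hφq, hφ, hw⟩ := exists_frob hF
  have hxo := CfsgLib.LinFix.coprime_orderOf_of_pow p hk hc hx
  have hyo := CfsgLib.LinFix.coprime_orderOf_of_pow p hk hc hy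
  obtain ⟨g₀, hg₀⟩ := isConj_iff.1 (CfsgLib.Semisimple.isConj_of_charpoly_eq p y x hyo hxo hcp)
  have hy' := (mem_GU_iff φ hφq hφ y).1 hyU
  obtain ⟨h, hh, hhy⟩ := exists_unitary_conj φ hφ hw y x g₀ hy' ((mem_GU_iff φ hφq hφ x).1 hxU)
    (by rw [← hg₀]; group)
  have hd0 : (h : Matrix (Fin n) (Fin n) F).det ≠ 0 :=
    ((Matrix.isUnit_iff_isUnit_det _).1 h.isUnit).ne_zero
  obtain ⟨u, huU, huc, hud⟩ := CfsgLib.Semisimple.Unitary.exists_commute_det φ p hφ hw (NeZero.one_le) y hyo hy'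
    ((h : Matrix (Fin n) (Fin n) F).det⁻¹)
    (by rw [hφq, ← pow_succ', inv_pow, Cfsg.Agent.S5999.det_norm_one hφq hh, inv_one])
  let C : GL (Fin n) F := Matrix.GeneralLinearGroup.mkOfDetNeZero u (by rw [hud]; exact inv_ne_zero hd0)
  refine ⟨h * C, mul_mem ((mem_GU_iff φ hφq hφ h).2 hh) ((mem_GU_iff φ hφq hφ C).2 huU), ?_, ?_⟩
  · rw [Units.val_mul, Matrix.det_mul, show (C : Matrix (Fin n) (Fin n) F) = u from rfl, hud,
      mul_inv_cancel₀ hd0]
  · have hCy : C * y = y * C := Units.ext huc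
    calc (h * C)⁻¹ * x * (h * C) = C⁻¹ * (h⁻¹ * (x * h)) * C := by group
      _ = C⁻¹ * (h⁻¹ * (h * y)) * C := by rw [hhy]
      _ = C⁻¹ * (y * C) := by group
      _ = y := by rw [← hCy]; group

open CfsgLib.TwoSymp in
/-- The standard presentation can be chosen with a unitary change of basis. -/
theorem exists_unitary_pauli (hF : Fintype.card F = p ^ 2) (hp4 : p % 4 = 3)
    {R : Subgroup (GL (Fin 4) F)} (hR : Good R) (hRU : R ≤ Cfsg.GU 4 F p) (hR6 : Nat.card R = 2 ^ 6)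
    (hRZ : Nat.card (Subgroup.center R) = 4) :
    ∃ (im : F) (Q X1 Z1 X2 Z2 I : GL (Fin 4) F), Pauli R im Q X1 Z1 X2 Z2 I ∧ Q ∈ Cfsg.GU 4 F p := by
  obtain ⟨φ, hφq, hφ, -⟩ := exists_frob hF
  obtain ⟨im, Q, X1, Z1, X2, Z2, I, hP⟩ := exists_pauli hR hR6 hRZ
  obtain ⟨-, hX1, hZ1, hX2, hZ2⟩ := hP.mem
  set u : Fin 4 → Fin 4 → F := fun i => (Q : Matrix (Fin 4) (Fin 4) F) *ᵥ Pi.single i 1 with hu
  have hact : ∀ (A : GL (Fin 4) F) (P : Matrix (Fin 4) (Fin 4) F),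
      (A : Matrix (Fin 4) (Fin 4) F) = (Q : Matrix (Fin 4) (Fin 4) F) * P *
        ((Q⁻¹ : GL (Fin 4) F) : Matrix (Fin 4) (Fin 4) F) →
      ∀ (i : Fin 4), (A : Matrix (Fin 4) (Fin 4) F) *ᵥ u i =
        (Q : Matrix (Fin 4) (Fin 4) F) *ᵥ (P *ᵥ Pi.single i 1) := fun A P hA i => by
    rw [hu, hA, Matrix.mulVec_mulVec, Matrix.mul_assoc, Units.inv_mul, mul_one, Matrix.mulVec_mulVec]
  have hU : ∀ A ∈ R, ∀ v w, Cfsg.hermForm 4 F p ((A : Matrix (Fin 4) (Fin 4) F) *ᵥ v)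
      ((A : Matrix (Fin 4) (Fin 4) F) *ᵥ w) = Cfsg.hermForm 4 F p v w := fun A hA v w => hRU hA v w
  have hperm : ∀ (A : GL (Fin 4) F) (P : Matrix (Fin 4) (Fin 4) F), A ∈ R →
      (A : Matrix (Fin 4) (Fin 4) F) = (Q : Matrix (Fin 4) (Fin 4) F) * P *
        ((Q⁻¹ : GL (Fin 4) F) : Matrix (Fin 4) (Fin 4) F) →
      ∀ i j, P *ᵥ Pi.single i 1 = Pi.single j 1 →
        Cfsg.hermForm 4 F p (u j) (u j) = Cfsg.hermForm 4 F p (u i) (u i) := fun A P hA hAe i j hij => by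
    have := hU A hA (u i) (u i)
    rwa [hact A P hAe i, hij] at this
  set t := Cfsg.hermForm 4 F p (u 0) (u 0) with htdef
  have e2 : Cfsg.hermForm 4 F p (u 2) (u 2) = t :=
    hperm X1 _ hX1 hP.hX1 0 2 (by funext j; fin_cases j <;> simp [pX1])
  have e1 : Cfsg.hermForm 4 F p (u 1) (u 1) = t :=
    hperm X2 _ hX2 hP.hX2 0 1 (by funext j; fin_cases j <;> simp [pX2])
  have e3 : Cfsg.hermForm 4 F p (u 3) (u 3) = t :=
    (hperm X2 _ hX2 hP.hX2 2 3 (by funext j; fin_cases j <;> simp [pX2])).trans e2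
  have hdiag : ∀ i, Cfsg.hermForm 4 F p (u i) (u i) = t := by
    intro i; fin_cases i
    exacts [rfl, e1, e2, e3]
  have hsign : ∀ (A : GL (Fin 4) F) (D : Fin 4 → F), A ∈ R →
      (A : Matrix (Fin 4) (Fin 4) F) = (Q : Matrix (Fin 4) (Fin 4) F) * Matrix.diagonal D *
        ((Q⁻¹ : GL (Fin 4) F) : Matrix (Fin 4) (Fin 4) F) →
      ∀ i j, D i * D j ^ p ≠ 1 → Cfsg.hermForm 4 F p (u i) (u j) = 0 := fun A D hA hAe i j hij => by
    have := hU A hA (u i) (u j)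
    have e : ∀ k, (A : Matrix (Fin 4) (Fin 4) F) *ᵥ u k = D k • u k := fun k => by
      rw [hact A _ hAe k, Matrix.diagonal_mulVec_single, mul_one, ← mul_one (D k), ← smul_eq_mul,
        Pi.single_smul, Matrix.mulVec_smul, smul_eq_mul, mul_one]
    rw [e, e, Cfsg.Agent.S5999.herm_smul] at this
    by_contra hne
    exact hij (mul_right_cancel₀ hne (this.trans (one_mul _).symm))
  have hodd : Odd p := Nat.odd_iff.2 (by omega)
  have h11 : (-1 : F) ≠ 1 := fun h => hR.two_ne (by linear_combination -h)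
  have hoff : ∀ i j, i ≠ j → Cfsg.hermForm 4 F p (u i) (u j) = 0 := by
    intro i j hij
    by_cases h : (![1, 1, -1, -1] i : F) * ![1, 1, -1, -1] j ^ p = 1
    · refine hsign Z2 _ hZ2 hP.hZ2 i j fun h' => ?_
      fin_cases i <;> fin_cases j <;> simp [hodd.neg_one_pow, h11] at hij h h'
    · exact hsign Z1 _ hZ1 hP.hZ1 i j h
  have ht0 : t ≠ 0 := by
    intro h0
    have hz : ∀ i j, Cfsg.hermForm 4 F p (u i) (u j) = 0 := fun i j => by
      rcases eq_or_ne i j with rfl | hij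
      · rw [hdiag, h0]
      · exact hoff i j hij
    have hG : conjT (n := 4) φ (Q : Matrix (Fin 4) (Fin 4) F) * (Q : Matrix (Fin 4) (Fin 4) F) = 0 := by
      ext i j
      rw [Matrix.mul_apply]
      simp only [conjT, AddMonoidHom.coe_mk, ZeroHom.coe_mk, Matrix.transpose_apply, Matrix.map_apply, hφq]
      have := hz j i
      simp only [Cfsg.hermForm, hu, Matrix.mulVec_single_one, Matrix.col_apply] at this
      rw [Matrix.zero_apply, ← this]
      exact Finset.sum_congr rfl fun k _ => mul_comm _ _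
    have h1 := congrArg (· * ((Q⁻¹ : GL (Fin 4) F) : Matrix (Fin 4) (Fin 4) F)) hG
    simp only [Matrix.mul_assoc, Units.mul_inv, mul_one, Matrix.zero_mul] at h1
    have h2 := congrArg (conjT (n := 4) φ) h1
    rw [conjT_conjT φ hφ, map_zero] at h2
    exact Q.ne_zero h2
  have htp : t ^ p = t := by
    rw [htdef, Cfsg.hermForm, ← hφq, map_sum]
    refine Finset.sum_congr rfl fun i _ => ?_
    rw [map_mul, ← hφq (u 0 i), hφ, mul_comm]
  obtain ⟨s, hs⟩ := Cfsg.Agent.S5999.exists_norm hF (inv_ne_zero ht0) (by rw [inv_pow, htp])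
  have hs0 : s ≠ 0 := fun h => by
    rw [h, zero_pow (by omega)] at hs; exact inv_ne_zero ht0 hs.symm
  let sc : GL (Fin 4) F := Matrix.GeneralLinearGroup.mkOfDetNeZero (s • (1 : Matrix (Fin 4) (Fin 4) F))
    (by simp [hs0])
  have hscale : ∀ M : Matrix (Fin 4) (Fin 4) F,
      ((Q * sc : GL (Fin 4) F) : Matrix (Fin 4) (Fin 4) F) * M *
        (((Q * sc)⁻¹ : GL (Fin 4) F) : Matrix (Fin 4) (Fin 4) F) =
      (Q : Matrix (Fin 4) (Fin 4) F) * M * ((Q⁻¹ : GL (Fin 4) F) : Matrix (Fin 4) (Fin 4) F) := by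
    intro M
    have hcomm : (sc : Matrix (Fin 4) (Fin 4) F) * M = M * (sc : Matrix (Fin 4) (Fin 4) F) := by
      change (s • (1 : Matrix (Fin 4) (Fin 4) F)) * M = M * (s • 1)
      rw [Matrix.smul_mul, Matrix.mul_smul, one_mul, mul_one]
    rw [_root_.mul_inv_rev, Units.val_mul, Units.val_mul,
      Matrix.mul_assoc (Q : Matrix (Fin 4) (Fin 4) F), hcomm]
    simp [Matrix.mul_assoc]
  refine ⟨im, Q * sc, X1, Z1, X2, Z2, I, ⟨hP.im_sq, hP.finite, hP.gen, hP.hI, hP.hX1.trans (hscale _).symm,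
    hP.hZ1.trans (hscale _).symm, hP.hX2.trans (hscale _).symm, hP.hZ2.trans (hscale _).symm⟩, ?_⟩
  rw [mem_GU_iff φ hφq hφ]
  ext i j
  have hcol : ∀ i k, ((Q * sc : GL (Fin 4) F) : Matrix (Fin 4) (Fin 4) F) k i = s * u i k := by
    intro i k
    rw [Units.val_mul, show (sc : Matrix (Fin 4) (Fin 4) F) = s • 1 from rfl, Matrix.mul_smul, mul_one,
      Matrix.smul_apply, smul_eq_mul]
    simp [hu, Matrix.mulVec_single_one]
  rw [Matrix.mul_apply]
  simp only [conjT, AddMonoidHom.coe_mk, ZeroHom.coe_mk, Matrix.transpose_apply, Matrix.map_apply, hcol,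
    map_mul, hφq]
  rw [show ∑ k, (s * u i k) ^ p * (s * u j k) =
    s ^ (p + 1) * Cfsg.hermForm 4 F p (u j) (u i) by
      rw [Cfsg.hermForm, Finset.mul_sum]; exact Finset.sum_congr rfl fun k _ => by ring, hs]
  rcases eq_or_ne i j with rfl | hij
  · rw [hdiag, inv_mul_cancel₀ ht0, Matrix.one_apply_eq]
  · rw [hoff j i hij.symm, mul_zero, Matrix.one_apply_ne hij]

end CfsgLib.SUConj
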