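import Mathlib
import Cfsg.Agent.Lib.LinFix.Field
import Cfsg.Agent.Lib.Semisimple.GL

/-!
# Elements of prime order and similitudes of sesquilinear forms

Diagonal elements without a similitude, symmetric spectra in degree three and five, and the
Frobenius condition on the spectrum of an isometry.
-/

set_option autoImplicit false

namespace CfsgLib.LinFix.SimilDiag

open Matrix Polynomial

variable {F : Type*} [Field F] {n : ℕ}

/-- Pulling a similitude back along a change of basis. -/
theorem pullback {φ : F →+* F} {G : Matrix (Fin n) (Fin n) F} {g x : GL (Fin n) F} {μ : F}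
    (h : ((g⁻¹ * x * g : GL (Fin n) F) : Matrix (Fin n) (Fin n) F)ᵀ * G *
      ((g⁻¹ * x * g : GL (Fin n) F) : Matrix (Fin n) (Fin n) F).map φ = μ • G) :
    (x : Matrix (Fin n) (Fin n) F)ᵀ *
        (((g⁻¹ : GL (Fin n) F) : Matrix (Fin n) (Fin n) F)ᵀ * G *
          ((g⁻¹ : GL (Fin n) F) : Matrix (Fin n) (Fin n) F).map φ) *
        (x : Matrix (Fin n) (Fin n) F).map φ =
      μ • (((g⁻¹ : GL (Fin n) F) : Matrix (Fin n) (Fin n) F)ᵀ * G *
          ((g⁻¹ : GL (Fin n) F) : Matrix (Fin n) (Fin n) F).map φ) := by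
  set gi := ((g⁻¹ : GL (Fin n) F) : Matrix (Fin n) (Fin n) F)
  set xm := (x : Matrix (Fin n) (Fin n) F)
  set y := ((g⁻¹ * x * g : GL (Fin n) F) : Matrix (Fin n) (Fin n) F)
  have hy : y * gi = gi * xm := by
    simp only [y, gi, xm, ← Units.val_mul]
    congr 1
    group
  calc xmᵀ * (giᵀ * G * gi.map φ) * xm.map φ
      = (gi * xm)ᵀ * G * (gi * xm).map φ := by
        rw [Matrix.transpose_mul, Matrix.map_mul]; simp only [Matrix.mul_assoc]
    _ = giᵀ * (yᵀ * G * y.map φ) * gi.map φ := by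
        rw [← hy, Matrix.transpose_mul, Matrix.map_mul]; simp only [Matrix.mul_assoc]
    _ = μ • (giᵀ * G * gi.map φ) := by rw [h, Matrix.mul_smul, Matrix.smul_mul]

/-- The form obtained by pulling back is invertible. -/
theorem pullback_det {φ : F →+* F} {G : Matrix (Fin n) (Fin n) F} (hG : G.det ≠ 0) (g : GL (Fin n) F) :
    (((g⁻¹ : GL (Fin n) F) : Matrix (Fin n) (Fin n) F)ᵀ * G *
          ((g⁻¹ : GL (Fin n) F) : Matrix (Fin n) (Fin n) F).map φ).det ≠ 0 := by
  have hg : ((g⁻¹ : GL (Fin n) F) : Matrix (Fin n) (Fin n) F).det ≠ 0 :=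
    ((Matrix.isUnit_iff_isUnit_det _).1 (g⁻¹).isUnit).ne_zero
  rw [Matrix.det_mul, Matrix.det_mul, Matrix.det_transpose, ← RingHom.mapMatrix_apply, ← RingHom.map_det]
  exact mul_ne_zero (mul_ne_zero hg hG) ((map_ne_zero φ).2 hg)

/-- Powers of a similitude. -/
theorem pow_similitude {φ : F →+* F} {G X : Matrix (Fin n) (Fin n) F} {μ : F}
    (h : Xᵀ * G * X.map φ = μ • G) (k : ℕ) : (X ^ k)ᵀ * G * (X ^ k).map φ = μ ^ k • G := by
  induction k with
  | zero => simp
  | succ k ih =>
    calc (X ^ (k + 1))ᵀ * G * (X ^ (k + 1)).map φ = Xᵀ * ((X ^ k)ᵀ * G * (X ^ k).map φ) * X.map φ := by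
          rw [pow_succ, Matrix.transpose_mul, Matrix.map_mul]; simp only [Matrix.mul_assoc]
      _ = μ ^ (k + 1) • G := by rw [ih, Matrix.mul_smul, Matrix.smul_mul, h, smul_smul, pow_succ]

/-- The multiplier of a similitude of order dividing `k`. -/
theorem mult_pow_eq_one {φ : F →+* F} {G X : Matrix (Fin n) (Fin n) F} {μ : F} (hn : n ≠ 0)
    (hG : G.det ≠ 0) (h : Xᵀ * G * X.map φ = μ • G) {k : ℕ} (hX : X ^ k = 1) : μ ^ k = 1 := by
  haveI : Nonempty (Fin n) := ⟨⟨0, Nat.pos_of_ne_zero hn⟩⟩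
  have h1 := pow_similitude h k
  rw [hX, Matrix.transpose_one, Matrix.map_one φ (map_zero φ) (map_one φ), one_mul, mul_one] at h1
  have hG0 : G ≠ 0 := fun h0 => hG (by rw [h0, Matrix.det_zero])
  have h2 : (μ ^ k - 1) • G = 0 := by rw [sub_smul, one_smul, ← h1, sub_self]
  exact sub_eq_zero.1 ((smul_eq_zero.1 h2).resolve_right hG0)

/-- Multiplicities along the support of an invertible matrix. -/
theorem card_le_of_support [DecidableEq F] {G : Matrix (Fin n) (Fin n) F} (hG : G.det ≠ 0)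
    (a b : Fin n → F) {μ s : F} (hs : s ≠ 0) (h : ∀ i j, a i * b j * G i j = μ * G i j) :
    (Finset.univ.filter fun i => a i = s).card ≤ (Finset.univ.filter fun j => b j = μ / s).card := by
  classical
  let R := {i : Fin n // a i = s}
  let C := {j : Fin n // b j = μ / s}
  have hli : LinearIndependent F (fun i : R => fun j : C => G i.1 j.1) := by
    rw [Fintype.linearIndependent_iff]
    intro g hg
    let v : Fin n → F := fun i => if hi : a i = s then g ⟨i, hi⟩ else 0
    have hv : v ᵥ* G = 0 := by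
      funext j
      have hsum : (v ᵥ* G) j = ∑ i : R, g i * G i.1 j := by
        rw [Matrix.vecMul, dotProduct]
        rw [← Finset.sum_filter_add_sum_filter_not Finset.univ (fun i => a i = s),
          Finset.sum_eq_zero (s := Finset.univ.filter fun i => ¬ a i = s) (fun i hi => by
            simp [v, (Finset.mem_filter.1 hi).2]), add_zero,
          Finset.sum_subtype (Finset.univ.filter fun i => a i = s) (p := fun i => a i = s) (by simp)]
        exact Finset.sum_congr rfl fun i _ => by simp [v, i.2]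
      by_cases hj : b j = μ / s
      · rw [hsum]
        have := congrFun hg ⟨j, hj⟩
        simpa using this
      · rw [hsum, Pi.zero_apply]
        refine Finset.sum_eq_zero fun i _ => ?_
        by_cases hz : G i.1 j = 0
        · rw [hz, mul_zero]
        · refine absurd ?_ hj
          have := mul_right_cancel₀ hz (h i.1 j)
          rw [i.2] at this
          rw [eq_div_iff hs, mul_comm, this]
    intro i
    have := congrFun (Matrix.eq_zero_of_vecMul_eq_zero hG hv) i.1
    simpa [v, i.2] using this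
  have h1 := hli.fintype_card_le_finrank
  rw [Module.finrank_fintype_fun_eq_card, Fintype.card_subtype, Fintype.card_subtype] at h1
  exact h1

/-- The eigenvalue multiplicities of a diagonal similitude. -/
theorem card_eq_of_similitude [DecidableEq F] {φ : F →+* F} {G : Matrix (Fin n) (Fin n) F}
    (hG : G.det ≠ 0) {d : Fin n → F} {μ κ : F} (hμ : μ ≠ 0) (hκ : κ ≠ 0) (hd : ∀ i, φ (d i) = κ * d i)
    (h : (Matrix.diagonal d)ᵀ * G * (Matrix.diagonal d).map φ = μ • G) {s : F} (hs : s ≠ 0) :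
    (Finset.univ.filter fun i => d i = s).card =
      (Finset.univ.filter fun i => d i = μ / κ / s).card := by
  classical
  have he : ∀ i j, d i * d j * G i j = μ / κ * G i j := fun i j => by
    have h1 := congrFun (congrFun h i) j
    rw [Matrix.diagonal_transpose, Matrix.diagonal_map (map_zero φ), Matrix.mul_diagonal,
      Matrix.diagonal_mul, Matrix.smul_apply, smul_eq_mul] at h1
    simp only [Function.comp_apply, hd] at h1
    field_simp
    linear_combination h1
  refine le_antisymm (card_le_of_support hG d d hs he) ?_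
  have h2 := card_le_of_support (G := Gᵀ) (by rwa [Matrix.det_transpose]) d d (s := μ / κ / s)
    (div_ne_zero (div_ne_zero hμ hκ) hs) (μ := μ / κ) (fun i j => by
      rw [Matrix.transpose_apply, mul_comm (d i)]; exact he j i)
  rwa [show μ / κ / (μ / κ / s) = s by field_simp] at h2

section finite

variable [Fintype F]

/-- Primitive roots of unity of order dividing `q - 1`. -/
theorem exists_primitive {m : ℕ} (hm : m ∣ Fintype.card F - 1) : ∃ w : F, IsPrimitiveRoot w m := by
  classical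
  obtain ⟨g, hg⟩ := IsCyclic.exists_ofOrder_eq_natCard (α := Fˣ)
  rw [Nat.card_eq_fintype_card, Fintype.card_units] at hg
  obtain ⟨c, hc⟩ := hm
  have hpos : 0 < Fintype.card F - 1 := by have := Fintype.one_lt_card (α := F); omega
  have h1 : IsPrimitiveRoot ((g : Fˣ) : F) (Fintype.card F - 1) :=
    hg ▸ (IsPrimitiveRoot.orderOf g).map_of_injective (f := Units.coeHom F) Units.val_injective
  exact ⟨_, h1.pow hpos (show Fintype.card F - 1 = c * m by rw [hc, mul_comm])⟩

end finite

/-- Three blocks of constant values. -/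
def blocks (n a b : ℕ) (u v t : F) : Fin n → F :=
  fun i => if (i : ℕ) < a then u else if (i : ℕ) < a + b then v else t

theorem prod_blocks {a b c : ℕ} (h : a + b + c = n) (u v t : F) :
    ∏ i, blocks n a b u v t i = u ^ a * v ^ b * t ^ c := by
  subst h
  rw [Fin.prod_univ_add, Fin.prod_univ_add,
    Finset.prod_congr rfl (g := fun _ => u) (fun i _ => by simp [blocks]),
    Finset.prod_congr rfl (s₁ := (Finset.univ : Finset (Fin b))) (g := fun _ => v)
      (fun i _ => by simp [blocks]),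
    Finset.prod_congr rfl (s₁ := (Finset.univ : Finset (Fin c))) (g := fun _ => t)
      (fun i _ => by simp [blocks, add_assoc])]
  simp

theorem card_blocks [DecidableEq F] {a b c : ℕ} (h : a + b + c = n) (u v t s : F) :
    (Finset.univ.filter fun i => blocks n a b u v t i = s).card =
      (if u = s then a else 0) + (if v = s then b else 0) + (if t = s then c else 0) := by
  subst h
  rw [Finset.card_filter, Fin.sum_univ_add, Fin.sum_univ_add,
    Finset.sum_congr rfl (g := fun _ => if u = s then 1 else 0) (fun i _ => by simp [blocks]),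
    Finset.sum_congr rfl (s₁ := (Finset.univ : Finset (Fin b))) (g := fun _ => if v = s then 1 else 0)
      (fun i _ => by simp [blocks]),
    Finset.sum_congr rfl (s₁ := (Finset.univ : Finset (Fin c))) (g := fun _ => if t = s then 1 else 0)
      (fun i _ => by simp [blocks, add_assoc])]
  simp

/-- Two values with unique multiplicities rule out a symmetry of the spectrum. -/
theorem no_symm [DecidableEq F] {r : ℕ} (hodd : Odd r) {d : Fin n → F} {s t : F} (hs : s ≠ 0) (ht : t ≠ 0)
    (hst : s ≠ t) (hr : s ^ r = t ^ r)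
    (hs1 : 0 < (Finset.univ.filter fun i => d i = s).card)
    (ht1 : 0 < (Finset.univ.filter fun i => d i = t).card)
    (hus : ∀ u, (Finset.univ.filter fun i => d i = u).card = (Finset.univ.filter fun i => d i = s).card → u = s)
    (hut : ∀ u, (Finset.univ.filter fun i => d i = u).card = (Finset.univ.filter fun i => d i = t).card → u = t) :
    ¬ ∃ μ : F, ∀ u : F, u ≠ 0 →
      (Finset.univ.filter fun i => d i = u).card = (Finset.univ.filter fun i => d i = μ / u).card := by
  rintro ⟨μ, hμ⟩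
  have h1 : μ / s = s := hus _ (hμ s hs).symm
  have h2 : μ / t = t := hut _ (hμ t ht).symm
  rw [div_eq_iff hs] at h1
  rw [div_eq_iff ht] at h2
  rcases sq_eq_sq_iff_eq_or_eq_neg.1 (show s ^ 2 = t ^ 2 by rw [pow_two, pow_two, ← h1, h2]) with h | h
  · exact hst h
  · rw [h, hodd.neg_pow] at hr
    have h4 : t ^ r * 2 = 0 := by linear_combination -hr
    have h5 : (2 : F) = 0 := (mul_eq_zero.1 h4).resolve_left (pow_ne_zero _ ht)
    exact hst (by rw [h, neg_eq_iff_add_eq_zero, ← two_mul, h5, zero_mul])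

variable [Fintype F] [DecidableEq F]

/-- A diagonal element of prime order with unsymmetrical spectrum. -/
theorem exists_asym {r : ℕ} [hr : Fact r.Prime] (hr2 : r ≠ 2) (hr1 : r ∣ Fintype.card F - 1) (hn : 3 ≤ n)
    (hgap : ¬ (n = 6 ∧ r = 3))
    (hcond : ¬ ((r = 3 ∨ r = 5) ∧ n = r ∧ padicValNat r (Fintype.card F - 1) = 1)) :
    ∃ d : Fin n → F, ∏ i, d i = 1 ∧ (∀ i, d i ≠ 0) ∧ (∃ z, ∀ i, d i ^ r = z) ∧ (∃ i j, d i ≠ d j) ∧
      ¬ ∃ μ : F, ∀ u : F, u ≠ 0 →
        (Finset.univ.filter fun i => d i = u).card = (Finset.univ.filter fun i => d i = μ / u).card := by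
  have hodd : Odd r := hr.out.odd_of_ne_two hr2
  have hr3 : 3 ≤ r := by have := hr.out.two_le; omega
  suffices key : ∃ (a b c : ℕ) (u v t z : F), a + b + c = n ∧ u ^ a * v ^ b * t ^ c = 1 ∧
      u ≠ 0 ∧ v ≠ 0 ∧ t ≠ 0 ∧ u ^ r = z ∧ v ^ r = z ∧ t ^ r = z ∧ u ≠ v ∧ u ≠ t ∧
      0 < a ∧ 0 < b ∧ a ≠ b ∧ a ≠ c ∧ (c = 0 ∨ (v ≠ t ∧ b ≠ c)) by
    obtain ⟨a, b, c, u, v, t, z, habc, hprod, hu, hv, ht, hzu, hzv, hzt, huv, hut, ha, hb, hab, hac, hc⟩ := key
    refine ⟨blocks n a b u v t, by rw [prod_blocks habc, hprod], fun i => ?_, ⟨z, fun i => ?_⟩,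
      ⟨⟨0, by omega⟩, ⟨a, by omega⟩, by simp [blocks, ha, hb, huv]⟩, ?_⟩
    · unfold blocks; split_ifs <;> assumption
    · unfold blocks; split_ifs <;> assumption
    have hcu : (Finset.univ.filter fun i => blocks n a b u v t i = u).card = a := by
      rw [card_blocks habc]; simp [Ne.symm huv, Ne.symm hut]
    have hcv : (Finset.univ.filter fun i => blocks n a b u v t i = v).card = b := by
      rw [card_blocks habc]
      rcases hc with rfl | ⟨hvt, -⟩
      · simp [huv]
      · simp [huv, Ne.symm hvt]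
    refine no_symm hodd hu hv huv (hzu.trans hzv.symm) (by rw [hcu]; exact ha) (by rw [hcv]; exact hb)
      (fun w hw => ?_) (fun w hw => ?_)
    · rw [card_blocks habc, hcu] at hw
      by_contra hne
      rw [if_neg (Ne.symm hne), zero_add] at hw
      rcases hc with rfl | ⟨hvt, hbc⟩
      · split_ifs at hw <;> omega
      · split_ifs at hw with h1 h2 h2
        · exact hvt (h1.trans h2.symm)
        all_goals omega
    · rw [card_blocks habc, hcv] at hw
      by_contra hne
      rw [if_neg (fun h : v = w => hne h.symm), add_zero] at hw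
      rcases hc with rfl | ⟨-, hbc⟩
      · split_ifs at hw <;> omega
      · split_ifs at hw with h1 h2 h2
        · exact hut (h1.trans h2.symm)
        all_goals omega
  obtain ⟨ω, hω⟩ := exists_primitive (F := F) hr1
  have hω0 : ω ≠ 0 := hω.ne_zero hr.out.ne_zero
  by_cases hrn : r ∣ n
  · have hrle : r ≤ n := Nat.le_of_dvd (by omega) hrn
    by_cases hsmall : r = 3 ∧ n ≠ 3
    · obtain ⟨rfl, hn3⟩ := hsmall
      refine ⟨3, n - 3, 0, ω, 1, 1, 1, by omega, by simp [hω.pow_eq_one], hω0, one_ne_zero, one_ne_zero,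
        hω.pow_eq_one, one_pow _, one_pow _, hω.ne_one (by norm_num), hω.ne_one (by norm_num),
        by norm_num, by omega, fun h => hgap ⟨by omega, rfl⟩, by norm_num, Or.inl rfl⟩
    by_cases hbig : 5 ≤ r ∧ 6 ≤ n
    · obtain ⟨h5, h6⟩ := hbig
      have h2ne : ω ^ 2 ≠ 1 := hω.pow_ne_one_of_pos_of_lt (by norm_num) (by omega)
      refine ⟨n - 3, 2, 1, 1, ω, (ω ^ 2)⁻¹, 1, by omega, ?_, one_ne_zero, hω0,
        inv_ne_zero (pow_ne_zero 2 hω0), one_pow _, hω.pow_eq_one, ?_, (hω.ne_one (by omega)).symm,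
        ?_, by omega, by norm_num, by omega, by omega, Or.inr ⟨?_, by norm_num⟩⟩
      · rw [one_pow, one_mul, pow_one, mul_inv_cancel₀ (pow_ne_zero 2 hω0)]
      · rw [inv_pow, ← pow_mul, mul_comm, pow_mul, hω.pow_eq_one, one_pow, inv_one]
      · exact fun h => h2ne (inv_eq_one.1 h.symm)
      · intro h
        refine hω.pow_ne_one_of_pos_of_lt (l := 3) (by norm_num) (by omega) ?_
        have h' := mul_inv_cancel₀ (pow_ne_zero 2 hω0)
        rw [← h] at h'
        rw [pow_succ]
        exact h'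
    · have hnr : n = r ∧ (r = 3 ∨ r = 5) := by
        obtain ⟨j, hj⟩ := hrn
        rcases Nat.lt_or_ge j 2 with hj2 | hj2
        · interval_cases j
          · omega
          · have : r ≠ 4 := fun h => by subst h; exact absurd hr.out (by norm_num)
            omega
        · have : 2 * r ≤ n := by rw [hj, mul_comm r j]; exact Nat.mul_le_mul_right r hj2
          have : r ≠ 4 := fun h => by subst h; exact absurd hr.out (by norm_num)
          omega
      obtain ⟨rfl, h35⟩ := hnr
      have hv : padicValNat n (Fintype.card F - 1) ≠ 1 := fun h => hcond ⟨h35, rfl, h⟩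
      have hq1 : Fintype.card F - 1 ≠ 0 := by have := Fintype.one_lt_card (α := F); omega
      have hv1 := one_le_padicValNat_of_dvd hq1 hr1
      obtain ⟨w, hw⟩ := exists_primitive (F := F) (m := n ^ 2) ((padicValNat_dvd_iff_le hq1).2 (by omega))
      have hw0 : w ≠ 0 := hw.ne_zero (pow_ne_zero 2 hr.out.ne_zero)
      have hlt : n < n ^ 2 := by rw [pow_two]; nlinarith
      have hpow : (w ^ n) ^ n = 1 := by rw [← pow_mul, ← pow_two, hw.pow_eq_one]
      have hne : w ≠ w * (w ^ n)⁻¹ := by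
        intro h
        have h1 : (w ^ n)⁻¹ = 1 := mul_left_cancel₀ hw0 (by rw [mul_one]; exact h.symm)
        exact hw.pow_ne_one_of_pos_of_lt (by omega) hlt (inv_eq_one.1 h1)
      refine ⟨n - 1, 1, 0, w, w * (w ^ n)⁻¹, w * (w ^ n)⁻¹, w ^ n, by omega, ?_, hw0,
        mul_ne_zero hw0 (inv_ne_zero (pow_ne_zero _ hw0)), mul_ne_zero hw0 (inv_ne_zero (pow_ne_zero _ hw0)),
        rfl, ?_, ?_, hne, hne, by omega, one_pos, by omega, by omega, Or.inl rfl⟩
      · rw [pow_one, pow_zero, mul_one, ← mul_assoc, ← pow_succ, Nat.sub_add_cancel (by omega : 1 ≤ n),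
          mul_inv_cancel₀ (pow_ne_zero _ hw0)]
      · rw [mul_pow, inv_pow, hpow, inv_one, mul_one]
      · rw [mul_pow, inv_pow, hpow, inv_one, mul_one]
  · have hne : ω ≠ (ω ^ (n - 1))⁻¹ := by
      intro h
      refine hrn (hω.dvd_of_pow_eq_one n ?_)
      have h' := mul_inv_cancel₀ (pow_ne_zero (n - 1) hω0)
      rw [← h, ← pow_succ, Nat.sub_add_cancel (by omega : 1 ≤ n)] at h'
      exact h'
    have hpw : ((ω ^ (n - 1))⁻¹) ^ r = 1 := by
      rw [inv_pow, ← pow_mul, mul_comm, pow_mul, hω.pow_eq_one, one_pow, inv_one]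
    exact ⟨n - 1, 1, 0, ω, (ω ^ (n - 1))⁻¹, (ω ^ (n - 1))⁻¹, 1, by omega,
      by rw [pow_one, pow_zero, mul_one, mul_inv_cancel₀ (pow_ne_zero _ hω0)],
      hω0, inv_ne_zero (pow_ne_zero _ hω0), inv_ne_zero (pow_ne_zero _ hω0),
      hω.pow_eq_one, hpw, hpw, hne, hne, by omega, one_pos, by omega, by omega, Or.inl rfl⟩

/-- The fifteen pairings of five points with their fixed point. -/
def pairTab : Fin 15 → Fin 5 → Fin 5 :=
  ![![0, 2, 1, 4, 3], ![0, 3, 4, 1, 2], ![0, 4, 3, 2, 1],
    ![2, 1, 0, 4, 3], ![3, 1, 4, 0, 2], ![4, 1, 3, 2, 0],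
    ![1, 0, 2, 4, 3], ![3, 4, 2, 0, 1], ![4, 3, 2, 1, 0],
    ![1, 0, 4, 3, 2], ![2, 4, 0, 3, 1], ![4, 2, 1, 3, 0],
    ![1, 0, 3, 2, 4], ![2, 3, 0, 1, 4], ![3, 2, 1, 0, 4]]

theorem pairTab_invol : ∀ j i, pairTab j (pairTab j i) = i := by decide

/-- Five residues with sum zero are symmetrical. -/
theorem five_symm : ∀ a b c d : ZMod 5, ∃ (j : Fin 15) (k : Fin 5), ∀ i : Fin 5,
    (![a, b, c, d, -(a + b + c + d)] : Fin 5 → ZMod 5) i + (![a, b, c, d, -(a + b + c + d)] : Fin 5 → ZMod 5) (pairTab j i) =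
      2 * (![a, b, c, d, -(a + b + c + d)] : Fin 5 → ZMod 5) k := by
  decide

omit [DecidableEq F] [Fintype F] in
/-- In degree three and five an element of determinant one and order `r` has symmetrical spectrum. -/
theorem exists_pairing {r : ℕ} [hr : Fact r.Prime] (h35 : r = 3 ∨ r = 5) {ω : F} (hω : IsPrimitiveRoot ω r)
    {M : Matrix (Fin r) (Fin r) F} (hM : M ^ r = 1) (hdet : M.det = 1) :
    ∃ (e : Fin r → F) (π : Equiv.Perm (Fin r)) (c : F), (∀ i, π (π i) = i) ∧ (∀ i, e i ^ r = 1) ∧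
      (∀ i, e i * e (π i) = c) ∧ M.charpoly = ∏ i, (X - C (e i)) := by
  classical
  haveI : NeZero r := ⟨hr.out.ne_zero⟩
  have hfac : (X ^ r - 1 : F[X]) = ∏ ζ ∈ nthRootsFinset r (1 : F), (X - C ζ) := X_pow_sub_one_eq_prod hr.out.pos hω
  have hdvd : M.charpoly ∣ (X ^ r - 1) ^ r := by
    refine (CfsgLib.Spectrum.charpoly_dvd_minpoly_pow M).trans ?_
    exact pow_dvd_pow_of_dvd (minpoly.dvd F M (by simp [hM])) r
  have hXr : ((X ^ r - 1 : F[X]) ^ r).Splits := by
    rw [hfac]
    exact (Polynomial.Splits.prod fun ζ _ => Polynomial.Splits.X_sub_C ζ).pow r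
  have hne : ((X ^ r - 1 : F[X]) ^ r) ≠ 0 := pow_ne_zero _ (by
    rw [← map_one C]; exact X_pow_sub_C_ne_zero hr.out.pos 1)
  have hs : M.charpoly.Splits := Polynomial.Splits.of_dvd hXr hne hdvd
  have hroots : ∀ z ∈ M.charpoly.roots, z ^ r = 1 := by
    intro z hz
    have h := ((mem_roots M.charpoly_monic.ne_zero).1 hz).dvd hdvd
    simp [IsRoot, sub_eq_zero, hr.out.ne_zero] at h
    exact h
  have hcard : M.charpoly.roots.card = r := by
    rw [← hs.natDegree_eq_card_roots, M.charpoly_natDegree_eq_dim, Fintype.card_fin]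
  obtain ⟨l, hl⟩ : ∃ l : List F, (l : Multiset F) = M.charpoly.roots := ⟨_, M.charpoly.roots.coe_toList⟩
  have hll : l.length = r := by rw [← hcard, ← hl, Multiset.coe_card]
  let e : Fin r → F := fun i => l.get (i.cast hll.symm)
  have hmem : ∀ i, e i ∈ M.charpoly.roots := fun i => by
    rw [← hl, Multiset.mem_coe]; exact List.get_mem _ _
  have hprod : M.charpoly = ∏ i, (X - C (e i)) := by
    conv_lhs => rw [hs.eq_prod_roots_of_monic M.charpoly_monic, ← hl, Multiset.map_coe, Multiset.prod_coe,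
      ← List.ofFn_get l, List.map_ofFn, List.prod_ofFn]
    exact Fintype.prod_equiv (finCongr hll) _ _ fun i => rfl
  have hd1 : ∏ i, e i = 1 := by
    have h := M.det_eq_sign_charpoly_coeff
    rw [hdet, hprod, coeff_zero_eq_eval_zero, eval_prod, Fintype.card_fin] at h
    simp only [eval_sub, eval_X, eval_C, zero_sub] at h
    rw [Finset.prod_neg, Finset.card_univ, Fintype.card_fin, ← mul_assoc, ← mul_pow] at h
    simpa using h.symm
  choose a ha ha' using fun i => hω.eq_pow_of_pow_eq_one (hroots _ (hmem i))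
  let α : Fin r → ZMod r := fun i => (a i : ZMod r)
  have hsum : ∑ i, α i = 0 := by
    have h1 : ω ^ (∑ i, a i) = 1 := by
      rw [← Finset.prod_pow_eq_pow_sum, Finset.prod_congr rfl fun i _ => ha' i, hd1]
    simp only [α, ← Nat.cast_sum]
    rw [CharP.cast_eq_zero_iff (ZMod r) r]
    exact hω.dvd_of_pow_eq_one _ h1
  obtain ⟨π, k, hπ, hk⟩ : ∃ (π : Equiv.Perm (Fin r)) (k : Fin r), (∀ i, π (π i) = i) ∧
      ∀ i, α i + α (π i) = 2 * α k := by
    rcases h35 with rfl | rfl
    · refine ⟨Equiv.swap 1 2, 0, fun i => Equiv.swap_apply_self _ _ _, fun i => ?_⟩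
      have h3 : (3 : ZMod 3) = 0 := rfl
      rw [Fin.sum_univ_three] at hsum
      fin_cases i
      · show α 0 + α (Equiv.swap (1 : Fin 3) 2 0) = _
        rw [Equiv.swap_apply_of_ne_of_ne (by simp) (by simp [Fin.ext_iff])]; ring
      · show α 1 + α (Equiv.swap (1 : Fin 3) 2 1) = _
        rw [Equiv.swap_apply_left]
        linear_combination hsum - α 0 * h3
      · show α 2 + α (Equiv.swap (1 : Fin 3) 2 2) = _
        rw [Equiv.swap_apply_right]
        linear_combination hsum - α 0 * h3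
    · rw [Fin.sum_univ_five] at hsum
      obtain ⟨j, k, hk⟩ := five_symm (α 0) (α 1) (α 2) (α 3)
      have hα : (![α 0, α 1, α 2, α 3, -(α 0 + α 1 + α 2 + α 3)] : Fin 5 → ZMod 5) = α := by
        funext i
        fin_cases i <;> simp
        linear_combination -hsum
      rw [hα] at hk
      exact ⟨Function.Involutive.toPerm (pairTab j) (pairTab_invol j), k, pairTab_invol j, hk⟩
  refine ⟨e, π, e k * e k, hπ, fun i => hroots _ (hmem i), fun i => ?_, hprod⟩
  simp only [← ha', ← pow_add]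
  have h : ((a i + a (π i) : ℕ) : ZMod r) = ((a k + a k : ℕ) : ZMod r) := by
    push_cast
    rw [← two_mul]
    exact hk i
  rw [pow_eq_pow_mod _ hω.pow_eq_one, (ZMod.natCast_eq_natCast_iff' _ _ _).1 h,
    ← pow_eq_pow_mod _ hω.pow_eq_one]

omit [DecidableEq F] in
/-- A semisimple element with prescribed spectrum of order dividing `r`. -/
theorem exists_of_dvd {r : ℕ} [hr : Fact r.Prime] {P : F[X]} (hP : P.Monic) {N : ℕ}
    (hdvd : P ∣ (X ^ r - 1) ^ N) (hn : P.natDegree = n) :
    ∃ M : Matrix (Fin n) (Fin n) F, M ^ r = 1 ∧ M.charpoly = P := by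
  have h0 : P.eval 0 ≠ 0 := fun h => by
    have h2 := eval_dvd (x := (0 : F)) hdvd
    rw [h, zero_dvd_iff] at h2
    simp [hr.out.ne_zero] at h2
  obtain ⟨M, k, hk, hM, hMc⟩ := CfsgLib.Semisimple.exists_charpoly P hP h0 hn
  refine ⟨M, ?_, hMc⟩
  have hk0 : k ≠ 0 := fun h => by simp [h] at hk
  have hsep : Squarefree (X ^ k - C (1 : F)) := (separable_X_pow_sub_C 1 hk one_ne_zero).squarefree
  rw [map_one] at hsep
  have h1 : Squarefree (minpoly F M) := hsep.squarefree_of_dvd (minpoly.dvd F M (by simp [hM]))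
  have h2 : minpoly F M ∣ (X ^ r - 1) ^ (N + 1) :=
    (Matrix.minpoly_dvd_charpoly M).trans ((hMc ▸ hdvd).trans (pow_dvd_pow _ (Nat.le_succ N)))
  obtain ⟨c, hc⟩ := (h1.dvd_pow_iff_dvd N.succ_ne_zero).1 h2
  have h3 := congrArg (Polynomial.aeval M) hc
  rw [map_mul, minpoly.aeval, zero_mul] at h3
  simpa [sub_eq_zero] using h3

omit [DecidableEq F] in
/-- The Frobenius condition on the spectrum of an isometry. -/
theorem orbit_condition {p j : ℕ} [Fact p.Prime] [CharP F p] {r : ℕ} [hr : Fact r.Prime] {φ : F →+* F}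
    (hφ : ∀ x, φ x = x ^ p ^ j) (hφ2 : ∀ x, φ (φ x) = x) {g : F[X]} (hg : Irreducible g)
    (hgd : g ∣ X ^ r - 1) (hg1 : ¬ g ∣ X - 1) {e s : ℕ} (hs : 0 < s) {G : Matrix (Fin n) (Fin n) F}
    (hG : G.det ≠ 0) {x : GL (Fin n) F}
    (hcp : (x : Matrix (Fin n) (Fin n) F).charpoly = (X - 1) ^ e * g ^ s)
    (hiso : (x : Matrix (Fin n) (Fin n) F)ᵀ * G * (x : Matrix (Fin n) (Fin n) F).map φ = G) :
    ∃ k : ℕ, ((Fintype.card F : ℕ) : ZMod r) ^ k = -((p : ZMod r) ^ j) := by
  classical
  haveI : Fact (Irreducible g) := ⟨hg⟩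
  set E := AdjoinRoot g
  haveI : Module.Finite F E := (AdjoinRoot.powerBasis hg.ne_zero).finite
  haveI : Finite E := Module.finite_of_finite F
  letI : Fintype E := Fintype.ofFinite _
  haveI : CharP E p := charP_of_injective_algebraMap (algebraMap F E).injective p
  set α : E := AdjoinRoot.root g with hα
  have hzero : ∀ P : F[X], Polynomial.aeval α P = 0 ↔ g ∣ P := fun P => by
    rw [AdjoinRoot.aeval_eq, AdjoinRoot.mk_eq_zero]
  have hαr : α ^ r = 1 := by simpa [sub_eq_zero] using (hzero _).2 hgd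
  have hα1 : α ≠ 1 := fun h => hg1 ((hzero _).1 (by simp [h]))
  have hord : orderOf α = r := orderOf_eq_prime hαr hα1
  have hα0 : α ≠ 0 := fun h => by rw [h, zero_pow hr.out.ne_zero] at hαr; exact zero_ne_one hαr
  set x' := (x : Matrix (Fin n) (Fin n) F) with hx'
  set xi := ((x⁻¹ : GL (Fin n) F) : Matrix (Fin n) (Fin n) F) with hxi'
  have hGu : IsUnit G := (Matrix.isUnit_iff_isUnit_det G).2 hG.isUnit
  have hinv : xi.charpoly = x'.charpoly.map φ := by
    obtain ⟨U, hU⟩ := hGu
    have h1 : xiᵀ * G = G * x'.map φ := by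
      conv_lhs => rw [← hiso]
      rw [← Matrix.mul_assoc, ← Matrix.mul_assoc, ← Matrix.transpose_mul, Units.mul_inv,
        Matrix.transpose_one, one_mul]
    have h2 : x'.map φ = ((U⁻¹ : GL (Fin n) F) : Matrix (Fin n) (Fin n) F) * xiᵀ *
        ((U⁻¹⁻¹ : GL (Fin n) F) : Matrix (Fin n) (Fin n) F) := by
      rw [inv_inv, hU, Matrix.mul_assoc, h1, ← Matrix.mul_assoc, ← hU, Units.inv_mul, one_mul]
    rw [← Matrix.charpoly_map, h2, inv_inv, ← inv_inv U]
    rw [inv_inv U⁻¹, Matrix.coe_units_inv U⁻¹, Matrix.charpoly_units_conj, Matrix.charpoly_transpose]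
  -- the inverse of the root is a root of the conjugate polynomial
  let xE : GL (Fin n) E := Matrix.GeneralLinearGroup.map (algebraMap F E) x
  have hmapE : ∀ y : GL (Fin n) F, ((Matrix.GeneralLinearGroup.map (algebraMap F E) y : GL (Fin n) E) :
      Matrix (Fin n) (Fin n) E) = (y : Matrix (Fin n) (Fin n) F).map (algebraMap F E) := fun y => rfl
  have hev : α ∈ spectrum E (xE : Matrix (Fin n) (Fin n) E) := by
    rw [Matrix.mem_spectrum_iff_isRoot_charpoly, hmapE, Matrix.charpoly_map, hcp, IsRoot,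
      eval_map, ← aeval_def, map_mul, map_pow, map_pow, (hzero g).2 dvd_rfl, zero_pow hs.ne', mul_zero]
  have hev' : α⁻¹ ∈ spectrum E ((xE⁻¹ : GL (Fin n) E) : Matrix (Fin n) (Fin n) E) :=
    spectrum.inv₀_mem_inv_iff.2 hev
  rw [← map_inv, Matrix.mem_spectrum_iff_isRoot_charpoly, hmapE, Matrix.charpoly_map, ← hxi', hinv,
    Polynomial.map_map, IsRoot, hcp, Polynomial.map_mul, Polynomial.map_pow, Polynomial.map_pow, eval_mul,
    eval_pow, eval_pow] at hev'
  have hroot : (g.map ((algebraMap F E).comp φ)).eval α⁻¹ = 0 := by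
    rcases mul_eq_zero.1 hev' with h | h
    · refine absurd (eq_zero_of_pow_eq_zero h) ?_
      simpa [sub_eq_zero] using hα1
    · exact eq_zero_of_pow_eq_zero h
  let ψ : E →+* E := iterateFrobenius E p j
  have hψ : ψ.comp ((algebraMap F E).comp φ) = algebraMap F E := by
    ext c
    simp only [RingHom.comp_apply, ψ, iterateFrobenius_def, ← map_pow, ← hφ, hφ2]
  set β := ψ α⁻¹ with hβ
  have hβroot : Polynomial.aeval β g = 0 := by
    have h := congrArg ψ hroot
    rw [eval_map, hom_eval₂, hψ, map_zero] at h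
    exact h
  let σ : E →ₐ[F] E := AdjoinRoot.liftAlgHom g (Algebra.ofId F E) β hβroot
  have hσ : σ α = β := AdjoinRoot.liftAlgHom_root ..
  let σ' : E ≃ₐ[F] E := AlgEquiv.ofBijective σ (Finite.injective_iff_bijective.1 σ.toRingHom.injective)
  obtain ⟨k, hk⟩ := (FiniteField.bijective_frobeniusAlgEquivOfAlgebraic_pow F E).2 σ'
  refine ⟨(k : ℕ), ?_⟩
  have h1 : β = α ^ Fintype.card F ^ (k : ℕ) := by
    rw [← hσ, show σ α = σ' α from rfl, ← hk]
    simp only [AlgEquiv.coe_pow, FiniteField.coe_frobeniusAlgEquivOfAlgebraic_iterate,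
      Nat.card_eq_fintype_card]
  have h2 : α ^ (Fintype.card F ^ (k : ℕ) + p ^ j) = 1 := by
    rw [pow_add, ← h1, hβ]
    simp only [ψ, iterateFrobenius_def]
    rw [← mul_pow, inv_mul_cancel₀ hα0, one_pow]
  have h3 := orderOf_dvd_of_pow_eq_one h2
  rw [hord, ← CharP.cast_eq_zero_iff (ZMod r) r] at h3
  push_cast at h3
  linear_combination h3

end CfsgLib.LinFix.SimilDiag
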