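import Mathlib
import Cfsg.Prelude.Def_GeometricClasses
import Cfsg.Agent.Lib.LinFix.JordanIso
import Cfsg.Agent.Lib.LinFix.Elements

/-!
# Conjugating prime order matrices into subfield groups
-/

set_option autoImplicit false
open scoped MatrixGroups

namespace CfsgLib.LinFix

open Matrix Cfsg.Geo

variable {F : Type*} [Field F] {n : ℕ}

/-- The rank of a matrix is unchanged by extending the field. -/
theorem finrank_range_map {K : Type*} [Field K] (f : K →+* F) (A : Matrix (Fin n) (Fin n) K) :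
    Module.finrank F (LinearMap.range (Matrix.toLin' (A.map f))) =
      Module.finrank K (LinearMap.range (Matrix.toLin' A)) := by
  classical
  set U := LinearMap.range (Matrix.toLin' A) with hU
  set r := Module.finrank K U
  let b := Module.finBasis K U
  let Bl : (Fin r → K) →ₗ[K] (Fin n → K) := U.subtype.comp b.equivFun.symm.toLinearMap
  have hBker : LinearMap.ker Bl = ⊥ :=
    LinearMap.ker_eq_bot.2 (U.injective_subtype.comp b.equivFun.symm.injective)
  obtain ⟨Ll, hL⟩ := Bl.exists_leftInverse_of_injective hBker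
  have hBr : LinearMap.range Bl = U := by
    rw [LinearMap.range_comp, LinearEquiv.range, Submodule.map_top, Submodule.range_subtype]
  choose g hg using fun i : Fin r =>
    LinearMap.mem_range.1 (hBr.le ⟨Pi.single i 1, rfl⟩ : Bl (Pi.single i 1) ∈ U)
  let Rl : (Fin r → K) →ₗ[K] (Fin n → K) := Fintype.linearCombination K g
  have hR : (Matrix.toLin' A).comp Rl = Bl := (Pi.basisFun K (Fin r)).ext fun i => by
    simp [Rl, Fintype.linearCombination_apply_single, ← hg, Matrix.toLin'_apply]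
  set L := LinearMap.toMatrix' Ll
  set B := LinearMap.toMatrix' Bl
  set R := LinearMap.toMatrix' Rl
  have hLB : L * B = 1 := by
    rw [← LinearMap.toMatrix'_comp, hL, LinearMap.toMatrix'_id]
  have hBLA : B * (L * A) = A := by
    apply Matrix.toLin'.injective
    refine LinearMap.ext fun x => ?_
    obtain ⟨c, hc⟩ : Matrix.toLin' A x ∈ LinearMap.range Bl := hBr.symm ▸ ⟨x, rfl⟩
    simp only [Matrix.toLin'_mul, LinearMap.comp_apply, B, L, Matrix.toLin'_toMatrix']
    rw [← hc, ← LinearMap.comp_apply Ll, hL, LinearMap.id_apply]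
  have hCR : (L * A) * R = 1 := by
    have h : A * R = B := by
      apply Matrix.toLin'.injective
      simp only [Matrix.toLin'_mul, R, B, Matrix.toLin'_toMatrix', hR]
    rw [Matrix.mul_assoc, h, hLB]
  have e : Matrix.toLin' (A.map f) = (Matrix.toLin' (B.map f)).comp (Matrix.toLin' ((L * A).map f)) := by
    rw [← Matrix.toLin'_mul, ← Matrix.map_mul, hBLA]
  have hsurj : Function.Surjective (Matrix.toLin' ((L * A).map f)) := fun y =>
    ⟨Matrix.toLin' (R.map f) y, by
      rw [← LinearMap.comp_apply, ← Matrix.toLin'_mul, ← Matrix.map_mul, hCR,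
        Matrix.map_one _ f.map_zero f.map_one, Matrix.toLin'_one, LinearMap.id_apply]⟩
  have hinj : Function.Injective (Matrix.toLin' (B.map f)) := by
    refine Function.LeftInverse.injective (g := Matrix.toLin' (L.map f)) fun y => ?_
    rw [← LinearMap.comp_apply, ← Matrix.toLin'_mul, ← Matrix.map_mul, hLB,
      Matrix.map_one _ f.map_zero f.map_one, Matrix.toLin'_one, LinearMap.id_apply]
  rw [e, LinearMap.range_comp, LinearMap.range_eq_top.2 hsurj, Submodule.map_top,
    LinearMap.finrank_range_of_inj hinj, Module.finrank_fin_fun]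

theorem toLin'_pow_map {K : Type*} [Field K] (f : K →+* F) (A : Matrix (Fin n) (Fin n) K) (j : ℕ) :
    Matrix.toLin' (A.map f) ^ j = Matrix.toLin' ((A ^ j).map f) := by
  rw [← toLin'_pow', Matrix.map_pow]

theorem finrank_range_map_sub_one {K : Type*} [Field K] (f : K →+* F) (M : Matrix (Fin n) (Fin n) K)
    (j : ℕ) : Module.finrank F (LinearMap.range ((Matrix.toLin' (M.map f) - 1) ^ j)) =
      Module.finrank K (LinearMap.range ((Matrix.toLin' M - 1) ^ j)) := by
  have h2 : Matrix.toLin' (M.map f) - 1 = Matrix.toLin' ((M - 1).map f) := by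
    rw [Matrix.map_sub _ (map_sub _), Matrix.map_one _ (map_zero _) (map_one _), map_sub,
      Matrix.toLin'_one]
    rfl
  have h3 : Matrix.toLin' M - 1 = Matrix.toLin' (M - 1) := by
    rw [map_sub, Matrix.toLin'_one]; rfl
  rw [h2, h3, toLin'_pow_map, finrank_range_map, toLin'_pow']

/-- Ranks of powers are invariant under conjugation. -/
theorem finrank_range_pow_conj {A B : Matrix (Fin n) (Fin n) F} (P : GL (Fin n) F)
    (h : (P : Matrix (Fin n) (Fin n) F) * A = B * (P : Matrix (Fin n) (Fin n) F)) (j : ℕ) :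
    Module.finrank F (LinearMap.range (Matrix.toLin' A ^ j)) =
      Module.finrank F (LinearMap.range (Matrix.toLin' B ^ j)) := by
  have hj : (P : Matrix (Fin n) (Fin n) F) * A ^ j = B ^ j * (P : Matrix (Fin n) (Fin n) F) :=
    (show SemiconjBy _ A B from h).pow_right j
  let e : (Fin n → F) ≃ₗ[F] (Fin n → F) :=
    LinearEquiv.ofLinearMap (Matrix.toLin' (P : Matrix (Fin n) (Fin n) F))
      (Matrix.toLin' ((P⁻¹ : GL (Fin n) F) : Matrix (Fin n) (Fin n) F))
      (by rw [← Matrix.toLin'_mul, ← Units.val_mul, mul_inv_cancel, Units.val_one, Matrix.toLin'_one])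
      (by rw [← Matrix.toLin'_mul, ← Units.val_mul, inv_mul_cancel, Units.val_one, Matrix.toLin'_one])
  have h1 : (LinearMap.range (Matrix.toLin' A ^ j)).map (e : (Fin n → F) →ₗ[F] Fin n → F) =
      LinearMap.range (Matrix.toLin' B ^ j) := by
    rw [← LinearMap.range_comp, ← toLin'_pow', ← toLin'_pow',
      show ((e : (Fin n → F) →ₗ[F] Fin n → F)) = Matrix.toLin' (P : Matrix (Fin n) (Fin n) F) from rfl,
      ← Matrix.toLin'_mul, hj, Matrix.toLin'_mul, LinearMap.range_comp,
      LinearMap.range_eq_top.2 (show Function.Surjective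
        (Matrix.toLin' (P : Matrix (Fin n) (Fin n) F)) from e.surjective), Submodule.map_top]
  rw [← h1, LinearEquiv.finrank_map_eq e]

/-- Nilpotent matrices with equal ranks of powers are conjugate. -/
theorem exists_conj_of_ranks {A B : Matrix (Fin n) (Fin n) F} (hA : IsNilpotent (Matrix.toLin' A))
    (hB : IsNilpotent (Matrix.toLin' B)) (hr : ∀ j, Module.finrank F (LinearMap.range (Matrix.toLin' A ^ j)) =
      Module.finrank F (LinearMap.range (Matrix.toLin' B ^ j))) :
    ∃ P : GL (Fin n) F, (P : Matrix (Fin n) (Fin n) F) * A = B * (P : Matrix (Fin n) (Fin n) F) := by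
  obtain ⟨e, he⟩ := exists_equiv_of_ranks hA hB hr
  refine ⟨⟨LinearMap.toMatrix' (e : (Fin n → F) →ₗ[F] Fin n → F),
    LinearMap.toMatrix' (e.symm : (Fin n → F) →ₗ[F] Fin n → F), ?_, ?_⟩, ?_⟩
  · rw [← LinearMap.toMatrix'_comp]; simp
  · rw [← LinearMap.toMatrix'_comp]; simp
  · apply Matrix.toLin'.injective
    rw [Matrix.toLin'_mul, Matrix.toLin'_mul]
    change (Matrix.toLin' (LinearMap.toMatrix' (e : (Fin n → F) →ₗ[F] Fin n → F))).comp _ =
      (Matrix.toLin' B).comp (Matrix.toLin' (LinearMap.toMatrix' (e : (Fin n → F) →ₗ[F] Fin n → F)))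
    rw [Matrix.toLin'_toMatrix']
    exact LinearMap.ext he

/-- Scaling an invariant summand gives a commuting element with determinant a power. -/
theorem exists_commute_scale {T : Module.End F (Fin n → F)} {U U' : Submodule F (Fin n → F)}
    (hU : Inv T U) (hU' : Inv T U') (hc : IsCompl U U') {a : F} (ha : a ≠ 0) :
    ∃ C : GL (Fin n) F, (C : Matrix (Fin n) (Fin n) F).det = a ^ Module.finrank F U ∧
      Commute (Matrix.toLin' (C : Matrix (Fin n) (Fin n) F)) T := by
  let ψ := Submodule.prodEquivOfIsCompl U U' hc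
  let S : Module.End F (Fin n → F) := ψ.conj (LinearMap.prodMap (a • (1 : Module.End F U)) 1)
  have hdet : LinearMap.det S = a ^ Module.finrank F U := by
    simp only [S, LinearEquiv.conj_apply]
    rw [LinearMap.comp_assoc, LinearMap.det_conj, LinearMap.det_prodMap, LinearMap.det_smul,
      map_one, map_one, mul_one, mul_one]
  have hS : ∀ x y, S (ψ (x, y)) = ψ (a • x, y) := fun x y => by simp [S, LinearEquiv.conj_apply]
  refine ⟨Matrix.GeneralLinearGroup.mkOfDetNeZero (LinearMap.toMatrix' S) (by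
      rw [LinearMap.det_toMatrix', hdet]; exact pow_ne_zero _ ha), ?_, ?_⟩
  · change (LinearMap.toMatrix' S).det = _
    rw [LinearMap.det_toMatrix', hdet]
  · change Commute (Matrix.toLin' (LinearMap.toMatrix' S)) T
    rw [Matrix.toLin'_toMatrix']
    refine LinearMap.ext fun v => ?_
    obtain ⟨⟨x, y⟩, rfl⟩ := ψ.surjective v
    have hT : T (ψ (x, y)) = ψ (⟨T x, hU x x.2⟩, ⟨T y, hU' y y.2⟩) := by simp [ψ]
    have h2 : T (ψ (a • x, y)) = ψ (⟨T ((a • x : U) : Fin n → F), hU _ (a • x).2⟩, ⟨T y, hU' y y.2⟩) := by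
      simp [ψ]
    rw [Module.End.mul_apply, Module.End.mul_apply, hT, hS, hS, h2]
    congr 1
    ext <;> simp

variable (F₀ : Subfield F)

/-- Membership in the standard subfield group. -/
theorem mem_subfield_iff (y : SL(n, F)) :
    y ∈ (subfieldSubgroup F₀ 1).comap (SpecialLinearGroup.toGL : SL(n, F) →* GL (Fin n) F) ↔
      ∃ (g : GL (Fin n) F₀) (l : Fˣ),
        (y : Matrix (Fin n) (Fin n) F) = (l : F) • (g : Matrix (Fin n) (Fin n) F₀).map F₀.subtype := by
  rw [Subgroup.mem_comap]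
  constructor
  · rintro ⟨k, hk, hky⟩
    obtain ⟨_, ⟨g, rfl⟩, z, hz, rfl⟩ := Subgroup.mem_sup_of_normal_right.1 hk
    obtain ⟨l, hl⟩ := (mem_scalars_iff z).1 hz
    refine ⟨g, l, ?_⟩
    have h := congrArg (fun u : GL (Fin n) F => (u : Matrix (Fin n) (Fin n) F)) hky
    simp only [map_one, MulEquiv.coe_toMonoidHom, MulAut.one_apply] at h
    rw [Units.val_mul, hl, Matrix.mul_smul, Matrix.mul_one] at h
    exact h.symm
  · rintro ⟨g, l, h⟩
    refine ⟨GeneralLinearGroup.map (F₀.subtype : F₀ →+* F) g *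
      Units.map (Matrix.scalar (Fin n) : F →+* Matrix (Fin n) (Fin n) F).toMonoidHom l,
      Subgroup.mul_mem_sup ⟨g, rfl⟩ ⟨l, rfl⟩, ?_⟩
    apply Units.ext
    simp only [map_one, MulEquiv.coe_toMonoidHom, MulAut.one_apply]
    rw [Units.val_mul]
    change _ = (y : Matrix (Fin n) (Fin n) F)
    rw [h]
    ext i j
    simp [mul_comm]

/-- The conjugate of `x` by a determinant one matrix lies in the subfield group once `x` is
conjugate to such an element by a matrix whose determinant can be corrected. -/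
theorem exists_conj_mem [NeZero n] {x : SL(n, F)} {A C : GL (Fin n) F}
    {g : GL (Fin n) F₀} {l : Fˣ}
    (hA : (A : Matrix (Fin n) (Fin n) F) * x = ((l : F) • (g : Matrix (Fin n) (Fin n) F₀).map F₀.subtype) * A)
    (hC : (C : Matrix (Fin n) (Fin n) F) * x = (x : Matrix (Fin n) (Fin n) F) * C)
    {δ : F₀} (hδ : (A : Matrix (Fin n) (Fin n) F).det * (C : Matrix (Fin n) (Fin n) F).det = (δ : F)) :
    ∃ P : SL(n, F), P⁻¹ * x * P ∈
      (subfieldSubgroup F₀ 1).comap (SpecialLinearGroup.toGL : SL(n, F) →* GL (Fin n) F) := by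
  classical
  have hδ0 : δ ≠ 0 := by
    intro h
    rw [h, ZeroMemClass.coe_zero] at hδ
    exact mul_ne_zero ((Matrix.isUnit_iff_isUnit_det _).1 A.isUnit).ne_zero
      ((Matrix.isUnit_iff_isUnit_det _).1 C.isUnit).ne_zero hδ
  obtain ⟨D, hD⟩ : ∃ D : GL (Fin n) F₀, (D : Matrix (Fin n) (Fin n) F₀).det = δ := by
    obtain ⟨D, hD⟩ := GeneralLinearGroup.det_surjective (n := Fin n) (Units.mk0 δ hδ0)
    exact ⟨D, congrArg Units.val hD⟩
  let Q : GL (Fin n) F := (GeneralLinearGroup.map (F₀.subtype : F₀ →+* F) D)⁻¹ * A * C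
  have hDdet : ((GeneralLinearGroup.map (F₀.subtype : F₀ →+* F) D : GL (Fin n) F) :
      Matrix (Fin n) (Fin n) F).det = (δ : F) := by
    change ((D : Matrix (Fin n) (Fin n) F₀).map F₀.subtype).det = _
    rw [← RingHom.mapMatrix_apply, ← RingHom.map_det, hD]
    rfl
  have hQ : (Q : Matrix (Fin n) (Fin n) F).det = 1 := by
    have h1 : ((GeneralLinearGroup.map (F₀.subtype : F₀ →+* F) D : GL (Fin n) F) :
        Matrix (Fin n) (Fin n) F).det *
        (((GeneralLinearGroup.map (F₀.subtype : F₀ →+* F) D)⁻¹ : GL (Fin n) F) : Matrix (Fin n) (Fin n) F).det = 1 := by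
      rw [← Matrix.det_mul, ← Units.val_mul, mul_inv_cancel, Units.val_one, Matrix.det_one]
    rw [hDdet] at h1
    simp only [Q, Units.val_mul, Matrix.det_mul]
    rw [mul_assoc, hδ, mul_comm]
    exact h1
  obtain ⟨Q', hQ'⟩ : ∃ Q' : SL(n, F), (Q' : Matrix (Fin n) (Fin n) F) = Q := ⟨⟨_, hQ⟩, rfl⟩
  refine ⟨Q'⁻¹, ?_⟩
  rw [inv_inv, mem_subfield_iff]
  refine ⟨D⁻¹ * g * D, l, ?_⟩
  have key : (Q' : Matrix (Fin n) (Fin n) F) * x =
      ((l : F) • ((D⁻¹ * g * D : GL (Fin n) F₀) : Matrix (Fin n) (Fin n) F₀).map F₀.subtype) * Q' := by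
    rw [hQ']
    have hmap : ((D⁻¹ * g * D : GL (Fin n) F₀) : Matrix (Fin n) (Fin n) F₀).map F₀.subtype =
        ((GeneralLinearGroup.map (F₀.subtype : F₀ →+* F) (D⁻¹ * g * D) : GL (Fin n) F) :
          Matrix (Fin n) (Fin n) F) := rfl
    rw [hmap, map_mul, map_mul, map_inv]
    simp only [Q, Units.val_mul, Matrix.mul_assoc]
    rw [hC, ← Matrix.mul_assoc (A : Matrix (Fin n) (Fin n) F), hA]
    simp only [Matrix.mul_assoc, Matrix.smul_mul, Matrix.mul_smul]
    rw [← Matrix.mul_assoc ((GeneralLinearGroup.map (F₀.subtype : F₀ →+* F) D : GL (Fin n) F) :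
      Matrix (Fin n) (Fin n) F), Units.mul_inv, Matrix.one_mul]
    rfl
  change ((Q' : SL(n, F)) : Matrix (Fin n) (Fin n) F) * (x : Matrix (Fin n) (Fin n) F) *
      ((Q'⁻¹ : SL(n, F)) : Matrix (Fin n) (Fin n) F) = _
  have h1 : (Q' : Matrix (Fin n) (Fin n) F) * ((Q'⁻¹ : SL(n, F)) : Matrix (Fin n) (Fin n) F) = 1 :=
    congrArg Subtype.val (mul_inv_cancel Q')
  rw [key, Matrix.mul_assoc]
  exact (congrArg (((l : F) • ((D⁻¹ * g * D : GL (Fin n) F₀) : Matrix (Fin n) (Fin n) F₀).map F₀.subtype) * ·) h1).trans (Matrix.mul_one _)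

variable {p : ℕ} [Fact p.Prime] [CharP F p]

omit F₀ in
/-- The scalar part of a `p`-th root of a scalar. -/
theorem exists_unipotent_part [Fintype F] {x : SL(n, F)} {c : F} (hn : n ≠ 0)
    (hx : ((x ^ p : SL(n, F)) : Matrix (Fin n) (Fin n) F) = c • 1) :
    ∃ (w : Fˣ) (u : Matrix (Fin n) (Fin n) F), (x : Matrix (Fin n) (Fin n) F) = (w : F) • u ∧
      Matrix.toLin' u ^ p = 1 := by
  obtain ⟨w, hw⟩ := (bijective_frobenius F p).surjective c
  rw [frobenius_def] at hw
  have hc := scalar_ne_zero hn hx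
  have hw0 : w ≠ 0 := fun h => hc (by rw [← hw, h, zero_pow (Fact.out : p.Prime).ne_zero])
  refine ⟨Units.mk0 w hw0, w⁻¹ • (x : Matrix (Fin n) (Fin n) F), by simp [smul_smul, hw0], ?_⟩
  rw [map_smul, smul_pow, toLin'_pow_eq hx, smul_smul, inv_pow, hw, inv_mul_cancel₀ hc, one_smul]

/-- A matrix `w u` with `u` unipotent of order `p` is conjugate into the subfield group as soon as
every scalar is, up to `F₀`, a power by some block size. -/
theorem exists_conj_unipotent [Fintype F] {x : SL(n, F)} {w : Fˣ} {u : Matrix (Fin n) (Fin n) F}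
    (hn : n ≠ 0) (hxu : (x : Matrix (Fin n) (Fin n) F) = (w : F) • u) (hu : Matrix.toLin' u ^ p = 1)
    (hδ : ∀ μ : Multiset ℕ, (∀ b ∈ μ, 0 < b ∧ b ≤ p) → μ.sum = n →
      ∀ d : F, d ≠ 0 → ∃ k ∈ μ, ∃ (a : F) (δ : F₀), a ≠ 0 ∧ d * a ^ k = (δ : F)) :
    ∃ P : SL(n, F), P⁻¹ * x * P ∈
      (subfieldSubgroup F₀ 1).comap (SpecialLinearGroup.toGL : SL(n, F) →* GL (Fin n) F) := by
  classical
  haveI : NeZero n := ⟨hn⟩
  haveI : CharP F₀ p :=
    RingHom.charP (F₀.subtype : F₀ →+* F) Subtype.val_injective p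
  haveI : Fintype F₀ := Fintype.ofFinite _
  obtain ⟨μ, hμ, hrank, hsum, hsplit⟩ := exists_blocks_char hu (inv_top (Matrix.toLin' u))
  rw [finrank_top, Module.finrank_fin_fun] at hsum
  obtain ⟨u₀, hu₀, hrank₀⟩ := exists_sl_blocks (F := F₀) μ (fun b hb => (hμ b hb).2) hsum
  set v := (u₀ : Matrix (Fin n) (Fin n) F₀).map F₀.subtype with hv
  have hsub : ∀ (M : Matrix (Fin n) (Fin n) F),
      Matrix.toLin' (M - 1) = Matrix.toLin' M - 1 := fun M => by
    rw [map_sub, Matrix.toLin'_one]; rfl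
  have hnil : IsNilpotent (Matrix.toLin' (u - 1)) :=
    ⟨p, by rw [hsub, sub_one_pow_char, hu, sub_self]⟩
  have hnil' : IsNilpotent (Matrix.toLin' (v - 1)) := ⟨p, by
    rw [hsub, ← LinearMap.range_eq_bot, ← Submodule.finrank_eq_zero, hv, finrank_range_map_sub_one,
      sub_one_pow_char, hu₀, sub_self, LinearMap.range_zero, finrank_bot]⟩
  obtain ⟨A, hA⟩ := exists_conj_of_ranks hnil hnil' fun j => by
    rw [hsub, ← Submodule.map_top, hrank, hsub, hv, finrank_range_map_sub_one]
    exact (hrank₀ j).symm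
  rw [Matrix.mul_sub, Matrix.sub_mul, Matrix.mul_one, Matrix.one_mul, sub_left_inj] at hA
  have hdetA : (A : Matrix (Fin n) (Fin n) F).det ≠ 0 :=
    ((Matrix.isUnit_iff_isUnit_det _).1 A.isUnit).ne_zero
  obtain ⟨k, hk, a, δ, ha, hd⟩ := hδ μ hμ hsum _ hdetA
  obtain ⟨U, U', hU, hU', hdis, hsup, hUk⟩ := hsplit {k} (Multiset.singleton_le.2 hk)
  obtain ⟨C, hCdet, hC⟩ := exists_commute_scale hU hU' ⟨hdis, codisjoint_iff.2 hsup⟩ ha
  rw [hUk, Multiset.sum_singleton] at hCdet
  obtain ⟨G, hG⟩ : ∃ G : GL (Fin n) F₀, (G : Matrix (Fin n) (Fin n) F₀) = u₀ :=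
    ⟨SpecialLinearGroup.toGL u₀, rfl⟩
  refine exists_conj_mem F₀ (A := A) (C := C) (g := G) (l := w) ?_ ?_ (δ := δ) (by rw [hCdet, hd])
  · rw [hxu, hG, Matrix.mul_smul, hA, Matrix.smul_mul]
  · have h : (C : Matrix (Fin n) (Fin n) F) * u = u * C := by
      apply Matrix.toLin'.injective
      rw [Matrix.toLin'_mul, Matrix.toLin'_mul]
      exact hC
    rw [hxu, Matrix.mul_smul, h, Matrix.smul_mul]

section scalars

omit [CharP F p] [Fact p.Prime]

/-- Elements of the subfield are fixed by the `q₀`-th power map. -/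
theorem pow_eq_of_mem [Fintype F] {a : F} (ha : a ∈ F₀) : a ^ Nat.card F₀ = a := by
  haveI : Fintype F₀ := Fintype.ofFinite _
  have h := FiniteField.pow_card (⟨a, ha⟩ : F₀)
  rw [Nat.card_eq_fintype_card]
  exact congrArg Subtype.val h

/-- The fixed points of the `q₀`-th power map are the elements of the subfield. -/
theorem mem_of_pow_eq [Fintype F] {a : F} (ha : a ^ Nat.card F₀ = a) : a ∈ F₀ := by
  classical
  haveI : Fintype F₀ := Fintype.ofFinite _
  have h1 : 1 < Nat.card F₀ := Finite.one_lt_card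
  set P : Polynomial F := Polynomial.X ^ Nat.card F₀ - Polynomial.X
  have hP : P ≠ 0 := FiniteField.X_pow_card_sub_X_ne_zero F h1
  have hdeg : P.natDegree = Nat.card F₀ := FiniteField.X_pow_card_sub_X_natDegree_eq F h1
  by_contra hn
  let S : Finset F := insert a (Finset.univ.image fun b : F₀ => (b : F))
  have hS : S.card = Nat.card F₀ + 1 := by
    rw [Finset.card_insert_of_notMem (by simp [hn]),
      Finset.card_image_of_injective _ Subtype.val_injective, Finset.card_univ,
      Nat.card_eq_fintype_card]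
  have hsub : S.val ⊆ P.roots := fun b hb => by
    rw [Polynomial.mem_roots hP]
    have hb' : b ^ Nat.card F₀ = b := by
      rcases Finset.mem_insert.1 hb with rfl | hb
      · exact ha
      · obtain ⟨c, -, rfl⟩ := Finset.mem_image.1 hb
        exact pow_eq_of_mem F₀ c.2
    rw [Polynomial.IsRoot, Polynomial.eval_sub, Polynomial.eval_pow, Polynomial.eval_X, hb', sub_self]
  have := Polynomial.card_le_degree_of_subset_roots hsub
  omega

/-- In a quadratic extension the elements of the subfield are squares. -/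
theorem isSquare_of_mem [Fintype F] (hF : ringChar F ≠ 2)
    (hk : Fintype.card F = Nat.card F₀ ^ 2) {a : F} (ha : a ∈ F₀) : IsSquare a := by
  rcases eq_or_ne a 0 with rfl | ha0
  · exact ⟨0, (mul_zero 0).symm⟩
  · rw [FiniteField.isSquare_iff hF ha0]
    have hodd : Nat.card F₀ % 2 = 1 := by
      have h := FiniteField.odd_card_of_char_ne_two hF
      rw [hk, Nat.pow_mod] at h
      rcases Nat.mod_two_eq_zero_or_one (Nat.card F₀) with h0 | h0
      · rw [h0] at h; simp at h
      · exact h0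
    have hq1 : a ^ (Nat.card F₀ - 1) = 1 := by
      refine mul_right_cancel₀ ha0 ?_
      rw [← pow_succ, one_mul, show Nat.card F₀ - 1 + 1 = Nat.card F₀ by omega, pow_eq_of_mem F₀ ha]
    obtain ⟨m, hm⟩ : ∃ m, Nat.card F₀ = 2 * m + 1 := ⟨Nat.card F₀ / 2, by omega⟩
    have : Fintype.card F / 2 = (Nat.card F₀ - 1) * (m + 1) := by
      rw [hk, hm, show (2 * m + 1) ^ 2 = 2 * (2 * m * (m + 1)) + 1 by ring, Nat.add_sub_cancel]
      omega
    rw [this, pow_mul, hq1, one_pow]

/-- An odd degree extension: every scalar is a square times an element of the subfield. -/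
theorem exists_mul_sq_mem [Fintype F] {k : ℕ} (hk : Odd k) (hq : Odd (Nat.card F₀))
    (hcard : Fintype.card F = Nat.card F₀ ^ k) {d : F} (hd : d ≠ 0) :
    ∃ a : F, a ≠ 0 ∧ d * a ^ 2 ∈ F₀ := by
  set q₀ := Nat.card F₀
  have hm : Odd (∑ i ∈ Finset.range k, q₀ ^ i) := by
    rw [Finset.odd_sum_iff_odd_card_odd, Finset.filter_true_of_mem fun i _ => hq.pow,
      Finset.card_range]
    exact hk
  obtain ⟨j, hj⟩ := hm
  refine ⟨d ^ j, pow_ne_zero _ hd, mem_of_pow_eq F₀ ?_⟩
  have hgeom : (∑ i ∈ Finset.range k, q₀ ^ i) * (q₀ - 1) = Fintype.card F - 1 := by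
    rw [hcard]
    exact geom_sum_mul_of_one_le hq.pos k
  have e : d * (d ^ j) ^ 2 = d ^ (∑ i ∈ Finset.range k, q₀ ^ i) := by
    rw [hj, ← pow_mul, ← pow_succ', mul_comm j]
  rw [e]
  conv_lhs => rw [show Nat.card F₀ = (q₀ - 1) + 1 from (Nat.sub_add_cancel hq.pos).symm, pow_succ,
    ← pow_mul, hgeom, FiniteField.pow_card_sub_one_eq_one d hd, one_mul]

end scalars

end CfsgLib.LinFix
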