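import Mathlib
import Cfsg.Prelude.Def_GeometricClasses
import Cfsg.Agent.Lib.LinFix.SimilDiag
import Cfsg.Agent.Lib.LinFix.SmallClasses
import Cfsg.Agent.Lib.LinFix.HermModel
import Cfsg.Agent.S5979

/-!
# Test elements for the similitude groups of forms
-/

set_option autoImplicit false

namespace CfsgLib.LinFix.SimilTools

open Matrix Polynomial CfsgLib.Asch CfsgLib.LinFix.HermModel
open scoped MatrixGroups

variable {F : Type*} [Field F] {n : ℕ}

/-- The similitude obtained by a change of basis. -/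
theorem mem_of_model {φ : F →+* F} {G Gm : Matrix (Fin n) (Fin n) F} {P Y : GL (Fin n) F} {μ : Fˣ}
    (hP : (P : Matrix (Fin n) (Fin n) F)ᵀ * G * (P : Matrix (Fin n) (Fin n) F).map φ = Gm)
    (hY : (Y : Matrix (Fin n) (Fin n) F)ᵀ * Gm * (Y : Matrix (Fin n) (Fin n) F).map φ = (μ : F) • Gm) :
    P * Y * P⁻¹ ∈ Cfsg.Geo.similarityGroup (sform φ G) := by
  refine mem_similarity_iff.2 ⟨μ, ?_⟩
  have h := SimilDiag.pullback (g := P) (x := P * Y * P⁻¹) (G := Gm) (μ := (μ : F)) (φ := φ)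
    (by rw [show P⁻¹ * (P * Y * P⁻¹) * P = Y by group]; exact hY)
  have hback : ((P⁻¹ : GL (Fin n) F) : Matrix (Fin n) (Fin n) F)ᵀ * Gm *
      ((P⁻¹ : GL (Fin n) F) : Matrix (Fin n) (Fin n) F).map φ = G := by
    rw [← hP]
    calc ((P⁻¹ : GL (Fin n) F) : Matrix (Fin n) (Fin n) F)ᵀ *
          ((P : Matrix (Fin n) (Fin n) F)ᵀ * G * (P : Matrix (Fin n) (Fin n) F).map φ) *
          ((P⁻¹ : GL (Fin n) F) : Matrix (Fin n) (Fin n) F).map φ
        = ((P : Matrix (Fin n) (Fin n) F) * ((P⁻¹ : GL (Fin n) F) : Matrix (Fin n) (Fin n) F))ᵀ * G *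
            ((P : Matrix (Fin n) (Fin n) F) * ((P⁻¹ : GL (Fin n) F) : Matrix (Fin n) (Fin n) F)).map φ := by
          rw [Matrix.transpose_mul, Matrix.map_mul]; simp only [Matrix.mul_assoc]
      _ = G := by rw [Units.mul_inv, Matrix.transpose_one, Matrix.map_one φ (map_zero φ) (map_one φ), one_mul, mul_one]
  rwa [hback] at h

variable [Fintype F]

/-- A semisimple element is moved into the similitude group by a model with the same spectrum. -/
theorem fixes_of_model (p : ℕ) [Fact p.Prime] [CharP F p] [NeZero n] {k : ℕ} (hk : (k : F) ≠ 0) {c : F}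
    (hc : c ≠ 0) {φ : F →+* F} {G Gm : Matrix (Fin n) (Fin n) F} {P x : GL (Fin n) F} {μ : F} (hμ : μ ≠ 0)
    (hP : (P : Matrix (Fin n) (Fin n) F)ᵀ * G * (P : Matrix (Fin n) (Fin n) F).map φ = Gm)
    (hx : (x : Matrix (Fin n) (Fin n) F) ^ k = c • 1) {N : Matrix (Fin n) (Fin n) F}
    (hN : Nᵀ * Gm * N.map φ = μ • Gm) (hNk : N ^ k = c • 1)
    (hcp : N.charpoly = (x : Matrix (Fin n) (Fin n) F).charpoly) :
    ∃ g ∈ Cfsg.Geo.specialLinear (Fin n) F, g⁻¹ * x * g ∈ Cfsg.Geo.similarityGroup (sform φ G) := by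
  have hk0 : k ≠ 0 := by rintro rfl; simp at hk
  have hd : N.det ≠ 0 := fun h => by
    have := congrArg Matrix.det hNk
    rw [Matrix.det_pow, h, zero_pow hk0, Matrix.det_smul, Matrix.det_one, mul_one] at this
    exact pow_ne_zero _ hc this.symm
  let Y : GL (Fin n) F := Matrix.GeneralLinearGroup.mkOfDetNeZero N hd
  obtain ⟨g, hg, hgx⟩ := exists_sl_conj_of_charpoly p hk hc (x := x) (y := P * Y * P⁻¹) hx
    (by
      rw [Units.val_mul, Units.val_mul, Units.conj_pow,
        show (Y : Matrix (Fin n) (Fin n) F) ^ k = c • 1 from hNk, Matrix.mul_smul, Matrix.mul_one,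
        Matrix.smul_mul, Units.mul_inv])
    (by
      rw [Units.val_mul, Units.val_mul, Matrix.coe_units_inv, Matrix.charpoly_units_conj]
      exact hcp)
  exact ⟨g, mem_sl_iff.2 hg, hgx ▸ mem_of_model (μ := Units.mk0 μ hμ) hP hN⟩

/-- An element of order `r` with prescribed spectrum. -/
theorem exists_element {p : ℕ} [Fact p.Prime] [CharP F p] {r : ℕ} [hr : Fact r.Prime] (hrp : r ≠ p)
    (hr1 : ¬ r ∣ Fintype.card F - 1) {e s : ℕ} (hs : 0 < s)
    (hn : e + s * orderOf (Fintype.card F : ZMod r) = n) :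
    ∃ (x : GL (Fin n) F) (g : F[X]), Irreducible g ∧ g ∣ X ^ r - 1 ∧ ¬ g ∣ X - 1 ∧
      x ∈ Cfsg.Geo.specialLinear (Fin n) F ∧ (x : Matrix (Fin n) (Fin n) F) ^ r = 1 ∧
      (∀ z : F, (x : Matrix (Fin n) (Fin n) F) ≠ z • (1 : Matrix (Fin n) (Fin n) F)) ∧
      (x : Matrix (Fin n) (Fin n) F).charpoly = (X - 1) ^ e * g ^ s := by
  obtain ⟨g, hg, hgm, hgd, hg1⟩ := exists_irreducible_dvd_X_pow_sub_one (F := F) (r := r) hrp
  have hdeg := natDegree_eq_order (orderOf_pos_of_ne (F := F) hrp) hg hgd hg1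
  have hlm : (X - 1 : F[X]).Monic := by simpa using monic_X_sub_C (1 : F)
  have hld : (X - 1 : F[X]).natDegree = 1 := by simpa using natDegree_X_sub_C (1 : F)
  obtain ⟨M, hMr, hMc⟩ := SimilDiag.exists_of_dvd (F := F) (r := r) (P := (X - 1) ^ e * g ^ s)
    ((hlm.pow e).mul (hgm.pow s)) (N := e + s)
    (by
      rw [pow_add]
      exact mul_dvd_mul (pow_dvd_pow_of_dvd (sub_one_dvd_pow_sub_one X r) e) (pow_dvd_pow_of_dvd hgd s))
    (n := n) (by rw [(hlm.pow e).natDegree_mul (hgm.pow s), natDegree_pow, natDegree_pow, hld, hdeg, mul_one, hn])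
  have hroot : ∀ z : F, z ^ r = 1 → z = 1 := by
    intro z hz
    by_contra h1
    have hz0 : z ≠ 0 := fun h => by rw [h, zero_pow hr.out.ne_zero] at hz; exact zero_ne_one hz
    exact hr1 (orderOf_eq_prime hz h1 ▸ orderOf_dvd_of_pow_eq_one (FiniteField.pow_card_sub_one_eq_one z hz0))
  have hd : M.det = 1 := hroot _ (by rw [← Matrix.det_pow, hMr, Matrix.det_one])
  refine ⟨Matrix.GeneralLinearGroup.mkOfDetNeZero M (by rw [hd]; exact one_ne_zero), g, hg, hgd, hg1,
    mem_sl_iff.2 hd, hMr, fun z hz => ?_, hMc⟩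
  change M = z • 1 at hz
  have hn0 : 0 < n := by
    rw [← hn]
    have := Nat.mul_pos hs (orderOf_pos_of_ne (F := F) (r := r) hrp)
    omega
  haveI : Nonempty (Fin n) := ⟨⟨0, hn0⟩⟩
  have hzr : z ^ r = 1 := by
    have h := congrFun (congrFun hMr (Classical.arbitrary (Fin n))) (Classical.arbitrary (Fin n))
    rw [hz, _root_.smul_pow, one_pow] at h
    simpa using h
  rw [hz, hroot z hzr, one_smul, Matrix.charpoly_one, Fintype.card_fin] at hMc
  exact hg1 (hg.prime.dvd_of_dvd_pow (n := n) (hMc ▸ (dvd_pow_self g hs.ne').mul_left _))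

/-- The diagonal test element. -/
theorem exists_asym_element [DecidableEq F] {r : ℕ} [hr : Fact r.Prime] (hr2 : r ≠ 2)
    (hr1 : r ∣ Fintype.card F - 1) (hn : 3 ≤ n) (hgap : ¬ (n = 6 ∧ r = 3))
    (hcond : ¬ ((r = 3 ∨ r = 5) ∧ n = r ∧ padicValNat r (Fintype.card F - 1) = 1)) :
    ∃ (x : GL (Fin n) F) (d : Fin n → F), x ∈ Cfsg.Geo.specialLinear (Fin n) F ∧
      (x : Matrix (Fin n) (Fin n) F) = Matrix.diagonal d ∧
      (∃ z : F, ((x ^ r : GL (Fin n) F) : Matrix (Fin n) (Fin n) F) = z • (1 : Matrix (Fin n) (Fin n) F)) ∧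
      (∀ z : F, (x : Matrix (Fin n) (Fin n) F) ≠ z • (1 : Matrix (Fin n) (Fin n) F)) ∧
      (∀ i, d i ≠ 0) ∧ (∀ i j, (d i / d j) ^ r = 1) ∧
      ¬ ∃ μ : F, ∀ u : F, u ≠ 0 →
        (Finset.univ.filter fun i => d i = u).card = (Finset.univ.filter fun i => d i = μ / u).card := by
  obtain ⟨d, hd1, hd0, ⟨z, hz⟩, ⟨i, j, hij⟩, hno⟩ := SimilDiag.exists_asym (F := F) (n := n) hr2 hr1 hn hgap hcond
  refine ⟨Matrix.GeneralLinearGroup.mkOfDetNeZero (Matrix.diagonal d)
    (by rw [Matrix.det_diagonal, hd1]; exact one_ne_zero), d,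
    mem_sl_iff.2 (show (Matrix.diagonal d).det = 1 by rw [Matrix.det_diagonal, hd1]), rfl, ⟨z, ?_⟩,
    fun w hw => ?_, hd0, fun i j => ?_, hno⟩
  · rw [Units.val_pow_eq_pow_val]
    change Matrix.diagonal d ^ r = _
    rw [Matrix.diagonal_pow, Matrix.smul_one_eq_diagonal]
    exact congrArg Matrix.diagonal (funext fun i => hz i)
  · change Matrix.diagonal d = _ at hw
    have h1 := congrFun (congrFun hw i) i
    have h2 := congrFun (congrFun hw j) j
    simp at h1 h2
    exact hij (h1.trans h2.symm)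
  · rw [div_pow, hz, hz, div_self]
    exact hz j ▸ pow_ne_zero _ (hd0 j)

omit [Fintype F] in
/-- A diagonal matrix of signs with prescribed characteristic polynomial. -/
theorem exists_signs {k l : ℕ} (h : k + l = n) (w : F) :
    ∃ d : Fin n → F, (∀ i, d i = w ∨ d i = -w) ∧
      (Matrix.diagonal d).charpoly = (X - C w) ^ k * (X - C (-w)) ^ l := by
  refine ⟨SimilDiag.blocks n k l w (-w) (-w), fun i => ?_, ?_⟩
  · unfold SimilDiag.blocks; split_ifs <;> simp
  · subst h
    rw [Matrix.charpoly_diagonal, Fin.prod_univ_add,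
      Finset.prod_congr rfl (g := fun _ => X - C w) (fun i _ => by simp [SimilDiag.blocks]),
      Finset.prod_congr rfl (s₁ := (Finset.univ : Finset (Fin l))) (g := fun _ => X - C (-w))
        (fun i _ => by simp [SimilDiag.blocks])]
    simp

omit [Fintype F] in
/-- The permutation form and a diagonal similitude of it. -/
theorem perm_similitude (φ : F →+* F) {π : Equiv.Perm (Fin n)} (hπ : ∀ i, π (π i) = i) {e : Fin n → F}
    {c : F} (he : ∀ i, φ (e i) = e i) (hc : ∀ i, e i * e (π i) = c) :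
    (π.permMatrix F)ᵀ = π.permMatrix F ∧ (π.permMatrix F).det ≠ 0 ∧
      (π.permMatrix F).map φ = π.permMatrix F ∧
      (Matrix.diagonal e)ᵀ * π.permMatrix F * (Matrix.diagonal e).map φ = c • π.permMatrix F := by
  refine ⟨?_, ?_, ?_, ?_⟩
  · rw [Matrix.transpose_permMatrix]
    congr 1
    exact Equiv.ext fun i => by rw [Equiv.Perm.inv_eq_iff_eq, hπ]
  · rw [Matrix.det_permutation]
    rcases Int.units_eq_one_or (Equiv.Perm.sign π) with h | h <;> simp [h]
  · ext i j
    simp [Equiv.Perm.permMatrix, PEquiv.toMatrix_apply, apply_ite φ]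
  · ext i j
    rw [Matrix.diagonal_transpose, Matrix.diagonal_map (map_zero φ), Matrix.mul_diagonal,
      Matrix.diagonal_mul, Matrix.smul_apply, smul_eq_mul]
    simp only [Function.comp_apply, he, Equiv.Perm.permMatrix, PEquiv.toMatrix_apply,
      Equiv.toPEquiv_apply, Option.mem_def, Option.some.injEq]
    split_ifs with h
    · subst h
      simp [hc]
    · simp

end CfsgLib.LinFix.SimilTools
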