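import Mathlib
import Cfsg.Prelude.Def_GeometricClasses
import Cfsg.Agent.Lib.UnitaryEmb.Basic
import Cfsg.Agent.Lib.LinFix.Elements
import Cfsg.Agent.Lib.LinFix.Subfield

/-!
Elements of prime order `n` and normalisers of Singer cycles in dimension `n`.
-/

set_option autoImplicit false
open scoped MatrixGroups

namespace CfsgLib.LinFix.Singer

open Module Matrix Cfsg.Geo

variable {F : Type*} [Field F] [Fintype F] {n : ℕ} [hn : Fact n.Prime]
  {K : Subalgebra F (Matrix (Fin n) (Fin n) F)}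

theorem isField (hK : IsFieldSubalgebra n K) : IsField K :=
  { exists_pair_ne := ⟨0, 1, fun h => by
      haveI : Nonempty (Fin n) := ⟨⟨0, hn.out.pos⟩⟩
      exact zero_ne_one (congrArg Subtype.val h)⟩
    mul_comm := fun a b => Subtype.ext (hK.comm a.1 a.2 b.1 b.2)
    mul_inv_cancel := fun {a} ha => by
      obtain ⟨y, hy, hxy⟩ := hK.inv a.1 a.2 (fun h => ha (Subtype.ext h))
      exact ⟨⟨y, hy⟩, Subtype.ext hxy⟩ }

/-- Evaluation at a non-zero vector is bijective. -/
theorem bijective_eval (hK : IsFieldSubalgebra n K) {v : Fin n → F} (hv : v ≠ 0) :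
    Function.Bijective fun k : K => (k : Matrix (Fin n) (Fin n) F) *ᵥ v := by
  let φ : K →ₗ[F] (Fin n → F) :=
    { toFun := fun k => (k : Matrix (Fin n) (Fin n) F) *ᵥ v
      map_add' := fun a b => by rw [Subalgebra.coe_add, Matrix.add_mulVec]
      map_smul' := fun c a => by rw [Subalgebra.coe_smul, Matrix.smul_mulVec]; rfl }
  have hinj : Function.Injective φ := by
    rw [injective_iff_map_eq_zero]
    intro k hk
    by_contra hk0
    obtain ⟨y, hy, hky⟩ := hK.inv k.1 k.2 fun h => hk0 (Subtype.ext h)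
    refine hv ?_
    have h : y *ᵥ ((k : Matrix (Fin n) (Fin n) F) *ᵥ v) = 0 := by
      rw [show (k : Matrix (Fin n) (Fin n) F) *ᵥ v = 0 from hk, mulVec_zero]
    rwa [mulVec_mulVec, mul_eq_one_comm.mp hky, one_mulVec] at h
  have hdim : finrank F K = finrank F (Fin n → F) := by rw [hK.finrank_eq, finrank_fin_fun]
  exact ⟨hinj, (LinearMap.injective_iff_surjective_of_finrank_eq_finrank hdim).mp hinj⟩

/-- A non-scalar matrix of order `n` normalising the field fixes at most a line. -/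
theorem fixed_le_one (hK : IsFieldSubalgebra n K) {M : Matrix (Fin n) (Fin n) F}
    (hM : ∀ k ∈ K, ∃ k' ∈ K, M * k = k' * M) (hMn : M ^ n = 1) (hns : ∀ z : F, M ≠ z • 1) :
    finrank F (LinearMap.ker (Matrix.toLin' M - 1)) ≤ 1 := by
  classical
  letI : Field K := (isField hK).toField
  haveI : Module.Finite F K := inferInstance
  haveI : Finite K := Module.finite_of_finite F
  letI : Fintype K := Fintype.ofFinite K
  have hp : (finrank F K).Prime := by rw [hK.finrank_eq]; exact hn.out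
  let S : Subalgebra F K := (Subalgebra.centralizer F {M}).comap K.val
  have hS : ∀ k : K, k ∈ S ↔ M * (k : Matrix (Fin n) (Fin n) F) = (k : Matrix (Fin n) (Fin n) F) * M := fun k => by
    simp [S, Subalgebra.mem_centralizer_iff]
  rcases (Subalgebra.isSimpleOrder_of_finrank_prime F K hp).eq_bot_or_eq_top S with hbot | htop
  · by_cases h0 : LinearMap.ker (Matrix.toLin' M - 1) = ⊥
    · rw [h0, finrank_bot]; exact zero_le_one
    obtain ⟨u, hu, hu0⟩ := Submodule.exists_mem_ne_zero_of_ne_bot h0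
    refine (Submodule.finrank_mono (t := F ∙ u) fun w hw => ?_).trans_eq (finrank_span_singleton hu0)
    have hfix : ∀ w ∈ LinearMap.ker (Matrix.toLin' M - 1), M *ᵥ w = w := fun w hw => by
      simpa [sub_eq_zero] using hw
    obtain ⟨k, hk⟩ := (bijective_eval hK hu0).2 w
    obtain ⟨k', hk', hMk⟩ := hM k.1 k.2
    have h1 : k' *ᵥ u = w := by
      have h := hfix w hw
      rw [← hk] at h
      simp only [mulVec_mulVec, hMk] at h
      rw [← mulVec_mulVec, hfix u hu] at h
      rw [h, ← hk]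
    have hkk : (⟨k', hk'⟩ : K) = k := (bijective_eval hK hu0).1 (h1.trans hk.symm)
    have hmem : k ∈ S := (hS k).2 (by rw [hMk, ← hkk])
    rw [hbot, Algebra.mem_bot] at hmem
    obtain ⟨c, rfl⟩ := hmem
    rw [Submodule.mem_span_singleton]
    refine ⟨c, ?_⟩
    rw [← hk]
    simp [Algebra.algebraMap_eq_smul_one, Matrix.smul_mulVec]
  · exfalso
    have hcomm : ∀ k : K, M * (k : Matrix (Fin n) (Fin n) F) = (k : Matrix (Fin n) (Fin n) F) * M :=
      fun k => (hS k).1 (htop ▸ Algebra.mem_top)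
    haveI : Nonempty (Fin n) := ⟨⟨0, hn.out.pos⟩⟩
    obtain ⟨v, hv⟩ := exists_ne (0 : Fin n → F)
    obtain ⟨k₀, hk₀⟩ := (bijective_eval hK hv).2 (M *ᵥ v)
    have hMk : M = k₀ := by
      refine Matrix.toLin'.injective (LinearMap.ext fun w => ?_)
      obtain ⟨k, rfl⟩ := (bijective_eval hK hv).2 w
      simp only [Matrix.toLin'_apply, mulVec_mulVec, hcomm, hK.comm k₀.1 k₀.2 k.1 k.2]
      rw [← mulVec_mulVec, ← mulVec_mulVec]
      exact congrArg _ hk₀.symm
    have hpow : k₀ ^ n = 1 := Subtype.ext (by rw [SubmonoidClass.coe_pow, ← hMk, hMn]; rfl)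
    have hq : k₀ ^ Fintype.card F = k₀ := by
      have h := FiniteField.pow_card k₀
      rw [Module.card_eq_pow_finrank (K := F) (V := K), hK.finrank_eq] at h
      obtain ⟨t, ht⟩ : n ∣ Fintype.card F ^ n - Fintype.card F := by
        rw [← CharP.cast_eq_zero_iff (ZMod n) n, Nat.cast_sub (Nat.le_self_pow hn.out.ne_zero _),
          Nat.cast_pow, ZMod.pow_card, sub_self]
      have hle : Fintype.card F ≤ Fintype.card F ^ n := Nat.le_self_pow hn.out.ne_zero _
      rw [show Fintype.card F ^ n = Fintype.card F + n * t by omega, pow_add, pow_mul, hpow, one_pow,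
        mul_one] at h
      exact h
    obtain ⟨c, hc⟩ := CfsgLib.UnitaryEmb.conj_fixed_mem_range (F := F) (x := k₀) (by
      rw [CfsgLib.UnitaryEmb.conj_apply]; exact hq)
    refine hns c ?_
    rw [hMk, ← hc]
    simp [Algebra.algebraMap_eq_smul_one]

/-- Intertwining the field gives membership in the normaliser. -/
theorem mem_normalizer_of_intertwine {g : GL (Fin n) F}
    (h : ∀ k ∈ K, ∃ k' ∈ K, (g : Matrix (Fin n) (Fin n) F) * k = k' * g) :
    g ∈ subalgebraNormalizer K := by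
  let L : K →ₗ[F] K :=
    { toFun := fun k => ⟨(g : Matrix (Fin n) (Fin n) F) * k * ((g⁻¹ : GL (Fin n) F) : Matrix (Fin n) (Fin n) F), by
        obtain ⟨k', hk', he⟩ := h k.1 k.2
        rw [he, mul_assoc, ← Units.val_mul, mul_inv_cancel, Units.val_one, mul_one]
        exact hk'⟩
      map_add' := fun a b => Subtype.ext (by simp [mul_add, add_mul])
      map_smul' := fun c a => Subtype.ext (by simp) }
  have hinj : Function.Injective L := fun a b hab => Subtype.ext (by
    have := congrArg (fun k : K => ((g⁻¹ : GL (Fin n) F) : Matrix (Fin n) (Fin n) F) * k * g) hab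
    simpa [L, mul_assoc] using this)
  intro k
  refine ⟨fun hk => (L ⟨k, hk⟩).2, fun hk => ?_⟩
  obtain ⟨k', hk'⟩ := LinearMap.injective_iff_surjective.mp hinj ⟨_, hk⟩
  have := congrArg (fun k : K => ((g⁻¹ : GL (Fin n) F) : Matrix (Fin n) (Fin n) F) * k * g) hk'
  simp [L, mul_assoc] at this
  rw [← this]; exact k'.2

theorem intertwine_of_mem {g : GL (Fin n) F} (hg : g ∈ subalgebraNormalizer K) :
    ∀ k ∈ K, ∃ k' ∈ K, (g : Matrix (Fin n) (Fin n) F) * k = k' * g := fun k hk =>
  ⟨_, (hg k).1 hk, by rw [mul_assoc, ← Units.val_mul, inv_mul_cancel, Units.val_one, mul_one]⟩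

/-- An element with a large fixed space is no conjugate of an element of the normaliser. -/
theorem fixed_le_one_of_conj (hK : IsFieldSubalgebra n K) {x P : SL(n, F)} {c : F}
    (hxn : (c • (x : Matrix (Fin n) (Fin n) F)) ^ n = 1)
    (hns : ∀ z : F, (x : Matrix (Fin n) (Fin n) F) ≠ z • 1)
    (hP : P⁻¹ * x * P ∈ (subalgebraNormalizer K).comap SpecialLinearGroup.toGL) :
    finrank F (LinearMap.ker (Matrix.toLin' (c • (x : Matrix (Fin n) (Fin n) F)) - 1)) ≤ 1 := by
  set X := (x : Matrix (Fin n) (Fin n) F)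
  set p := (P : Matrix (Fin n) (Fin n) F)
  set p' := ((P⁻¹ : SL(n, F)) : Matrix (Fin n) (Fin n) F)
  have hpp : p * p' = 1 := congrArg Subtype.val (mul_inv_cancel P)
  have hpp' : p' * p = 1 := congrArg Subtype.val (inv_mul_cancel P)
  have hc : c ≠ 0 := fun h => by
    haveI : Nonempty (Fin n) := ⟨⟨0, hn.out.pos⟩⟩
    rw [h, zero_smul, zero_pow hn.out.ne_zero] at hxn
    exact zero_ne_one hxn
  set M := p' * (c • X) * p with hMdef
  have hpow : ∀ j, M ^ j = p' * (c • X) ^ j * p := fun j => by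
    induction j with
    | zero => rw [pow_zero, pow_zero, mul_one, hpp']
    | succ j ih =>
      rw [pow_succ, ih, pow_succ, hMdef]
      simp only [← mul_assoc]
      rw [mul_assoc (p' * (c • X) ^ j) p p', hpp, mul_one]
  have hM : ∀ k ∈ K, ∃ k' ∈ K, M * k = k' * M := fun k hk => by
    obtain ⟨k', hk', he⟩ := intertwine_of_mem hP k hk
    refine ⟨k', hk', ?_⟩
    change p' * X * p * k = k' * (p' * X * p) at he
    rw [hMdef, Matrix.mul_smul, Matrix.smul_mul, Matrix.smul_mul, he, Matrix.mul_smul]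
  have hMns : ∀ z : F, M ≠ z • 1 := fun z hz => hns (c⁻¹ * z) (by
    have h := congrArg (fun A => p * A * p') hz
    simp only [hMdef, ← mul_assoc, hpp, one_mul, Matrix.mul_smul, mul_one, Matrix.smul_mul] at h
    rw [mul_assoc, hpp, mul_one] at h
    rw [← smul_smul, ← h, smul_smul, inv_mul_cancel₀ hc, one_smul])
  have h1 := fixed_le_one hK hM (by rw [hpow, hxn, mul_one, hpp']) hMns
  refine le_trans ?_ h1
  have hle : (LinearMap.ker (Matrix.toLin' (c • X) - 1)).map (Matrix.toLin' p') ≤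
      LinearMap.ker (Matrix.toLin' M - 1) := by
    rintro _ ⟨w, hw, rfl⟩
    have hw' : (c • X) *ᵥ w = w := by
      have h := LinearMap.mem_ker.1 hw
      rwa [LinearMap.sub_apply, sub_eq_zero, Matrix.toLin'_apply, Module.End.one_apply] at h
    rw [LinearMap.mem_ker, LinearMap.sub_apply, sub_eq_zero, Matrix.toLin'_apply, Matrix.toLin'_apply,
      Module.End.one_apply, mulVec_mulVec, hMdef, mul_assoc _ p p', hpp, mul_one, ← mulVec_mulVec, hw']
  have hinj : Function.Injective (Matrix.toLin' p') := fun a b hab => by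
    have := congrArg (fun w => p *ᵥ w) hab
    simpa [Matrix.toLin'_apply, mulVec_mulVec, hpp] using this
  rw [← (Submodule.equivMapOfInjective _ hinj _).finrank_eq.symm.trans rfl] at *
  exact Submodule.finrank_mono hle

/-- A semilinear element of order `n` with a normal basis. -/
theorem exists_semilinear (hK : IsFieldSubalgebra n K) :
    ∃ S : Matrix (Fin n) (Fin n) F, S ^ n = 1 ∧ (∀ z : F, S ≠ z • 1) ∧
      (∀ k ∈ K, ∃ k' ∈ K, S * k = k' * S) ∧
      ∃ b : Basis (Fin n) F (Fin n → F), ∃ v, ∀ j : Fin n, b j = (Matrix.toLin' S ^ (j : ℕ)) v := by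
  classical
  letI : Field K := (isField hK).toField
  haveI : Finite K := Module.finite_of_finite F
  haveI : Nonempty (Fin n) := ⟨⟨0, hn.out.pos⟩⟩
  obtain ⟨v₀, hv₀⟩ := exists_ne (0 : Fin n → F)
  let φ₀ : K →ₗ[F] (Fin n → F) :=
    { toFun := fun k => (k : Matrix (Fin n) (Fin n) F) *ᵥ v₀
      map_add' := fun a b => by rw [Subalgebra.coe_add, Matrix.add_mulVec]
      map_smul' := fun c a => by rw [Subalgebra.coe_smul, Matrix.smul_mulVec]; rfl }
  let φ : K ≃ₗ[F] (Fin n → F) := LinearEquiv.ofBijective φ₀ (bijective_eval hK hv₀)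
  let σ : K ≃ₐ[F] K := FiniteField.frobeniusAlgEquivOfAlgebraic F K
  let S₀ : Module.End F (Fin n → F) := φ.toLinearMap ∘ₗ σ.toLinearMap ∘ₗ φ.symm.toLinearMap
  have hS : ∀ (j : ℕ) k, (S₀ ^ j) (φ k) = φ ((σ ^ j) k) := fun j => by
    induction j with
    | zero => intro k; simp
    | succ j ih =>
      intro k
      rw [pow_succ', Module.End.mul_apply, ih, pow_succ', AlgEquiv.mul_apply]
      simp [S₀]
  have hσn : σ ^ n = 1 := by
    have h := pow_orderOf_eq_one σ
    rwa [FiniteField.orderOf_frobeniusAlgEquivOfAlgebraic, hK.finrank_eq] at h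
  have hσ1 : σ ≠ 1 := fun h => hn.out.ne_one (by
    rw [← hK.finrank_eq, ← FiniteField.orderOf_frobeniusAlgEquivOfAlgebraic F K, orderOf_eq_one_iff]
    exact h)
  have hlin : ∀ j : ℕ, Matrix.toLin' (LinearMap.toMatrix' S₀) ^ j = S₀ ^ j := fun j => by
    rw [Matrix.toLin'_toMatrix']
  refine ⟨LinearMap.toMatrix' S₀, ?_, fun z hz => ?_, fun k hk => ?_, ?_⟩
  · refine Matrix.toLin'.injective ?_
    rw [Matrix.toLin'_pow, hlin, Matrix.toLin'_one]
    refine LinearMap.ext fun w => ?_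
    obtain ⟨k, rfl⟩ := φ.surjective w
    rw [hS, hσn]; rfl
  · refine hσ1 (AlgEquiv.ext fun k => φ.injective ?_)
    have h : ∀ w, S₀ w = z • w := fun w => by
      rw [← Matrix.toLin'_toMatrix' S₀, hz]; simp [Matrix.toLin'_apply, Matrix.smul_mulVec]
    have h1 := hS 1 1
    rw [pow_one, pow_one, map_one σ, h] at h1
    have hz1 : z = 1 := smul_left_injective F (show φ 1 ≠ 0 by simp) (h1.trans (one_smul F (φ 1)).symm)
    have h2 := hS 1 k
    rw [pow_one, pow_one, h, hz1, one_smul] at h2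
    simpa using h2.symm
  · refine ⟨((σ ⟨k, hk⟩ : K) : Matrix (Fin n) (Fin n) F), (σ ⟨k, hk⟩).2,
      Matrix.toLin'.injective (LinearMap.ext fun w => ?_)⟩
    obtain ⟨l, rfl⟩ := φ.surjective w
    rw [Matrix.toLin'_mul, Matrix.toLin'_mul, LinearMap.comp_apply, LinearMap.comp_apply,
      Matrix.toLin'_toMatrix', Matrix.toLin'_apply, Matrix.toLin'_apply]
    have e : ∀ a b : K, (a : Matrix (Fin n) (Fin n) F) *ᵥ φ b = φ (a * b) := fun a b => by
      show (a : Matrix (Fin n) (Fin n) F) *ᵥ ((b : Matrix (Fin n) (Fin n) F) *ᵥ v₀) = _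
      rw [mulVec_mulVec]; rfl
    have h1 := hS 1 (⟨k, hk⟩ * l)
    have h2 := hS 1 l
    rw [pow_one, pow_one] at h1 h2
    change S₀ (((⟨k, hk⟩ : K) : Matrix (Fin n) (Fin n) F) *ᵥ φ l) = _
    rw [e, h1, h2, e, map_mul]
  · let θ : K := IsGalois.normalBasis F K 1
    let e : Fin n ≃ (K ≃ₐ[F] K) := (finCongr hK.finrank_eq.symm).trans
      (Equiv.ofBijective _ (FiniteField.bijective_frobeniusAlgEquivOfAlgebraic_pow F K))
    refine ⟨((IsGalois.normalBasis F K).reindex e.symm).map φ, φ θ, fun j => ?_⟩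
    rw [hlin, hS, Basis.map_apply, Basis.reindex_apply, Equiv.symm_symm, IsGalois.normalBasis_apply]
    rfl

/-- Two matrices of order `n` with orbit bases are conjugate in `SL`. -/
theorem exists_sl_conj (hnF : (n : F) ≠ 0) {T S : Module.End F (Fin n → F)} (hT : T ^ n = 1)
    (hS : S ^ n = 1) (bT : Basis (Fin n) F (Fin n → F)) {v : Fin n → F}
    (hbT : ∀ j : Fin n, bT j = (T ^ (j : ℕ)) v) (bS : Basis (Fin n) F (Fin n → F)) {u : Fin n → F}
    (hbS : ∀ j : Fin n, bS j = (S ^ (j : ℕ)) u) :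
    ∃ P : SL(n, F), ∀ w, T ((P : Matrix (Fin n) (Fin n) F) *ᵥ w) = (P : Matrix (Fin n) (Fin n) F) *ᵥ S w := by
  classical
  have hn0 := hn.out.pos
  let Q : (Fin n → F) ≃ₗ[F] (Fin n → F) := bS.equiv bT (Equiv.refl _)
  have hQ : ∀ w, Q (S w) = T (Q w) := by
    refine LinearMap.congr_fun (bS.ext (f₁ := Q.toLinearMap ∘ₗ S) (f₂ := T ∘ₗ Q.toLinearMap) fun j => ?_)
    have hj1 : S (bS j) = bS ⟨((j : ℕ) + 1) % n, Nat.mod_lt _ hn0⟩ := by
      rw [hbS, hbS, ← Module.End.mul_apply, ← pow_succ']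
      show (S ^ ((j : ℕ) + 1)) u = (S ^ (((j : ℕ) + 1) % n)) u
      conv_lhs => rw [← Nat.mod_add_div ((j : ℕ) + 1) n, pow_add, pow_mul, hS, one_pow, mul_one]
    have hj2 : T (bT j) = bT ⟨((j : ℕ) + 1) % n, Nat.mod_lt _ hn0⟩ := by
      rw [hbT, hbT, ← Module.End.mul_apply, ← pow_succ']
      show (T ^ ((j : ℕ) + 1)) v = (T ^ (((j : ℕ) + 1) % n)) v
      conv_lhs => rw [← Nat.mod_add_div ((j : ℕ) + 1) n, pow_add, pow_mul, hT, one_pow, mul_one]
    simp only [LinearMap.comp_apply, LinearEquiv.coe_coe, hj1, Q, Basis.equiv_apply, Equiv.refl_apply, hj2]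
  -- the fixed line
  set f : Fin n → F := ∑ j, bT j with hf
  have hf0 : f ≠ 0 := fun h => one_ne_zero (Fintype.linearIndependent_iff.1 bT.linearIndependent (fun _ => 1)
    (by simpa [hf] using h) ⟨0, hn0⟩)
  have hTf : T f = f := by
    have hsum : ∀ m, m ≤ n → True := fun _ _ => trivial
    simp only [hf, hbT, Fin.sum_univ_eq_sum_range (fun j => (T ^ j) v) n, map_sum, ← Module.End.mul_apply,
      ← pow_succ']
    have h := Finset.sum_range_succ' (fun j => (T ^ j) v) n
    rw [Finset.sum_range_succ, hT, pow_zero] at h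
    simpa using h.symm
  have hU : Inv T (F ∙ f) := fun w hw => by
    obtain ⟨c, rfl⟩ := Submodule.mem_span_singleton.1 hw
    rw [map_smul, hTf]; exact Submodule.smul_mem _ _ (Submodule.mem_span_singleton_self f)
  obtain ⟨U', -, hU', hdis, hsup⟩ := exists_inv_compl
    (isSemisimple_of_pow_eq hnF one_ne_zero (by rw [one_smul, hT])) hU (inv_top T) le_top
  have hd0 : LinearMap.det Q.toLinearMap ≠ 0 := (LinearEquiv.isUnit_det' Q).ne_zero
  obtain ⟨C, hC, hCT⟩ := exists_commute_scale hU hU' ⟨hdis, codisjoint_iff.2 hsup⟩ (inv_ne_zero hd0)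
  rw [finrank_span_singleton hf0, pow_one] at hC
  refine ⟨⟨(C : Matrix (Fin n) (Fin n) F) * LinearMap.toMatrix' Q.toLinearMap, by
    rw [Matrix.det_mul, hC, LinearMap.det_toMatrix', inv_mul_cancel₀ hd0]⟩, fun w => ?_⟩
  show T ((_ * _) *ᵥ w) = (_ * _) *ᵥ S w
  rw [← mulVec_mulVec, ← mulVec_mulVec, LinearMap.toMatrix'_mulVec, LinearMap.toMatrix'_mulVec]
  show T (Matrix.toLin' (C : Matrix (Fin n) (Fin n) F) (Q w)) =
    Matrix.toLin' (C : Matrix (Fin n) (Fin n) F) (Q (S w))
  rw [hQ]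
  exact (LinearMap.congr_fun hCT.eq (Q w)).symm

/-- With `q` of order `n - 1` modulo `n` an element of order `n` has an orbit basis. -/
theorem exists_orbit_basis (hn2 : 2 < n) (hnF : (n : F) ≠ 0)
    (hi : orderOf (Fintype.card F : ZMod n) = n - 1) {T : Module.End F (Fin n → F)} (hT : T ^ n = 1)
    (hT1 : T ≠ 1) : ∃ (b : Basis (Fin n) F (Fin n → F)) (v : Fin n → F), ∀ j : Fin n, b j = (T ^ (j : ℕ)) v := by
  classical
  have hh := homog_order (r := n) (by omega) hnF hT
  rw [hi] at hh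
  obtain ⟨D, -, hD, hdis, hsup⟩ := exists_inv_compl hh.semisimple (hh.inv_le le_rfl) (inv_top T) le_top
  have hsum := finrank_sup_of_disjoint hdis
  rw [hsup, finrank_top, finrank_fin_fun] at hsum
  obtain ⟨⟨s, hs⟩, -⟩ := hh.disjoint_dims _ D rfl hD hdis.symm
  have hD0 : D ≠ ⊥ := fun h => hT1 (LinearMap.ext fun w => by
    have hw : w ∈ LinearMap.ker (T - 1) := by
      rw [h, sup_bot_eq] at hsup; rw [hsup]; trivial
    simpa [sub_eq_zero] using hw)
  have hDpos : 0 < finrank F D := Nat.pos_of_ne_zero fun h => hD0 (Submodule.finrank_eq_zero.1 h)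
  have hs1 : s = 1 := by
    rcases s with - | - | s
    · rw [mul_zero] at hs; omega
    · rfl
    · exfalso
      have : 2 * (n - 1) ≤ finrank F D := by rw [hs, mul_comm]; exact Nat.mul_le_mul_left _ (by omega)
      omega
  subst hs1
  rw [mul_one] at hs
  obtain ⟨c, hc, hc0⟩ := Submodule.exists_mem_ne_zero_of_ne_bot
    (show LinearMap.ker (T - 1) ≠ ⊥ from fun h => by rw [h, finrank_bot] at hsum; omega)
  obtain ⟨e, he, he0⟩ := Submodule.exists_mem_ne_zero_of_ne_bot hD0
  set v := c + e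
  let W := Submodule.span F (Set.range fun j : Fin n => (T ^ (j : ℕ)) v)
  have hmem : ∀ j : ℕ, (T ^ j) v ∈ W := fun j => by
    conv => arg 2; rw [← Nat.mod_add_div j n, pow_add, pow_mul, hT, one_pow, mul_one]
    exact Submodule.subset_span ⟨⟨j % n, Nat.mod_lt _ hn.out.pos⟩, rfl⟩
  have hW : Inv T W := fun w hw => by
    refine (Submodule.span_le (p := W.comap T)).mpr ?_ hw
    rintro _ ⟨j, rfl⟩
    show T ((T ^ (j : ℕ)) v) ∈ W
    rw [← Module.End.mul_apply, ← pow_succ']
    exact hmem _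
  have hcT : T c = c := by simpa [sub_eq_zero] using hc
  have hTe : T e - e ∈ W ⊓ D := by
    refine ⟨?_, D.sub_mem (hD e he) he⟩
    have h := W.sub_mem (hmem 1) (hmem 0)
    simpa [v, hcT] using h
  have hTe0 : T e - e ≠ 0 := fun h => he0 (Submodule.disjoint_def.1 hdis e (by
    rw [LinearMap.mem_ker, LinearMap.sub_apply, Module.End.one_apply, h]) he)
  have hne : W ⊓ D ≠ ⊥ := fun h => hTe0 (by rw [h] at hTe; simpa using hTe)
  obtain ⟨U, hUle, -, hUd⟩ := hh.step _ (hW.inf hD) hne (hdis.symm.mono_left inf_le_right)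
  have hUD : U = D := Submodule.eq_of_le_of_finrank_eq (hUle.trans inf_le_right) (by omega)
  have hDW : D ≤ W := hUD ▸ hUle.trans inf_le_left
  have hcW : c ∈ W := by
    have h := W.sub_mem (hmem 0) (hDW he)
    simpa [v] using h
  have hker : LinearMap.ker (T - 1) = F ∙ c :=
    (Submodule.eq_of_le_of_finrank_eq ((Submodule.span_singleton_le_iff_mem _ _).2 hc)
      (by rw [finrank_span_singleton hc0]; omega)).symm
  have htop : ⊤ ≤ W := by
    rw [← hsup, hker]
    exact sup_le ((Submodule.span_singleton_le_iff_mem _ _).2 hcW) hDW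
  exact ⟨basisOfTopLeSpanOfCardEqFinrank _ htop (by simp), v, fun j => by
    rw [coe_basisOfTopLeSpanOfCardEqFinrank]⟩

/-- An element of order `n` with an orbit basis is conjugate into the normaliser. -/
theorem exists_conj_mem (hK : IsFieldSubalgebra n K) (hnF : (n : F) ≠ 0) {x : SL(n, F)}
    (hx : Matrix.toLin' (x : Matrix (Fin n) (Fin n) F) ^ n = 1) (b : Basis (Fin n) F (Fin n → F))
    {v : Fin n → F} (hb : ∀ j : Fin n, b j = (Matrix.toLin' (x : Matrix (Fin n) (Fin n) F) ^ (j : ℕ)) v) :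
    ∃ P : SL(n, F), P⁻¹ * x * P ∈ (subalgebraNormalizer K).comap SpecialLinearGroup.toGL := by
  obtain ⟨S, hS, -, hSK, bS, u, hbS⟩ := exists_semilinear hK
  obtain ⟨P, hP⟩ := exists_sl_conj hnF hx
    (show Matrix.toLin' S ^ n = 1 by rw [← Matrix.toLin'_pow, hS, Matrix.toLin'_one]; rfl) b hb bS hbS
  refine ⟨P, mem_normalizer_of_intertwine fun k hk => ?_⟩
  have hy : ((SpecialLinearGroup.toGL (P⁻¹ * x * P) : GL (Fin n) F) : Matrix (Fin n) (Fin n) F) = S := by
    show ((P⁻¹ : SL(n, F)) : Matrix (Fin n) (Fin n) F) * (x : Matrix (Fin n) (Fin n) F) *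
      (P : Matrix (Fin n) (Fin n) F) = S
    rw [mul_assoc, show (x : Matrix (Fin n) (Fin n) F) * (P : Matrix (Fin n) (Fin n) F) =
      (P : Matrix (Fin n) (Fin n) F) * S from Matrix.toLin'.injective (LinearMap.ext fun w => by
        have h := hP w
        simp only [Matrix.toLin'_apply, mulVec_mulVec] at h
        simpa [Matrix.toLin'_apply] using h), ← mul_assoc,
      show ((P⁻¹ : SL(n, F)) : Matrix (Fin n) (Fin n) F) * (P : Matrix (Fin n) (Fin n) F) = 1 from
        congrArg Subtype.val (inv_mul_cancel P), one_mul]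
  rw [hy]
  exact hSK k hk

theorem two_le_finrank_ker {T : Module.End F (Fin n → F)} {u v : Fin n → F}
    (h : LinearIndependent F ![u, v]) (hu : T u = u) (hv : T v = v) :
    2 ≤ finrank F (LinearMap.ker (T - 1)) := by
  have h1 := finrank_span_eq_card h
  rw [Fintype.card_fin] at h1
  refine h1.symm.le.trans ?_
  refine Submodule.finrank_mono ?_
  rw [Submodule.span_le]
  rintro _ ⟨i, rfl⟩
  fin_cases i <;> simp [sub_eq_zero, hu, hv]

end CfsgLib.LinFix.Singer
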