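import Mathlib
import Cfsg.Prelude.Def_GeometricClasses
import Cfsg.Agent.Lib.SympGeom.Basic
import Cfsg.Agent.Lib.LinFix.SympIndex
import Cfsg.Agent.Lib.LinFix.BlockField

/-!
Symplectic elements of prime order with one block, commuting with no skew square root of a
non-square.
-/

set_option autoImplicit false

namespace CfsgLib.LinFix.SympBlock

open Module Polynomial
open scoped Matrix

variable {F : Type*} [Field F]

/-- `x` commutes with no skew square root of `ε`. -/
def NoRoot (d : ℕ) (ε : F) (T : (Fin d ⊕ Fin d → F) →ₗ[F] (Fin d ⊕ Fin d → F)) : Prop :=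
  ∀ D : (Fin d ⊕ Fin d → F) →ₗ[F] (Fin d ⊕ Fin d → F), (∀ v, D (D v) = ε • v) →
    (∀ u v, Cfsg.sympForm d F (D u) v = - Cfsg.sympForm d F u (D v)) →
    (∀ v, T (D v) = D (T v)) → False

/-- Moving a model to the standard space. -/
theorem exists_transfer {V : Type*} [AddCommGroup V] [Module F V] [FiniteDimensional F V]
    (B : LinearMap.BilinForm F V) (halt : ∀ v, B v v = 0) (hnd : ∀ v, (∀ w, B v w = 0) → v = 0) {d : ℕ}
    (hdim : finrank F V = 2 * d) {T : Module.End F V} (hiso : ∀ u v, B (T u) (T v) = B u v) {r : ℕ}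
    (hT : T ^ r = 1) (hns : ∀ z : F, ∃ v, T v ≠ z • v) {ε : F}
    (hno : ∀ D : Module.End F V, (∀ v, D (D v) = ε • v) → (∀ u v, B (D u) v = - B u (D v)) →
      Commute T D → False) :
    ∃ x ∈ Cfsg.spGL d F, x ^ r = 1 ∧
      (∀ z : F, (x : Matrix (Fin d ⊕ Fin d) (Fin d ⊕ Fin d) F) ≠ z • 1) ∧
      NoRoot d ε (Matrix.toLin' (x : Matrix (Fin d ⊕ Fin d) (Fin d ⊕ Fin d) F)) := by
  classical
  obtain ⟨d', e, he⟩ := exists_sympEquiv B halt hnd
  obtain rfl : d' = d := by
    have h := e.finrank_eq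
    rw [hdim, CfsgLib.SympGeom.finrank_space] at h
    omega
  let φ : Module.End F V →* Matrix (Fin d' ⊕ Fin d') (Fin d' ⊕ Fin d') F :=
    (Matrix.toLinAlgEquiv'.symm.toAlgHom.comp (e.conjAlgEquiv F).toAlgHom).toMonoidHom
  have hφ : ∀ (S : Module.End F V) v, φ S *ᵥ e v = e (S v) := fun S v => by
    rw [← Matrix.toLinAlgEquiv'_apply]
    simp [φ]
  have hTr : IsUnit T := by
    rcases r with - | r
    · refine (Module.End.isUnit_iff _).mpr ?_
      have hinj : Function.Injective T := (injective_iff_map_eq_zero T).mpr fun u hu => hnd u fun w => by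
        rw [← hiso, hu, map_zero, LinearMap.zero_apply]
      exact ⟨hinj, LinearMap.injective_iff_surjective.mp hinj⟩
    · exact ⟨⟨T, T ^ r, by rw [← pow_succ', hT], by rw [← pow_succ, hT]⟩, rfl⟩
  obtain ⟨u, hu⟩ := hTr
  let x : GL (Fin d' ⊕ Fin d') F := Units.map φ u
  have hx : ∀ v, (x : Matrix (Fin d' ⊕ Fin d') (Fin d' ⊕ Fin d') F) *ᵥ e v = e (T v) := fun v => by
    rw [← hu]; exact hφ u v
  refine ⟨x, fun a b => ?_, ?_, fun z hz => ?_, fun D hD hDs hTD => ?_⟩
  · obtain ⟨a, rfl⟩ := e.surjective a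
    obtain ⟨b, rfl⟩ := e.surjective b
    show Cfsg.sympForm d' F ((x : Matrix (Fin d' ⊕ Fin d') (Fin d' ⊕ Fin d') F) *ᵥ e a)
      ((x : Matrix (Fin d' ⊕ Fin d') (Fin d' ⊕ Fin d') F) *ᵥ e b) = _
    rw [hx, hx, ← he, ← he, hiso]
  · rw [← map_pow, show u ^ r = 1 from Units.ext (by rw [Units.val_pow_eq_pow_val, hu, hT]; rfl), map_one]
  · obtain ⟨v, hv⟩ := hns z
    refine hv (e.injective ?_)
    rw [← hx, hz, Matrix.smul_mulVec, Matrix.one_mulVec, map_smul]
  · refine hno (e.symm.toLinearMap ∘ₗ D ∘ₗ e.toLinearMap) (fun v => ?_) (fun a b => ?_) ?_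
    · simp [hD]
    · simp only [LinearMap.comp_apply, LinearEquiv.coe_coe, he, e.apply_symm_apply, hDs]
    · refine LinearMap.ext fun v => e.injective ?_
      have h := hTD (e v)
      rw [Matrix.toLin'_apply, Matrix.toLin'_apply, hx] at h
      rw [Module.End.mul_apply, Module.End.mul_apply, ← hx]
      simpa using h

variable [Fintype F] {r p : ℕ} [hr : Fact r.Prime] [Fact p.Prime] [CharP F p]

/-- The elements showing that the action is not elusive. -/
theorem exists_element {d : ℕ} (hr2 : r ≠ 2) (hrp : r ≠ p) {ε : F} (hε : ¬ IsSquare ε)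
    (hord : 0 < orderOf (Fintype.card F : ZMod r))
    (hcase : (Odd (orderOf (Fintype.card F : ZMod r)) ∧ orderOf (Fintype.card F : ZMod r) ≤ d) ∨
        ∃ h, Even h ∧ 0 < h ∧ h ≤ d ∧ orderOf (Fintype.card F : ZMod r) = 2 * h) :
    ∃ x ∈ Cfsg.spGL d F, x ^ r = 1 ∧
      (∀ z : F, (x : Matrix (Fin d ⊕ Fin d) (Fin d ⊕ Fin d) F) ≠ z • 1) ∧
      NoRoot d ε (Matrix.toLin' (x : Matrix (Fin d ⊕ Fin d) (Fin d ⊕ Fin d) F)) := by
  classical
  have h2 : (2 : F) ≠ 0 := fun h => by
    haveI : CharP F 2 := CharTwo.of_one_ne_zero_of_two_eq_zero one_ne_zero h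
    exact hε (FiniteField.isSquare_of_char_two (ringChar.eq F 2) ε)
  set i := orderOf (Fintype.card F : ZMod r) with hi
  obtain ⟨g, hg, hgm, hgdvd, hg1⟩ := exists_irreducible_dvd_X_pow_sub_one (F := F) (r := r) hrp
  have hdeg : g.natDegree = i := natDegree_eq_order hord hg hgdvd hg1
  haveI : Fact (Irreducible g) := ⟨hg⟩
  haveI : Module.Finite F (AdjoinRoot g) := (AdjoinRoot.powerBasis hg.ne_zero).finite
  haveI : Finite (AdjoinRoot g) := Module.finite_of_finite F
  let L := AdjoinRoot g
  let α : L := AdjoinRoot.root g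
  have hL : finrank F L = i := hdeg ▸ finrank_quotient_span_eq_natDegree (f := g)
  have hroot : ∀ P : F[X], aeval α P = 0 ↔ g ∣ P := fun P => by
    rw [AdjoinRoot.aeval_eq, AdjoinRoot.mk_eq_zero]
  have hgα : aeval α g = 0 := (hroot g).2 dvd_rfl
  have hgen : ∀ x : L, ∃ P : F[X], aeval α P = x := fun x => by
    obtain ⟨P, hP⟩ := AdjoinRoot.mk_surjective x
    exact ⟨P, by rw [AdjoinRoot.aeval_eq, hP]⟩
  have hαr : α ^ r = 1 := by
    have := (hroot _).2 hgdvd
    simpa [sub_eq_zero] using this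
  have hα1 : α ≠ 1 := fun h => hg1 ((hroot _).1 (by simp [h]))
  have hα0 : α ≠ 0 := fun h0 => by rw [h0, zero_pow hr.out.ne_zero] at hαr; exact zero_ne_one hαr
  have hordα : orderOf α = r := orderOf_eq_prime hαr hα1
  have hαinv : α⁻¹ ≠ α := fun h => by
    have h4 : α ^ 2 = 1 := by rw [pow_two]; nth_rewrite 1 [← h]; exact inv_mul_cancel₀ hα0
    exact hr2 ((Nat.prime_dvd_prime_iff_eq hr.out Nat.prime_two).1 (hordα ▸ orderOf_dvd_of_pow_eq_one h4))
  have hg_one : g.eval 1 ≠ 0 := fun h => by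
    have h' : X - C (1 : F) ∣ g := dvd_iff_isRoot.2 h
    rw [← map_one (C : F →+* F[X])] at hg1
    exact hg1 ((irreducible_X_sub_C 1).associated_of_dvd hg h').symm.dvd
  have hnd : ∀ a : L, (∀ b, Algebra.trace F L (a * b) = 0) → a = 0 := fun a h =>
    (traceForm_nondegenerate F L).1 a h
  have hone : ∀ (W : Type _) [AddCommGroup W] [Module F W] (w : W),
      aeval (1 : Module.End F W) g w = g.eval 1 • w := fun W _ _ w => by
    rw [show (1 : Module.End F W) = algebraMap F (Module.End F W) 1 from (map_one _).symm,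
      aeval_algebraMap_apply, Module.algebraMap_end_apply]
    rfl
  rcases hcase with ⟨hodd, hid⟩ | ⟨h, hhe, hh0, hhd, hih⟩
  · -- two dual blocks
    have hginv : aeval α⁻¹ g ≠ 0 :=
      BlockField.aeval_inv_ne_zero hr2 hαr hα1 hgen hg hgα hL (hL.symm ▸ hodd)
    obtain ⟨m, rfl⟩ : ∃ m, d = i + m := ⟨d - i, by omega⟩
    let V := (L × L) × (Fin m ⊕ Fin m → F)
    let pa : V →ₗ[F] L := (LinearMap.fst F L L).comp (LinearMap.fst F _ _)
    let pb : V →ₗ[F] L := (LinearMap.snd F L L).comp (LinearMap.fst F _ _)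
    let pw : V →ₗ[F] (Fin m ⊕ Fin m → F) := LinearMap.snd F _ _
    let B : LinearMap.BilinForm F V := (Algebra.traceForm F L).compl₁₂ pa pb -
      (Algebra.traceForm F L).compl₁₂ pb pa + (CfsgLib.SympGeom.sympBilin m F).compl₁₂ pw pw
    have hBv : ∀ u v : V, B u v = Algebra.trace F L (u.1.1 * v.1.2) - Algebra.trace F L (u.1.2 * v.1.1) +
        Cfsg.sympForm m F u.2 v.2 := fun u v => rfl
    let T : Module.End F V :=
      LinearMap.prodMap (LinearMap.prodMap (Algebra.lmul F L α) (Algebra.lmul F L α⁻¹)) LinearMap.id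
    have hTv : ∀ v : V, T v = ((α * v.1.1, α⁻¹ * v.1.2), v.2) := fun v => rfl
    have hpow : ∀ (n : ℕ) (v : V), (T ^ n) v = ((α ^ n * v.1.1, α⁻¹ ^ n * v.1.2), v.2) := fun n => by
      induction n with
      | zero => intro v; simp
      | succ n ih => intro v; rw [pow_succ', Module.End.mul_apply, ih, hTv]; simp [pow_succ', mul_assoc]
    refine exists_transfer B (fun v => ?_) (fun v hv => ?_) ?_ (T := T) (fun u v => ?_) ?_ (fun z => ?_) ?_
    · rw [hBv, mul_comm v.1.1 v.1.2, sub_self, zero_add]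
      exact CfsgLib.Linear.Symp.form_self _
    · have h1 : v.1.1 = 0 := hnd _ fun b => by
        simpa [hBv, CfsgLib.Linear.Symp.form_zero_right] using hv ((0, b), 0)
      have h2' : v.1.2 = 0 := hnd _ fun b => by
        simpa [hBv, CfsgLib.Linear.Symp.form_zero_right] using hv ((b, 0), 0)
      have h3 : v.2 = 0 := CfsgLib.SympGeom.sympBilin_nondeg.1 _ fun w => by
        simpa [hBv, CfsgLib.SympGeom.sympBilin_apply] using hv ((0, 0), w)
      exact Prod.ext (Prod.ext h1 h2') h3
    · rw [finrank_prod, finrank_prod, hL, CfsgLib.SympGeom.finrank_space]; ring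
    · simp only [hBv, hTv]
      rw [mul_mul_mul_comm α, mul_inv_cancel₀ hα0, one_mul, mul_mul_mul_comm α⁻¹, inv_mul_cancel₀ hα0, one_mul]
    · refine LinearMap.ext fun v => ?_
      rw [hpow, hαr, inv_pow, hαr, inv_one, one_mul, one_mul]; rfl
    · by_contra hc
      push Not at hc
      have e1 := congrArg (fun v : V => v.1.1) (hc ((1, 0), 0))
      have e2 := congrArg (fun v : V => v.1.2) (hc ((0, 1), 0))
      simp [hTv] at e1 e2
      exact hαinv (e2.trans e1.symm)
    · intro D hD _ hTD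
      let ι : L →ₗ[F] V := (LinearMap.inl F (L × L) _).comp (LinearMap.inl F L L)
      obtain ⟨c, hc, -⟩ := BlockField.exists_mul_on_block hgen hgα hTD hD ι
        (fun a b hab => congrArg (fun v : V => v.1.1) hab) (fun a => by simp [ι, hTv]) fun v hv => by
          have e2 := congrArg pb hv
          have e3 := congrArg pw hv
          rw [BlockField.aeval_intertwine pb (S := Algebra.lmul F L α⁻¹) (fun v => rfl),
            BlockField.aeval_mulLeft, map_zero] at e2
          rw [BlockField.aeval_intertwine pw (S := (1 : Module.End F _)) (fun v => rfl), hone,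
            map_zero] at e3
          refine ⟨v.1.1, Prod.ext (Prod.ext rfl ?_) ?_⟩
          · exact (mul_eq_zero.1 e2).resolve_left hginv
          · exact (smul_eq_zero.1 e3).resolve_left hg_one
      have h := BlockField.sqrt_pow_card hε hc i
      rw [← hL, BlockField.pow_card_pow_finrank, hL, hodd.neg_one_pow, neg_one_mul] at h
      have h2L : (2 : L) ≠ 0 := fun h' => h2 ((algebraMap F L).injective (by rw [map_ofNat, h', map_zero]))
      have hc0 : c = 0 := (mul_eq_zero.1 (show (2 : L) * c = 0 by linear_combination h)).resolve_left h2L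
      rw [hc0, mul_zero] at hc
      exact hε ((algebraMap F L).injective (hc.symm.trans (map_zero _).symm) ▸ ⟨0, (mul_zero 0).symm⟩)
  · -- one self-dual block
    obtain ⟨m, rfl⟩ : ∃ m, d = h + m := ⟨d - h, by omega⟩
    set q := Fintype.card F
    let τ : L →ₐ[F] L := FiniteField.frobeniusAlgHom F L ^ h
    have hτ : ∀ x, τ x = x ^ q ^ h := fun x => BlockField.frobenius_pow_apply h x
    have hττ : ∀ x, τ (τ x) = x := fun x => by
      rw [hτ, hτ, ← pow_mul, ← pow_add, ← two_mul, ← hih, ← hL]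
      exact BlockField.pow_card_pow_finrank x
    have hτα : τ α = α⁻¹ := by
      have hq1 : 1 < q := Fintype.one_lt_card
      have h1 : r ∣ (q ^ h + 1) * (q ^ h - 1) := by
        rw [← Nat.sq_sub_sq, one_pow, ← pow_mul, mul_comm, ← hih]
        exact (dvd_pow_sub_one_iff hq1.le _).2 dvd_rfl
      have h3 : r ∣ q ^ h + 1 := (hr.out.dvd_mul.1 h1).resolve_right fun h' => by
        have := Nat.le_of_dvd (by omega) ((dvd_pow_sub_one_iff hq1.le _).1 h')
        omega
      rw [hτ]
      refine eq_inv_of_mul_eq_one_left ?_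
      rw [← pow_succ, ← orderOf_dvd_iff_pow_eq_one, hordα]
      exact h3
    let τe : L ≃ₐ[F] L := AlgEquiv.ofBijective τ
      ⟨τ.toRingHom.injective, fun x => ⟨τ x, hττ x⟩⟩
    have htr : ∀ x, Algebra.trace F L (τ x) = Algebra.trace F L x := fun x =>
      Algebra.trace_eq_of_algEquiv τe x
    let δ : L := α - α⁻¹
    have hδ : τ δ = - δ := by
      rw [map_sub, map_inv₀, hτα, inv_inv, neg_sub]
    have hδ0 : δ ≠ 0 := sub_ne_zero.mpr hαinv.symm
    let V := L × (Fin m ⊕ Fin m → F)
    let pa : V →ₗ[F] L := LinearMap.fst F _ _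
    let pw : V →ₗ[F] (Fin m ⊕ Fin m → F) := LinearMap.snd F _ _
    let B : LinearMap.BilinForm F V :=
      (Algebra.traceForm F L).compl₁₂ ((Algebra.lmul F L δ).comp pa) (τ.toLinearMap.comp pa) +
      (CfsgLib.SympGeom.sympBilin m F).compl₁₂ pw pw
    have hBv : ∀ u v : V, B u v = Algebra.trace F L (δ * u.1 * τ v.1) + Cfsg.sympForm m F u.2 v.2 :=
      fun u v => rfl
    let T : Module.End F V := LinearMap.prodMap (Algebra.lmul F L α) LinearMap.id
    have hTv : ∀ v : V, T v = (α * v.1, v.2) := fun v => rfl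
    have hpow : ∀ (n : ℕ) (v : V), (T ^ n) v = (α ^ n * v.1, v.2) := fun n => by
      induction n with
      | zero => intro v; simp
      | succ n ih => intro v; rw [pow_succ', Module.End.mul_apply, ih, hTv]; simp [pow_succ', mul_assoc]
    have hzero : ∀ a : L, (∀ v, Algebra.trace F L (δ * a * τ v) = 0) → a = 0 := fun a ha =>
      (mul_eq_zero.1 (hnd (δ * a) fun b => by
        have := ha (τ b); rwa [hττ] at this)).resolve_left hδ0
    refine exists_transfer B (fun v => ?_) (fun v hv => ?_) ?_ (T := T) (fun u v => ?_) ?_ (fun z => ?_) ?_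
    · rw [hBv, CfsgLib.Linear.Symp.form_self, add_zero]
      have h' := htr (δ * v.1 * τ v.1)
      rw [map_mul τ, map_mul τ, hδ, hττ, show -δ * τ v.1 * v.1 = -(δ * v.1 * τ v.1) by ring, map_neg] at h'
      exact (mul_eq_zero.1 (show (2 : F) * Algebra.trace F L (δ * v.1 * τ v.1) = 0 by
        linear_combination -h')).resolve_left h2
    · have h1 : v.1 = 0 := hzero _ fun b => by
        simpa [hBv, CfsgLib.Linear.Symp.form_zero_right] using hv (b, 0)
      have h3 : v.2 = 0 := CfsgLib.SympGeom.sympBilin_nondeg.1 _ fun w => by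
        simpa [hBv, CfsgLib.SympGeom.sympBilin_apply] using hv (0, w)
      exact Prod.ext h1 h3
    · rw [finrank_prod, hL, hih, CfsgLib.SympGeom.finrank_space]; ring
    · simp only [hBv, hTv]
      rw [map_mul τ, hτα, ← mul_assoc δ, mul_comm δ α, mul_assoc α, mul_mul_mul_comm α, mul_inv_cancel₀ hα0, one_mul]
    · refine LinearMap.ext fun v => ?_
      rw [hpow, hαr, one_mul]; rfl
    · by_contra hc
      push Not at hc
      have e1 := congrArg (fun v : V => v.1) (hc (1, 0))
      change α * 1 = z • (1 : L) at e1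
      rw [mul_one] at e1
      apply hαinv
      conv_lhs => rw [← hτα, e1, map_smul, map_one]
      rw [e1]
    · intro D hD hDs hTD
      let ι : L →ₗ[F] V := LinearMap.inl F L _
      obtain ⟨c, hc, hmul⟩ := BlockField.exists_mul_on_block hgen hgα hTD hD ι
        (fun a b hab => congrArg (fun v : V => v.1) hab) (fun a => rfl) fun v hv => by
          have e3 := congrArg pw hv
          rw [BlockField.aeval_intertwine pw (S := (1 : Module.End F _)) (fun v => rfl), hone,
            map_zero] at e3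
          exact ⟨v.1, Prod.ext rfl ((smul_eq_zero.1 e3).resolve_left hg_one)⟩
      have hτc : τ c = c := by
        rw [hτ, BlockField.sqrt_pow_card hε hc, hhe.neg_one_pow, one_mul]
      have hc0 : c = 0 := hzero c fun v => by
        have h' := hDs (ι 1) (ι v)
        rw [hmul, hmul, hBv, hBv] at h'
        change Algebra.trace F L (δ * (c * 1) * τ v) + Cfsg.sympForm m F 0 0 =
          -(Algebra.trace F L (δ * 1 * τ (c * v)) + Cfsg.sympForm m F 0 0) at h'
        rw [CfsgLib.Linear.Symp.form_self, add_zero, add_zero, mul_one, mul_one, map_mul τ, hτc] at h'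
        refine (mul_eq_zero.1 (show (2 : F) * Algebra.trace F L (δ * c * τ v) = 0 from ?_)).resolve_left h2
        rw [show δ * (c * τ v) = δ * c * τ v by ring] at h'
        linear_combination h'
      rw [hc0, mul_zero] at hc
      exact hε ((algebraMap F L).injective (hc.symm.trans (map_zero _).symm) ▸ ⟨0, (mul_zero 0).symm⟩)

end CfsgLib.LinFix.SympBlock
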