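import Mathlib
import Cfsg.Prelude.Def_GeometricClasses
import Cfsg.Agent.Lib.SympGeom.Basic
import Cfsg.Agent.Lib.LinFix.SympIndex
import Cfsg.Agent.Lib.LinFix.BlockField

/-!
Symplectic elements of prime order and small rank commuting with no self-adjoint field of given degree.
-/

set_option autoImplicit false

namespace CfsgLib.LinFix.SympBlockField

open Module Polynomial
open scoped Matrix

variable {F : Type*} [Field F]

/-- `T` commutes with no self-adjoint, alternating field generator of degree `k`. -/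
def NoField (d k : ℕ) (T : (Fin d ⊕ Fin d → F) →ₗ[F] (Fin d ⊕ Fin d → F)) : Prop :=
  ∀ (D : Module.End F (Fin d ⊕ Fin d → F)) (μ : F[X]), Irreducible μ → μ.natDegree = k → aeval D μ = 0 →
    (∀ u v, Cfsg.sympForm d F (D u) v = Cfsg.sympForm d F u (D v)) →
    (∀ v, Cfsg.sympForm d F (D v) v = 0) → Commute T D → False

theorem no_eigen {V : Type*} [AddCommGroup V] [Module F V] {D : Module.End F V} {μ : F[X]}
    (hμ : Irreducible μ) (hdeg : 2 ≤ μ.natDegree) (hD : aeval D μ = 0) {v : V} {c : F} (hv : D v = c • v) :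
    v = 0 := by
  by_contra hv0
  have h := Module.End.aeval_apply_of_hasEigenvector
    (Module.End.hasEigenvector_iff.2 ⟨Module.End.mem_eigenspace_iff.2 hv, hv0⟩ : D.HasEigenvector c v) (p := μ)
  rw [hD, LinearMap.zero_apply] at h
  have hroot : μ.IsRoot c := (smul_eq_zero.1 h.symm).resolve_right hv0
  have h1 := (irreducible_X_sub_C c).associated_of_dvd hμ (dvd_iff_isRoot.2 hroot)
  have h2 := natDegree_eq_of_degree_eq (degree_eq_degree_of_associated h1)
  rw [natDegree_X_sub_C] at h2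
  omega

/-- Moving a model to the standard space. -/
theorem exists_transfer {V : Type*} [AddCommGroup V] [Module F V] [FiniteDimensional F V]
    (B : LinearMap.BilinForm F V) (halt : ∀ v, B v v = 0) (hnd : ∀ v, (∀ w, B v w = 0) → v = 0) {d : ℕ}
    (hdim : finrank F V = 2 * d) {T : Module.End F V} (hiso : ∀ u v, B (T u) (T v) = B u v) {r : ℕ}
    (hT : T ^ r = 1) (hns : ∀ z : F, ∃ v, T v ≠ z • v) {c : ℕ} (hc : finrank F (LinearMap.range (T - 1)) ≤ c)
    {k : ℕ}
    (hno : ∀ (D : Module.End F V) (μ : F[X]), Irreducible μ → μ.natDegree = k → aeval D μ = 0 →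
      (∀ u v, B (D u) v = B u (D v)) → (∀ v, B (D v) v = 0) → Commute T D → False) :
    ∃ x ∈ Cfsg.spGL d F, x ^ r = 1 ∧
      (∀ z : F, (x : Matrix (Fin d ⊕ Fin d) (Fin d ⊕ Fin d) F) ≠ z • 1) ∧
      finrank F (LinearMap.range (Matrix.toLin' (x : Matrix (Fin d ⊕ Fin d) (Fin d ⊕ Fin d) F) - 1)) ≤ c ∧
      NoField d k (Matrix.toLin' (x : Matrix (Fin d ⊕ Fin d) (Fin d ⊕ Fin d) F)) := by
  classical
  obtain ⟨d', e, he⟩ := exists_sympEquiv B halt hnd
  obtain rfl : d' = d := by
    have h := e.finrank_eq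
    rw [hdim, CfsgLib.SympGeom.finrank_space] at h
    omega
  let φ : Module.End F V →* Matrix (Fin d' ⊕ Fin d') (Fin d' ⊕ Fin d') F :=
    (Matrix.toLinAlgEquiv'.symm.toAlgHom.comp (e.conjAlgEquiv F).toAlgHom).toMonoidHom
  have hφ : ∀ (S : Module.End F V) v, φ S *ᵥ e v = e (S v) := fun S v => by
    rw [← Matrix.toLinAlgEquiv'_apply]
    simp [φ]
  have hTr : IsUnit T := by
    rcases r with - | r
    · refine (Module.End.isUnit_iff _).mpr ?_
      have hinj : Function.Injective T := (injective_iff_map_eq_zero T).mpr fun u hu => hnd u fun w => by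
        rw [← hiso, hu, map_zero, LinearMap.zero_apply]
      exact ⟨hinj, LinearMap.injective_iff_surjective.mp hinj⟩
    · exact ⟨⟨T, T ^ r, by rw [← pow_succ', hT], by rw [← pow_succ, hT]⟩, rfl⟩
  obtain ⟨u, hu⟩ := hTr
  let x : GL (Fin d' ⊕ Fin d') F := Units.map φ u
  have hx : ∀ v, (x : Matrix (Fin d' ⊕ Fin d') (Fin d' ⊕ Fin d') F) *ᵥ e v = e (T v) := fun v => by
    rw [← hu]; exact hφ u v
  refine ⟨x, fun a b => ?_, ?_, fun z hz => ?_, ?_, fun D μ hμ hdeg hD hDs hDa hTD => ?_⟩
  · obtain ⟨a, rfl⟩ := e.surjective a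
    obtain ⟨b, rfl⟩ := e.surjective b
    show Cfsg.sympForm d' F ((x : Matrix (Fin d' ⊕ Fin d') (Fin d' ⊕ Fin d') F) *ᵥ e a)
      ((x : Matrix (Fin d' ⊕ Fin d') (Fin d' ⊕ Fin d') F) *ᵥ e b) = _
    rw [hx, hx, ← he, ← he, hiso]
  · rw [← map_pow, show u ^ r = 1 from Units.ext (by rw [Units.val_pow_eq_pow_val, hu, hT]; rfl), map_one]
  · obtain ⟨v, hv⟩ := hns z
    refine hv (e.injective ?_)
    rw [← hx, hz, Matrix.smul_mulVec, Matrix.one_mulVec, map_smul]
  · refine (Submodule.finrank_mono (t := (LinearMap.range (T - 1)).map (e : V →ₗ[F] _)) ?_).trans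
      ((LinearEquiv.finrank_map_eq e _).trans_le hc)
    rintro _ ⟨w, rfl⟩
    obtain ⟨v, rfl⟩ := e.surjective w
    exact ⟨(T - 1) v, ⟨v, rfl⟩, by simp [hx]⟩
  · refine hno (e.symm.toLinearMap ∘ₗ D ∘ₗ e.toLinearMap) μ hμ hdeg ?_ (fun a b => ?_) (fun a => ?_) ?_
    · refine LinearMap.ext fun v => e.injective ?_
      have h := BlockField.aeval_intertwine e.toLinearMap (T := e.symm.toLinearMap ∘ₗ D ∘ₗ e.toLinearMap)
        (S := D) (fun v => by simp) μ v
      simp only [LinearEquiv.coe_coe] at h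
      rw [h, hD]; simp
    · simp only [LinearMap.comp_apply, LinearEquiv.coe_coe, he, e.apply_symm_apply, hDs]
    · simp only [LinearMap.comp_apply, LinearEquiv.coe_coe, he, e.apply_symm_apply, hDa]
    · refine LinearMap.ext fun v => e.injective ?_
      have h := LinearMap.congr_fun hTD.eq (e v)
      rw [Module.End.mul_apply, Module.End.mul_apply, Matrix.toLin'_apply, Matrix.toLin'_apply, hx] at h
      rw [Module.End.mul_apply, Module.End.mul_apply, ← hx]
      simpa using h

/-- The form on a plane plus a standard space. -/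
noncomputable def planeForm (m : ℕ) : LinearMap.BilinForm F ((F × F) × (Fin m ⊕ Fin m → F)) :=
  (LinearMap.mul F F).compl₁₂ ((LinearMap.fst F F F).comp (LinearMap.fst F _ _))
      ((LinearMap.snd F F F).comp (LinearMap.fst F _ _)) -
    (LinearMap.mul F F).compl₁₂ ((LinearMap.snd F F F).comp (LinearMap.fst F _ _))
      ((LinearMap.fst F F F).comp (LinearMap.fst F _ _)) +
    (CfsgLib.SympGeom.sympBilin m F).compl₁₂ (LinearMap.snd F _ _) (LinearMap.snd F _ _)

theorem planeForm_apply {m : ℕ} (u v : (F × F) × (Fin m ⊕ Fin m → F)) :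
    planeForm m u v = u.1.1 * v.1.2 - u.1.2 * v.1.1 + Cfsg.sympForm m F u.2 v.2 := rfl

theorem planeForm_alt {m : ℕ} (v : (F × F) × (Fin m ⊕ Fin m → F)) : planeForm m v v = 0 := by
  rw [planeForm_apply, CfsgLib.Linear.Symp.form_self]; ring

theorem planeForm_nondeg {m : ℕ} (v : (F × F) × (Fin m ⊕ Fin m → F)) (hv : ∀ w, planeForm m v w = 0) :
    v = 0 := by
  have h1 := hv ((0, 1), 0)
  have h2 := hv ((1, 0), 0)
  simp [planeForm_apply, CfsgLib.Linear.Symp.form_zero_right] at h1 h2
  have h3 : v.2 = 0 := CfsgLib.SympGeom.sympBilin_nondeg.1 _ fun w => by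
    simpa [planeForm_apply, CfsgLib.SympGeom.sympBilin_apply] using hv ((0, 0), w)
  exact Prod.ext (Prod.ext h1 h2) h3

/-- A transvection. -/
theorem exists_transvection {d k p : ℕ} (hd : 1 ≤ d) (hk : 2 ≤ k) [CharP F p] :
    ∃ x ∈ Cfsg.spGL d F, x ^ p = 1 ∧
      (∀ z : F, (x : Matrix (Fin d ⊕ Fin d) (Fin d ⊕ Fin d) F) ≠ z • 1) ∧
      finrank F (LinearMap.range (Matrix.toLin' (x : Matrix (Fin d ⊕ Fin d) (Fin d ⊕ Fin d) F) - 1)) ≤ 1 ∧
      NoField d k (Matrix.toLin' (x : Matrix (Fin d ⊕ Fin d) (Fin d ⊕ Fin d) F)) := by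
  obtain ⟨m, rfl⟩ : ∃ m, d = 1 + m := ⟨d - 1, by omega⟩
  let T : Module.End F ((F × F) × (Fin m ⊕ Fin m → F)) := LinearMap.prodMap ((LinearMap.fst F F F + LinearMap.snd F F F).prod (LinearMap.snd F F F)) LinearMap.id
  have hTv : ∀ v : ((F × F) × (Fin m ⊕ Fin m → F)), T v = ((v.1.1 + v.1.2, v.1.2), v.2) := fun v => rfl
  have hpow : ∀ (j : ℕ) (v : ((F × F) × (Fin m ⊕ Fin m → F))), (T ^ j) v = ((v.1.1 + (j : F) * v.1.2, v.1.2), v.2) := fun j => by
    induction j with
    | zero => intro v; simp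
    | succ j ih => intro v; rw [pow_succ', Module.End.mul_apply, ih, hTv]; push_cast; ext <;> simp; ring
  refine exists_transfer (planeForm m) planeForm_alt planeForm_nondeg ?_ (T := T) (fun u v => ?_) ?_ (fun z => ?_) ?_ ?_
  · rw [finrank_prod, finrank_prod, finrank_self, CfsgLib.SympGeom.finrank_space]; ring
  · simp only [planeForm_apply, hTv]; ring
  · refine LinearMap.ext fun v => ?_
    rw [hpow, CharP.cast_eq_zero, zero_mul, add_zero]; rfl
  · by_contra hc
    push Not at hc
    have e1 := congrArg (fun v : ((F × F) × (Fin m ⊕ Fin m → F)) => v.1.1) (hc ((0, 1), 0))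
    simp [hTv] at e1
  · have hle : LinearMap.range (T - 1) ≤ F ∙ (((1, 0), 0) : ((F × F) × (Fin m ⊕ Fin m → F))) := by
      rintro _ ⟨v, rfl⟩
      rw [Submodule.mem_span_singleton]
      exact ⟨v.1.2, by simp [hTv, Prod.ext_iff]⟩
    exact (Submodule.finrank_mono hle).trans (finrank_span_singleton
      (fun h => one_ne_zero (congrArg (fun v : ((F × F) × (Fin m ⊕ Fin m → F)) => v.1.1) h))).le
  · intro D μ hμ hdeg hD _ _ hTD
    have h := LinearMap.congr_fun hTD.eq ((0, 1), 0)
    rw [Module.End.mul_apply, Module.End.mul_apply] at h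
    have h1 : D ((1, 0), 0) = (D ((0, 1), 0)).1.2 • (((1, 0), 0) : ((F × F) × (Fin m ⊕ Fin m → F))) := by
      have e : (((1, 0), 0) : ((F × F) × (Fin m ⊕ Fin m → F))) = T ((0, 1), 0) - ((0, 1), 0) := by simp [hTv]
      rw [e, map_sub, ← h, ← e]
      simp [hTv, Prod.ext_iff]
    have := no_eigen hμ (hdeg.symm ▸ hk) hD h1
    exact one_ne_zero (congrArg (fun v : ((F × F) × (Fin m ⊕ Fin m → F)) => v.1.1) this)

/-- An involution negating a plane. -/
theorem exists_plane_involution {d k : ℕ} (hd : 2 ≤ d) (hk : 2 ≤ k) (h2 : (2 : F) ≠ 0) :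
    ∃ x ∈ Cfsg.spGL d F, x ^ 2 = 1 ∧
      (∀ z : F, (x : Matrix (Fin d ⊕ Fin d) (Fin d ⊕ Fin d) F) ≠ z • 1) ∧
      finrank F (LinearMap.range (Matrix.toLin' (x : Matrix (Fin d ⊕ Fin d) (Fin d ⊕ Fin d) F) - 1)) ≤ 2 ∧
      NoField d k (Matrix.toLin' (x : Matrix (Fin d ⊕ Fin d) (Fin d ⊕ Fin d) F)) := by
  obtain ⟨m, rfl⟩ : ∃ m, d = 1 + m := ⟨d - 1, by omega⟩
  let T : Module.End F ((F × F) × (Fin m ⊕ Fin m → F)) := LinearMap.prodMap (- LinearMap.id) LinearMap.id
  have hTv : ∀ v : ((F × F) × (Fin m ⊕ Fin m → F)), T v = (-v.1, v.2) := fun v => rfl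
  refine exists_transfer (planeForm m) planeForm_alt planeForm_nondeg ?_ (T := T) (fun u v => ?_) ?_ (fun z => ?_) ?_ ?_
  · rw [finrank_prod, finrank_prod, finrank_self, CfsgLib.SympGeom.finrank_space]; ring
  · simp only [planeForm_apply, hTv, Prod.fst_neg, Prod.snd_neg]; ring
  · refine LinearMap.ext fun v => ?_
    rw [pow_two, Module.End.mul_apply, hTv, hTv, neg_neg]; rfl
  · by_contra hc
    push Not at hc
    have e1 := congrArg (fun v : ((F × F) × (Fin m ⊕ Fin m → F)) => v.1.1) (hc ((1, 0), 0))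
    have e2 := congrArg (fun v : ((F × F) × (Fin m ⊕ Fin m → F)) => v.2 (Sum.inl ⟨0, by omega⟩)) (hc ((0, 0), Pi.single (Sum.inl ⟨0, by omega⟩) 1))
    simp [hTv] at e1 e2
    exact h2 (by linear_combination e2 - e1)
  · have hle : LinearMap.range (T - 1) ≤ LinearMap.range (LinearMap.inl F (F × F) (Fin m ⊕ Fin m → F)) := by
      rintro _ ⟨v, rfl⟩
      exact ⟨((T - 1) v).1, Prod.ext rfl (by simp [hTv])⟩
    refine (Submodule.finrank_mono hle).trans ?_
    rw [LinearMap.finrank_range_of_inj LinearMap.inl_injective, finrank_prod, finrank_self]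
  · intro D μ hμ hdeg hD _ hDa hTD
    set e : ((F × F) × (Fin m ⊕ Fin m → F)) := ((1, 0), 0)
    have h : T (D e) = D (T e) := by
      have := LinearMap.congr_fun hTD.eq e
      rwa [Module.End.mul_apply, Module.End.mul_apply] at this
    have hTe : T e = -e := by simp [hTv, e]
    rw [hTe, map_neg] at h
    have hw : (D e).2 = 0 := by
      have h' := congrArg (fun v : ((F × F) × (Fin m ⊕ Fin m → F)) => v.2) h
      simp [hTv] at h'
      exact (smul_eq_zero.1 (show (2 : F) • (D e).2 = 0 by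
        rw [two_smul]; nth_rewrite 1 [h']; exact neg_add_cancel _)).resolve_left h2
    have hb : (D e).1.2 = 0 := by
      have h' := hDa e
      rw [planeForm_apply, hw] at h'
      simpa [e, CfsgLib.Linear.Symp.form_zero_right] using h'
    have he : D e = (D e).1.1 • e := Prod.ext (Prod.ext (by simp [e]) (by simp [e, hb])) (by simp [e, hw])
    exact one_ne_zero (congrArg (fun v : ((F × F) × (Fin m ⊕ Fin m → F)) => v.1.1) (no_eigen hμ (hdeg.symm ▸ hk) hD he))

variable [Fintype F] {r p : ℕ} [hr : Fact r.Prime] [Fact p.Prime] [CharP F p]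

/-- The degree of an irreducible polynomial with a root fixed by a power of Frobenius. -/
theorem natDegree_dvd_of_fixed {L : Type*} [Field L] [Algebra F L] [FiniteDimensional F L] {μ : F[X]}
    (hμ : Irreducible μ) {c : L} (hc : aeval c μ = 0) {n : ℕ} (hfix : c ^ Fintype.card F ^ n = c) :
    μ.natDegree ∣ n := by
  refine hμ.natDegree_dvd_of_dvd_X_pow_card_pow_sub_X ?_
  rw [Nat.card_eq_fintype_card]
  have h1 := (minpoly.irreducible (IsIntegral.of_finite F c)).associated_of_dvd hμ (minpoly.dvd F c hc)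
  exact h1.symm.dvd.trans (minpoly.dvd F c (by simp [hfix]))

/-- The elements with one block. -/
theorem exists_block {d k : ℕ} (hr2 : r ≠ 2) (hrp : r ≠ p)
    (hord : 0 < orderOf (Fintype.card F : ZMod r))
    (hcase : (Odd (orderOf (Fintype.card F : ZMod r)) ∧ orderOf (Fintype.card F : ZMod r) ≤ d ∧
          ¬ k ∣ orderOf (Fintype.card F : ZMod r)) ∨
        ∃ h, 0 < h ∧ h ≤ d ∧ ¬ k ∣ h ∧ orderOf (Fintype.card F : ZMod r) = 2 * h) :
    ∃ x ∈ Cfsg.spGL d F, x ^ r = 1 ∧
      (∀ z : F, (x : Matrix (Fin d ⊕ Fin d) (Fin d ⊕ Fin d) F) ≠ z • 1) ∧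
      finrank F (LinearMap.range (Matrix.toLin' (x : Matrix (Fin d ⊕ Fin d) (Fin d ⊕ Fin d) F) - 1)) ≤
        (if Odd (orderOf (Fintype.card F : ZMod r)) then 2 * orderOf (Fintype.card F : ZMod r)
          else orderOf (Fintype.card F : ZMod r)) ∧
      NoField d k (Matrix.toLin' (x : Matrix (Fin d ⊕ Fin d) (Fin d ⊕ Fin d) F)) := by
  classical
  set i := orderOf (Fintype.card F : ZMod r) with hi
  obtain ⟨g, hg, hgm, hgdvd, hg1⟩ := exists_irreducible_dvd_X_pow_sub_one (F := F) (r := r) hrp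
  have hdeg : g.natDegree = i := natDegree_eq_order hord hg hgdvd hg1
  haveI : Fact (Irreducible g) := ⟨hg⟩
  haveI : Module.Finite F (AdjoinRoot g) := (AdjoinRoot.powerBasis hg.ne_zero).finite
  haveI : Finite (AdjoinRoot g) := Module.finite_of_finite F
  let L := AdjoinRoot g
  let α : L := AdjoinRoot.root g
  have hL : finrank F L = i := hdeg ▸ finrank_quotient_span_eq_natDegree (f := g)
  have hroot : ∀ P : F[X], aeval α P = 0 ↔ g ∣ P := fun P => by
    rw [AdjoinRoot.aeval_eq, AdjoinRoot.mk_eq_zero]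
  have hgα : aeval α g = 0 := (hroot g).2 dvd_rfl
  have hgen : ∀ x : L, ∃ P : F[X], aeval α P = x := fun x => by
    obtain ⟨P, hP⟩ := AdjoinRoot.mk_surjective x
    exact ⟨P, by rw [AdjoinRoot.aeval_eq, hP]⟩
  have hαr : α ^ r = 1 := by
    have := (hroot _).2 hgdvd
    simpa [sub_eq_zero] using this
  have hα1 : α ≠ 1 := fun h => hg1 ((hroot _).1 (by simp [h]))
  have hα0 : α ≠ 0 := fun h0 => by rw [h0, zero_pow hr.out.ne_zero] at hαr; exact zero_ne_one hαr
  have hordα : orderOf α = r := orderOf_eq_prime hαr hα1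
  have hαinv : α⁻¹ ≠ α := fun h => by
    have h4 : α ^ 2 = 1 := by rw [pow_two]; nth_rewrite 1 [← h]; exact inv_mul_cancel₀ hα0
    exact hr2 ((Nat.prime_dvd_prime_iff_eq hr.out Nat.prime_two).1 (hordα ▸ orderOf_dvd_of_pow_eq_one h4))
  have hg_one : g.eval 1 ≠ 0 := fun h => by
    have h' : X - C (1 : F) ∣ g := dvd_iff_isRoot.2 h
    rw [← map_one (C : F →+* F[X])] at hg1
    exact hg1 ((irreducible_X_sub_C 1).associated_of_dvd hg h').symm.dvd
  have hnd : ∀ a : L, (∀ b, Algebra.trace F L (a * b) = 0) → a = 0 := fun a h =>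
    (traceForm_nondegenerate F L).1 a h
  have hone : ∀ (W : Type _) [AddCommGroup W] [Module F W] (w : W),
      aeval (1 : Module.End F W) g w = g.eval 1 • w := fun W _ _ w => by
    rw [show (1 : Module.End F W) = algebraMap F (Module.End F W) 1 from (map_one _).symm,
      aeval_algebraMap_apply, Module.algebraMap_end_apply]
    rfl
  rcases hcase with ⟨hodd, hid, hki⟩ | ⟨h, hh0, hhd, hkh, hih⟩
  · -- two dual blocks
    rw [if_pos hodd]
    have hginv : aeval α⁻¹ g ≠ 0 :=
      BlockField.aeval_inv_ne_zero hr2 hαr hα1 hgen hg hgα hL (hL.symm ▸ hodd)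
    obtain ⟨m, rfl⟩ : ∃ m, d = i + m := ⟨d - i, by omega⟩
    let pa : ((L × L) × (Fin m ⊕ Fin m → F)) →ₗ[F] L := (LinearMap.fst F L L).comp (LinearMap.fst F _ _)
    let pb : ((L × L) × (Fin m ⊕ Fin m → F)) →ₗ[F] L := (LinearMap.snd F L L).comp (LinearMap.fst F _ _)
    let pw : ((L × L) × (Fin m ⊕ Fin m → F)) →ₗ[F] (Fin m ⊕ Fin m → F) := LinearMap.snd F _ _
    let B : LinearMap.BilinForm F ((L × L) × (Fin m ⊕ Fin m → F)) := (Algebra.traceForm F L).compl₁₂ pa pb -
      (Algebra.traceForm F L).compl₁₂ pb pa + (CfsgLib.SympGeom.sympBilin m F).compl₁₂ pw pw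
    have hBv : ∀ u v : ((L × L) × (Fin m ⊕ Fin m → F)), B u v = Algebra.trace F L (u.1.1 * v.1.2) - Algebra.trace F L (u.1.2 * v.1.1) +
        Cfsg.sympForm m F u.2 v.2 := fun u v => rfl
    let T : Module.End F ((L × L) × (Fin m ⊕ Fin m → F)) :=
      LinearMap.prodMap (LinearMap.prodMap (Algebra.lmul F L α) (Algebra.lmul F L α⁻¹)) LinearMap.id
    have hTv : ∀ v : ((L × L) × (Fin m ⊕ Fin m → F)), T v = ((α * v.1.1, α⁻¹ * v.1.2), v.2) := fun v => rfl
    have hpow : ∀ (n : ℕ) (v : ((L × L) × (Fin m ⊕ Fin m → F))), (T ^ n) v = ((α ^ n * v.1.1, α⁻¹ ^ n * v.1.2), v.2) := fun n => by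
      induction n with
      | zero => intro v; simp
      | succ n ih => intro v; rw [pow_succ', Module.End.mul_apply, ih, hTv]; simp [pow_succ', mul_assoc]
    refine exists_transfer B (fun v => ?_) (fun v hv => ?_) ?_ (T := T) (fun u v => ?_) ?_ (fun z => ?_) ?_ ?_
    · rw [hBv, mul_comm v.1.1 v.1.2, sub_self, zero_add]
      exact CfsgLib.Linear.Symp.form_self _
    · have h1 : v.1.1 = 0 := hnd _ fun b => by
        simpa [hBv, CfsgLib.Linear.Symp.form_zero_right] using hv ((0, b), 0)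
      have h2' : v.1.2 = 0 := hnd _ fun b => by
        simpa [hBv, CfsgLib.Linear.Symp.form_zero_right] using hv ((b, 0), 0)
      have h3 : v.2 = 0 := CfsgLib.SympGeom.sympBilin_nondeg.1 _ fun w => by
        simpa [hBv, CfsgLib.SympGeom.sympBilin_apply] using hv ((0, 0), w)
      exact Prod.ext (Prod.ext h1 h2') h3
    · rw [finrank_prod, finrank_prod, hL, CfsgLib.SympGeom.finrank_space]; ring
    · simp only [hBv, hTv]
      rw [mul_mul_mul_comm α, mul_inv_cancel₀ hα0, one_mul, mul_mul_mul_comm α⁻¹, inv_mul_cancel₀ hα0, one_mul]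
    · refine LinearMap.ext fun v => ?_
      rw [hpow, hαr, inv_pow, hαr, inv_one, one_mul, one_mul]; rfl
    · by_contra hc
      push Not at hc
      have e1 := congrArg (fun v : ((L × L) × (Fin m ⊕ Fin m → F)) => v.1.1) (hc ((1, 0), 0))
      have e2 := congrArg (fun v : ((L × L) × (Fin m ⊕ Fin m → F)) => v.1.2) (hc ((0, 1), 0))
      simp [hTv] at e1 e2
      exact hαinv (e2.trans e1.symm)
    · have hle : LinearMap.range (T - 1) ≤ LinearMap.range (LinearMap.inl F (L × L) (Fin m ⊕ Fin m → F)) := by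
        rintro _ ⟨v, rfl⟩
        exact ⟨((T - 1) v).1, Prod.ext rfl (by simp [hTv])⟩
      refine (Submodule.finrank_mono hle).trans ?_
      rw [LinearMap.finrank_range_of_inj LinearMap.inl_injective, finrank_prod, hL, two_mul]
    · intro D μ hμ hμdeg hD _ _ hTD
      let ι : L →ₗ[F] ((L × L) × (Fin m ⊕ Fin m → F)) := (LinearMap.inl F (L × L) _).comp (LinearMap.inl F L L)
      obtain ⟨c, hmul⟩ := BlockField.exists_mul_of_commute hgen hgα hTD ι
        (fun a => by simp [ι, hTv]) fun v hv => by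
          have e2 := congrArg pb hv
          have e3 := congrArg pw hv
          rw [BlockField.aeval_intertwine pb (S := Algebra.lmul F L α⁻¹) (fun v => rfl),
            BlockField.aeval_mulLeft, map_zero] at e2
          rw [BlockField.aeval_intertwine pw (S := (1 : Module.End F _)) (fun v => rfl), hone,
            map_zero] at e3
          refine ⟨v.1.1, Prod.ext (Prod.ext rfl ?_) ?_⟩
          · exact (mul_eq_zero.1 e2).resolve_left hginv
          · exact (smul_eq_zero.1 e3).resolve_left hg_one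
      have hc : aeval c μ = 0 := by
        have h := BlockField.aeval_intertwine ι (T := Algebra.lmul F L c) (S := D) (fun a => (hmul a).symm) μ 1
        rw [hD, BlockField.aeval_mulLeft, mul_one, LinearMap.zero_apply] at h
        exact congrArg (fun v : ((L × L) × (Fin m ⊕ Fin m → F)) => v.1.1) h
      apply hki
      rw [← hμdeg]
      exact natDegree_dvd_of_fixed hμ hc (hL ▸ BlockField.pow_card_pow_finrank c)
  · -- one self-dual block
    rw [if_neg (Nat.not_odd_iff_even.2 ⟨h, hih.trans (two_mul h)⟩)]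
    obtain ⟨m, rfl⟩ : ∃ m, d = h + m := ⟨d - h, by omega⟩
    set q := Fintype.card F
    let τ : L →ₐ[F] L := FiniteField.frobeniusAlgHom F L ^ h
    have hτ : ∀ x, τ x = x ^ q ^ h := fun x => BlockField.frobenius_pow_apply h x
    have hττ : ∀ x, τ (τ x) = x := fun x => by
      rw [hτ, hτ, ← pow_mul, ← pow_add, ← two_mul, ← hih, ← hL]
      exact BlockField.pow_card_pow_finrank x
    have hτα : τ α = α⁻¹ := by
      have hq1 : 1 < q := Fintype.one_lt_card
      have h1 : r ∣ (q ^ h + 1) * (q ^ h - 1) := by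
        rw [← Nat.sq_sub_sq, one_pow, ← pow_mul, mul_comm, ← hih]
        exact (dvd_pow_sub_one_iff hq1.le _).2 dvd_rfl
      have h3 : r ∣ q ^ h + 1 := (hr.out.dvd_mul.1 h1).resolve_right fun h' => by
        have := Nat.le_of_dvd (by omega) ((dvd_pow_sub_one_iff hq1.le _).1 h')
        omega
      rw [hτ]
      refine eq_inv_of_mul_eq_one_left ?_
      rw [← pow_succ, ← orderOf_dvd_iff_pow_eq_one, hordα]
      exact h3
    let τe : L ≃ₐ[F] L := AlgEquiv.ofBijective τ
      ⟨τ.toRingHom.injective, fun x => ⟨τ x, hττ x⟩⟩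
    have htr : ∀ x, Algebra.trace F L (τ x) = Algebra.trace F L x := fun x =>
      Algebra.trace_eq_of_algEquiv τe x
    -- a non-zero element negated by `τ`, fixed in characteristic two
    let δ : L := if (2 : F) = 0 then 1 else α - α⁻¹
    have hδ0 : δ ≠ 0 := by
      simp only [δ]; split_ifs
      · exact one_ne_zero
      · exact sub_ne_zero.mpr hαinv.symm
    have hδ : τ δ = - δ := by
      simp only [δ]
      split_ifs with h20
      · haveI : CharP F 2 := CharTwo.of_one_ne_zero_of_two_eq_zero one_ne_zero h20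
        haveI : CharP L 2 := charP_of_injective_algebraMap (algebraMap F L).injective 2
        rw [map_one, CharTwo.neg_eq]
      · rw [map_sub, map_inv₀, hτα, inv_inv, neg_sub]
    let pa : (L × (Fin m ⊕ Fin m → F)) →ₗ[F] L := LinearMap.fst F _ _
    let pw : (L × (Fin m ⊕ Fin m → F)) →ₗ[F] (Fin m ⊕ Fin m → F) := LinearMap.snd F _ _
    let B : LinearMap.BilinForm F (L × (Fin m ⊕ Fin m → F)) :=
      (Algebra.traceForm F L).compl₁₂ ((Algebra.lmul F L δ).comp pa) (τ.toLinearMap.comp pa) +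
      (CfsgLib.SympGeom.sympBilin m F).compl₁₂ pw pw
    have hBv : ∀ u v : (L × (Fin m ⊕ Fin m → F)), B u v = Algebra.trace F L (δ * u.1 * τ v.1) + Cfsg.sympForm m F u.2 v.2 :=
      fun u v => rfl
    let T : Module.End F (L × (Fin m ⊕ Fin m → F)) := LinearMap.prodMap (Algebra.lmul F L α) LinearMap.id
    have hTv : ∀ v : (L × (Fin m ⊕ Fin m → F)), T v = (α * v.1, v.2) := fun v => rfl
    have hpow : ∀ (n : ℕ) (v : (L × (Fin m ⊕ Fin m → F))), (T ^ n) v = (α ^ n * v.1, v.2) := fun n => by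
      induction n with
      | zero => intro v; simp
      | succ n ih => intro v; rw [pow_succ', Module.End.mul_apply, ih, hTv]; simp [pow_succ', mul_assoc]
    have hzero : ∀ a : L, (∀ v, Algebra.trace F L (δ * a * τ v) = 0) → a = 0 := fun a ha =>
      (mul_eq_zero.1 (hnd (δ * a) fun b => by
        have := ha (τ b); rwa [hττ] at this)).resolve_left hδ0
    refine exists_transfer B (fun v => ?_) (fun v hv => ?_) ?_ (T := T) (fun u v => ?_) ?_ (fun z => ?_) ?_ ?_
    · rw [hBv, CfsgLib.Linear.Symp.form_self, add_zero]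
      by_cases h20 : (2 : F) = 0
      · -- the trace of a fixed element
        haveI : CharP F 2 := CharTwo.of_one_ne_zero_of_two_eq_zero one_ne_zero h20
        haveI : CharP L 2 := charP_of_injective_algebraMap (algebraMap F L).injective 2
        obtain ⟨u, hu⟩ : ∃ u : L, u + τ u = δ * v.1 * τ v.1 := by
          let w : L := α
          have hw : w + τ w ≠ 0 := by
            show α + τ α ≠ 0
            rw [hτα, Ne, CharTwo.add_eq_zero]
            exact hαinv.symm
          have hfix : τ (δ * v.1 * τ v.1) = δ * v.1 * τ v.1 := by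
            rw [map_mul τ, map_mul τ, hδ, hττ, CharTwo.neg_eq]; ring
          refine ⟨δ * v.1 * τ v.1 / (w + τ w) * w, ?_⟩
          rw [map_mul τ, map_div₀, hfix, map_add τ, hττ, add_comm (τ w) w, ← mul_add,
            div_mul_cancel₀ _ hw]
        rw [← hu, map_add, htr, CharTwo.add_self_eq_zero]
      · have h' := htr (δ * v.1 * τ v.1)
        rw [map_mul τ, map_mul τ, hδ, hττ, show -δ * τ v.1 * v.1 = -(δ * v.1 * τ v.1) by ring, map_neg] at h'
        exact (mul_eq_zero.1 (show (2 : F) * Algebra.trace F L (δ * v.1 * τ v.1) = 0 by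
          linear_combination -h')).resolve_left h20
    · have h1 : v.1 = 0 := hzero _ fun b => by
        simpa [hBv, CfsgLib.Linear.Symp.form_zero_right] using hv (b, 0)
      have h3 : v.2 = 0 := CfsgLib.SympGeom.sympBilin_nondeg.1 _ fun w => by
        simpa [hBv, CfsgLib.SympGeom.sympBilin_apply] using hv (0, w)
      exact Prod.ext h1 h3
    · rw [finrank_prod, hL, hih, CfsgLib.SympGeom.finrank_space]; ring
    · simp only [hBv, hTv]
      rw [map_mul τ, hτα, ← mul_assoc δ, mul_comm δ α, mul_assoc α, mul_mul_mul_comm α, mul_inv_cancel₀ hα0, one_mul]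
    · refine LinearMap.ext fun v => ?_
      rw [hpow, hαr, one_mul]; rfl
    · by_contra hc
      push Not at hc
      have e1 := congrArg (fun v : (L × (Fin m ⊕ Fin m → F)) => v.1) (hc (1, 0))
      change α * 1 = z • (1 : L) at e1
      rw [mul_one] at e1
      apply hαinv
      conv_lhs => rw [← hτα, e1, map_smul, map_one]
      rw [e1]
    · have hle : LinearMap.range (T - 1) ≤ LinearMap.range (LinearMap.inl F L (Fin m ⊕ Fin m → F)) := by
        rintro _ ⟨v, rfl⟩
        exact ⟨((T - 1) v).1, Prod.ext rfl (by simp [hTv])⟩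
      refine (Submodule.finrank_mono hle).trans ?_
      rw [LinearMap.finrank_range_of_inj LinearMap.inl_injective, hL]
    · intro D μ hμ hμdeg hD hDs _ hTD
      let ι : L →ₗ[F] (L × (Fin m ⊕ Fin m → F)) := LinearMap.inl F L _
      obtain ⟨c, hmul⟩ := BlockField.exists_mul_of_commute hgen hgα hTD ι (fun a => rfl) fun v hv => by
          have e3 := congrArg pw hv
          rw [BlockField.aeval_intertwine pw (S := (1 : Module.End F _)) (fun v => rfl), hone,
            map_zero] at e3
          exact ⟨v.1, Prod.ext rfl ((smul_eq_zero.1 e3).resolve_left hg_one)⟩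
      have hc : aeval c μ = 0 := by
        have h := BlockField.aeval_intertwine ι (T := Algebra.lmul F L c) (S := D) (fun a => (hmul a).symm) μ 1
        rw [hD, BlockField.aeval_mulLeft, mul_one, LinearMap.zero_apply] at h
        exact congrArg (fun v : (L × (Fin m ⊕ Fin m → F)) => v.1) h
      have hτc : τ c = c := by
        refine (sub_eq_zero.1 (hzero (c - τ c) fun v => ?_)).symm
        have h' := hDs (ι 1) (ι v)
        rw [hmul, hmul, hBv, hBv] at h'
        change Algebra.trace F L (δ * (c * 1) * τ v) + Cfsg.sympForm m F 0 0 =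
          Algebra.trace F L (δ * 1 * τ (c * v)) + Cfsg.sympForm m F 0 0 at h'
        rw [CfsgLib.Linear.Symp.form_self, add_zero, add_zero, mul_one, mul_one, map_mul τ] at h'
        rw [mul_sub, sub_mul, map_sub, h', mul_assoc δ (τ c), sub_self]
      apply hkh
      rw [← hμdeg]
      exact natDegree_dvd_of_fixed hμ hc ((hτ c).symm.trans hτc)

end CfsgLib.LinFix.SympBlockField
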