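import Mathlib
import Cfsg.Prelude.Def_GeometricClasses
import Cfsg.Agent.Lib.SympGeom.Basic
import Cfsg.Agent.Lib.LinFix.SympIndex
import Cfsg.Agent.Lib.LinFix.BlockField
import Cfsg.Agent.Lib.LinFix.UnitaryIndex

/-!
Symplectic elements of prime order moving as few dimensions as possible.
-/

set_option autoImplicit false

namespace CfsgLib.LinFix.SympMin

open Module Polynomial
open scoped Matrix

variable {F : Type*} [Field F]

/-- Moving a model to the standard space. -/
theorem exists_transfer {V : Type*} [AddCommGroup V] [Module F V] [FiniteDimensional F V]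
    (B : LinearMap.BilinForm F V) (halt : ∀ v, B v v = 0) (hnd : ∀ v, (∀ w, B v w = 0) → v = 0) {d : ℕ}
    (hdim : finrank F V = 2 * d) {T : Module.End F V} (hiso : ∀ u v, B (T u) (T v) = B u v) {r c : ℕ}
    (hT : T ^ r = 1) (hrk : finrank F (LinearMap.range (T - 1)) = c) :
    ∃ x ∈ Cfsg.spGL d F, x ^ r = 1 ∧
      ((x : Matrix (Fin d ⊕ Fin d) (Fin d ⊕ Fin d) F) - 1).rank = c := by
  classical
  obtain ⟨d', e, he⟩ := exists_sympEquiv B halt hnd
  obtain rfl : d' = d := by
    have h := e.finrank_eq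
    rw [hdim, CfsgLib.SympGeom.finrank_space] at h
    omega
  let φ : Module.End F V →* Matrix (Fin d' ⊕ Fin d') (Fin d' ⊕ Fin d') F :=
    (Matrix.toLinAlgEquiv'.symm.toAlgHom.comp (e.conjAlgEquiv F).toAlgHom).toMonoidHom
  have hφ : ∀ (S : Module.End F V) v, φ S *ᵥ e v = e (S v) := fun S v => by
    rw [← Matrix.toLinAlgEquiv'_apply]
    simp [φ]
  have hTr : IsUnit T := by
    rcases r with - | r
    · refine (Module.End.isUnit_iff _).mpr ?_
      have hinj : Function.Injective T := (injective_iff_map_eq_zero T).mpr fun u hu => hnd u fun w => by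
        rw [← hiso, hu, map_zero, LinearMap.zero_apply]
      exact ⟨hinj, LinearMap.injective_iff_surjective.mp hinj⟩
    · exact ⟨⟨T, T ^ r, by rw [← pow_succ', hT], by rw [← pow_succ, hT]⟩, rfl⟩
  obtain ⟨u, hu⟩ := hTr
  let x : GL (Fin d' ⊕ Fin d') F := Units.map φ u
  have hx : ∀ v, (x : Matrix (Fin d' ⊕ Fin d') (Fin d' ⊕ Fin d') F) *ᵥ e v = e (T v) := fun v => by
    rw [← hu]; exact hφ u v
  refine ⟨x, fun a b => ?_, ?_, ?_⟩
  · obtain ⟨a, rfl⟩ := e.surjective a
    obtain ⟨b, rfl⟩ := e.surjective b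
    show Cfsg.sympForm d' F ((x : Matrix (Fin d' ⊕ Fin d') (Fin d' ⊕ Fin d') F) *ᵥ e a)
      ((x : Matrix (Fin d' ⊕ Fin d') (Fin d' ⊕ Fin d') F) *ᵥ e b) = _
    rw [hx, hx, ← he, ← he, hiso]
  · rw [← map_pow, show u ^ r = 1 from Units.ext (by rw [Units.val_pow_eq_pow_val, hu, hT]; rfl), map_one]
  · have h1 : LinearMap.range ((x : Matrix (Fin d' ⊕ Fin d') (Fin d' ⊕ Fin d') F) - 1).mulVecLin =
        (LinearMap.range (T - 1)).map e.toLinearMap := by
      ext w
      constructor
      · rintro ⟨v, rfl⟩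
        obtain ⟨v, rfl⟩ := e.surjective v
        exact ⟨(T - 1) v, ⟨v, rfl⟩, by simp [Matrix.sub_mulVec, hx]⟩
      · rintro ⟨_, ⟨v, rfl⟩, rfl⟩
        exact ⟨e v, by simp [Matrix.sub_mulVec, hx]⟩
    rw [Matrix.rank, h1, LinearEquiv.finrank_map_eq, hrk]

variable [Fintype F] {r p : ℕ} [hr : Fact r.Prime] [Fact p.Prime] [CharP F p]

/-- The order of `q` modulo a prime divisor of the symplectic group order. -/
theorem order_le {d : ℕ} (hrp : r ≠ p) (hdvd : r ∣ Nat.card (Cfsg.spGL d F)) :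
    (if Even (orderOf (Fintype.card F : ZMod r)) then orderOf (Fintype.card F : ZMod r)
      else 2 * orderOf (Fintype.card F : ZMod r)) ≤ 2 * d := by
  rw [CfsgLib.LinFix.UnitaryIndex.card_spGL'] at hdvd
  have hq1 : 1 < Fintype.card F := Fintype.one_lt_card
  rcases hr.out.dvd_mul.1 hdvd with h | h
  · have := hr.out.dvd_of_dvd_pow h
    obtain ⟨k, -, hk⟩ := FiniteField.card F p
    rw [hk] at this
    exact absurd ((Nat.prime_dvd_prime_iff_eq hr.out Fact.out).1 (hr.out.dvd_of_dvd_pow this)) hrp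
  · obtain ⟨j, hj, hj'⟩ := (hr.out.prime.dvd_finsetProd_iff _).1 h
    rw [Finset.mem_range] at hj
    have h2 := (dvd_pow_sub_one_iff hq1.le _).1 hj'
    split_ifs with he
    · exact (Nat.le_of_dvd (by omega) h2).trans (by omega)
    · have := Nat.le_of_dvd (by omega) ((Nat.Coprime.dvd_mul_left
        ((Nat.coprime_two_right).2 (Nat.not_even_iff_odd.1 he))).1 h2)
      omega

/-- A minimal element. -/
theorem exists_element {d : ℕ} (hr2 : r ≠ 2) (hrp : r ≠ p) (h2 : (2 : F) ≠ 0)
    (hc : (if Even (orderOf (Fintype.card F : ZMod r)) then orderOf (Fintype.card F : ZMod r)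
      else 2 * orderOf (Fintype.card F : ZMod r)) ≤ 2 * d) :
    ∃ x ∈ Cfsg.spGL d F, x ^ r = 1 ∧
      ((x : Matrix (Fin d ⊕ Fin d) (Fin d ⊕ Fin d) F) - 1).rank =
        (if Even (orderOf (Fintype.card F : ZMod r)) then orderOf (Fintype.card F : ZMod r)
          else 2 * orderOf (Fintype.card F : ZMod r)) := by
  classical
  have hord := orderOf_pos_of_ne (F := F) (p := p) hrp
  set i := orderOf (Fintype.card F : ZMod r) with hi
  obtain ⟨g, hg, hgm, hgdvd, hg1⟩ := exists_irreducible_dvd_X_pow_sub_one (F := F) (r := r) hrp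
  have hdeg : g.natDegree = i := natDegree_eq_order hord hg hgdvd hg1
  haveI : Fact (Irreducible g) := ⟨hg⟩
  haveI : Module.Finite F (AdjoinRoot g) := (AdjoinRoot.powerBasis hg.ne_zero).finite
  haveI : Finite (AdjoinRoot g) := Module.finite_of_finite F
  let L := AdjoinRoot g
  let α : L := AdjoinRoot.root g
  have hL : finrank F L = i := hdeg ▸ finrank_quotient_span_eq_natDegree (f := g)
  have hroot : ∀ P : F[X], aeval α P = 0 ↔ g ∣ P := fun P => by
    rw [AdjoinRoot.aeval_eq, AdjoinRoot.mk_eq_zero]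
  have hgα : aeval α g = 0 := (hroot g).2 dvd_rfl
  have hgen : ∀ x : L, ∃ P : F[X], aeval α P = x := fun x => by
    obtain ⟨P, hP⟩ := AdjoinRoot.mk_surjective x
    exact ⟨P, by rw [AdjoinRoot.aeval_eq, hP]⟩
  have hαr : α ^ r = 1 := by
    have := (hroot _).2 hgdvd
    simpa [sub_eq_zero] using this
  have hα1 : α ≠ 1 := fun h => hg1 ((hroot _).1 (by simp [h]))
  have hα0 : α ≠ 0 := fun h0 => by rw [h0, zero_pow hr.out.ne_zero] at hαr; exact zero_ne_one hαr
  have hordα : orderOf α = r := orderOf_eq_prime hαr hα1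
  have hαinv : α⁻¹ ≠ α := fun h => by
    have h4 : α ^ 2 = 1 := by rw [pow_two]; nth_rewrite 1 [← h]; exact inv_mul_cancel₀ hα0
    exact hr2 ((Nat.prime_dvd_prime_iff_eq hr.out Nat.prime_two).1 (hordα ▸ orderOf_dvd_of_pow_eq_one h4))
  have hnd : ∀ a : L, (∀ b, Algebra.trace F L (a * b) = 0) → a = 0 := fun a h =>
    (traceForm_nondegenerate F L).1 a h
  have hcase : (Odd i ∧ i ≤ d) ∨ ∃ h, 0 < h ∧ h ≤ d ∧ i = 2 * h := by
    rcases Nat.even_or_odd i with he | ho
    · rw [if_pos he] at hc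
      obtain ⟨h, hh⟩ := he
      exact Or.inr ⟨h, by omega, by omega, by omega⟩
    · rw [if_neg (Nat.not_even_iff_odd.2 ho)] at hc
      exact Or.inl ⟨ho, by omega⟩
  rcases hcase with ⟨hodd, hid⟩ | ⟨h, hh0, hhd, hih⟩
  · -- two dual blocks
    obtain ⟨m, rfl⟩ : ∃ m, d = i + m := ⟨d - i, by omega⟩
    let V := (L × L) × (Fin m ⊕ Fin m → F)
    let pa : V →ₗ[F] L := (LinearMap.fst F L L).comp (LinearMap.fst F _ _)
    let pb : V →ₗ[F] L := (LinearMap.snd F L L).comp (LinearMap.fst F _ _)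
    let pw : V →ₗ[F] (Fin m ⊕ Fin m → F) := LinearMap.snd F _ _
    let B : LinearMap.BilinForm F V := (Algebra.traceForm F L).compl₁₂ pa pb -
      (Algebra.traceForm F L).compl₁₂ pb pa + (CfsgLib.SympGeom.sympBilin m F).compl₁₂ pw pw
    have hBv : ∀ u v : V, B u v = Algebra.trace F L (u.1.1 * v.1.2) - Algebra.trace F L (u.1.2 * v.1.1) +
        Cfsg.sympForm m F u.2 v.2 := fun u v => rfl
    let T : Module.End F V :=
      LinearMap.prodMap (LinearMap.prodMap (Algebra.lmul F L α) (Algebra.lmul F L α⁻¹)) LinearMap.id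
    have hTv : ∀ v : V, T v = ((α * v.1.1, α⁻¹ * v.1.2), v.2) := fun v => rfl
    have hpow : ∀ (n : ℕ) (v : V), (T ^ n) v = ((α ^ n * v.1.1, α⁻¹ ^ n * v.1.2), v.2) := fun n => by
      induction n with
      | zero => intro v; simp
      | succ n ih => intro v; rw [pow_succ', Module.End.mul_apply, ih, hTv]; simp [pow_succ', mul_assoc]
    refine exists_transfer B (fun v => ?_) (fun v hv => ?_) ?_ (T := T) (fun u v => ?_) ?_ ?_
    · rw [hBv, mul_comm v.1.1 v.1.2, sub_self, zero_add]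
      exact CfsgLib.Linear.Symp.form_self _
    · have h1 : v.1.1 = 0 := hnd _ fun b => by
        simpa [hBv, CfsgLib.Linear.Symp.form_zero_right] using hv ((0, b), 0)
      have h2' : v.1.2 = 0 := hnd _ fun b => by
        simpa [hBv, CfsgLib.Linear.Symp.form_zero_right] using hv ((b, 0), 0)
      have h3 : v.2 = 0 := CfsgLib.SympGeom.sympBilin_nondeg.1 _ fun w => by
        simpa [hBv, CfsgLib.SympGeom.sympBilin_apply] using hv ((0, 0), w)
      exact Prod.ext (Prod.ext h1 h2') h3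
    · rw [finrank_prod, finrank_prod, hL, CfsgLib.SympGeom.finrank_space]; ring
    · simp only [hBv, hTv]
      rw [mul_mul_mul_comm α, mul_inv_cancel₀ hα0, one_mul, mul_mul_mul_comm α⁻¹, inv_mul_cancel₀ hα0, one_mul]
    · refine LinearMap.ext fun v => ?_
      rw [hpow, hαr, inv_pow, hαr, inv_one, one_mul, one_mul]; rfl
    · have hrange : LinearMap.range (T - 1) = LinearMap.range (LinearMap.inl F (L × L) (Fin m ⊕ Fin m → F)) := by
        refine le_antisymm ?_ ?_
        · rintro _ ⟨v, rfl⟩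
          exact ⟨(α * v.1.1 - v.1.1, α⁻¹ * v.1.2 - v.1.2), Prod.ext rfl (sub_self v.2).symm⟩
        · rintro _ ⟨⟨a, b⟩, rfl⟩
          refine ⟨(((α - 1)⁻¹ * a, (α⁻¹ - 1)⁻¹ * b), 0), ?_⟩
          have hi1 : α⁻¹ - 1 ≠ 0 := sub_ne_zero.2 fun h => hα1 (inv_eq_one.1 h)
          show T _ - _ = _
          rw [hTv]
          refine Prod.ext (Prod.ext ?_ ?_) (sub_self _)
          · show α * ((α - 1)⁻¹ * a) - (α - 1)⁻¹ * a = a
            rw [← sub_one_mul, ← mul_assoc, mul_inv_cancel₀ (sub_ne_zero.2 hα1), one_mul]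
          · show α⁻¹ * ((α⁻¹ - 1)⁻¹ * b) - (α⁻¹ - 1)⁻¹ * b = b
            rw [← sub_one_mul, ← mul_assoc, mul_inv_cancel₀ hi1, one_mul]
      rw [hrange, LinearMap.finrank_range_of_inj LinearMap.inl_injective, finrank_prod, hL,
        if_neg (Nat.not_even_iff_odd.2 hodd), two_mul]
  · -- one self-dual block
    obtain ⟨m, rfl⟩ : ∃ m, d = h + m := ⟨d - h, by omega⟩
    set q := Fintype.card F
    let τ : L →ₐ[F] L := FiniteField.frobeniusAlgHom F L ^ h
    have hτ : ∀ x, τ x = x ^ q ^ h := fun x => BlockField.frobenius_pow_apply h x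
    have hττ : ∀ x, τ (τ x) = x := fun x => by
      rw [hτ, hτ, ← pow_mul, ← pow_add, ← two_mul, ← hih, ← hL]
      exact BlockField.pow_card_pow_finrank x
    have hτα : τ α = α⁻¹ := by
      have hq1 : 1 < q := Fintype.one_lt_card
      have h1 : r ∣ (q ^ h + 1) * (q ^ h - 1) := by
        rw [← Nat.sq_sub_sq, one_pow, ← pow_mul, mul_comm, ← hih]
        exact (dvd_pow_sub_one_iff hq1.le _).2 dvd_rfl
      have h3 : r ∣ q ^ h + 1 := (hr.out.dvd_mul.1 h1).resolve_right fun h' => by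
        have := Nat.le_of_dvd (by omega) ((dvd_pow_sub_one_iff hq1.le _).1 h')
        omega
      rw [hτ]
      refine eq_inv_of_mul_eq_one_left ?_
      rw [← pow_succ, ← orderOf_dvd_iff_pow_eq_one, hordα]
      exact h3
    let τe : L ≃ₐ[F] L := AlgEquiv.ofBijective τ
      ⟨τ.toRingHom.injective, fun x => ⟨τ x, hττ x⟩⟩
    have htr : ∀ x, Algebra.trace F L (τ x) = Algebra.trace F L x := fun x =>
      Algebra.trace_eq_of_algEquiv τe x
    let δ : L := α - α⁻¹
    have hδ : τ δ = - δ := by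
      rw [map_sub, map_inv₀, hτα, inv_inv, neg_sub]
    have hδ0 : δ ≠ 0 := sub_ne_zero.mpr hαinv.symm
    let V := L × (Fin m ⊕ Fin m → F)
    let pa : V →ₗ[F] L := LinearMap.fst F _ _
    let pw : V →ₗ[F] (Fin m ⊕ Fin m → F) := LinearMap.snd F _ _
    let B : LinearMap.BilinForm F V :=
      (Algebra.traceForm F L).compl₁₂ ((Algebra.lmul F L δ).comp pa) (τ.toLinearMap.comp pa) +
      (CfsgLib.SympGeom.sympBilin m F).compl₁₂ pw pw
    have hBv : ∀ u v : V, B u v = Algebra.trace F L (δ * u.1 * τ v.1) + Cfsg.sympForm m F u.2 v.2 :=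
      fun u v => rfl
    let T : Module.End F V := LinearMap.prodMap (Algebra.lmul F L α) LinearMap.id
    have hTv : ∀ v : V, T v = (α * v.1, v.2) := fun v => rfl
    have hpow : ∀ (n : ℕ) (v : V), (T ^ n) v = (α ^ n * v.1, v.2) := fun n => by
      induction n with
      | zero => intro v; simp
      | succ n ih => intro v; rw [pow_succ', Module.End.mul_apply, ih, hTv]; simp [pow_succ', mul_assoc]
    have hzero : ∀ a : L, (∀ v, Algebra.trace F L (δ * a * τ v) = 0) → a = 0 := fun a ha =>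
      (mul_eq_zero.1 (hnd (δ * a) fun b => by
        have := ha (τ b); rwa [hττ] at this)).resolve_left hδ0
    refine exists_transfer B (fun v => ?_) (fun v hv => ?_) ?_ (T := T) (fun u v => ?_) ?_ ?_
    · rw [hBv, CfsgLib.Linear.Symp.form_self, add_zero]
      have h' := htr (δ * v.1 * τ v.1)
      rw [map_mul τ, map_mul τ, hδ, hττ, show -δ * τ v.1 * v.1 = -(δ * v.1 * τ v.1) by ring, map_neg] at h'
      exact (mul_eq_zero.1 (show (2 : F) * Algebra.trace F L (δ * v.1 * τ v.1) = 0 by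
        linear_combination -h')).resolve_left h2
    · have h1 : v.1 = 0 := hzero _ fun b => by
        simpa [hBv, CfsgLib.Linear.Symp.form_zero_right] using hv (b, 0)
      have h3 : v.2 = 0 := CfsgLib.SympGeom.sympBilin_nondeg.1 _ fun w => by
        simpa [hBv, CfsgLib.SympGeom.sympBilin_apply] using hv (0, w)
      exact Prod.ext h1 h3
    · rw [finrank_prod, hL, hih, CfsgLib.SympGeom.finrank_space]; ring
    · simp only [hBv, hTv]
      rw [map_mul τ, hτα, ← mul_assoc δ, mul_comm δ α, mul_assoc α, mul_mul_mul_comm α, mul_inv_cancel₀ hα0, one_mul]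
    · refine LinearMap.ext fun v => ?_
      rw [hpow, hαr, one_mul]; rfl
    · have hrange : LinearMap.range (T - 1) = LinearMap.range (LinearMap.inl F L (Fin m ⊕ Fin m → F)) := by
        refine le_antisymm ?_ ?_
        · rintro _ ⟨v, rfl⟩
          exact ⟨α * v.1 - v.1, Prod.ext rfl (sub_self v.2).symm⟩
        · rintro _ ⟨a, rfl⟩
          refine ⟨((α - 1)⁻¹ * a, 0), ?_⟩
          show T _ - _ = _
          rw [hTv]
          refine Prod.ext ?_ (sub_self _)
          show α * ((α - 1)⁻¹ * a) - (α - 1)⁻¹ * a = a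
          rw [← sub_one_mul, ← mul_assoc, mul_inv_cancel₀ (sub_ne_zero.2 hα1), one_mul]
      rw [hrange, LinearMap.finrank_range_of_inj LinearMap.inl_injective, hL, if_pos (hih ▸ even_two_mul h)]

end CfsgLib.LinFix.SympMin
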