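import Mathlib

/-!
An isometry of a symplectic space with scalar square permutes an orthogonal family of hyperbolic
planes.
-/

set_option autoImplicit false

namespace CfsgLib.LinFix.SympPlanes

open Module

variable {F V : Type*} [Field F] [AddCommGroup V] [Module F V]

/-- A family of mutually orthogonal hyperbolic pairs spanning `W`, permuted by `T` plane-wise. -/
structure PlaneFamily (B : LinearMap.BilinForm F V) (T : V →ₗ[F] V) (W : Submodule F V) (k l : ℕ)
    (b : ((Fin k × Fin 2) ⊕ Fin l) × Fin 2 → V) : Prop where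
  span_eq : Submodule.span F (Set.range b) = W
  orth : ∀ x y, x.1 ≠ y.1 → B (b x) (b y) = 0
  pair : ∀ i, B (b (i, 0)) (b (i, 1)) = 1
  swap : ∀ (i : Fin k) (c : Fin 2) (d : Fin 2),
    T (b (Sum.inl (i, c), d)) ∈ Submodule.span F (Set.range fun d' => b (Sum.inl (i, c + 1), d'))
  stay : ∀ (j : Fin l) (d : Fin 2),
    T (b (Sum.inr j, d)) ∈ Submodule.span F (Set.range fun d' => b (Sum.inr j, d'))

variable {B : LinearMap.BilinForm F V} {T : V →ₗ[F] V}

theorem PlaneFamily.zero : PlaneFamily B T ⊥ 0 0 (fun x => x.1.elim (fun i => i.1.elim0) Fin.elim0) where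
  span_eq := by
    rw [Submodule.span_eq_bot]
    rintro _ ⟨⟨i | j, d⟩, rfl⟩
    · exact i.1.elim0
    · exact j.elim0
  orth := fun x => x.1.elim (fun i => i.1.elim0) Fin.elim0
  pair := fun x => x.elim (fun i => i.1.elim0) Fin.elim0
  swap := fun i => i.elim0
  stay := fun j => j.elim0

variable [FiniteDimensional F V]

theorem exists_planeFamily (hB : B.IsAlt) {z : F} (hz : z ≠ 0) (hT : ∀ v, T (T v) = z • v)
    (hiso : ∀ u v, B (T u) (T v) = B u v) :
    ∀ W : Submodule F V, (∀ u ∈ W, T u ∈ W) → (∀ u ∈ W, (∀ v ∈ W, B u v = 0) → u = 0) →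
      ∃ (k l : ℕ) (b : ((Fin k × Fin 2) ⊕ Fin l) × Fin 2 → V), PlaneFamily B T W k l b := by
  intro W
  induction hd : finrank F W using Nat.strong_induction_on generalizing W with
  | _ d ih =>
    intro hTW hnd
    by_cases h0 : W = ⊥
    · subst h0; exact ⟨0, 0, _, PlaneFamily.zero⟩
    have hself : ∀ v, B v v = 0 := hB
    have hskew : ∀ u v, B u v = - B v u := fun u v => (LinearMap.IsAlt.neg hB v u).symm
    have hadj : ∀ u v, z * B (T u) v = B u (T v) := fun u v => by
      rw [← hiso u (T v), hT, map_smul, smul_eq_mul]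
    -- an invariant plane, or two interchanged planes
    obtain ⟨e, g, he, hg, heg, hcase⟩ : ∃ e g, e ∈ W ∧ g ∈ W ∧ B e g = 1 ∧
        ((T e ∈ Submodule.span F (Set.range ![e, g]) ∧ T g ∈ Submodule.span F (Set.range ![e, g])) ∨
          (B e (T e) = 0 ∧ B g (T g) = 0 ∧ B e (T g) = 0 ∧ B g (T e) = 0 ∧ B (T e) (T g) = 1)) := by
      by_cases hq : ∃ v ∈ W, B v (T v) ≠ 0
      · obtain ⟨v, hv, hne⟩ := hq
        refine ⟨v, (B v (T v))⁻¹ • T v, hv, W.smul_mem _ (hTW v hv), by simp [hne], Or.inl ⟨?_, ?_⟩⟩
        · have hmem : (B v (T v))⁻¹ • T v ∈ Submodule.span F (Set.range ![v, (B v (T v))⁻¹ • T v]) :=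
            Submodule.subset_span ⟨1, rfl⟩
          simpa [smul_smul, hne] using Submodule.smul_mem _ (B v (T v)) hmem
        · rw [map_smul, hT, smul_smul]
          exact Submodule.smul_mem _ _ (Submodule.subset_span ⟨0, rfl⟩)
      push Not at hq
      have hsym : ∀ u ∈ W, ∀ v ∈ W, B u (T v) = - B v (T u) := fun u hu v hv => by
        have h := hq (u + v) (W.add_mem hu hv)
        simp only [map_add, LinearMap.add_apply, hq u hu, hq v hv, zero_add, add_zero] at h
        linear_combination h
      obtain ⟨u₀, hu₀, hu₀'⟩ := Submodule.exists_mem_ne_zero_of_ne_bot h0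
      by_cases hscal : ∀ v ∈ W, ∃ c : F, T v = c • v
      · -- every vector is an eigenvector
        obtain ⟨w, hw, hne⟩ : ∃ w ∈ W, B u₀ w ≠ 0 := by
          by_contra hc
          push Not at hc
          exact hu₀' (hnd u₀ hu₀ hc)
        obtain ⟨c, hc⟩ := hscal u₀ hu₀
        obtain ⟨c', hc'⟩ := hscal _ (W.smul_mem (B u₀ w)⁻¹ hw)
        refine ⟨u₀, (B u₀ w)⁻¹ • w, hu₀, W.smul_mem _ hw, by simp [hne], Or.inl ⟨?_, ?_⟩⟩
        · rw [hc]; exact Submodule.smul_mem _ _ (Submodule.subset_span ⟨0, rfl⟩)
        · rw [hc']; exact Submodule.smul_mem _ _ (Submodule.subset_span ⟨1, rfl⟩)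
      · push Not at hscal
        obtain ⟨e, he, hne⟩ := hscal
        -- a functional on `W` separating `e` from `T e`
        obtain ⟨g, hg, hg1, hg0⟩ : ∃ g ∈ W, B e g = 1 ∧ B (T e) g = 0 := by
          by_contra hcon
          push Not at hcon
          -- `B e` vanishes on the kernel of `B (T e)` restricted to `W`
          have hker : ∀ g ∈ W, B (T e) g = 0 → B e g = 0 := fun g hg hg0 => by
            by_contra hne'
            exact hcon ((B e g)⁻¹ • g) (W.smul_mem _ hg) (by simp [hne']) (by simp [hg0])
          obtain ⟨w, hw, hwne⟩ : ∃ w ∈ W, B (T e) w ≠ 0 := by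
            by_contra hc
            push Not at hc
            have hTe0 := hnd _ (hTW e he) hc
            exact hne 0 (by rw [hTe0, zero_smul])
          set c := B e w / B (T e) w with hc
          have hall : ∀ x ∈ W, B (e - c • T e) x = 0 := fun x hx => by
            have h1 := hker (x - (B (T e) x / B (T e) w) • w) (W.sub_mem hx (W.smul_mem _ hw))
              (by simp [hwne])
            simp only [map_sub, map_smul, LinearMap.sub_apply, LinearMap.smul_apply, smul_eq_mul, hc] at h1 ⊢
            field_simp at h1 ⊢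
            linear_combination h1
          have hec := hnd _ (W.sub_mem he (W.smul_mem c (hTW e he))) hall
          rw [sub_eq_zero] at hec
          have hc0 : c ≠ 0 := fun h => by
            rw [h, zero_smul] at hec
            exact hne 0 (by rw [hec, map_zero, smul_zero])
          exact hne c⁻¹ (by conv_rhs => rw [hec]; rw [smul_smul, inv_mul_cancel₀ hc0, one_smul])
        have hgT : B g (T e) = 0 := by rw [hskew, hg0, neg_zero]
        exact ⟨e, g, he, hg, hg1, Or.inr ⟨hq e he, hq g hg,
          by rw [hsym e he g hg, hgT, neg_zero], hgT, by rw [hiso, hg1]⟩⟩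
    have hge : B g e = -1 := by rw [hskew, heg]
    -- the complement
    rcases hcase with ⟨hTe, hTg⟩ | ⟨h1, h2, h3, h4, h5⟩
    · set W' := W ⊓ LinearMap.ker (B e) ⊓ LinearMap.ker (B g) with hW'
      have hmem : ∀ x, x ∈ W' ↔ x ∈ W ∧ B e x = 0 ∧ B g x = 0 := fun x => by
        simp [W', and_assoc]
      have hproj : ∀ x ∈ W, x - ((- B g x) • e + B e x • g) ∈ W' := fun x hx => by
        rw [hmem]
        refine ⟨W.sub_mem hx (W.add_mem (W.smul_mem _ he) (W.smul_mem _ hg)), ?_, ?_⟩ <;>
          simp [heg, hge, hself]
      have hTW' : ∀ u ∈ W', T u ∈ W' := fun u hu => by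
        rw [hmem] at hu ⊢
        have hzero : ∀ y ∈ Submodule.span F (Set.range ![e, g]), B y u = 0 := by
          intro y hy
          induction hy using Submodule.span_induction with
          | mem y hy => obtain ⟨i, rfl⟩ := hy; fin_cases i <;> simp [hu.2.1, hu.2.2]
          | zero => simp
          | add a b _ _ ha hb => simp [ha, hb]
          | smul c a _ ha => simp [ha]
        refine ⟨hTW u hu.1, ?_, ?_⟩
        · rw [← hadj, hzero _ hTe, mul_zero]
        · rw [← hadj, hzero _ hTg, mul_zero]
      have hnd' : ∀ u ∈ W', (∀ v ∈ W', B u v = 0) → u = 0 := fun u hu h => by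
        refine hnd u ((hmem u).mp hu).1 fun v hv => ?_
        have h' := h _ (hproj v hv)
        simp only [map_sub, map_add, map_smul, smul_eq_mul] at h'
        obtain ⟨-, hu1, hu2⟩ := (hmem u).mp hu
        rw [hskew u e, hskew u g, hu1, hu2] at h'
        simpa using h'
      have hlt : finrank F W' < d := by
        rw [← hd]
        refine Submodule.finrank_lt_finrank_of_lt (lt_of_le_of_ne (inf_le_left.trans inf_le_left) fun h => ?_)
        have := ((hmem g).mp (h ▸ hg)).2.1
        rw [heg] at this
        exact one_ne_zero this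
      obtain ⟨k, l, b, hb⟩ := ih _ hlt W' rfl hTW' hnd'
      have hbW : ∀ x, b x ∈ W' := fun x => hb.span_eq ▸ Submodule.subset_span ⟨x, rfl⟩
      let b' : ((Fin k × Fin 2) ⊕ Fin (l + 1)) × Fin 2 → V := fun x =>
        x.1.elim (fun i => b (Sum.inl i, x.2)) (Fin.cons (α := fun _ => V) (![e, g] x.2) fun j => b (Sum.inr j, x.2))
      refine ⟨k, l + 1, b', ⟨?_, ?_, ?_, ?_, ?_⟩⟩
      · refine le_antisymm (Submodule.span_le.mpr ?_) fun x hx => ?_
        · rintro _ ⟨⟨i | j, c⟩, rfl⟩
          · exact ((hmem _).mp (hbW _)).1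
          · refine Fin.cases ?_ (fun j => ?_) j
            · fin_cases c <;> simp [b', he, hg]
            · exact ((hmem _).mp (hbW (Sum.inr j, c))).1
        · have hx' : x = (x - ((- B g x) • e + B e x • g)) + ((- B g x) • e + B e x • g) := by abel
          rw [hx']
          refine add_mem ?_ (add_mem (Submodule.smul_mem _ _ (Submodule.subset_span ⟨(Sum.inr 0, 0), rfl⟩))
            (Submodule.smul_mem _ _ (Submodule.subset_span ⟨(Sum.inr 0, 1), rfl⟩)))
          refine Submodule.span_mono ?_ (hb.span_eq.symm ▸ hproj x hx)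
          rintro _ ⟨⟨i | j, c⟩, rfl⟩
          · exact ⟨(Sum.inl i, c), rfl⟩
          · exact ⟨(Sum.inr j.succ, c), by simp [b']⟩
      · have hperp : ∀ (c : Fin 2) y, B (![e, g] c) (b y) = 0 := fun c y => by
          obtain ⟨-, hu1, hu2⟩ := (hmem _).mp (hbW y)
          fin_cases c <;> simp [hu1, hu2]
        rintro ⟨i | j, c⟩ ⟨i' | j', c'⟩ hne
        · exact hb.orth _ _ (by simpa using hne)
        · induction j' using Fin.cases with
          | zero => simp only [b', Sum.elim_inl, Sum.elim_inr, Fin.cons_zero]; rw [hskew, hperp, neg_zero]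
          | succ j' => simp only [b', Sum.elim_inl, Sum.elim_inr, Fin.cons_succ]; exact hb.orth _ _ (by simp)
        · induction j using Fin.cases with
          | zero => simp only [b', Sum.elim_inl, Sum.elim_inr, Fin.cons_zero]; exact hperp _ _
          | succ j => simp only [b', Sum.elim_inl, Sum.elim_inr, Fin.cons_succ]; exact hb.orth _ _ (by simp)
        · induction j using Fin.cases with
          | zero =>
            induction j' using Fin.cases with
            | zero => exact absurd rfl hne
            | succ j' => simp only [b', Sum.elim_inr, Fin.cons_zero, Fin.cons_succ]; exact hperp _ _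
          | succ j =>
            induction j' using Fin.cases with
            | zero => simp only [b', Sum.elim_inr, Fin.cons_zero, Fin.cons_succ]; rw [hskew, hperp, neg_zero]
            | succ j' => simp only [b', Sum.elim_inr, Fin.cons_succ]; exact hb.orth _ _ (by simpa using hne)
      · rintro (i | j)
        · exact hb.pair (Sum.inl i)
        · induction j using Fin.cases with
          | zero => simp [b', heg]
          | succ j => simpa [b'] using hb.pair (Sum.inr j)
      · exact fun i c c' => hb.swap i c c'
      · intro j c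
        induction j using Fin.cases with
        | zero =>
          have hr : (fun d' => b' (Sum.inr 0, d')) = ![e, g] := funext fun d' => by simp [b']
          rw [hr]
          fin_cases c <;> [simpa [b'] using hTe; simpa [b'] using hTg]
        | succ j => simpa [b'] using hb.stay j c
    · set W' := W ⊓ LinearMap.ker (B e) ⊓ LinearMap.ker (B g) ⊓ LinearMap.ker (B (T e)) ⊓
        LinearMap.ker (B (T g)) with hW'
      have hmem : ∀ x, x ∈ W' ↔ x ∈ W ∧ B e x = 0 ∧ B g x = 0 ∧ B (T e) x = 0 ∧ B (T g) x = 0 :=
        fun x => by simp [W', and_assoc]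
      have e1 : B (T e) e = 0 := by rw [hskew, h1, neg_zero]
      have e2 : B (T g) g = 0 := by rw [hskew, h2, neg_zero]
      have e3 : B (T g) e = 0 := by rw [hskew, h3, neg_zero]
      have e4 : B (T e) g = 0 := by rw [hskew, h4, neg_zero]
      have e5 : B (T g) (T e) = -1 := by rw [hskew, h5]
      let pr : V → V := fun x => ((- B g x) • e + B e x • g) + ((- B (T g) x) • T e + B (T e) x • T g)
      have hproj : ∀ x ∈ W, x - pr x ∈ W' := fun x hx => by
        rw [hmem]
        refine ⟨W.sub_mem hx (W.add_mem (W.add_mem (W.smul_mem _ he) (W.smul_mem _ hg))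
          (W.add_mem (W.smul_mem _ (hTW e he)) (W.smul_mem _ (hTW g hg)))), ?_, ?_, ?_, ?_⟩ <;>
          simp [pr, heg, hge, hself, h1, h2, h3, h4, h5, e1, e2, e3, e4, e5]
      have hTW' : ∀ u ∈ W', T u ∈ W' := fun u hu => by
        rw [hmem] at hu ⊢
        obtain ⟨hu0, hu1, hu2, hu3, hu4⟩ := hu
        refine ⟨hTW u hu0, ?_, ?_, ?_, ?_⟩
        · rw [← hadj, hu3, mul_zero]
        · rw [← hadj, hu4, mul_zero]
        · rw [hiso, hu1]
        · rw [hiso, hu2]
      have hnd' : ∀ u ∈ W', (∀ v ∈ W', B u v = 0) → u = 0 := fun u hu h => by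
        refine hnd u ((hmem u).mp hu).1 fun v hv => ?_
        have h' := h _ (hproj v hv)
        simp only [pr, map_sub, map_add, map_smul, smul_eq_mul] at h'
        obtain ⟨-, hu1, hu2, hu3, hu4⟩ := (hmem u).mp hu
        rw [hskew u e, hskew u g, hskew u (T e), hskew u (T g), hu1, hu2, hu3, hu4] at h'
        simpa using h'
      have hlt : finrank F W' < d := by
        rw [← hd]
        refine Submodule.finrank_lt_finrank_of_lt (lt_of_le_of_ne
          (inf_le_left.trans (inf_le_left.trans (inf_le_left.trans inf_le_left))) fun h => ?_)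
        have := ((hmem g).mp (h ▸ hg)).2.1
        rw [heg] at this
        exact one_ne_zero this
      obtain ⟨k, l, b, hb⟩ := ih _ hlt W' rfl hTW' hnd'
      have hbW : ∀ x, b x ∈ W' := fun x => hb.span_eq ▸ Submodule.subset_span ⟨x, rfl⟩
      let nv : Fin 2 → Fin 2 → V := fun c c' => ![![e, g], ![T e, T g]] c c'
      let b' : ((Fin (k + 1) × Fin 2) ⊕ Fin l) × Fin 2 → V := fun x =>
        x.1.elim (fun i => Fin.cons (α := fun _ => V) (nv i.2 x.2) (fun i' => b (Sum.inl (i', i.2), x.2)) i.1)
          (fun j => b (Sum.inr j, x.2))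
      refine ⟨k + 1, l, b', ⟨?_, ?_, ?_, ?_, ?_⟩⟩
      · refine le_antisymm (Submodule.span_le.mpr ?_) fun x hx => ?_
        · rintro _ ⟨⟨⟨i, a⟩ | j, c⟩, rfl⟩
          · refine Fin.cases ?_ (fun i => ?_) i
            · fin_cases a <;> fin_cases c <;> simp [b', nv, he, hg, hTW e he, hTW g hg]
            · exact ((hmem _).mp (hbW (Sum.inl (i, a), c))).1
          · exact ((hmem _).mp (hbW _)).1
        · have hx' : x = (x - pr x) + pr x := by abel
          rw [hx']
          refine add_mem ?_ (add_mem
            (add_mem (Submodule.smul_mem _ _ (Submodule.subset_span ⟨(Sum.inl (0, 0), 0), rfl⟩))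
              (Submodule.smul_mem _ _ (Submodule.subset_span ⟨(Sum.inl (0, 0), 1), rfl⟩)))
            (add_mem (Submodule.smul_mem _ _ (Submodule.subset_span ⟨(Sum.inl (0, 1), 0), rfl⟩))
              (Submodule.smul_mem _ _ (Submodule.subset_span ⟨(Sum.inl (0, 1), 1), rfl⟩))))
          refine Submodule.span_mono ?_ (hb.span_eq.symm ▸ hproj x hx)
          rintro _ ⟨⟨⟨i, a⟩ | j, c⟩, rfl⟩
          · exact ⟨(Sum.inl (i.succ, a), c), by simp [b']⟩
          · exact ⟨(Sum.inr j, c), rfl⟩
      · have hperp : ∀ (a c : Fin 2) y, B (nv a c) (b y) = 0 := fun a c y => by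
          obtain ⟨-, hu1, hu2, hu3, hu4⟩ := (hmem _).mp (hbW y)
          fin_cases a <;> fin_cases c <;> simp [nv, hu1, hu2, hu3, hu4]
        have hperp' : ∀ (a c : Fin 2) y, B (b y) (nv a c) = 0 := fun a c y => by
          rw [hskew, hperp, neg_zero]
        have hnv : ∀ a a' c c' : Fin 2, a ≠ a' → B (nv a c) (nv a' c') = 0 := by
          intro a a' c c' hne
          fin_cases a <;> fin_cases a' <;> (try exact absurd rfl hne) <;> fin_cases c <;> fin_cases c' <;>
            simp [nv, h1, h2, h3, h4, e1, e2, e3, e4]
        rintro ⟨⟨i, a⟩ | j, c⟩ ⟨⟨i', a'⟩ | j', c'⟩ hne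
        · induction i using Fin.cases with
          | zero =>
            induction i' using Fin.cases with
            | zero => simp only [b', Sum.elim_inl, Fin.cons_zero]; exact hnv _ _ _ _ fun h => hne (by simp [h])
            | succ i' => simp only [b', Sum.elim_inl, Fin.cons_zero, Fin.cons_succ]; exact hperp _ _ _
          | succ i =>
            induction i' using Fin.cases with
            | zero => simp only [b', Sum.elim_inl, Fin.cons_zero, Fin.cons_succ]; exact hperp' _ _ _
            | succ i' => simp only [b', Sum.elim_inl, Fin.cons_succ]; exact hb.orth _ _ (by simpa using hne)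
        · induction i using Fin.cases with
          | zero => simp only [b', Sum.elim_inl, Sum.elim_inr, Fin.cons_zero]; exact hperp _ _ _
          | succ i => simp only [b', Sum.elim_inl, Sum.elim_inr, Fin.cons_succ]; exact hb.orth _ _ (by simp)
        · induction i' using Fin.cases with
          | zero => simp only [b', Sum.elim_inl, Sum.elim_inr, Fin.cons_zero]; exact hperp' _ _ _
          | succ i' => simp only [b', Sum.elim_inl, Sum.elim_inr, Fin.cons_succ]; exact hb.orth _ _ (by simp)
        · exact hb.orth _ _ (by simpa using hne)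
      · rintro (⟨i, a⟩ | j)
        · induction i using Fin.cases with
          | zero => fin_cases a <;> simp [b', nv, heg, h5]
          | succ i => simpa [b'] using hb.pair (Sum.inl (i, a))
        · exact hb.pair (Sum.inr j)
      · intro i a c
        induction i using Fin.cases with
        | zero =>
          have hr : (fun d' => b' (Sum.inl (0, a + 1), d')) = nv (a + 1) :=
            funext fun d' => by simp [b']
          rw [hr]
          simp only [b', Sum.elim_inl, Fin.cons_zero]
          fin_cases a <;> fin_cases c <;> simp [nv, hT]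
          all_goals first
            | exact Submodule.smul_mem _ _ (Submodule.subset_span (by simp))
            | exact Submodule.subset_span (by simp)
        | succ i => simpa [b'] using hb.swap i a c
      · exact fun j c => hb.stay j c

end CfsgLib.LinFix.SympPlanes
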