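import Mathlib
import Cfsg.Agent.Lib.LinFix.SympPlanesInvol
import Cfsg.Agent.Lib.LinFix.UnitaryBasis

/-!
Self-adjoint square roots of a non-square on a four-dimensional symplectic space.
-/

set_option autoImplicit false

namespace CfsgLib.LinFix.SympPlaneRoot

open Module

variable {F V : Type*} [Field F] [AddCommGroup V] [Module F V]

/-- Two orthogonal pairs with products `1` and `ε`. -/
structure Frame (B : LinearMap.BilinForm F V) (ε : F) (u v u' v' : V) : Prop where
  p : B u v = 1
  p' : B u' v' = ε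
  uu : B u u' = 0
  uv : B u v' = 0
  vu : B v u' = 0
  vv : B v v' = 0

variable {B : LinearMap.BilinForm F V} {ε : F} {u v u' v' : V}

theorem Frame.gram (h : Frame B ε u v u' v') (hB : B.IsAlt) (i j : Fin 4) :
    B (![u, v, u', v'] i) (![u, v, u', v'] j) =
      (!![0, 1, 0, 0; -1, 0, 0, 0; 0, 0, 0, ε; 0, 0, -ε, 0] : Matrix (Fin 4) (Fin 4) F) i j := by
  have hs : ∀ a b, B a b = - B b a := fun a b => (LinearMap.IsAlt.neg hB b a).symm
  have hself : ∀ a, B a a = 0 := hB
  fin_cases i <;> fin_cases j <;>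
    simp [hself, h.p, h.p', h.uu, h.uv, h.vu, h.vv, hs v u, hs u' u, hs v' u, hs u' v, hs v' v, hs v' u']

theorem Frame.li (h : Frame B ε u v u' v') (hB : B.IsAlt) (hε : ε ≠ 0) :
    LinearIndependent F ![u, v, u', v'] := by
  rw [Fintype.linearIndependent_iff]
  intro g hg i
  have hpair : ∀ j, ∑ x, g x * B (![u, v, u', v'] x) (![u, v, u', v'] j) = 0 := fun j => by
    have h0 := congrArg (fun a => B a (![u, v, u', v'] j)) hg
    simpa only [map_sum, map_smul, LinearMap.sum_apply, LinearMap.smul_apply, smul_eq_mul, map_zero,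
      LinearMap.zero_apply] using h0
  simp only [h.gram hB, Fin.sum_univ_four] at hpair
  have h0 := hpair 0
  have h1 := hpair 1
  have h2 := hpair 2
  have h3 := hpair 3
  simp [hε] at h0 h1 h2 h3
  fin_cases i <;> simp_all

variable [FiniteDimensional F V]

/-- The basis of a frame. -/
theorem Frame.exists_basis (h : Frame B ε u v u' v') (hB : B.IsAlt) (hε : ε ≠ 0) (hdim : finrank F V = 4) :
    ∃ β : Basis (Fin 4) F V, ⇑β = ![u, v, u', v'] :=
  ⟨basisOfLinearIndependentOfCardEqFinrank (h.li hB hε) (by rw [Fintype.card_fin, hdim]),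
    coe_basisOfLinearIndependentOfCardEqFinrank _ _⟩

/-- The root of `ε` interchanging the pairs. -/
theorem Frame.exists_root (h : Frame B ε u v u' v') (hB : B.IsAlt) (hε : ε ≠ 0) (hdim : finrank F V = 4) :
    ∃ D : V →ₗ[F] V, D u = u' ∧ D v = v' ∧ (∀ a, D (D a) = ε • a) ∧ ∀ a b, B (D a) b = B a (D b) := by
  obtain ⟨β, hβ⟩ := h.exists_basis hB hε hdim
  let D : V →ₗ[F] V := β.constr F ![u', v', ε • u, ε • v]
  have hD : ∀ i, D (![u, v, u', v'] i) = ![u', v', ε • u, ε • v] i := fun i => by
    rw [← hβ]; exact β.constr_basis F _ i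
  have h0 : D u = u' := hD 0
  have h1 : D v = v' := hD 1
  have h2 : D u' = ε • u := hD 2
  have h3 : D v' = ε • v := hD 3
  refine ⟨D, h0, h1, LinearMap.congr_fun (f := D ∘ₗ D) (g := ε • LinearMap.id) (β.ext fun i => ?_), ?_⟩
  · rw [hβ]; fin_cases i <;> simp [h0, h1, h2, h3]
  · refine LinearMap.congr_fun₂ (f := B.compl₁₂ D LinearMap.id) (g := B.compl₁₂ LinearMap.id D) ?_
    refine LinearMap.ext_basis β β fun i j => ?_
    have hs : ∀ a b, B a b = - B b a := fun a b => (LinearMap.IsAlt.neg hB b a).symm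
    have hself : ∀ a, B a a = 0 := hB
    rw [hβ]
    fin_cases i <;> fin_cases j <;>
      simp [h0, h1, h2, h3, hself, h.p, h.p', h.uu, h.uv, h.vu, h.vv, hs v u, hs u' u, hs v' u, hs u' v,
        hs v' v, hs v' u']

/-- A root commutes with `T` up to sign once it does so on the first pair. -/
theorem Frame.root_rel (h : Frame B ε u v u' v') (hB : B.IsAlt) (hε : ε ≠ 0) (hdim : finrank F V = 4)
    {D T : V →ₗ[F] V} (h0 : D u = u') (h1 : D v = v') (hDD : ∀ a, D (D a) = ε • a) {s : F} (hs : s * s = 1)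
    (hu : T u' = s • D (T u)) (hv : T v' = s • D (T v)) : ∀ a, T (D a) = s • D (T a) := by
  obtain ⟨β, hβ⟩ := h.exists_basis hB hε hdim
  refine LinearMap.congr_fun (f := T ∘ₗ D) (g := s • (D ∘ₗ T)) (β.ext fun i => ?_)
  rw [hβ]
  fin_cases i
  · simp [h0, hu]
  · simp [h1, hv]
  · simp [show D u' = ε • u by rw [← h0, hDD], hu, hDD, smul_smul, ← mul_assoc, hs]
  · simp [show D v' = ε • v by rw [← h1, hDD], hv, hDD, smul_smul, ← mul_assoc, hs]

/-- A self-adjoint root has an adapted frame. -/
theorem exists_frame (hB : B.IsAlt) (hnd : ∀ a, (∀ b, B a b = 0) → a = 0) [Nontrivial V]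
    (hε : ¬ IsSquare ε) (J : V →ₗ[F] V) (hJJ : ∀ a, J (J a) = ε • a) (hJ : ∀ a b, B (J a) b = B a (J b))
    (hJalt : ∀ a, B (J a) a = 0) : ∃ u v, Frame B ε u v (J u) (J v) := by
  obtain ⟨u, hu⟩ := exists_ne (0 : V)
  obtain ⟨w, hw⟩ : ∃ w, B u w = 1 := by
    obtain ⟨w, hw⟩ := not_forall.1 fun h => hu (hnd u h)
    exact ⟨(B u w)⁻¹ • w, by rw [map_smul, smul_eq_mul, inv_mul_cancel₀ hw]⟩
  set t := B u (J w) with ht
  have hd : ε - t * t ≠ 0 := fun h => hε ⟨t, sub_eq_zero.1 h⟩
  refine ⟨u, (ε / (ε - t * t)) • w + (-t / (ε - t * t)) • J w, ?_⟩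
  set v := (ε / (ε - t * t)) • w + (-t / (ε - t * t)) • J w with hv
  have huv : B u v = 1 := by
    simp only [hv, map_add, map_smul, smul_eq_mul, hw, ← ht]
    rw [show ε / (ε - t * t) * 1 + -t / (ε - t * t) * t = (ε - t * t) / (ε - t * t) by ring]
    exact div_self hd
  have huJv : B u (J v) = 0 := by
    simp only [hv, map_add, map_smul, smul_eq_mul, hw, ← ht, hJJ]; field_simp; ring
  exact ⟨huv, by rw [hJ, hJJ, map_smul, huv, smul_eq_mul, mul_one], by rw [← hJ]; exact hJalt u, huJv,
    by rw [← hJ, ← LinearMap.IsAlt.neg hB u, huJv, neg_zero], by rw [← hJ]; exact hJalt v⟩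

/-- Two self-adjoint roots are conjugate by an isometry. -/
theorem exists_isometry (hB : B.IsAlt) (hnd : ∀ a, (∀ b, B a b = 0) → a = 0) [Nontrivial V]
    (hε : ¬ IsSquare ε) (hdim : finrank F V = 4)
    (J D : V →ₗ[F] V) (hJJ : ∀ a, J (J a) = ε • a) (hJ : ∀ a b, B (J a) b = B a (J b)) (hJalt : ∀ a, B (J a) a = 0)
    (hDD : ∀ a, D (D a) = ε • a) (hD : ∀ a b, B (D a) b = B a (D b)) (hDalt : ∀ a, B (D a) a = 0) :
    ∃ g : V ≃ₗ[F] V, (∀ a b, B (g a) (g b) = B a b) ∧ ∀ a, g (J a) = D (g a) := by
  have hε0 : ε ≠ 0 := fun h => hε (h ▸ ⟨0, (mul_zero 0).symm⟩)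
  obtain ⟨u, v, hf⟩ := exists_frame hB hnd hε J hJJ hJ hJalt
  obtain ⟨x, y, hg⟩ := exists_frame hB hnd hε D hDD hD hDalt
  obtain ⟨β, hβ⟩ := hf.exists_basis hB hε0 hdim
  obtain ⟨γ, hγ⟩ := hg.exists_basis hB hε0 hdim
  let g := β.equiv γ (Equiv.refl _)
  have hgb : ∀ i, g (![u, v, J u, J v] i) = ![x, y, D x, D y] i := fun i => by
    rw [← hβ, ← hγ]; exact β.equiv_apply i γ (Equiv.refl _)
  refine ⟨g, ?_, LinearMap.congr_fun (f := g.toLinearMap ∘ₗ J) (g := D ∘ₗ g.toLinearMap) (β.ext fun i => ?_)⟩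
  · refine LinearMap.congr_fun₂ (f := B.compl₁₂ g.toLinearMap g.toLinearMap) (g := B) ?_
    refine LinearMap.ext_basis β β fun i j => ?_
    rw [hβ, LinearMap.compl₁₂_apply, LinearEquiv.coe_coe, hgb, hgb, hf.gram hB, hg.gram hB]
  · have g0 : g u = x := hgb 0
    have g1 : g v = y := hgb 1
    have g2 : g (J u) = D x := hgb 2
    have g3 : g (J v) = D y := hgb 3
    rw [hβ]
    fin_cases i <;> simp [g0, g1, g2, g3, hJJ, hDD]

/-- An involution of the projective symplectic group in dimension four normalises a self-adjoint root. -/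
theorem exists_root [Fintype F] (hB : B.IsAlt) (hnd : ∀ a, (∀ b, B a b = 0) → a = 0) (hε : ¬ IsSquare ε)
    (hdim : finrank F V = 4) (T : V →ₗ[F] V) {z : F} (hT : ∀ a, T (T a) = z • a)
    (hiso : ∀ a b, B (T a) (T b) = B a b) :
    ∃ (D : V →ₗ[F] V) (s : F), s * s = 1 ∧ (∀ a, D (D a) = ε • a) ∧ (∀ a b, B (D a) b = B a (D b)) ∧
      (∀ a, B (D a) a = 0) ∧ ∀ a, T (D a) = s • D (T a) := by
  have hε0 : ε ≠ 0 := fun h => hε (h ▸ ⟨0, (mul_zero 0).symm⟩)
  have h2 : (2 : F) ≠ 0 := fun h => by
    haveI : CharP F 2 := CharTwo.of_one_ne_zero_of_two_eq_zero one_ne_zero h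
    exact hε (FiniteField.isSquare_of_char_two (ringChar.eq F 2) ε)
  have hs : ∀ a b, B a b = - B b a := fun a b => (LinearMap.IsAlt.neg hB b a).symm
  have hself : ∀ a, B a a = 0 := hB
  haveI : Nontrivial V := Module.nontrivial_of_finrank_pos (R := F) (by omega)
  have hzz : z * z = 1 := by
    obtain ⟨a, ha⟩ := exists_ne (0 : V)
    obtain ⟨b, hb⟩ := not_forall.1 fun h => ha (hnd a h)
    have h := hiso (T a) (T b)
    rw [hT, hT, hiso] at h
    simp only [map_smul, LinearMap.smul_apply, smul_eq_mul] at h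
    exact mul_right_cancel₀ hb (by linear_combination h)
  have hz : z ≠ 0 := fun h => by rw [h, mul_zero] at hzz; exact zero_ne_one hzz
  -- it is enough to find a frame
  suffices h : ∃ u v u' v', Frame B ε u v u' v' ∧ ∃ s : F, s * s = 1 ∧ ∀ D : V →ₗ[F] V, D u = u' → D v = v' →
      D u' = ε • u → D v' = ε • v → T u' = s • D (T u) ∧ T v' = s • D (T v) by
    obtain ⟨u, v, u', v', hf, s, hss, hr⟩ := h
    obtain ⟨D, h0, h1, hDD, hDs⟩ := hf.exists_root hB hε0 hdim
    obtain ⟨hu, hv⟩ := hr D h0 h1 (by rw [← h0, hDD]) (by rw [← h1, hDD])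
    refine ⟨D, s, hss, hDD, hDs, fun a => ?_, hf.root_rel hB hε0 hdim h0 h1 hDD hss hu hv⟩
    have h := hDs a a
    rw [hs a (D a)] at h
    exact (mul_eq_zero.1 (show (2 : F) * B (D a) a = 0 by linear_combination h)).resolve_left h2
  obtain ⟨k, l, b, hb⟩ := SympPlanes.exists_planeFamily hB hz hT hiso ⊤
    (fun _ _ => trivial) (fun a _ h => hnd a fun c => h c trivial)
  have hcard : k * 4 + l * 2 = 4 := by
    have h1 := finrank_span_eq_card (UnitaryBasis.li_of_pairs hB hb.orth hb.pair)
    rw [hb.span_eq, finrank_top, hdim] at h1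
    simp at h1
    omega
  rcases Nat.eq_zero_or_pos k with rfl | hk
  · -- two stayed planes
    obtain rfl : l = 2 := by omega
    have hpl : ∀ j : Fin 2, ∃ A B' C D' : F,
        T (b (Sum.inr j, 0)) = A • b (Sum.inr j, 0) + B' • b (Sum.inr j, 1) ∧
        T (b (Sum.inr j, 1)) = C • b (Sum.inr j, 0) + D' • b (Sum.inr j, 1) ∧
        A * D' - B' * C = 1 ∧ A * A + B' * C = z ∧ B' * (A + D') = 0 ∧ C * (A + D') = 0 ∧
        D' * D' + B' * C = z := by
      intro j
      have hmem : ∀ c, ∃ A B' : F, A • b (Sum.inr j, 0) + B' • b (Sum.inr j, 1) = T (b (Sum.inr j, c)) :=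
        fun c => by
          have h := hb.stay j c
          rw [show (fun d' => b (Sum.inr j, d')) = ![b (Sum.inr j, 0), b (Sum.inr j, 1)] from
            funext fun c => by fin_cases c <;> simp, Matrix.range_cons_cons_empty,
            Submodule.mem_span_pair] at h
          exact h
      obtain ⟨A, B', h0⟩ := hmem 0
      obtain ⟨C, D', h1⟩ := hmem 1
      set e := b (Sum.inr j, 0)
      set g := b (Sum.inr j, 1)
      have heg : B e g = 1 := hb.pair _
      have hge : B g e = -1 := by rw [hs, heg]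
      have hdet : A * D' - B' * C = 1 := by
        have h := hiso e g
        rw [← h0, ← h1, heg] at h
        simp [heg, hge, hself] at h
        linear_combination h
      have hli := UnitaryBasis.li_of_pairs hB hb.orth hb.pair
      have hsq : ∀ a b' : F, a • e + b' • g = 0 → a = 0 ∧ b' = 0 := fun a b' h => by
        have ha := congrArg (fun w => B w g) h
        have hb' := congrArg (fun w => B w e) h
        simp [heg, hge, hself] at ha hb'
        exact ⟨ha, hb'⟩
      have e0 := hsq (A * A + B' * C - z) (B' * (A + D')) (by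
        have := hT e
        rw [← h0, map_add, map_smul, map_smul, ← h0, ← h1] at this
        linear_combination (norm := module) this)
      have e1 := hsq (C * (A + D')) (D' * D' + B' * C - z) (by
        have := hT g
        rw [← h1, map_add, map_smul, map_smul, ← h0, ← h1] at this
        linear_combination (norm := module) this)
      exact ⟨A, B', C, D', h0.symm, h1.symm, hdet, sub_eq_zero.1 e0.1, e0.2, e1.1, sub_eq_zero.1 e1.2⟩
    have hne : (Sum.inr 0 : (Fin 0 × Fin 2) ⊕ Fin 2) ≠ Sum.inr 1 := by decide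
    have ho : ∀ c c', B (b (Sum.inr 0, c)) (b (Sum.inr 1, c')) = 0 := fun c c' => hb.orth _ _ hne
    rcases mul_self_eq_one_iff.1 hzz with rfl | rfl
    · -- scalars on each plane
      have hscal : ∀ j : Fin 2, ∃ a : F, a * a = 1 ∧ ∀ c, T (b (Sum.inr j, c)) = a • b (Sum.inr j, c) := by
        intro j
        obtain ⟨A, B', C, D', h0, h1, hdet, r1, r2, r3, r4⟩ := hpl j
        have hsum : A + D' ≠ 0 := fun h => h2 (by linear_combination A * h - r1 - hdet)
        obtain rfl := (mul_eq_zero.1 r2).resolve_right hsum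
        obtain rfl := (mul_eq_zero.1 r3).resolve_right hsum
        obtain rfl : A = D' := sub_eq_zero.1 ((mul_eq_zero.1 (show (A - D') * (A + D') = 0 by
          linear_combination r1 - r4)).resolve_right hsum)
        refine ⟨A, by linear_combination r1, fun c => ?_⟩
        fin_cases c
        · simpa using h0
        · simpa using h1
      obtain ⟨a, ha, hTa⟩ := hscal 0
      obtain ⟨c, hc, hTc⟩ := hscal 1
      refine ⟨b (Sum.inr 0, 0), b (Sum.inr 0, 1), ε • b (Sum.inr 1, 0), b (Sum.inr 1, 1),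
        ⟨hb.pair _, by rw [map_smul, LinearMap.smul_apply, hb.pair, smul_eq_mul, mul_one],
          by rw [map_smul, ho, smul_zero], ho _ _, by rw [map_smul, ho, smul_zero], ho _ _⟩,
        a * c, by linear_combination c * c * ha + hc, fun D d0 d1 _ _ => ?_⟩
      refine ⟨?_, ?_⟩
      · rw [hTa, map_smul D, map_smul T, hTc, d0, smul_smul, smul_smul, smul_smul]
        congr 1
        linear_combination (-(c * ε)) * ha
      · rw [hTa, map_smul D, hTc, d1, smul_smul]
        congr 1
        linear_combination (-c) * ha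
    · have hQ : ∀ (j : Fin 2) (e : F), ∃ x y : F, B (x • b (Sum.inr j, 0) + y • b (Sum.inr j, 1))
          (T (x • b (Sum.inr j, 0) + y • b (Sum.inr j, 1))) = e ∧
          ∃ x' y' : F, T (x • b (Sum.inr j, 0) + y • b (Sum.inr j, 1)) =
            x' • b (Sum.inr j, 0) + y' • b (Sum.inr j, 1) := by
        intro j e
        obtain ⟨A, B', C, D', h0, h1, hdet, r1, r2, r3, r4⟩ := hpl j
        obtain rfl : D' = -A := by
          refine eq_neg_of_add_eq_zero_right ?_
          by_contra hsum
          have e2 := (mul_eq_zero.1 r2).resolve_right hsum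
          have e3 := (mul_eq_zero.1 r3).resolve_right hsum
          subst e2 e3
          have hA : A = D' := sub_eq_zero.1 ((mul_eq_zero.1 (show (A - D') * (A + D') = 0 by
            linear_combination r1 - r4)).resolve_right hsum)
          subst hA
          exact h2 (by linear_combination r1 - hdet)
        have hval : ∀ x y : F, B (x • b (Sum.inr j, 0) + y • b (Sum.inr j, 1))
            (T (x • b (Sum.inr j, 0) + y • b (Sum.inr j, 1))) = B' * x * x - 2 * A * x * y - C * y * y := by
          intro x y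
          have hge : B (b (Sum.inr j, 1)) (b (Sum.inr j, 0)) = -1 := by rw [hs, hb.pair]
          simp [map_add, map_smul, h0, h1, hb.pair, hge, hself]
          ring
        obtain ⟨x, y, hxy⟩ : ∃ x y : F, B' * x * x - 2 * A * x * y - C * y * y = e := by
          by_cases hB0 : B' = 0
          · subst hB0
            have hA : A ≠ 0 := fun h => by subst h; simp at r1
            refine ⟨(-e - C) / (2 * A), 1, ?_⟩
            field_simp
            ring
          · obtain ⟨X, Y, hXY⟩ : ∃ X Y : F, X * X + Y * Y = B' * e := by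
              obtain ⟨c, d', h⟩ := FiniteField.exists_root_sum_quadratic (R := F)
                (Polynomial.degree_X_pow_sub_C (by norm_num : 0 < 2) (B' * e))
                (Polynomial.degree_X_pow (R := F) 2)
                (FiniteField.odd_card_of_char_ne_two fun h => hε (FiniteField.isSquare_of_char_two h ε))
              simp at h
              exact ⟨c, d', by linear_combination h⟩
            refine ⟨(X + A * Y) / B', Y, ?_⟩
            field_simp
            linear_combination hXY - Y * Y * r1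
        refine ⟨x, y, (hval x y).trans hxy, x * A + y * C, x * B' + y * -A, ?_⟩
        rw [map_add, map_smul, map_smul, h0, h1]
        module
      obtain ⟨x, y, hq, x1, y1, hTu⟩ := hQ 0 1
      obtain ⟨x', y', hq', x2, y2, hTu'⟩ := hQ 1 ε
      set u := x • b (Sum.inr 0, 0) + y • b (Sum.inr 0, 1) with hu
      set u' := x' • b (Sum.inr 1, 0) + y' • b (Sum.inr 1, 1) with hu'
      have hcross : ∀ a a' c c' : F, B (a • b (Sum.inr 0, 0) + a' • b (Sum.inr 0, 1))
          (c • b (Sum.inr 1, 0) + c' • b (Sum.inr 1, 1)) = 0 := fun a a' c c' => by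
        simp [map_add, map_smul, ho]
      refine ⟨u, T u, u', T u', ⟨hq, hq', hcross _ _ _ _, ?_, ?_, ?_⟩, 1, one_mul 1, fun D d0 d1 _ _ => ⟨?_, ?_⟩⟩
      · rw [hTu', hu]; exact hcross _ _ _ _
      · rw [hTu, hu']; exact hcross _ _ _ _
      · rw [hTu, hTu']; exact hcross _ _ _ _
      · rw [one_smul, d1]
      · rw [hT, hT, map_smul, d0, one_smul]
  · -- two interchanged planes
    obtain ⟨rfl, rfl⟩ : k = 1 ∧ l = 0 := by omega
    set u := b (Sum.inl (0, 0), 0) with hu
    set v := b (Sum.inl (0, 0), 1) with hv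
    have hperp : ∀ c d, B (b (Sum.inl (0, 0), d)) (T (b (Sum.inl (0, 0), c))) = 0 := fun c d => by
      have h := hb.swap 0 0 c
      generalize T (b (Sum.inl (0, 0), c)) = w at h
      induction h using Submodule.span_induction with
      | mem w hw => obtain ⟨d', rfl⟩ := hw; exact hb.orth _ _ (by simp)
      | zero => simp
      | add a b _ _ ha hb => simp [ha, hb]
      | smul c a _ ha => simp [ha]
    refine ⟨u, v, T v, (-ε) • T u, ⟨hb.pair _, ?_, hperp _ _, ?_, hperp _ _, ?_⟩, -z, by linear_combination hzz,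
      fun D d0 d1 d2 d3 => ⟨?_, ?_⟩⟩
    · rw [map_smul, hiso, hs, hb.pair, smul_eq_mul]; ring
    · rw [map_smul, hperp, smul_zero]
    · rw [map_smul, hperp, smul_zero]
    · rw [hT, map_smul] at *
      have h : D (T u) = - v := smul_right_injective V (neg_ne_zero.2 hε0) (by
        simp only [d3, smul_neg, neg_smul, neg_neg])
      rw [h, smul_neg, neg_smul, neg_neg]
    · rw [map_smul, hT, d2, smul_smul, smul_smul]
      congr 1
      ring

end CfsgLib.LinFix.SympPlaneRoot
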