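import Mathlib
import Cfsg.Prelude.Def_GeometricClasses
import Cfsg.Agent.Lib.Classical.Herm.Std
import Cfsg.Agent.Lib.Conj.Unitary
import Cfsg.Agent.Lib.Semisimple.GL
import Cfsg.Agent.Lib.Semisimple.Unitary
import Cfsg.Agent.Lib.SylowAbel.GLBase
import Cfsg.Agent.Lib.LinFix.Basic
import Cfsg.Agent.Lib.LinFix.SmallClasses

/-!
# Pairs of complementary totally isotropic subspaces of a unitary space
-/

set_option autoImplicit false
open scoped MatrixGroups

namespace CfsgLib.UnitaryPair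

open Matrix Module CfsgLib.Classical.Herm CfsgLib.Classical.Herm.HermSpace

variable {F : Type*} [Field F] [Fintype F] {q n : ℕ}

/-- The value of the form on two linear combinations. -/
theorem herm_sum_sum (hF : Fintype.card F = q ^ 2) {ι : Type*} [Fintype ι] (c d : ι → F)
    (w : ι → Fin n → F) :
    Cfsg.hermForm n F q (∑ i, c i • w i) (∑ j, d j • w j) =
      ∑ i, ∑ j, c i * d j ^ q * Cfsg.hermForm n F q (w i) (w j) := by
  set H := stdHerm hF n
  change H.h _ _ = ∑ i, ∑ j, c i * d j ^ q * H.h (w i) (w j)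
  change form H (∑ j, d j • w j) (∑ i, c i • w i) = _
  rw [map_sum]
  refine Finset.sum_congr rfl fun i _ => ?_
  rw [map_smul, smul_eq_mul]
  change c i * H.h (w i) (∑ j, d j • w j) = _
  rw [← H.symm', show H.h (∑ j, d j • w j) (w i) = form H (w i) (∑ j, d j • w j) from rfl, map_sum,
    map_sum, Finset.mul_sum]
  refine Finset.sum_congr rfl fun j _ => ?_
  rw [map_smul, smul_eq_mul, map_mul, show form H (w i) (w j) = H.h (w j) (w i) from rfl, H.symm',
    mul_assoc]
  rfl

/-- Complementary totally isotropic subspaces have the same dimension, and dual bases. -/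
theorem exists_dual_basis (hF : Fintype.card F = q ^ 2) {U W : Submodule F (Fin n → F)}
    (hU : Cfsg.Geo.IsTotallySingularFor (Cfsg.hermForm n F q) U)
    (hW : Cfsg.Geo.IsTotallySingularFor (Cfsg.hermForm n F q) W) (hc : IsCompl U W) :
    finrank F U = finrank F W ∧ ∀ {a : ℕ}, finrank F U = a →
      ∃ b : Basis (Fin a ⊕ Fin a) F (Fin n → F), (∀ i, b (Sum.inl i) ∈ U) ∧ (∀ i, b (Sum.inr i) ∈ W) ∧
        (∀ i j, Cfsg.hermForm n F q (b (Sum.inl i)) (b (Sum.inr j)) = if i = j then 1 else 0) ∧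
        (∀ i j, Cfsg.hermForm n F q (b (Sum.inr i)) (b (Sum.inl j)) = if i = j then 1 else 0) := by
  classical
  set H := stdHerm hF n
  have hinj : ∀ (U W : Submodule F (Fin n → F)), Cfsg.Geo.IsTotallySingularFor (Cfsg.hermForm n F q) W →
      IsCompl U W → ∀ {a : ℕ} (bu : Basis (Fin a) F U),
        Function.Injective (LinearMap.pi fun i => (form H (bu i : Fin n → F)).comp W.subtype) := by
    intro U W hW hc a bu
    rw [← LinearMap.ker_eq_bot, LinearMap.ker_eq_bot']
    intro w hw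
    have h1 : ∀ i, H.h (bu i : Fin n → F) w = 0 := fun i => h_comm_zero H (congrFun hw i)
    have h2 : (form H (w : Fin n → F)).comp U.subtype = 0 := bu.ext fun i => h1 i
    refine Subtype.ext (H.nondeg _ fun y => ?_)
    obtain ⟨u, hu, v, hv, rfl⟩ := Submodule.mem_sup.1 (hc.sup_eq_top ▸ Submodule.mem_top (x := y))
    have h3 : H.h u (w : Fin n → F) = 0 := LinearMap.congr_fun h2 ⟨u, hu⟩
    rw [add_right, h_comm_zero H h3, zero_add]
    exact hW _ w.2 _ hv
  have hle : ∀ (U W : Submodule F (Fin n → F)), Cfsg.Geo.IsTotallySingularFor (Cfsg.hermForm n F q) W →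
      IsCompl U W → finrank F W ≤ finrank F U := by
    intro U W hW hc
    have := LinearMap.finrank_le_finrank_of_injective (hinj U W hW hc (finBasis F U))
    simpa using this
  have heq : finrank F U = finrank F W := le_antisymm (hle W U hU hc.symm) (hle U W hW hc)
  refine ⟨heq, fun {a} ha => ?_⟩
  let bu : Basis (Fin a) F U := (finBasis F U).reindex (finCongr ha)
  let L : W →ₗ[F] (Fin a → F) := LinearMap.pi fun i => (form H (bu i : Fin n → F)).comp W.subtype
  let e : W ≃ₗ[F] (Fin a → F) := LinearMap.linearEquivOfInjective L (hinj U W hW hc bu) (by simp [← heq, ha])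
  let bw : Basis (Fin a) F W := (Pi.basisFun F (Fin a)).map e.symm
  refine ⟨(bu.prod bw).map (Submodule.prodEquivOfIsCompl U W hc), fun i => ?_, fun i => ?_, ?_⟩
  · simp
  · simp
  have hdual : ∀ i j, Cfsg.hermForm n F q (bw i : Fin n → F) (bu j : Fin n → F) = if i = j then 1 else 0 := by
    intro i j
    have := congrFun (e.apply_symm_apply (Pi.basisFun F (Fin a) i)) j
    change Cfsg.hermForm n F q (bw i : Fin n → F) (bu j : Fin n → F) = Pi.basisFun F (Fin a) i j at this
    rw [this, Pi.basisFun_apply, Pi.single_apply]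
    simp only [eq_comm]
  refine ⟨fun i j => ?_, fun i j => ?_⟩
  · have h := H.symm' (bw j : Fin n → F) (bu i : Fin n → F)
    simp only [H, stdHerm_h, hdual, apply_ite (stdHerm hF n).conj, map_one, map_zero] at h
    simpa [eq_comm] using h.symm
  · simpa using hdual i j

/-- The inverse conjugate transpose. -/
def ctInv (φ : F →+* F) (a : ℕ) : GL (Fin a) F →* GL (Fin a) F where
  toFun A := ⟨(((A⁻¹ : GL (Fin a) F) : Matrix (Fin a) (Fin a) F).map φ)ᵀ,
    ((A : Matrix (Fin a) (Fin a) F).map φ)ᵀ,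
    by rw [← Matrix.transpose_mul, ← Matrix.map_mul, Units.mul_inv, Matrix.map_one φ (map_zero φ) (map_one φ), Matrix.transpose_one],
    by rw [← Matrix.transpose_mul, ← Matrix.map_mul, Units.inv_mul, Matrix.map_one φ (map_zero φ) (map_one φ), Matrix.transpose_one]⟩
  map_one' := Units.ext (by simp)
  map_mul' A B := Units.ext (by simp [_root_.mul_inv_rev, Matrix.map_mul, Matrix.transpose_mul])

theorem ctInv_det (φ : F →+* F) {a : ℕ} (A : GL (Fin a) F) :
    (ctInv φ a A : Matrix (Fin a) (Fin a) F).det = (φ (A : Matrix (Fin a) (Fin a) F).det)⁻¹ := by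
  change ((((A⁻¹ : GL (Fin a) F) : Matrix (Fin a) (Fin a) F).map φ)ᵀ).det = _
  rw [Matrix.det_transpose, ← RingHom.mapMatrix_apply, ← RingHom.map_det, Matrix.coe_units_inv,
    Matrix.det_nonsing_inv, Ring.inverse_eq_inv', map_inv₀]

/-- The linear group embedded as the stabiliser of a pair. -/
theorem exists_embed (hF : Fintype.card F = q ^ 2) {U W : Submodule F (Fin n → F)}
    (hU : Cfsg.Geo.IsTotallySingularFor (Cfsg.hermForm n F q) U)
    (hW : Cfsg.Geo.IsTotallySingularFor (Cfsg.hermForm n F q) W) (hc : IsCompl U W)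
    {a : ℕ} (ha : finrank F U = a) :
    ∃ Φ : GL (Fin a) F →* GL (Fin n) F, Function.Injective Φ ∧
      (∀ (A : GL (Fin a) F) (c : F), (A : Matrix (Fin a) (Fin a) F) = c • 1 → c ^ (q + 1) = 1 →
        (Φ A : Matrix (Fin n) (Fin n) F) = c • 1) ∧ ∀ A : GL (Fin a) F, Φ A ∈ Cfsg.GU n F q ∧
      U.map (Matrix.toLin' (Φ A : Matrix (Fin n) (Fin n) F)) = U ∧
      W.map (Matrix.toLin' (Φ A : Matrix (Fin n) (Fin n) F)) = W ∧
      (Φ A : Matrix (Fin n) (Fin n) F).charpoly = (A : Matrix (Fin a) (Fin a) F).charpoly *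
        (ctInv (qPow hF) a A : Matrix (Fin a) (Fin a) F).charpoly ∧
      (Φ A : Matrix (Fin n) (Fin n) F).det =
        (A : Matrix (Fin a) (Fin a) F).det * (qPow hF (A : Matrix (Fin a) (Fin a) F).det)⁻¹ := by
  classical
  obtain ⟨heq, hb⟩ := exists_dual_basis hF hU hW hc
  obtain ⟨b, hbU, hbW, h01, h10⟩ := hb ha
  set φ := qPow hF
  let blk : GL (Fin a) F →* Matrix (Fin a ⊕ Fin a) (Fin a ⊕ Fin a) F :=
    { toFun := fun A => Matrix.fromBlocks (A : Matrix (Fin a) (Fin a) F) 0 0 (ctInv φ a A : Matrix (Fin a) (Fin a) F)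
      map_one' := by simp
      map_mul' := fun A B => by simp [Matrix.fromBlocks_multiply] }
  let Ψ : Matrix (Fin a ⊕ Fin a) (Fin a ⊕ Fin a) F ≃ₐ[F] Matrix (Fin n) (Fin n) F :=
    (Matrix.toLinAlgEquiv b).trans LinearMap.toMatrixAlgEquiv'
  let Φ : GL (Fin a) F →* GL (Fin n) F := ((Ψ.toAlgHom.toMonoidHom).comp blk).toHomUnits
  have hcol : ∀ (A : GL (Fin a) F) k, (Φ A : Matrix (Fin n) (Fin n) F) *ᵥ b k = ∑ l, blk A l k • b l := by
    intro A k
    rw [← Matrix.toLin'_apply]
    change Matrix.toLin' (LinearMap.toMatrix' (Matrix.toLinAlgEquiv b (blk A))) (b k) = _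
    rw [Matrix.toLin'_toMatrix']
    exact Matrix.toLin_self b b (blk A) k
  have hl : ∀ (A : GL (Fin a) F) i, (Φ A : Matrix (Fin n) (Fin n) F) *ᵥ b (Sum.inl i) =
      ∑ l, (A : Matrix (Fin a) (Fin a) F) l i • b (Sum.inl l) := fun A i => by
    simp [hcol, blk, Fintype.sum_sum_type]
  have hr : ∀ (A : GL (Fin a) F) i, (Φ A : Matrix (Fin n) (Fin n) F) *ᵥ b (Sum.inr i) =
      ∑ l, (ctInv φ a A : Matrix (Fin a) (Fin a) F) l i • b (Sum.inr l) := fun A i => by
    simp [hcol, blk, Fintype.sum_sum_type]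
  have hbasis : ∀ (A : GL (Fin a) F) k, (Φ A : Matrix (Fin n) (Fin n) F) *ᵥ b k =
      Matrix.toLin' (Φ A : Matrix (Fin n) (Fin n) F) (b k) := fun A k => (Matrix.toLin'_apply _ _).symm
  have hinvA : ∀ (A : GL (Fin a) F) (i j : Fin a),
      ∑ l, (A : Matrix (Fin a) (Fin a) F) l i *
        ((ctInv φ a A : Matrix (Fin a) (Fin a) F) l j) ^ q = if i = j then 1 else 0 := by
    intro A i j
    have h := congrFun (congrFun A.inv_mul j) i
    rw [Matrix.mul_apply, Matrix.one_apply] at h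
    simp only [eq_comm (a := j)] at h
    rw [← h]
    refine Finset.sum_congr rfl fun l _ => ?_
    rw [mul_comm]
    congr 1
    rw [← qPow_apply hF]
    change φ (φ _) = _
    rw [qPow_qPow hF]
  have hscalar : ∀ (A : GL (Fin a) F) (c : F), (A : Matrix (Fin a) (Fin a) F) = c • 1 → c ^ (q + 1) = 1 →
      (Φ A : Matrix (Fin n) (Fin n) F) = c • 1 := by
    intro A c hA hc'
    have hinv : ((A⁻¹ : GL (Fin a) F) : Matrix (Fin a) (Fin a) F) = c ^ q • 1 := Units.inv_eq_of_mul_eq_one_right (by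
      rw [hA, Matrix.smul_mul, one_mul, smul_smul, ← pow_succ', hc', one_smul])
    have hblk : blk A = c • 1 := by
      change Matrix.fromBlocks (A : Matrix (Fin a) (Fin a) F) 0 0 ((((A⁻¹ : GL (Fin a) F) : Matrix (Fin a) (Fin a) F).map φ)ᵀ) = _
      rw [hA, hinv, ← Matrix.fromBlocks_one, Matrix.fromBlocks_smul]; try simp only [smul_zero]
      congr 1
      rw [Matrix.smul_one_eq_diagonal, Matrix.smul_one_eq_diagonal, Matrix.diagonal_map (map_zero φ),
        Matrix.diagonal_transpose]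
      congr 1
      funext i
      rw [← qPow_apply hF]
      exact qPow_qPow hF c
    change Ψ (blk A) = _
    rw [hblk, map_smul, map_one]
  refine ⟨Φ, fun A B h => Units.ext ?_, hscalar, fun A => ⟨?_, ?_, ?_, ?_, ?_⟩⟩
  · have h1 : blk A = blk B := Ψ.injective (congrArg Units.val h)
    exact (Matrix.fromBlocks_inj.1 h1).1
  · have key : ∀ k k', Cfsg.hermForm n F q ((Φ A : Matrix (Fin n) (Fin n) F) *ᵥ b k)
        ((Φ A : Matrix (Fin n) (Fin n) F) *ᵥ b k') = Cfsg.hermForm n F q (b k) (b k') := by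
      have hlr : ∀ i j, Cfsg.hermForm n F q ((Φ A : Matrix (Fin n) (Fin n) F) *ᵥ b (Sum.inl i))
          ((Φ A : Matrix (Fin n) (Fin n) F) *ᵥ b (Sum.inr j)) = if i = j then 1 else 0 := by
        intro i j
        set H := stdHerm hF n
        rw [hl, hr]
        change form H (∑ l, (ctInv φ a A : Matrix (Fin a) (Fin a) F) l j • b (Sum.inr l))
          (∑ l, (A : Matrix (Fin a) (Fin a) F) l i • b (Sum.inl l)) = _
        rw [map_sum, ← hinvA A i j]
        refine Finset.sum_congr rfl fun l _ => ?_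
        rw [map_smul, smul_eq_mul]
        congr 1
        change H.h (b (Sum.inl l)) _ = _
        rw [← H.symm', show H.h (∑ l, (ctInv φ a A : Matrix (Fin a) (Fin a) F) l j • b (Sum.inr l)) (b (Sum.inl l)) =
          form H (b (Sum.inl l)) (∑ l, (ctInv φ a A : Matrix (Fin a) (Fin a) F) l j • b (Sum.inr l)) from rfl,
          map_sum, Finset.sum_eq_single l ?_ (by simp)]
        · rw [map_smul, smul_eq_mul]
          change H.conj (_ * Cfsg.hermForm n F q _ _) = _
          rw [h10, if_pos rfl, mul_one]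
          rfl
        · intro l' _ hne
          rw [map_smul, smul_eq_mul]
          change _ * Cfsg.hermForm n F q _ _ = 0
          rw [h10, if_neg hne, mul_zero]
      rintro (i | i) (j | j)
      · rw [hU _ (hbU i) _ (hbU j), hU]
        · rw [hl]; exact Submodule.sum_mem _ fun l _ => U.smul_mem _ (hbU l)
        · rw [hl]; exact Submodule.sum_mem _ fun l _ => U.smul_mem _ (hbU l)
      · rw [hlr, h01]
      · rw [h10]
        change (stdHerm hF n).h _ _ = _
        rw [← (stdHerm hF n).symm', stdHerm_h, hlr]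
        simp only [apply_ite (stdHerm hF n).conj, map_one, map_zero, eq_comm (a := j)]
      · rw [hW _ (hbW i) _ (hbW j), hW]
        · rw [hr]; exact Submodule.sum_mem _ fun l _ => W.smul_mem _ (hbW l)
        · rw [hr]; exact Submodule.sum_mem _ fun l _ => W.smul_mem _ (hbW l)
    intro u v
    rw [Units.coeHom_apply, ← b.sum_repr u, ← b.sum_repr v, Matrix.mulVec_sum, Matrix.mulVec_sum]
    simp only [Matrix.mulVec_smul]
    rw [herm_sum_sum hF, herm_sum_sum hF]
    simp only [key]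
  · have hsub : U.map (Matrix.toLin' (Φ A : Matrix (Fin n) (Fin n) F)) ≤ U := by
      have hUspan : U = Submodule.span F (Set.range fun i => b (Sum.inl i)) :=
        (Submodule.eq_of_le_of_finrank_eq (Submodule.span_le.2 (by rintro _ ⟨i, rfl⟩; exact hbU i))
          (by rw [show (fun i => b (Sum.inl i)) = ⇑b ∘ Sum.inl from rfl, finrank_span_eq_card (b.linearIndependent.comp _ Sum.inl_injective), Fintype.card_fin, ha])).symm
      conv_lhs => rw [hUspan]
      rw [Submodule.map_span_le]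
      rintro _ ⟨i, rfl⟩
      rw [← hbasis, hl]
      exact Submodule.sum_mem _ fun l _ => U.smul_mem _ (hbU l)
    refine Submodule.eq_of_le_of_finrank_eq hsub (LinearEquiv.finrank_eq (Submodule.equivMapOfInjective _ ?_ U)).symm
    exact (Matrix.mulVec_injective_iff_isUnit.2 (Φ A).isUnit)
  · have hsub : W.map (Matrix.toLin' (Φ A : Matrix (Fin n) (Fin n) F)) ≤ W := by
      have hWspan : W = Submodule.span F (Set.range fun i => b (Sum.inr i)) :=
        (Submodule.eq_of_le_of_finrank_eq (Submodule.span_le.2 (by rintro _ ⟨i, rfl⟩; exact hbW i))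
          (by rw [show (fun i => b (Sum.inr i)) = ⇑b ∘ Sum.inr from rfl, finrank_span_eq_card (b.linearIndependent.comp _ Sum.inr_injective), Fintype.card_fin, ← heq, ha])).symm
      conv_lhs => rw [hWspan]
      rw [Submodule.map_span_le]
      rintro _ ⟨i, rfl⟩
      rw [← hbasis, hr]
      exact Submodule.sum_mem _ fun l _ => W.smul_mem _ (hbW l)
    refine Submodule.eq_of_le_of_finrank_eq hsub (LinearEquiv.finrank_eq (Submodule.equivMapOfInjective _ ?_ W)).symm
    exact (Matrix.mulVec_injective_iff_isUnit.2 (Φ A).isUnit)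
  · have h : (Φ A : Matrix (Fin n) (Fin n) F).charpoly = (blk A).charpoly := by
      rw [show (Φ A : Matrix (Fin n) (Fin n) F) = LinearMap.toMatrix' (Matrix.toLinAlgEquiv b (blk A)) from rfl,
        ← Matrix.charpoly_toLin', Matrix.toLin'_toMatrix']
      exact Matrix.charpoly_toLin (blk A) b
    rw [h]
    exact Matrix.charpoly_fromBlocks_zero₁₂ _ _ _
  · rw [show (Φ A : Matrix (Fin n) (Fin n) F) = LinearMap.toMatrix' (Matrix.toLinAlgEquiv b (blk A)) from rfl,
      LinearMap.det_toMatrix']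
    exact (LinearMap.det_toLin b (blk A)).trans (by
      change (Matrix.fromBlocks _ _ _ _).det = _
      rw [Matrix.det_fromBlocks_zero₁₂, ctInv_det])

/-- Semisimple unitary elements with the same characteristic polynomial are conjugate in `SU`. -/
theorem exists_su_conj (p : ℕ) [Fact p.Prime] [CharP F p] (hF : Fintype.card F = q ^ 2) [NeZero n] {k : ℕ}
    (hk : (k : F) ≠ 0) {c : F} (hc : c ≠ 0) {x y : GL (Fin n) F}
    (hxU : x ∈ Cfsg.GU n F q) (hyU : y ∈ Cfsg.GU n F q)
    (hx : (x : Matrix (Fin n) (Fin n) F) ^ k = c • 1) (hy : (y : Matrix (Fin n) (Fin n) F) ^ k = c • 1)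
    (hcp : (y : Matrix (Fin n) (Fin n) F).charpoly = (x : Matrix (Fin n) (Fin n) F).charpoly) :
    ∃ g : GL (Fin n) F, g ∈ Cfsg.GU n F q ∧ (g : Matrix (Fin n) (Fin n) F).det = 1 ∧ g⁻¹ * x * g = y := by
  obtain ⟨φ, hφq, hφ, hw⟩ := CfsgLib.Conj.exists_frob hF
  have hxo := CfsgLib.LinFix.coprime_orderOf_of_pow p hk hc hx
  have hyo := CfsgLib.LinFix.coprime_orderOf_of_pow p hk hc hy
  obtain ⟨g₀, hg₀⟩ := isConj_iff.1 (CfsgLib.Semisimple.isConj_of_charpoly_eq p y x hyo hxo hcp)
  have hy' := (CfsgLib.Conj.mem_GU_iff φ hφq hφ y).1 hyU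
  obtain ⟨h, hh, hhy⟩ := CfsgLib.Conj.exists_unitary_conj φ hφ hw y x g₀ hy'
    ((CfsgLib.Conj.mem_GU_iff φ hφq hφ x).1 hxU) (by rw [← hg₀]; group)
  have hd0 : (h : Matrix (Fin n) (Fin n) F).det ≠ 0 :=
    ((Matrix.isUnit_iff_isUnit_det _).1 h.isUnit).ne_zero
  have hd : (h : Matrix (Fin n) (Fin n) F).det * φ (h : Matrix (Fin n) (Fin n) F).det = 1 := by
    have := congrArg Matrix.det hh
    rw [Matrix.det_mul, Matrix.det_one] at this
    rw [← this, mul_comm]
    congr 1
    change _ = ((h : Matrix (Fin n) (Fin n) F).map φ)ᵀ.det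
    rw [Matrix.det_transpose, RingHom.map_det, RingHom.mapMatrix_apply]
  obtain ⟨u, huU, huc, hud⟩ := CfsgLib.Semisimple.Unitary.exists_commute_det φ p hφ hw (NeZero.one_le) y hyo hy'
    ((h : Matrix (Fin n) (Fin n) F).det⁻¹) (by rw [map_inv₀, ← mul_inv, hd, inv_one])
  let C : GL (Fin n) F := Matrix.GeneralLinearGroup.mkOfDetNeZero u (by rw [hud]; exact inv_ne_zero hd0)
  refine ⟨h * C, mul_mem ((CfsgLib.Conj.mem_GU_iff φ hφq hφ h).2 hh) ((CfsgLib.Conj.mem_GU_iff φ hφq hφ C).2 huU), ?_, ?_⟩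
  · rw [Units.val_mul, Matrix.det_mul, show (C : Matrix (Fin n) (Fin n) F) = u from rfl, hud,
      mul_inv_cancel₀ hd0]
  · have hCy : C * y = y * C := Units.ext huc
    calc (h * C)⁻¹ * x * (h * C) = C⁻¹ * (h⁻¹ * (x * h)) * C := by group
      _ = C⁻¹ * (h⁻¹ * (h * y)) * C := by rw [hhy]
      _ = C⁻¹ * (y * C) := by group
      _ = y := by rw [← hCy]; group

theorem qPow_val (hF : Fintype.card F = q ^ 2) (x : F) : qPow hF x = x ^ q := qPow_apply hF x

/-- The stabiliser of a pair has index dividing a product of the numbers `q ^ i + 1`, `i` odd, times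
a power of `q`. -/
theorem dvd_of_dvd_index (p : ℕ) [Fact p.Prime] [CharP F p] (hF : Fintype.card F = q ^ 2) {m : ℕ} (hm : 1 ≤ m)
    (hn : n = m + m)
    {D : Fin 2 → Submodule F (Fin n → F)} (hD : Cfsg.Geo.IsMDecomposition m D)
    (hDs : ∀ i, Cfsg.Geo.IsTotallySingularFor (Cfsg.hermForm n F q) (D i))
    {r : ℕ} (hr : r.Prime) (hrp : r ≠ p)
    (hdvd : r ∣ (Cfsg.Geo.decompositionStabilizer D).relIndex (Cfsg.GU n F q ⊓ Cfsg.Geo.specialLinear (Fin n) F)) :
    ∃ k < m, r ∣ q ^ (2 * k + 1) + 1 := by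
  classical
  have hc : IsCompl (D 0) (D 1) := by
    refine ⟨?_, codisjoint_iff.2 ?_⟩
    · exact hD.indep.pairwiseDisjoint (by decide : (0 : Fin 2) ≠ 1)
    · rw [eq_top_iff, ← hD.iSup_eq_top]
      refine iSup_le fun i => ?_
      fin_cases i <;> simp
  obtain ⟨Φ, hΦ, -, hΦA⟩ := exists_embed hF (hDs 0) (hDs 1) hc (hD.finrank_eq 0)
  set φ := qPow hF
  let χ : GL (Fin m) F →* Fˣ := (Matrix.GeneralLinearGroup.det).comp Φ
  set S := Cfsg.GU n F q ⊓ Cfsg.Geo.specialLinear (Fin n) F with hS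
  set H := Cfsg.Geo.decompositionStabilizer D
  have hle : χ.ker.map Φ ≤ H ⊓ S := by
    rintro _ ⟨A, hA, rfl⟩
    refine ⟨⟨1, fun i => ?_⟩, (hΦA A).1, hA⟩
    fin_cases i
    · exact (hΦA A).2.1
    · exact (hΦA A).2.2.1
  have hidx : H.relIndex S * Nat.card χ.ker ∣ Nat.card S := by
    rw [← Subgroup.card_map_of_injective hΦ, ← Subgroup.inf_relIndex_right H S]
    refine (mul_dvd_mul (dvd_refl _) (Subgroup.card_dvd_of_le hle)).trans ?_
    rw [← Nat.card_congr (Subgroup.subgroupOfEquivOfLe (inf_le_right : H ⊓ S ≤ S)).toEquiv, Subgroup.relIndex,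
      mul_comm, Subgroup.card_mul_index]
  have hrange : Nat.card χ.range ∣ q + 1 := by
    rw [← card_normOne_units hF]
    refine Subgroup.card_dvd_of_le ?_
    rintro _ ⟨A, rfl⟩
    rw [MonoidHom.mem_ker, powMonoidHom_apply]
    apply Units.ext
    rw [Units.val_pow_eq_pow_val, Units.val_one]
    change (Φ A : Matrix (Fin n) (Fin n) F).det ^ (q + 1) = 1
    have hd0 : (A : Matrix (Fin m) (Fin m) F).det ≠ 0 :=
      ((Matrix.isUnit_iff_isUnit_det _).1 A.isUnit).ne_zero
    rw [(hΦA A).2.2.2.2, pow_succ, ← qPow_val hF, map_mul, map_inv₀, qPow_qPow hF]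
    change φ _ * (_)⁻¹ * (_ * (φ _)⁻¹) = 1
    field_simp [(map_ne_zero φ).2 hd0]
  have hSU : Nat.card S = Nat.card (Cfsg.SU n F q) := by
    refine Nat.card_congr (Equiv.ofBijective (fun g : S => (⟨⟨(g : GL (Fin n) F).1, congrArg Units.val g.2.2⟩,
      fun u v => g.2.1 u v⟩ : Cfsg.SU n F q)) ⟨fun g h e => Subtype.ext (Units.ext (congrArg (fun s : Cfsg.SU n F q => s.1.1) e)),
        fun s => ⟨⟨Matrix.SpecialLinearGroup.toGL s.1, fun u v => s.2 u v,
          Units.ext (by exact s.1.2)⟩, rfl⟩⟩)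
  have hGL : H.relIndex S * Nat.card (GL (Fin m) F) ∣ Nat.card (Unit' (stdHerm hF n)) := by
    rw [← card_unit_eq_mul_su hF (by omega), ← hSU, ← χ.ker.card_mul_index, Subgroup.index_ker,
      ← mul_assoc, mul_comm (q + 1)]
    exact mul_dvd_mul hidx hrange
  rw [card_unit] at hGL
  have hsplit : ∀ j : ℕ, ∃ e : ℕ, (∏ i ∈ Finset.range (j + j),
      (if Even i then q ^ (i + 1) + 1 else q ^ (i + 1) - 1)) * (q ^ 2) ^ e =
      Nat.card (GL (Fin j) F) * ∏ i ∈ Finset.range j, (q ^ (2 * i + 1) + 1) := by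
    intro j
    induction j with
    | zero => exact ⟨0, by simp [Matrix.card_GL_field]⟩
    | succ j ih =>
      obtain ⟨e, he⟩ := ih
      refine ⟨e + j, ?_⟩
      rw [CfsgLib.SylowAbel.card_GL_succ, hF, show j + 1 + (j + 1) = (j + j) + 1 + 1 by omega,
        Finset.prod_range_succ, Finset.prod_range_succ, Finset.prod_range_succ, if_pos ⟨j, rfl⟩,
        if_neg (Nat.not_even_iff_odd.2 ⟨j, by omega⟩), ← pow_mul q 2 (j + 1),
        show j + j + 1 + 1 = 2 * (j + 1) by omega, show j + j + 1 = 2 * j + 1 by omega, pow_add]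
      calc _ = ((∏ i ∈ Finset.range (j + j), (if Even i then q ^ (i + 1) + 1 else q ^ (i + 1) - 1)) * (q ^ 2) ^ e) *
            ((q ^ (2 * j + 1) + 1) * (q ^ (2 * (j + 1)) - 1) * (q ^ 2) ^ j) := by ring
        _ = _ := by rw [he]; ring
  obtain ⟨e, he⟩ := hsplit m
  have hq0 : ¬ r ∣ q := by
    intro h
    obtain ⟨k, -, hk⟩ := FiniteField.card F p
    have : r ∣ p ^ (k : ℕ) := hk ▸ hF ▸ h.trans (dvd_pow_self q two_ne_zero)
    exact hrp ((Nat.prime_dvd_prime_iff_eq hr Fact.out).1 (hr.dvd_of_dvd_pow this))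
  obtain ⟨t, ht⟩ := hGL
  have hr2 : r * Nat.card (GL (Fin m) F) ∣ q ^ (n * (n - 1) / 2) *
      (Nat.card (GL (Fin m) F) * ∏ i ∈ Finset.range m, (q ^ (2 * i + 1) + 1)) := by
    rw [← he, ← mul_assoc, ← hn]
    rw [ht]
    exact Dvd.dvd.mul_right (Dvd.dvd.mul_right (mul_dvd_mul hdvd dvd_rfl) _) _
  have hr3 : r ∣ q ^ (n * (n - 1) / 2) * ∏ i ∈ Finset.range m, (q ^ (2 * i + 1) + 1) := by
    rw [mul_left_comm, mul_comm r] at hr2
    exact (Nat.mul_dvd_mul_iff_left Nat.card_pos).1 hr2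
  rcases hr.dvd_mul.1 hr3 with h | h
  · exact absurd (hr.dvd_of_dvd_pow h) hq0
  · obtain ⟨k, hk, hk'⟩ := (hr.prime.dvd_finsetProd_iff _).1 h
    exact ⟨k, Finset.mem_range.1 hk, hk'⟩

/-- A unitary element of prime order moving as few dimensions as possible. -/
theorem exists_moving {p : ℕ} [Fact p.Prime] [CharP F p] (hF : Fintype.card F = q ^ 2) {r : ℕ} [Fact r.Prime]
    (hrp : r ≠ p) {e : ℕ} (he : orderOf (Fintype.card F : ZMod r) = e) (hodd : Odd e) (he1 : 1 < e)
    (hre : r ∣ q ^ e + 1) (hen : e ≤ n) :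
    ∃ x ∈ Cfsg.GU n F q ⊓ Cfsg.Geo.specialLinear (Fin n) F, (x : Matrix (Fin n) (Fin n) F) ^ r = 1 ∧
      ((x : Matrix (Fin n) (Fin n) F) - 1).rank = e := by
  classical
  open Polynomial in
  obtain ⟨g, hg, hgm, hgdvd, hg1⟩ := CfsgLib.LinFix.exists_irreducible_dvd_X_pow_sub_one (F := F) (r := r) hrp
  have hdeg : g.natDegree = e :=
    (CfsgLib.LinFix.natDegree_eq_order (CfsgLib.LinFix.orderOf_pos_of_ne (p := p) hrp) hg hgdvd hg1).trans he
  haveI : Fact (Irreducible g) := ⟨hg⟩
  haveI : Module.Finite F (AdjoinRoot g) := (AdjoinRoot.powerBasis hg.ne_zero).finite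
  haveI : Finite (AdjoinRoot g) := Module.finite_of_finite F
  let L := AdjoinRoot g
  let α : L := AdjoinRoot.root g
  have hL : finrank F L = e := hdeg ▸ finrank_quotient_span_eq_natDegree (f := g)
  have hroot : ∀ P : Polynomial F, Polynomial.aeval α P = 0 ↔ g ∣ P := fun P => by
    rw [AdjoinRoot.aeval_eq, AdjoinRoot.mk_eq_zero]
  have hαr : α ^ r = 1 := by
    have := (hroot _).2 hgdvd
    simpa [sub_eq_zero] using this
  have hα1 : α ≠ 1 := fun h => hg1 ((hroot _).1 (by simp [h]))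
  have hαQ : α ^ (q ^ e + 1) = 1 := by
    obtain ⟨j, hj⟩ := hre
    rw [hj, pow_mul, hαr, one_pow]
  let bL : Basis (Fin e) F L := (finBasis F L).reindex (finCongr hL)
  let C := Algebra.leftMulMatrix bL α
  haveI : CharP L p := charP_of_injective_algebraMap (algebraMap F L).injective p
  obtain ⟨t, ht⟩ : ∃ t, q = p ^ t := by
    obtain ⟨k, -, hk⟩ := FiniteField.card F p
    obtain ⟨t, -, ht⟩ := (Nat.dvd_prime_pow (Fact.out : p.Prime)).1
      (hk ▸ hF ▸ dvd_pow_self q two_ne_zero : q ∣ p ^ (k : ℕ))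
    exact ⟨t, ht⟩
  let σ : L →+* L := iterateFrobenius L p (t * e)
  have hσ : ∀ z, σ z = z ^ q ^ e := fun z => by rw [ht, ← pow_mul]; exact iterateFrobenius_def p _ z
  have hσF : ∀ c : F, σ (algebraMap F L c) = algebraMap F L (qPow hF c) := by
    intro c
    rw [hσ, ← map_pow, qPow_val]
    obtain ⟨j, rfl⟩ := hodd
    congr 1
    rw [pow_succ q, pow_mul q, ← hF, pow_mul, FiniteField.pow_card_pow]
  let S : Matrix (Fin e) (Fin e) F := Matrix.of fun k l => Algebra.trace F L (bL l * σ (bL k))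
  have hSdet : IsUnit S.det := by
    rw [isUnit_iff_ne_zero]
    intro h0
    obtain ⟨v, hv, hv0⟩ := Matrix.exists_mulVec_eq_zero_iff.2 h0
    set z : L := ∑ l, v l • bL l
    have hz : ∀ k, Algebra.trace F L (z * σ (bL k)) = 0 := fun k => by
      refine Eq.trans ?_ (congrFun hv0 k)
      rw [Finset.sum_mul, map_sum]
      simp [Matrix.mulVec, dotProduct, S, mul_comm]
    have hz' : ∀ y : L, Algebra.trace F L (z * σ y) = 0 := fun y => by
      rw [← bL.sum_repr y, map_sum, Finset.mul_sum, map_sum]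
      refine Finset.sum_eq_zero fun k _ => ?_
      rw [Algebra.smul_def, map_mul σ, hσF, mul_left_comm, ← Algebra.smul_def, map_smul, hz, smul_zero]
    have hz0 : z = 0 := (traceForm_nondegenerate F L).1 z fun y => by
      obtain ⟨y, rfl⟩ := (Finite.injective_iff_surjective.1 σ.injective) y
      exact hz' y
    exact hv (funext fun l => Fintype.linearIndependent_iff.1 bL.linearIndependent v hz0 l)
  have hCS : (C.map (qPow hF))ᵀ * S * C = S := by
    have hcolC : ∀ i, ∑ k, C k i • bL k = α * bL i := fun i => by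
      conv_rhs => rw [← bL.sum_repr (α * bL i)]
      simp only [C, Algebra.leftMulMatrix_eq_repr_mul]
    ext i j
    have h1 : S i j = Algebra.trace F L ((α * bL j) * σ (α * bL i)) := by
      rw [map_mul σ, hσ α, mul_mul_mul_comm, ← pow_succ', hαQ, one_mul]
      rfl
    rw [h1, ← hcolC, ← hcolC, map_sum, Finset.sum_mul_sum, map_sum]
    simp only [map_sum, Matrix.mul_apply, Finset.sum_mul, Matrix.transpose_apply, Matrix.map_apply]
    refine Finset.sum_congr rfl fun k _ => Finset.sum_congr rfl fun l _ => ?_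
    rw [Algebra.smul_def (R := F) (C k j), Algebra.smul_def (R := F) (C l i), map_mul σ, hσF, mul_mul_mul_comm,
      ← map_mul, ← Algebra.smul_def, map_smul, smul_eq_mul]
    change _ = _ * Algebra.trace F L _
    simp only [S, Matrix.of_apply]
    ring
  obtain ⟨j, rfl⟩ : ∃ j, n = e + j := ⟨n - e, by omega⟩
  let E : Matrix (Fin e ⊕ Fin j) (Fin e ⊕ Fin j) F ≃ₐ[F] Matrix (Fin (e + j)) (Fin (e + j)) F :=
    Matrix.reindexAlgEquiv F F finSumFinEquiv
  have hCr : C ^ r = 1 := by rw [← map_pow, hαr, map_one]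
  have hAr : (E (Matrix.fromBlocks C 0 0 1)) ^ r = 1 := by
    have : ∀ i : ℕ, (Matrix.fromBlocks C 0 0 (1 : Matrix (Fin j) (Fin j) F)) ^ i = Matrix.fromBlocks (C ^ i) 0 0 1 := by
      intro i
      induction i with
      | zero => simp
      | succ i ih => rw [pow_succ, ih, Matrix.fromBlocks_multiply]; simp [pow_succ]
    rw [← map_pow, this, hCr, Matrix.fromBlocks_one, map_one]
  let A : GL (Fin (e + j)) F := Units.ofPowEqOne _ r hAr (Fact.out : r.Prime).ne_zero
  let S' : GL (Fin (e + j)) F := (((Matrix.isUnit_iff_isUnit_det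
    (Matrix.fromBlocks S 0 0 (1 : Matrix (Fin j) (Fin j) F))).2 (by
      rw [Matrix.det_fromBlocks_zero₁₂, Matrix.det_one, mul_one]; exact hSdet)).map E).unit
  obtain ⟨φ, hφq, hφ, hw⟩ := CfsgLib.Conj.exists_frob hF
  obtain rfl : φ = qPow hF := RingHom.ext fun z => (hφq z).trans (qPow_val hF z).symm
  have hS' : CfsgLib.Conj.conjT (n := e + j) (qPow hF) (A : Matrix (Fin (e + j)) (Fin (e + j)) F) * S' * A = S' := by
    have hE : CfsgLib.Conj.conjT (n := e + j) (qPow hF) (E (Matrix.fromBlocks C 0 0 1)) =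
        E ((Matrix.fromBlocks C 0 0 (1 : Matrix (Fin j) (Fin j) F)).map (qPow hF))ᵀ := rfl
    rw [show (S' : Matrix (Fin (e + j)) (Fin (e + j)) F) = E (Matrix.fromBlocks S 0 0 1) from IsUnit.unit_spec _,
      show (A : Matrix (Fin (e + j)) (Fin (e + j)) F) = E (Matrix.fromBlocks C 0 0 1) from rfl, hE,
      ← map_mul, ← map_mul, Matrix.fromBlocks_map, Matrix.fromBlocks_transpose, Matrix.fromBlocks_multiply,
      Matrix.fromBlocks_multiply]
    simp [hCS, Matrix.map_one (qPow hF) (map_zero _) (map_one _), Matrix.map_zero (qPow hF) (map_zero _)]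
  obtain ⟨h, hh⟩ := CfsgLib.Conj.exists_unitary_similar (qPow hF) hφ hw A S' hS'
  set x : GL (Fin (e + j)) F := h * A * h⁻¹
  have hxr : x ^ r = 1 := by
    rw [conj_pow, show A ^ r = 1 from Units.ext (by rw [Units.val_pow_eq_pow_val, Units.val_one]; exact hAr)]
    group
  refine ⟨x, ⟨(CfsgLib.Conj.mem_GU_iff (qPow hF) hφq hφ x).2 hh, ?_⟩, ?_, ?_⟩
  · change Matrix.GeneralLinearGroup.det x = 1
    rw [← orderOf_eq_one_iff]
    rcases (Nat.dvd_prime Fact.out).1 (orderOf_dvd_of_pow_eq_one (n := r)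
      (show Matrix.GeneralLinearGroup.det x ^ r = 1 by rw [← map_pow, hxr, map_one])) with h | h
    · exact h
    · exfalso
      have h1 := orderOf_dvd_natCard (Matrix.GeneralLinearGroup.det x)
      rw [h, Nat.card_units, Nat.card_eq_fintype_card] at h1
      have : r ∣ Fintype.card F ^ 1 - 1 := by rwa [pow_one]
      rw [CfsgLib.LinFix.dvd_pow_sub_one_iff Fintype.card_pos, he, Nat.dvd_one] at this
      omega
  · rw [← Units.val_pow_eq_pow_val, hxr, Units.val_one]
  · have h1 : (x : Matrix (Fin (e + j)) (Fin (e + j)) F) - 1 =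
        (h : Matrix (Fin (e + j)) (Fin (e + j)) F) * (E (Matrix.fromBlocks (C - 1) 0 0 0)) *
          ((h⁻¹ : GL (Fin (e + j)) F) : Matrix (Fin (e + j)) (Fin (e + j)) F) := by
      rw [show E (Matrix.fromBlocks (C - 1) 0 0 0) =
        (A : Matrix (Fin (e + j)) (Fin (e + j)) F) - 1 by
          rw [show (A : Matrix (Fin (e + j)) (Fin (e + j)) F) = E (Matrix.fromBlocks C 0 0 1) from rfl,
            ← map_one E, ← map_sub, ← Matrix.fromBlocks_one]
          congr 1
          ext (a | a) (b | b) <;> simp [Matrix.one_apply],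
        Matrix.mul_sub, Matrix.sub_mul, mul_one, Units.mul_inv]
      rfl
    rw [h1, Matrix.rank_mul_eq_left_of_isUnit_det _ _ ((Matrix.isUnit_iff_isUnit_det _).1 (h⁻¹).isUnit),
      Matrix.rank_mul_eq_right_of_isUnit_det _ _ ((Matrix.isUnit_iff_isUnit_det _).1 h.isUnit)]
    have hC1 : IsUnit (C - 1) := by
      rw [show C - 1 = Algebra.leftMulMatrix bL (α - 1) by rw [map_sub, map_one]]
      exact (Ne.isUnit (sub_ne_zero.2 hα1)).map _
    have h2 : Matrix.fromBlocks (C - 1) (0 : Matrix (Fin e) (Fin j) F) 0 0 =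
        Matrix.fromBlocks (C - 1) 0 0 1 *
          Matrix.diagonal (Sum.elim (fun _ : Fin e => (1 : F)) (fun _ : Fin j => 0)) := by
      have hd : ∀ c : F, Matrix.diagonal (fun _ : Fin e => c) = c • (1 : Matrix (Fin e) (Fin e) F) := fun c => by
        rw [Matrix.smul_one_eq_diagonal]
      rw [← Matrix.fromBlocks_diagonal, Matrix.fromBlocks_multiply]
      simp
    change ((Matrix.fromBlocks (C - 1) 0 0 0).submatrix _ _).rank = e
    rw [Matrix.rank_submatrix, h2, Matrix.rank_mul_eq_right_of_isUnit_det _ _ (by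
      rw [Matrix.det_fromBlocks_zero₁₂, Matrix.det_one, mul_one]
      exact (Matrix.isUnit_iff_isUnit_det _).1 hC1), Matrix.rank_diagonal, Fintype.card_subtype]
    rw [show (Finset.univ.filter fun i => Sum.elim (fun _ : Fin e => (1 : F)) (fun _ : Fin j => 0) i ≠ 0) =
      Finset.univ.map ⟨Sum.inl, Sum.inl_injective⟩ by ext (i | i) <;> simp, Finset.card_map, Finset.card_univ,
      Fintype.card_fin]

end CfsgLib.UnitaryPair
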